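import Mathlib

set_option autoImplicit false

namespace Cfsg.Agent.Lib.Helper10

open scoped Pointwise

variable {G : Type*} [Group G]

theorem le_normalizer_of_commute (A B : Subgroup G) (hc : ∀ a ∈ A, ∀ b ∈ B, a * b = b * a) :
    A ≤ Subgroup.normalizer (B : Set G) := by
  intro a ha
  rw [Subgroup.mem_set_normalizer_iff]
  intro n
  constructor
  · intro hn
    have : a * n * a⁻¹ = n := by rw [hc a ha n hn]; group
    rw [this]; exact hn
  · intro hn
    have h1 := hc a ha _ hn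
    have : n = a * n * a⁻¹ := by
      calc n = a⁻¹ * ((a * n * a⁻¹) * a) := by group
        _ = a⁻¹ * (a * (a * n * a⁻¹)) := by rw [h1]
        _ = a * n * a⁻¹ := by group
    rw [this]; exact hn

theorem exists_mul_of_mem_sup_of_commute (A B : Subgroup G) (hc : ∀ a ∈ A, ∀ b ∈ B, a * b = b * a)
    {x : G} (hx : x ∈ A ⊔ B) : ∃ a ∈ A, ∃ b ∈ B, x = a * b := by
  have h := Subgroup.coe_mul_of_left_le_normalizer_right A B (le_normalizer_of_commute A B hc)
  have hx' : x ∈ ((A ⊔ B : Subgroup G) : Set G) := hx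
  rw [h] at hx'
  obtain ⟨a, ha, b, hb, rfl⟩ := Set.mem_mul.mp hx'
  exact ⟨a, ha, b, hb, rfl⟩

theorem sup_eq_zpowers_of_commute_coprime [Finite G] (A B : Subgroup G) [hA : IsCyclic A] [hB : IsCyclic B]
    (hc : ∀ a ∈ A, ∀ b ∈ B, a * b = b * a) (hcop : (Nat.card A).Coprime (Nat.card B)) :
    ∃ c : G, A ⊔ B = Subgroup.zpowers c ∧ orderOf c = Nat.card A * Nat.card B := by
  obtain ⟨a, ha⟩ := IsCyclic.exists_ofOrder_eq_natCard (α := A)
  obtain ⟨b, hb⟩ := IsCyclic.exists_ofOrder_eq_natCard (α := B)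
  rw [← Subgroup.orderOf_coe] at ha hb
  have hab : Commute (a : G) (b : G) := hc a a.2 b b.2
  have hord : orderOf ((a : G) * b) = Nat.card A * Nat.card B := by
    rw [hab.orderOf_mul_eq_mul_orderOf_of_coprime (by rw [ha, hb]; exact hcop), ha, hb]
  refine ⟨(a : G) * b, ?_, hord⟩
  have hle : Subgroup.zpowers ((a : G) * b) ≤ A ⊔ B := by
    rw [Subgroup.zpowers_le]
    exact Subgroup.mul_mem _ ((le_sup_left : A ≤ A ⊔ B) a.2) ((le_sup_right : B ≤ A ⊔ B) b.2)
  have hcard : Nat.card ↥(A ⊔ B) ≤ Nat.card (Subgroup.zpowers ((a : G) * b)) := by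
    rw [Nat.card_zpowers, hord, ← Nat.card_prod]
    let f : A × B → ↥(A ⊔ B) := fun p =>
      ⟨(p.1 : G) * p.2, Subgroup.mul_mem _ ((le_sup_left : A ≤ A ⊔ B) p.1.2) ((le_sup_right : B ≤ A ⊔ B) p.2.2)⟩
    apply Nat.card_le_card_of_surjective f
    rintro ⟨x, hx⟩
    obtain ⟨a', ha', b', hb', rfl⟩ := exists_mul_of_mem_sup_of_commute A B hc hx
    exact ⟨(⟨a', ha'⟩, ⟨b', hb'⟩), rfl⟩
  exact (Subgroup.eq_of_le_of_card_ge hle hcard).symm

theorem isCyclic_sup_of_commute_coprime [Finite G] (A B : Subgroup G) [IsCyclic A] [IsCyclic B]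
    (hc : ∀ a ∈ A, ∀ b ∈ B, a * b = b * a) (hcop : (Nat.card A).Coprime (Nat.card B)) :
    IsCyclic ↥(A ⊔ B) := by
  obtain ⟨c, hc', _⟩ := sup_eq_zpowers_of_commute_coprime A B hc hcop
  rw [hc']
  infer_instance

/-- For commuting elements with `a ^ |A| = 1`, `b ^ |B| = 1`, coprime: a power of `a * b` is `a`. -/
theorem exists_pow_mul_eq_left (nA nB : ℕ) (hcop : nA.Coprime nB) :
    ∃ m : ℕ, ∀ a b : G, a * b = b * a → a ^ nA = 1 → b ^ nB = 1 → (a * b) ^ m = a := by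
  obtain ⟨m, hm1, hm0⟩ := Nat.chineseRemainder hcop 1 0
  refine ⟨m, fun a b hab ha hb => ?_⟩
  have hcomm : Commute a b := hab
  rw [hcomm.mul_pow]
  have h1 : a ^ m = a := by
    have hord : orderOf a ∣ nA := orderOf_dvd_of_pow_eq_one ha
    have := pow_eq_pow_iff_modEq.mpr (hm1.of_dvd hord)
    rwa [pow_one] at this
  have h2 : b ^ m = 1 := by
    have hord : orderOf b ∣ nB := orderOf_dvd_of_pow_eq_one hb
    have := pow_eq_pow_iff_modEq.mpr (hm0.of_dvd hord)
    rwa [pow_zero] at this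
  rw [h1, h2, mul_one]

end Cfsg.Agent.Lib.Helper10
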