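import Mathlib

set_option autoImplicit false

namespace Cfsg.Agent.Lib.Helper10

open Module Module.End
open scoped ComplexConjugate

variable {V : Type*} [AddCommGroup V] [Module ℂ V] [FiniteDimensional ℂ V]

/-- For a semisimple endomorphism `f` of a finite-dimensional complex space, the trace of any
endomorphism acting as the scalar `c μ` on each eigenspace of `f` is `∑ μ, c μ * dim (eigenspace μ)`. -/
theorem trace_eq_sum_of_semisimple (f : Module.End ℂ V) (hf : f.IsSemisimple) :
    ∃ S : Finset ℂ, (∀ μ ∈ S, f.HasEigenvalue μ) ∧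
      ∀ (g : Module.End ℂ V) (c : ℂ → ℂ), (∀ μ, ∀ v ∈ f.eigenspace μ, g v = c μ • v) →
        LinearMap.trace ℂ V g = ∑ μ ∈ S, c μ * (Module.finrank ℂ (f.eigenspace μ) : ℂ) := by
  classical
  have h_ind := f.eigenspaces_iSupIndep
  have h_top := hf.iSup_eigenspace_eq_top
  have h_int := DirectSum.isInternal_submodule_of_iSupIndep_of_iSup_eq_top h_ind h_top
  have hN : {μ | f.eigenspace μ ≠ ⊥}.Finite := WellFoundedGT.finite_ne_bot_of_iSupIndep h_ind
  refine ⟨hN.toFinset, fun μ hμ => hasEigenvalue_iff.mpr (hN.mem_toFinset.mp hμ), ?_⟩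
  intro g c hg
  have hmaps : ∀ μ, Set.MapsTo g (f.eigenspace μ) (f.eigenspace μ) := by
    intro μ v hv
    rw [hg μ v hv]
    exact Submodule.smul_mem _ _ hv
  rw [LinearMap.trace_eq_sum_trace_restrict' h_int hN hmaps]
  apply Finset.sum_congr rfl
  intro μ _
  have : g.restrict (hmaps μ) = c μ • LinearMap.id := by
    ext v
    simp only [LinearMap.coe_restrict_apply, LinearMap.smul_apply, LinearMap.id_coe, id_eq,
      Submodule.coe_smul]
    exact hg μ v v.2
  rw [this, map_smul, LinearMap.trace_id, smul_eq_mul]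

theorem pow_apply_of_mem_eigenspace (f : Module.End ℂ V) (μ : ℂ) (v : V) (hv : v ∈ f.eigenspace μ) (j : ℕ) :
    (f ^ j) v = μ ^ j • v := by
  rw [mem_eigenspace_iff] at hv
  induction j with
  | zero => simp
  | succ n ih =>
    rw [pow_succ', Module.End.mul_apply, ih, map_smul, hv, smul_smul, ← pow_succ]

/-- Eigenvalue decomposition of the values of a character on the powers of an element of a finite group. -/
theorem char_pow_eq_sum {G : Type*} [Group G] [Finite G] (ρ : Representation ℂ G V) (g : G) :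
    ∃ (S : Finset ℂ) (d : ℂ → ℕ), (∀ μ ∈ S, μ ^ orderOf g = 1) ∧ (∀ μ ∈ S, 0 < d μ) ∧
      ∀ j : ℕ, ρ.character (g ^ j) = ∑ μ ∈ S, μ ^ j * (d μ : ℂ) := by
  have hk : 0 < orderOf g := orderOf_pos g
  set f : Module.End ℂ V := ρ g with hfdef
  have hfk : f ^ orderOf g = 1 := by rw [hfdef, ← map_pow, pow_orderOf_eq_one, map_one]
  have hss : f.IsSemisimple := by
    apply Module.End.isSemisimple_of_squarefree_aeval_eq_zero
      (p := (Polynomial.X ^ orderOf g - Polynomial.C (1 : ℂ)))
    · apply Polynomial.Separable.squarefree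
      exact Polynomial.separable_X_pow_sub_C 1 (Nat.cast_ne_zero.mpr hk.ne') one_ne_zero
    · simp [hfk]
  obtain ⟨S, hS, htr⟩ := trace_eq_sum_of_semisimple f hss
  refine ⟨S, fun μ => Module.finrank ℂ (f.eigenspace μ), ?_, ?_, ?_⟩
  · intro μ hμ
    obtain ⟨v, hv⟩ := (hS μ hμ).exists_hasEigenvector
    have h1 := pow_apply_of_mem_eigenspace f μ v hv.1 (orderOf g)
    rw [hfk, Module.End.one_apply] at h1
    have h2 : (μ ^ orderOf g - 1) • v = 0 := by rw [sub_smul, one_smul, ← h1, sub_self]
    rcases smul_eq_zero.mp h2 with h | h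
    · exact sub_eq_zero.mp h
    · exact absurd h hv.2
  · intro μ hμ
    have hne : f.eigenspace μ ≠ ⊥ := hS μ hμ
    have : Nontrivial (f.eigenspace μ) := (Submodule.nontrivial_iff_ne_bot).mpr hne
    exact Module.finrank_pos
  · intro j
    have := htr (ρ (g ^ j)) (fun μ => μ ^ j) (fun μ v hv => by
      rw [map_pow]; exact pow_apply_of_mem_eigenspace f μ v hv j)
    exact this

theorem conj_eq_inv_of_pow_eq_one {μ : ℂ} {k : ℕ} (hk : 0 < k) (h : μ ^ k = 1) : conj μ = μ⁻¹ := by
  have hnorm : ‖μ‖ = 1 := by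
    have : ‖μ‖ ^ k = 1 := by rw [← norm_pow, h, norm_one]
    exact (pow_eq_one_iff_of_nonneg (norm_nonneg μ) hk.ne').mp this
  have hne : μ ≠ 0 := by
    intro h0; rw [h0, norm_zero] at hnorm; exact zero_ne_one hnorm
  rw [Complex.inv_def, Complex.normSq_eq_norm_sq, hnorm]
  simp

/-- `χ(g⁻¹) = conj χ(g)` for a character of a finite group. -/
theorem char_inv_eq_conj {G : Type*} [Group G] [Finite G] (ρ : Representation ℂ G V) (g : G) :
    ρ.character g⁻¹ = conj (ρ.character g) := by
  obtain ⟨S, d, hS, _, hj⟩ := char_pow_eq_sum ρ g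
  have hk : 0 < orderOf g := orderOf_pos g
  have h1 := hj 1
  have h2 := hj (orderOf g - 1)
  rw [pow_one] at h1
  have hginv : g ^ (orderOf g - 1) = g⁻¹ := by
    rw [eq_inv_iff_mul_eq_one, ← pow_succ, Nat.sub_add_cancel hk, pow_orderOf_eq_one]
  rw [hginv] at h2
  rw [h1, h2, map_sum]
  apply Finset.sum_congr rfl
  intro μ hμ
  rw [map_mul, Complex.conj_natCast, map_pow, conj_eq_inv_of_pow_eq_one hk (hS μ hμ), pow_one]
  congr 1
  have hμk := hS μ hμ
  apply eq_inv_of_mul_eq_one_left
  rw [← pow_succ, Nat.sub_add_cancel hk, hμk]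

/-- `Re χ(g) ≤ χ(1)`, and equality of real parts forces `χ(g) = χ(1)`. -/
theorem char_re_le {G : Type*} [Group G] [Finite G] (ρ : Representation ℂ G V) (g : G) :
    (ρ.character g).re ≤ (ρ.character 1).re ∧
      ((ρ.character g).re = (ρ.character 1).re → ρ.character g = ρ.character 1) := by
  obtain ⟨S, d, hS, hd, hj⟩ := char_pow_eq_sum ρ g
  have hk : 0 < orderOf g := orderOf_pos g
  have h1 := hj 1
  have h0 := hj 0
  rw [pow_one] at h1
  rw [pow_zero] at h0
  simp only [pow_one] at h1
  simp only [pow_zero, one_mul] at h0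
  have hnorm : ∀ μ ∈ S, ‖μ‖ = 1 := by
    intro μ hμ
    have : ‖μ‖ ^ orderOf g = 1 := by rw [← norm_pow, hS μ hμ, norm_one]
    exact (pow_eq_one_iff_of_nonneg (norm_nonneg μ) hk.ne').mp this
  have hre : ∀ μ ∈ S, (μ * (d μ : ℂ)).re ≤ ((d μ : ℂ)).re := by
    intro μ hμ
    have h := Complex.re_le_norm μ
    rw [hnorm μ hμ] at h
    simp only [Complex.mul_re, Complex.natCast_re, Complex.natCast_im, mul_zero, sub_zero]
    have hdpos : (0 : ℝ) ≤ d μ := Nat.cast_nonneg _
    nlinarith
  constructor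
  · rw [h1, h0, Complex.re_sum, Complex.re_sum]
    exact Finset.sum_le_sum hre
  · intro heq
    rw [h1, h0, Complex.re_sum, Complex.re_sum] at heq
    have hall := (Finset.sum_eq_sum_iff_of_le hre).mp heq
    rw [h1, h0]
    apply Finset.sum_congr rfl
    intro μ hμ
    have h2 := hall μ hμ
    simp only [Complex.mul_re, Complex.natCast_re, Complex.natCast_im, mul_zero, sub_zero] at h2
    have hdpos : (0 : ℝ) < d μ := Nat.cast_pos.mpr (hd μ hμ)
    have hre1 : μ.re = 1 := by
      have : μ.re * (d μ : ℝ) = 1 * (d μ : ℝ) := by rw [one_mul]; exact h2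
      exact mul_right_cancel₀ hdpos.ne' this
    have him : μ.im = 0 := by
      have hn := hnorm μ hμ
      have hsq : μ.re ^ 2 + μ.im ^ 2 = 1 := by
        have := Complex.sq_norm μ
        rw [hn, Complex.normSq_apply] at this
        nlinarith
      rw [hre1] at hsq
      have : μ.im ^ 2 = 0 := by linarith
      exact pow_eq_zero_iff (two_ne_zero) |>.mp this
    have : μ = 1 := Complex.ext (by simp [hre1]) (by simp [him])
    rw [this, one_mul]

end Cfsg.Agent.Lib.Helper10
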