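import Mathlib
import Cfsg.Agent.Lib.Helper10.CharValues

/-! Linear characters `W →* ℂˣ` of a finite group: orthogonality relations. -/

namespace Cfsg.Agent.Lib.Helper10
open scoped ComplexConjugate

section
variable {W : Type*} [Group W]

theorem linChar_pow_card [Finite W] (ω : W →* ℂˣ) (w : W) :
    ((ω w : ℂˣ) : ℂ) ^ Nat.card W = 1 := by
  rw [← Units.val_pow_eq_pow_val, ← map_pow, pow_card_eq_one', map_one, Units.val_one]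

theorem linChar_conj [Finite W] (ω : W →* ℂˣ) (w : W) :
    conj ((ω w : ℂˣ) : ℂ) = ((ω w⁻¹ : ℂˣ) : ℂ) := by
  rw [map_inv, Units.val_inv_eq_inv_val]
  exact conj_eq_inv_of_pow_eq_one Nat.card_pos (linChar_pow_card ω w)

/-- Row orthogonality, first form. -/
theorem sum_linChar_of_ne_one [Fintype W] (ω : W →* ℂˣ) (hω : ω ≠ 1) :
    ∑ w : W, ((ω w : ℂˣ) : ℂ) = 0 := by
  obtain ⟨w₀, hw₀⟩ : ∃ w₀, ω w₀ ≠ 1 := by
    by_contra h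
    push_neg at h
    exact hω (MonoidHom.ext h)
  have h1 : ((ω w₀ : ℂˣ) : ℂ) * ∑ w : W, ((ω w : ℂˣ) : ℂ) = ∑ w : W, ((ω w : ℂˣ) : ℂ) := by
    rw [Finset.mul_sum]
    apply Fintype.sum_equiv (Equiv.mulLeft w₀)
    intro w
    simp
  have h2 : ((ω w₀ : ℂˣ) : ℂ) ≠ 1 := by
    intro h; apply hw₀; exact Units.ext h
  have h3 : (((ω w₀ : ℂˣ) : ℂ) - 1) * ∑ w : W, ((ω w : ℂˣ) : ℂ) = 0 := by
    rw [sub_mul, h1, one_mul, sub_self]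
  exact (mul_eq_zero.mp h3).resolve_left (sub_ne_zero.mpr h2)

/-- Row orthogonality. -/
theorem sum_linChar_mul_conj [Fintype W] (ω ω' : W →* ℂˣ) [Decidable (ω = ω')] :
    ∑ w : W, ((ω w : ℂˣ) : ℂ) * conj ((ω' w : ℂˣ) : ℂ) = if ω = ω' then (Nat.card W : ℂ) else 0 := by
  have e : ∀ w : W, ((ω w : ℂˣ) : ℂ) * conj ((ω' w : ℂˣ) : ℂ) = (((ω * ω'⁻¹) w : ℂˣ) : ℂ) := by
    intro w
    rw [linChar_conj]
    simp
  simp_rw [e]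
  split_ifs with h
  · subst h
    simp
  · apply sum_linChar_of_ne_one
    intro h'
    exact h (mul_inv_eq_one.mp h')

end

/-- A linear character of `W₁ ⊔ W₂` trivial on both `W₁` and `W₂` is trivial. -/
theorem linChar_eq_one_of_sup {G : Type*} [Group G] (W₁ W₂ : Subgroup G)
    (η : ↥(W₁ ⊔ W₂) →* ℂˣ) (h₁ : ∀ w : ↥(W₁ ⊔ W₂), (w : G) ∈ W₁ → η w = 1)
    (h₂ : ∀ w : ↥(W₁ ⊔ W₂), (w : G) ∈ W₂ → η w = 1) : η = 1 := by
  have hle : W₁ ⊔ W₂ ≤ η.ker.map (W₁ ⊔ W₂).subtype := by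
    apply sup_le
    · intro x hx
      have hx' : x ∈ W₁ ⊔ W₂ := (le_sup_left : W₁ ≤ W₁ ⊔ W₂) hx
      exact ⟨⟨x, hx'⟩, h₁ ⟨x, hx'⟩ hx, rfl⟩
    · intro x hx
      have hx' : x ∈ W₁ ⊔ W₂ := (le_sup_right : W₂ ≤ W₁ ⊔ W₂) hx
      exact ⟨⟨x, hx'⟩, h₂ ⟨x, hx'⟩ hx, rfl⟩
  ext w
  obtain ⟨w', hw', hww'⟩ := hle w.2
  have : w' = w := Subtype.ext hww'
  rw [← this]
  simpa using congrArg Units.val (MonoidHom.mem_ker.mp hw')

/-- Characters of `W₁ ⊔ W₂`: a product `φ * ψ` with `φ` trivial on `W₂` and `ψ` trivial on `W₁`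
determines both factors. -/
theorem linChar_mul_inj {G : Type*} [Group G] (W₁ W₂ : Subgroup G)
    (φ φ' ψ ψ' : ↥(W₁ ⊔ W₂) →* ℂˣ)
    (hφ : ∀ w : ↥(W₁ ⊔ W₂), (w : G) ∈ W₂ → φ w = 1)
    (hφ' : ∀ w : ↥(W₁ ⊔ W₂), (w : G) ∈ W₂ → φ' w = 1)
    (hψ : ∀ w : ↥(W₁ ⊔ W₂), (w : G) ∈ W₁ → ψ w = 1)
    (hψ' : ∀ w : ↥(W₁ ⊔ W₂), (w : G) ∈ W₁ → ψ' w = 1)
    (h : φ * ψ = φ' * ψ') : φ = φ' ∧ ψ = ψ' := by
  have hη : φ * φ'⁻¹ = 1 := by
    apply linChar_eq_one_of_sup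
    · intro w hw
      have := DFunLike.congr_fun h w
      simp only [MonoidHom.mul_apply, hψ w hw, hψ' w hw, mul_one] at this
      simp [this]
    · intro w hw
      simp [hφ w hw, hφ' w hw]
  have h1 : φ = φ' := mul_inv_eq_one.mp hη
  subst h1
  exact ⟨rfl, mul_left_cancel h⟩

/-- Orthogonality for products `a * b` of characters of `W₁ ⊔ W₂` with `a` trivial on `W₂` and `b`
trivial on `W₁`. -/
theorem sum_linChar_pair {G : Type*} [Group G] (W₁ W₂ : Subgroup G) [Fintype ↥(W₁ ⊔ W₂)]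
    (a a' b b' : ↥(W₁ ⊔ W₂) →* ℂˣ)
    (ha : ∀ w : ↥(W₁ ⊔ W₂), (w : G) ∈ W₂ → a w = 1)
    (ha' : ∀ w : ↥(W₁ ⊔ W₂), (w : G) ∈ W₂ → a' w = 1)
    (hb : ∀ w : ↥(W₁ ⊔ W₂), (w : G) ∈ W₁ → b w = 1)
    (hb' : ∀ w : ↥(W₁ ⊔ W₂), (w : G) ∈ W₁ → b' w = 1) [Decidable (a = a' ∧ b = b')] :
    ∑ w : ↥(W₁ ⊔ W₂), (((a w : ℂˣ) : ℂ) * ((b w : ℂˣ) : ℂ)) *
      conj (((a' w : ℂˣ) : ℂ) * ((b' w : ℂˣ) : ℂ))
      = if a = a' ∧ b = b' then (Nat.card ↥(W₁ ⊔ W₂) : ℂ) else 0 := by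
  classical
  have e : ∀ w : ↥(W₁ ⊔ W₂), (((a w : ℂˣ) : ℂ) * ((b w : ℂˣ) : ℂ)) *
      conj (((a' w : ℂˣ) : ℂ) * ((b' w : ℂˣ) : ℂ))
      = (((a * b) w : ℂˣ) : ℂ) * conj ((((a' * b') w : ℂˣ)) : ℂ) := by
    intro w
    simp only [MonoidHom.mul_apply, Units.val_mul]
  simp_rw [e, sum_linChar_mul_conj]
  by_cases h : a * b = a' * b'
  · rw [if_pos h, if_pos (linChar_mul_inj W₁ W₂ a a' b b' ha ha' hb hb' h)]
  · rw [if_neg h, if_neg]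
    rintro ⟨rfl, rfl⟩
    exact h rfl

section
variable {W : Type*} [Group W]

/-- Column orthogonality relative to a subgroup `K`: the sum of `φ x` over the characters `φ` trivial
on `K` vanishes unless `x ∈ K`. -/
theorem sum_annihilator_apply [Finite W] (hcomm : ∀ a b : W, a * b = b * a) (K : Subgroup W)
    (s : Finset (W →* ℂˣ)) (hs : ∀ φ, φ ∈ s ↔ ∀ y ∈ K, φ y = 1) (x : W) [Decidable (x ∈ K)] :
    ∑ φ ∈ s, ((φ x : ℂˣ) : ℂ) = if x ∈ K then (s.card : ℂ) else 0 := by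
  split_ifs with hx
  · rw [Finset.sum_congr rfl (fun φ hφ => by rw [(hs φ).mp hφ x hx])]
    simp
  · obtain ⟨φ₀, hφ₀K, hφ₀x⟩ : ∃ φ₀ : W →* ℂˣ, (∀ y ∈ K, φ₀ y = 1) ∧ φ₀ x ≠ 1 := by
      letI : CommGroup W := { (inferInstance : Group W) with mul_comm := hcomm }
      have : NeZero ((Monoid.exponent W : ℕ) : ℂ) :=
        ⟨Nat.cast_ne_zero.mpr Monoid.exponent_ne_zero_of_finite⟩
      have h := (CommGroup.forall_monoidHom_apply_eq_one_iff (G := W) (M := ℂ) K x).not.mpr hx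
      push_neg at h
      exact h
    have h1 : ((φ₀ x : ℂˣ) : ℂ) * ∑ φ ∈ s, ((φ x : ℂˣ) : ℂ) = ∑ φ ∈ s, ((φ x : ℂˣ) : ℂ) := by
      rw [Finset.mul_sum]
      apply Finset.sum_bij (fun φ _ => φ₀ * φ)
      · intro φ hφ
        rw [hs] at hφ ⊢
        intro y hy
        simp [hφ₀K y hy, hφ y hy]
      · intro a _ b _ h
        exact mul_left_cancel h
      · intro ψ hψ
        refine ⟨φ₀⁻¹ * ψ, ?_, mul_inv_cancel_left φ₀ ψ⟩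
        rw [hs] at hψ ⊢
        intro y hy
        simp [hφ₀K y hy, hψ y hy]
      · intro φ _
        simp
    have h2 : ((φ₀ x : ℂˣ) : ℂ) ≠ 1 := by
      intro h; apply hφ₀x; exact Units.ext h
    have h3 : (((φ₀ x : ℂˣ) : ℂ) - 1) * ∑ φ ∈ s, ((φ x : ℂˣ) : ℂ) = 0 := by
      rw [sub_mul, h1, one_mul, sub_self]
    exact (mul_eq_zero.mp h3).resolve_left (sub_ne_zero.mpr h2)

end

end Cfsg.Agent.Lib.Helper10
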