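import Mathlib
import Cfsg.Prelude.Def_Characters

set_option autoImplicit false

namespace Cfsg.Agent.Lib.Helper10

open Cfsg
open scoped ComplexConjugate

variable {G : Type*} [Group G]

theorem extendByZero_apply_mem (H : Subgroup G) (θ : H → ℂ) {g : G} (hg : g ∈ H) :
    extendByZero H θ g = θ ⟨g, hg⟩ := by
  unfold extendByZero
  exact Subtype.val_injective.extend_apply θ 0 ⟨g, hg⟩

theorem extendByZero_apply_coe (H : Subgroup G) (θ : H → ℂ) (h : H) :
    extendByZero H θ (h : G) = θ h :=
  extendByZero_apply_mem H θ h.2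

theorem extendByZero_apply_not_mem (H : Subgroup G) (θ : H → ℂ) {g : G} (hg : g ∉ H) :
    extendByZero H θ g = 0 := by
  unfold extendByZero
  apply Function.extend_apply'
  rintro ⟨h, rfl⟩
  exact hg h.2

/-- Summing a function of the zero-extension over `G` is summing over `H`. -/
theorem sum_extendByZero [Fintype G] (H : Subgroup G) [Fintype H] (θ : H → ℂ) (Φ : G → ℂ → ℂ)
    (hΦ : ∀ g, Φ g 0 = 0) :
    ∑ g : G, Φ g (extendByZero H θ g) = ∑ h : H, Φ h (θ h) := by
  classical
  have h1 : ∑ g : G, Φ g (extendByZero H θ g)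
      = ∑ g ∈ Finset.univ.filter (fun g : G => g ∈ H), Φ g (extendByZero H θ g) := by
    symm
    apply Finset.sum_subset (Finset.filter_subset _ _)
    intro g _ hg
    have : g ∉ H := by simpa using hg
    rw [extendByZero_apply_not_mem H θ this, hΦ]
  rw [h1]
  rw [Finset.sum_subtype (Finset.univ.filter (fun g : G => g ∈ H)) (p := fun g => g ∈ H) (by simp)]
  apply Finset.sum_congr rfl
  intro h _
  rw [extendByZero_apply_coe]

/-- Frobenius reciprocity for `indFun`, class function in the first slot. -/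
theorem classInner_indFun_right [Fintype G] (H : Subgroup G) [Fintype H] (θ : H → ℂ) (χ : G → ℂ)
    (hχ : IsClassFunction G χ) :
    classInner χ (indFun H θ) = (Nat.card H : ℂ)⁻¹ * ∑ h : H, χ h * conj (θ h) := by
  unfold classInner indFun
  have hG0 : (Nat.card G : ℂ) ≠ 0 := Nat.cast_ne_zero.mpr Nat.card_pos.ne'
  have key : ∀ x : G, ∑ g : G, χ g * conj (extendByZero H θ (x⁻¹ * g * x))
      = ∑ h : H, χ h * conj (θ h) := by
    intro x
    rw [← sum_extendByZero H θ (fun g z => χ g * conj z) (by simp)]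
    apply Fintype.sum_equiv (MulAut.conj x⁻¹).toEquiv
    intro g
    simp only [MulEquiv.toEquiv_eq_coe, MulEquiv.coe_toEquiv, MulAut.conj_apply, inv_inv]
    have := hχ g x⁻¹
    rw [inv_inv] at this
    rw [this]
  calc (Nat.card G : ℂ)⁻¹ * ∑ g : G, χ g * conj ((Nat.card H : ℂ)⁻¹ * ∑ x : G, extendByZero H θ (x⁻¹ * g * x))
      = (Nat.card G : ℂ)⁻¹ * ((Nat.card H : ℂ)⁻¹ * ∑ x : G, ∑ g : G, χ g * conj (extendByZero H θ (x⁻¹ * g * x))) := by
        congr 1
        rw [Finset.sum_comm, Finset.mul_sum]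
        apply Finset.sum_congr rfl
        intro g _
        rw [map_mul, map_sum, Finset.mul_sum, Finset.mul_sum, Finset.mul_sum]
        apply Finset.sum_congr rfl
        intro x _
        simp only [map_inv₀, Complex.conj_natCast]
        ring
    _ = (Nat.card G : ℂ)⁻¹ * ((Nat.card H : ℂ)⁻¹ * ∑ _x : G, ∑ h : H, χ h * conj (θ h)) := by
        simp only [key]
    _ = (Nat.card H : ℂ)⁻¹ * ∑ h : H, χ h * conj (θ h) := by
        rw [Finset.sum_const, Finset.card_univ, ← Nat.card_eq_fintype_card, nsmul_eq_mul]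
        field_simp

theorem classInner_conj_symm [Fintype G] (φ ψ : G → ℂ) :
    classInner φ ψ = conj (classInner ψ φ) := by
  unfold classInner
  rw [map_mul, map_sum]
  simp only [map_inv₀, Complex.conj_natCast, map_mul, Complex.conj_conj]
  congr 1
  apply Finset.sum_congr rfl
  intro g _
  ring

theorem classInner_add_right [Fintype G] (φ ψ₁ ψ₂ : G → ℂ) :
    classInner φ (ψ₁ + ψ₂) = classInner φ ψ₁ + classInner φ ψ₂ := by
  unfold classInner
  rw [← mul_add, ← Finset.sum_add_distrib]
  congr 1
  apply Finset.sum_congr rfl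
  intro g _
  simp only [Pi.add_apply, map_add]; ring

theorem classInner_sub_right [Fintype G] (φ ψ₁ ψ₂ : G → ℂ) :
    classInner φ (ψ₁ - ψ₂) = classInner φ ψ₁ - classInner φ ψ₂ := by
  unfold classInner
  rw [← mul_sub, ← Finset.sum_sub_distrib]
  congr 1
  apply Finset.sum_congr rfl
  intro g _
  simp only [Pi.sub_apply, map_sub]; ring

theorem classInner_add_left [Fintype G] (φ₁ φ₂ ψ : G → ℂ) :
    classInner (φ₁ + φ₂) ψ = classInner φ₁ ψ + classInner φ₂ ψ := by
  unfold classInner
  rw [← mul_add, ← Finset.sum_add_distrib]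
  congr 1
  apply Finset.sum_congr rfl
  intro g _
  simp only [Pi.add_apply]; ring

theorem classInner_sub_left [Fintype G] (φ₁ φ₂ ψ : G → ℂ) :
    classInner (φ₁ - φ₂) ψ = classInner φ₁ ψ - classInner φ₂ ψ := by
  unfold classInner
  rw [← mul_sub, ← Finset.sum_sub_distrib]
  congr 1
  apply Finset.sum_congr rfl
  intro g _
  simp only [Pi.sub_apply]; ring

theorem classInner_smul_left [Fintype G] (c : ℂ) (φ ψ : G → ℂ) :
    classInner (c • φ) ψ = c * classInner φ ψ := by
  unfold classInner
  rw [Finset.mul_sum, Finset.mul_sum, Finset.mul_sum]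
  apply Finset.sum_congr rfl
  intro g _
  simp only [Pi.smul_apply, smul_eq_mul]; ring

theorem classInner_smul_right [Fintype G] (c : ℂ) (φ ψ : G → ℂ) :
    classInner φ (c • ψ) = conj c * classInner φ ψ := by
  unfold classInner
  rw [Finset.mul_sum, Finset.mul_sum, Finset.mul_sum]
  apply Finset.sum_congr rfl
  intro g _
  simp only [Pi.smul_apply, smul_eq_mul, map_mul]; ring

end Cfsg.Agent.Lib.Helper10
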