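import Mathlib
import Cfsg.Prelude.Def_Characters
import Cfsg.Agent.Lib.Helper10.CharValues
import Cfsg.Agent.Lib.Helper10.IndFun

set_option autoImplicit false

namespace Cfsg.Agent.Lib.Helper10

open Cfsg
open scoped ComplexConjugate

variable {G : Type*} [Group G]

theorem isCharacter_of_isIrrCharacter {χ : G → ℂ} (h : IsIrrCharacter G χ) : IsCharacter G χ := by
  obtain ⟨n, ρ, _, hρ⟩ := h
  exact ⟨n, ρ, hρ⟩

theorem isClassFunction_of_isCharacter {χ : G → ℂ} (h : IsCharacter G χ) : IsClassFunction G χ := by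
  obtain ⟨n, ρ, rfl⟩ := h
  intro g x
  exact ρ.char_conj g x

theorem isCharacter_inv_eq_conj [Finite G] {χ : G → ℂ} (h : IsCharacter G χ) (g : G) :
    χ g⁻¹ = conj (χ g) := by
  obtain ⟨n, ρ, rfl⟩ := h
  exact char_inv_eq_conj ρ g

/-- Orthonormality of irreducible characters, in the language of `Cfsg.classInner`. -/
theorem classInner_irr [Fintype G] {θ φ : G → ℂ} (hθ : IsIrrCharacter G θ) (hφ : IsIrrCharacter G φ) :
    classInner θ φ = if θ = φ then 1 else 0 := by
  classical
  obtain ⟨n, ρ, hρ, rfl⟩ := hθ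
  obtain ⟨m, σ, hσ, rfl⟩ := hφ
  have hinv : Invertible (Nat.card G : ℂ) := invertibleOfNonzero (Nat.cast_ne_zero.mpr Nat.card_pos.ne')
  have key : ∀ {a b : ℕ} (ρ' : Representation ℂ G (Fin a → ℂ)) (σ' : Representation ℂ G (Fin b → ℂ)),
      classInner ρ'.character σ'.character
        = (Nat.card G : ℂ)⁻¹ * ∑ g : G, ρ'.character g * σ'.character g⁻¹ := by
    intro a b ρ' σ'
    unfold classInner
    congr 1
    apply Finset.sum_congr rfl
    intro g _
    rw [char_inv_eq_conj σ' g]
  rw [key ρ σ]
  split_ifs with h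
  · have h1 := Representation.char_orthonormal ρ ρ
    rw [if_pos ⟨Representation.Equiv.refl ρ⟩] at h1
    rw [← h]
    simpa using h1
  · have h1 := Representation.char_orthonormal ρ σ
    rw [if_neg] at h1
    · simpa using h1
    · rintro ⟨e⟩
      exact h (Representation.char_iso e).symm

theorem classInner_irr_self [Fintype G] {θ : G → ℂ} (hθ : IsIrrCharacter G θ) : classInner θ θ = 1 := by
  rw [classInner_irr hθ hθ, if_pos rfl]

theorem irr_one_ne_zero [Finite G] {θ : G → ℂ} (hθ : IsIrrCharacter G θ) : θ 1 ≠ 0 := by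
  intro h
  have : Fintype G := Fintype.ofFinite G
  have h1 := classInner_irr_self hθ
  obtain ⟨n, ρ, hρ, rfl⟩ := hθ
  rw [Representation.char_one] at h
  have hn : Module.finrank ℂ (Fin n → ℂ) = 0 := by exact_mod_cast h
  have hsub : Subsingleton (Fin n → ℂ) := Module.finrank_zero_iff.mp hn
  have hzero : ρ.character = 0 := by
    funext g
    unfold Representation.character
    have : ρ g = 0 := LinearMap.ext fun v => Subsingleton.elim _ _
    rw [this, map_zero]; rfl
  rw [hzero] at h1
  unfold classInner at h1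
  simp at h1

end Cfsg.Agent.Lib.Helper10
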