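import Mathlib
import Cfsg.Prelude.Def_Characters
import Cfsg.Agent.Lib.Helper10.IndFun
import Cfsg.Agent.Lib.Helper10.IrrOrtho
import Cfsg.Agent.Lib.Helper23.GaloisChar
import Cfsg.Agent.Lib.Lead.GalChar
import Cfsg.Agent.Lib.Helper24.IrrFacts

set_option autoImplicit false

namespace Cfsg.Agent.Lib.Helper10

open Cfsg
open scoped ComplexConjugate

section
variable {G : Type*} [Group G]

/-- the power-map twist of a function on `G` -/
def powTwist (k : ℕ) (θ : G → ℂ) : G → ℂ := fun g => θ (g ^ k)

theorem powTwist_apply (k : ℕ) (θ : G → ℂ) (g : G) : powTwist k θ g = θ (g ^ k) := rfl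

theorem powTwist_neg (k : ℕ) (θ : G → ℂ) : powTwist k (-θ) = -powTwist k θ := rfl

theorem powTwist_add (k : ℕ) (θ η : G → ℂ) : powTwist k (θ + η) = powTwist k θ + powTwist k η := rfl

theorem powTwist_sub (k : ℕ) (θ η : G → ℂ) : powTwist k (θ - η) = powTwist k θ - powTwist k η := rfl

variable [Fintype G]

theorem classInner_powTwist (k : ℕ) (hk : k.Coprime (Nat.card G)) (θ η : G → ℂ) :
    classInner (powTwist k θ) (powTwist k η) = classInner θ η := by
  unfold classInner powTwist
  congr 1
  exact Equiv.sum_comp (powCoprime hk.symm) (fun g => θ g * conj (η g))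

theorem isIrrCharacter_powTwist (k : ℕ) (hk : k.Coprime (Nat.card G)) {θ : G → ℂ}
    (hθ : IsIrrCharacter G θ) : IsIrrCharacter G (powTwist k θ) :=
  Cfsg.Agent.Lib.Helper23.isIrrCharacter_comp_pow hθ k hk

theorem signedIrr_powTwist (k : ℕ) (hk : k.Coprime (Nat.card G)) {θ : G → ℂ}
    (hθ : IsIrrCharacter G θ ∨ IsIrrCharacter G (-θ)) :
    IsIrrCharacter G (powTwist k θ) ∨ IsIrrCharacter G (-powTwist k θ) := by
  rcases hθ with h | h
  · exact Or.inl (isIrrCharacter_powTwist k hk h)
  · right
    rw [← powTwist_neg]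
    exact isIrrCharacter_powTwist k hk h

/-- membership of a power in a subgroup, for exponents coprime to the group order -/
theorem pow_mem_iff_of_coprime (W : Subgroup G) (k : ℕ) (hk : k.Coprime (Nat.card G)) (y : G) :
    y ^ k ∈ W ↔ y ∈ W := by
  constructor
  · intro h
    have hk' : k.Coprime (orderOf y) := hk.coprime_dvd_right (orderOf_dvd_natCard y)
    obtain ⟨m, hm⟩ := exists_pow_eq_self_of_coprime hk'
    rw [← hm]
    exact W.pow_mem h m
  · intro h
    exact W.pow_mem h k

theorem powTwist_indFun (W : Subgroup G) (f : W → ℂ) (k : ℕ) (hk : k.Coprime (Nat.card G)) :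
    powTwist k (indFun W f) = indFun W (fun w => f (w ^ k)) := by
  funext g
  unfold powTwist indFun
  congr 1
  apply Finset.sum_congr rfl
  intro x _
  have hc : x⁻¹ * g ^ k * x = (x⁻¹ * g * x) ^ k := by
    have := conj_pow (a := x⁻¹) (b := g) (i := k)
    rw [inv_inv] at this
    exact this.symm
  rw [hc]
  by_cases hy : x⁻¹ * g * x ∈ W
  · rw [extendByZero_apply_mem W _ hy, extendByZero_apply_mem W _ (W.pow_mem hy k)]
    rfl
  · rw [extendByZero_apply_not_mem W _ hy, extendByZero_apply_not_mem W _]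
    rw [pow_mem_iff_of_coprime W k hk]
    exact hy

end

end Cfsg.Agent.Lib.Helper10
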