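import Mathlib
import Cfsg.Prelude.Def_OddOrderChar
import Cfsg.Prelude.Def_OddOrderLocal
import Cfsg.Agent.Lib.Helper10.LinChar
import Cfsg.Agent.Lib.Helper10.CyclicSup
import Cfsg.Agent.Lib.Helper10.PowTwistChar

set_option autoImplicit false

namespace Cfsg.Agent.Lib.Helper10

open Cfsg
open scoped ComplexConjugate

/-! ### number theory -/

theorem exists_coprime_lift {d N k0 : ℕ} (hN : 0 < N) (hd : d ∣ N) (hk0 : k0.Coprime d) :
    ∃ k : ℕ, k.Coprime N ∧ k ≡ k0 [MOD d] := by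
  have : NeZero N := ⟨hN.ne'⟩
  have hdpos : 0 < d := Nat.pos_of_dvd_of_pos hd hN
  have : NeZero d := ⟨hdpos.ne'⟩
  obtain ⟨u, hu⟩ := ZMod.unitsMap_surjective hd (ZMod.unitOfCoprime k0 hk0)
  refine ⟨(u : ZMod N).val, ZMod.val_coe_unit_coprime u, ?_⟩
  rw [← ZMod.natCast_eq_natCast_iff]
  have h1 := congrArg (fun v : (ZMod d)ˣ => (v : ZMod d)) hu
  simp only [ZMod.unitsMap_val, ZMod.coe_unitOfCoprime] at h1
  rw [← h1]
  simp [ZMod.natCast_val]

/-- a common lift: `k ≡ m (mod a)`, `k ≡ 1 (mod b)`, `k` coprime to `N` -/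
theorem exists_coprime_crt {a b N m : ℕ} (hN : 0 < N) (ha : a ∣ N) (hb : b ∣ N) (hab : a.Coprime b)
    (hm : m.Coprime N) : ∃ k : ℕ, k.Coprime N ∧ k ≡ m [MOD a] ∧ k ≡ 1 [MOD b] := by
  obtain ⟨k0, hk0a, hk0b⟩ := Nat.chineseRemainder hab m 1
  have hc : k0.Coprime (a * b) := by
    apply Nat.Coprime.mul_right
    · have h1 : Nat.gcd k0 a = Nat.gcd m a := hk0a.gcd_eq
      have h2 : Nat.gcd m a = 1 := hm.coprime_dvd_right ha
      exact h1.trans h2
    · have h1 : Nat.gcd k0 b = Nat.gcd 1 b := hk0b.gcd_eq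
      rw [Nat.gcd_one_left] at h1
      exact h1
  obtain ⟨k, hk, hkk0⟩ := exists_coprime_lift hN (hab.mul_dvd_of_dvd_of_dvd ha hb) hc
  exact ⟨k, hk, (hkk0.of_dvd (dvd_mul_right a b)).trans hk0a,
    (hkk0.of_dvd (dvd_mul_left b a)).trans hk0b⟩

/-! ### signed irreducible characters -/

section signed
variable {G : Type*} [Group G] [Fintype G]

theorem classInner_neg_left_g (a b : G → ℂ) : classInner (-a) b = -classInner a b := by
  have : (-a) = (-1 : ℂ) • a := by funext g; simp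
  rw [this, classInner_smul_left]; ring

theorem classInner_neg_right_g (a b : G → ℂ) : classInner a (-b) = -classInner a b := by
  have : (-b) = (-1 : ℂ) • b := by funext g; simp
  rw [this, classInner_smul_right]; simp

theorem signedIrr_inner_cases {a b : G → ℂ}
    (ha : IsIrrCharacter G a ∨ IsIrrCharacter G (-a))
    (hb : IsIrrCharacter G b ∨ IsIrrCharacter G (-b)) :
    classInner a b = 0 ∨ (a = b ∧ classInner a b = 1) ∨ (a = -b ∧ classInner a b = -1) := by
  classical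
  rcases ha with ha | ha <;> rcases hb with hb | hb
  · have h := classInner_irr ha hb
    by_cases e : a = b
    · rw [if_pos e] at h; exact Or.inr (Or.inl ⟨e, h⟩)
    · rw [if_neg e] at h; exact Or.inl h
  · have h := classInner_irr ha hb
    rw [classInner_neg_right_g] at h
    by_cases e : a = -b
    · rw [if_pos e] at h
      exact Or.inr (Or.inr ⟨e, by rw [← h, neg_neg]⟩)
    · rw [if_neg e] at h
      exact Or.inl (neg_eq_zero.mp h)
  · have h := classInner_irr ha hb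
    rw [classInner_neg_left_g] at h
    by_cases e : -a = b
    · rw [if_pos e] at h
      exact Or.inr (Or.inr ⟨by rw [← e, neg_neg], by rw [← h, neg_neg]⟩)
    · rw [if_neg e] at h
      exact Or.inl (neg_eq_zero.mp h)
  · have h := classInner_irr ha hb
    rw [classInner_neg_left_g, classInner_neg_right_g, neg_neg] at h
    by_cases e : -a = -b
    · rw [if_pos e] at h
      exact Or.inr (Or.inl ⟨neg_injective e, h⟩)
    · rw [if_neg e] at h
      exact Or.inl h

theorem signedIrr_trichotomy {a b1 b2 b3 : G → ℂ}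
    (ha : IsIrrCharacter G a ∨ IsIrrCharacter G (-a))
    (h1 : IsIrrCharacter G b1 ∨ IsIrrCharacter G (-b1))
    (h2 : IsIrrCharacter G b2 ∨ IsIrrCharacter G (-b2))
    (h3 : IsIrrCharacter G b3 ∨ IsIrrCharacter G (-b3))
    (h12 : classInner b1 b2 = 0) (h13 : classInner b1 b3 = 0) (h23 : classInner b2 b3 = 0)
    (hsum : classInner a b1 + classInner a b2 - classInner a b3 = 1) :
    a = b1 ∨ a = b2 ∨ a = -b3 := by
  rcases signedIrr_inner_cases ha h1 with c1 | ⟨e1, _⟩ | ⟨e1, c1⟩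
  · rcases signedIrr_inner_cases ha h2 with c2 | ⟨e2, _⟩ | ⟨e2, c2⟩
    · rcases signedIrr_inner_cases ha h3 with c3 | ⟨_, c3⟩ | ⟨e3, _⟩
      · rw [c1, c2, c3] at hsum; norm_num at hsum
      · rw [c1, c2, c3] at hsum; norm_num at hsum
      · exact Or.inr (Or.inr e3)
    · exact Or.inr (Or.inl e2)
    · exfalso
      have c3 : classInner a b3 = 0 := by rw [e2, classInner_neg_left_g, h23, neg_zero]
      rw [c1, c2, c3] at hsum; norm_num at hsum
  · exact Or.inl e1
  · exfalso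
    have c2 : classInner a b2 = 0 := by rw [e1, classInner_neg_left_g, h12, neg_zero]
    have c3 : classInner a b3 = 0 := by rw [e1, classInner_neg_left_g, h13, neg_zero]
    rw [c1, c2, c3] at hsum; norm_num at hsum

end signed

/-! ### powers of linear characters -/

section linpow
variable {W : Type*} [Group W] [Finite W]

theorem linChar_pow_card_eq_one (ω : W →* ℂˣ) : ω ^ Nat.card W = 1 := by
  ext w
  rw [MonoidHom.pow_apply, ← map_pow, pow_card_eq_one', map_one]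
  rfl

theorem orderOf_linChar_dvd (ω : W →* ℂˣ) : orderOf ω ∣ Nat.card W :=
  orderOf_dvd_of_pow_eq_one (linChar_pow_card_eq_one ω)

theorem linChar_eq_one_of_pow_eq_one {ω : W →* ℂˣ} {k : ℕ} (hk : k.Coprime (Nat.card W))
    (h : ω ^ k = 1) : ω = 1 := by
  have h1 : orderOf ω ∣ k := orderOf_dvd_of_pow_eq_one h
  have h2 : orderOf ω ∣ Nat.card W := orderOf_linChar_dvd ω
  have h3 : orderOf ω ∣ 1 := by
    have := Nat.dvd_gcd h1 h2
    rwa [hk] at this
  exact orderOf_eq_one_iff.mp (Nat.dvd_one.mp h3)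

theorem linChar_pow_injective {k : ℕ} (hk : k.Coprime (Nat.card W)) {ω ω' : W →* ℂˣ}
    (h : ω ^ k = ω' ^ k) : ω = ω' := by
  have h1 : (ω * ω'⁻¹) ^ k = 1 := by
    ext w
    have hw := DFunLike.congr_fun h w
    rw [MonoidHom.pow_apply, MonoidHom.pow_apply] at hw
    rw [MonoidHom.pow_apply, MonoidHom.mul_apply, MonoidHom.inv_apply, mul_pow, inv_pow, hw,
      mul_inv_cancel]
    rfl
  exact mul_inv_eq_one.mp (linChar_eq_one_of_pow_eq_one hk h1)

end linpow

/-! ### the abstract twisting lemma -/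

section abstract
variable {G : Type*} [Group G] [Fintype G] {Ω : Type*} [CommGroup Ω]

/-- data: an orthonormal family of signed irreducibles indexed by a commutative group `Ω`,
two "coordinate" subsets `P`, `Q` with unique factorisation, and the twisted identities. -/
theorem twist_eq_of_identities (χ : Ω → (G → ℂ)) (T : (G → ℂ) → (G → ℂ)) (κ : Ω → Ω)
    (hsigned : ∀ ω, IsIrrCharacter G (χ ω) ∨ IsIrrCharacter G (-χ ω))
    (hTsigned : ∀ ω, IsIrrCharacter G (T (χ ω)) ∨ IsIrrCharacter G (-T (χ ω)))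
    (horth : ∀ ω ω', ω ≠ ω' → classInner (χ ω) (χ ω') = 0)
    (hTinner : ∀ ω ω', classInner (T (χ ω)) (T (χ ω')) = classInner (χ ω) (χ ω'))
    (hnorm : ∀ ω, classInner (χ ω) (χ ω) = 1)
    (hκinj : Function.Injective κ) (hκ1 : κ 1 = 1)
    (P Q : Set Ω) (hP1 : (1 : Ω) ∈ P) (hQ1 : (1 : Ω) ∈ Q)
    (hPκ : ∀ a ∈ P, κ a ∈ P) (hQκ : ∀ b ∈ Q, κ b ∈ Q)
    (hPQ : ∀ a ∈ P, ∀ a' ∈ P, ∀ b ∈ Q, ∀ b' ∈ Q, a * b = a' * b' → a = a' ∧ b = b')
    (hE : ∀ a ∈ P, a ≠ 1 → ∀ b ∈ Q, b ≠ 1 →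
      T (χ a) + T (χ b) - T (χ (a * b)) = χ (κ a) + χ (κ b) - χ (κ a * κ b))
    (a : Ω) (haP : a ∈ P) (ha1 : a ≠ 1) (b b' : Ω) (hbQ : b ∈ Q) (hb'Q : b' ∈ Q)
    (hb1 : b ≠ 1) (hb'1 : b' ≠ 1) (hbb' : b ≠ b') :
    T (χ a) = χ (κ a) := by
  -- distinctness facts
  have hκne : ∀ x, x ≠ 1 → κ x ≠ 1 := fun x hx h => hx (hκinj (h.trans hκ1.symm))
  have d1 : ∀ x ∈ P, x ≠ 1 → ∀ y ∈ Q, x ≠ y := by
    intro x hx hx1 y hy h
    have := hPQ x hx 1 hP1 1 hQ1 y hy (by rw [mul_one, one_mul, h])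
    exact hx1 this.1
  have d2 : ∀ x ∈ P, ∀ y ∈ Q, y ≠ 1 → x ≠ x * y := by
    intro x hx y hy hy1 h
    have := hPQ x hx x hx 1 hQ1 y hy (by rw [mul_one]; exact h)
    exact hy1 this.2.symm
  have d3 : ∀ x ∈ P, x ≠ 1 → ∀ y ∈ Q, ∀ y' ∈ Q, y ≠ x * y' := by
    intro x hx hx1 y hy y' hy' h
    have := hPQ 1 hP1 x hx y hy y' hy' (by rw [one_mul]; exact h)
    exact hx1 this.1.symm
  have d4 : ∀ x ∈ P, ∀ y ∈ Q, ∀ y' ∈ Q, y ≠ y' → x * y ≠ x * y' := by
    intro x hx y hy y' hy' hne h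
    exact hne (hPQ x hx x hx y hy y' hy' h).2
  -- the trichotomy for a pair
  have tri : ∀ y ∈ Q, y ≠ 1 →
      T (χ a) = χ (κ a) ∨ T (χ a) = χ (κ y) ∨ T (χ a) = -χ (κ a * κ y) := by
    intro y hy hy1
    have hκa : κ a ∈ P := hPκ a haP
    have hκy : κ y ∈ Q := hQκ y hy
    apply signedIrr_trichotomy (hTsigned a) (hsigned _) (hsigned _) (hsigned _)
    · exact horth _ _ (d1 _ hκa (hκne a ha1) _ hκy)
    · exact horth _ _ (d2 _ hκa _ hκy (hκne y hy1))
    · exact horth _ _ (d3 _ hκa (hκne a ha1) _ hκy _ hκy)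
    · have h1 : classInner (T (χ a)) (χ (κ a) + χ (κ y) - χ (κ a * κ y)) = 1 := by
        rw [← hE a haP ha1 y hy hy1, classInner_sub_right, classInner_add_right, hTinner, hTinner,
          hTinner, hnorm, horth _ _ (d1 a haP ha1 y hy), horth _ _ (d2 a haP y hy hy1)]
        ring
      rw [classInner_sub_right, classInner_add_right] at h1
      exact h1
  -- two signed irreducibles with distinct indices are neither equal nor opposite
  have hne1 : ∀ u v, u ≠ v → χ u ≠ χ v := by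
    intro u v huv h
    have := horth u v huv
    rw [h, hnorm] at this
    exact one_ne_zero this
  have hne2 : ∀ u v, u ≠ v → χ u ≠ -χ v := by
    intro u v huv h
    have := horth u v huv
    rw [h, classInner_neg_left_g, hnorm] at this
    exact one_ne_zero (neg_eq_zero.mp this)
  have hκa : κ a ∈ P := hPκ a haP
  have hκb : κ b ∈ Q := hQκ b hbQ
  have hκb' : κ b' ∈ Q := hQκ b' hb'Q
  have hκbb' : κ b ≠ κ b' := fun h => hbb' (hκinj h)
  rcases tri b hbQ hb1 with h | h | h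
  · exact h
  · rcases tri b' hb'Q hb'1 with h' | h' | h'
    · exact h'
    · exact absurd (h.symm.trans h') (hne1 _ _ hκbb')
    · exact absurd (h.symm.trans h') (hne2 _ _ (d3 _ hκa (hκne a ha1) _ hκb _ hκb'))
  · rcases tri b' hb'Q hb'1 with h' | h' | h'
    · exact h'
    · exfalso
      have := h'.symm.trans h
      exact hne2 _ _ (d3 _ hκa (hκne a ha1) _ hκb' _ hκb) this
    · exfalso
      have := neg_injective (h.symm.trans h')
      exact hne1 _ _ (d4 _ hκa _ hκb _ hκb' hκbb') this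

end abstract

/-! ### rationality from invariance under power maps -/

section rat
universe u v
variable {G : Type u} [Group G] {V : Type v} [AddCommGroup V] [Module ℂ V] [FiniteDimensional ℂ V]

open Cfsg.Agent.CharLib in
theorem exists_rat_of_forall_pow_eq [Finite G] (ρ : Representation ℂ G V) (g : G)
    (H : ∀ m : ℕ, m.Coprime (Nat.card G) → ρ.character (g ^ m) = ρ.character g) :
    ∃ q : ℚ, ρ.character g = (q : ℂ) := by
  have hNpos : 0 < Nat.card G := Nat.card_pos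
  haveI : NeZero (Nat.card G) := ⟨hNpos.ne'⟩
  obtain ⟨K, _, _, _, ⟨φ⟩⟩ := exists_cyclotomic_field (Nat.card G)
  haveI : FiniteDimensional ℚ K := IsCyclotomicExtension.finiteDimensional {Nat.card G} ℚ K
  haveI : IsGalois ℚ K := IsCyclotomicExtension.isGalois {Nat.card G} ℚ K
  obtain ⟨x, -, hx2, hx3⟩ := exists_cyclotomic_charVal (Nat.card G) K φ ρ g pow_card_eq_one'
  have hfix : ∀ σ : K ≃ₐ[ℚ] K, σ x = x := by
    intro σ
    apply φ.injective
    rw [hx3 σ, hx2]
    exact H _ (galExp_coprime (Nat.card G) K σ)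
  obtain ⟨q, hq⟩ := (IsGalois.mem_range_algebraMap_iff_fixed x).mpr hfix
  refine ⟨q, ?_⟩
  rw [← hx2, ← hq]
  simp

theorem exists_int_of_rat_of_isIntegral {z : ℂ} (hz : IsIntegral ℤ z) (q : ℚ) (hq : z = (q : ℂ)) :
    ∃ n : ℤ, z = (n : ℂ) := by
  rw [hq] at hz
  have h2 : IsIntegral ℤ q :=
    (isIntegral_algebraMap_iff (algebraMap ℚ ℂ).injective (R := ℤ) (x := q)).mp hz
  obtain ⟨k, hk⟩ := IsIntegrallyClosed.isIntegral_iff.mp h2
  refine ⟨k, ?_⟩
  rw [hq, ← hk]
  simp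

/-- an irreducible character value invariant under all power maps coprime to `|G|` is an integer -/
theorem irr_int_of_forall_pow_eq [Finite G] {θ : G → ℂ} (hθ : IsIrrCharacter G θ) (g : G)
    (H : ∀ m : ℕ, m.Coprime (Nat.card G) → θ (g ^ m) = θ g) : ∃ n : ℤ, θ g = (n : ℂ) := by
  have hint : IsIntegral ℤ (θ g) := Cfsg.Agent.Lib.Helper24.irr_isIntegral ⟨θ, hθ⟩ g
  obtain ⟨n, ρ, _, rfl⟩ := hθ
  obtain ⟨q, hq⟩ := exists_rat_of_forall_pow_eq ρ g H
  exact exists_int_of_rat_of_isIntegral hint q hq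

end rat

end Cfsg.Agent.Lib.Helper10
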