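import Mathlib
import Cfsg.Prelude.Def_Characters
import Cfsg.Agent.Lib.Helper10.IrrOrtho

set_option autoImplicit false

namespace Cfsg.Agent.Lib.Helper10

open Cfsg
open scoped ComplexConjugate

/-- Composing an irreducible representation with a group isomorphism keeps it irreducible. -/
theorem isIrreducible_comp_mulEquiv {k H H' V : Type*} [Field k] [Group H] [Group H'] [AddCommGroup V]
    [Module k V] (ρ : Representation k H V) (e : H' ≃* H) (hρ : ρ.IsIrreducible) :
    Representation.IsIrreducible (ρ.comp e.toMonoidHom) := by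
  let iso : Subrepresentation (ρ.comp e.toMonoidHom) ≃o Subrepresentation ρ :=
    { toFun := fun W => ⟨W.toSubmodule, fun g v hv => by
        have := W.apply_mem_toSubmodule (e.symm g) hv
        simpa using this⟩
      invFun := fun W => ⟨W.toSubmodule, fun g v hv => W.apply_mem_toSubmodule (e g) hv⟩
      left_inv := fun W => rfl
      right_inv := fun W => rfl
      map_rel_iff' := Iff.rfl }
  exact (OrderIso.isSimpleOrder_iff iso).mpr hρ

/-- If `θ` is an irreducible character of `H` and `e` an automorphism of `H`, `θ ∘ e` is one too. -/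
theorem isIrrCharacter_comp_mulEquiv {H : Type*} [Group H] (θ : H → ℂ) (hθ : IsIrrCharacter H θ)
    (e : H ≃* H) : IsIrrCharacter H (fun h => θ (e h)) := by
  obtain ⟨n, ρ, hρ, rfl⟩ := hθ
  refine ⟨n, ρ.comp e.toMonoidHom, isIrreducible_comp_mulEquiv ρ e hρ, ?_⟩
  funext h
  rfl

/-- Conjugating an irreducible character of a normal subgroup by an element of the group. -/
theorem isIrrCharacter_conj {G : Type*} [Group G] (H : Subgroup G) [hN : H.Normal] (θ : H → ℂ)
    (hθ : IsIrrCharacter H θ) (g : G) :
    IsIrrCharacter H (fun h : H => θ ⟨g * h * g⁻¹, hN.conj_mem h h.2 g⟩) := by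
  exact isIrrCharacter_comp_mulEquiv θ hθ (MulAut.conjNormal g)

/-- Any induced function is a class function. -/
theorem isClassFunction_indFun {G : Type*} [Group G] [Fintype G] (H : Subgroup G) (θ : H → ℂ) :
    IsClassFunction G (indFun H θ) := by
  intro g y
  unfold indFun
  congr 1
  apply Fintype.sum_equiv (Equiv.mulLeft y⁻¹)
  intro x
  simp only [Equiv.coe_mulLeft]
  congr 1
  group

/-- On a normal subgroup, the induced function is the average of the conjugates. -/
theorem indFun_apply_of_normal {G : Type*} [Group G] [Fintype G] (H : Subgroup G) [hN : H.Normal]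
    (θ : H → ℂ) (h : H) :
    indFun H θ h = (Nat.card H : ℂ)⁻¹ * ∑ x : G, θ ⟨x⁻¹ * h * x, by
      have := hN.conj_mem h h.2 x⁻¹; simpa using this⟩ := by
  unfold indFun
  congr 1
  apply Finset.sum_congr rfl
  intro x _
  rw [extendByZero_apply_mem]

end Cfsg.Agent.Lib.Helper10
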