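import Mathlib
import Cfsg.Prelude.Def_Characters
import Cfsg.Agent.Lib.Lead.CharMain
import Cfsg.Agent.Lib.Lead.CharEquiv
import Cfsg.Agent.Lib.Helper10.IndFun

/-! Generalized characters: integrality of inner products, norm one means `±` irreducible. -/

namespace Cfsg.Agent.Lib.Helper10
open Cfsg Cfsg.Agent.CharLib
open scoped ComplexConjugate

universe u
variable {G : Type u} [Group G]

theorem genChar_isClassFunction {θ : G → ℂ} (hθ : IsGeneralizedCharacter G θ) :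
    IsClassFunction G θ := by
  obtain ⟨χ, ψ, hχ, hψ, rfl⟩ := hθ
  exact IsClassFunction.sub (IsCharacter.isClassFunction hχ) (IsCharacter.isClassFunction hψ)

theorem genChar_classInner_int [Fintype G] {θ φ : G → ℂ} (hθ : IsGeneralizedCharacter G θ)
    (hφ : IsCharacter G φ) : ∃ a : ℤ, classInner θ φ = a := by
  obtain ⟨χ, ψ, hχ, hψ, rfl⟩ := hθ
  obtain ⟨n, hn⟩ := IsCharacter.classInner_nat hχ hφ
  obtain ⟨m, hm⟩ := IsCharacter.classInner_nat hψ hφ
  refine ⟨(n : ℤ) - m, ?_⟩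
  rw [Cfsg.Agent.CharLib.classInner_sub_left, hn, hm]
  push_cast
  rfl

theorem isGeneralizedCharacter_of_isCharacter {χ : G → ℂ} (h : IsCharacter G χ) :
    IsGeneralizedCharacter G χ :=
  ⟨χ, 0, h, isCharacter_zero, by simp⟩

/-- A generalized character of norm one is `±` an irreducible character. -/
theorem genChar_norm_one [Fintype G] {θ : G → ℂ} (hθ : IsGeneralizedCharacter G θ)
    (h1 : classInner θ θ = 1) : ∃ ε : ℂ, (ε = 1 ∨ ε = -1) ∧ IsIrrCharacter G (ε • θ) := by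
  classical
  let _ := fintypeIrr G
  have hcl : IsClassFunction G θ := genChar_isClassFunction hθ
  have hint : ∀ φ : IrrCharacter G, ∃ a : ℤ, classInner θ (φ : G → ℂ) = a :=
    fun φ => genChar_classInner_int hθ (IsIrrCharacter.isCharacter φ.2)
  choose a ha using hint
  have hexp := classFunction_eq_sum hcl
  simp_rw [ha] at hexp
  have hsumC : classInner θ θ = ∑ φ : IrrCharacter G, ((a φ : ℤ) : ℂ) * ((a φ : ℤ) : ℂ) := by
    nth_rewrite 2 [hexp]
    rw [Cfsg.Agent.CharLib.classInner_sum_right]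
    apply Finset.sum_congr rfl
    intro φ _
    rw [Cfsg.Agent.CharLib.classInner_smul_right, ha, map_intCast]
  have hsum : ∑ φ : IrrCharacter G, (a φ) * (a φ) = 1 := by
    rw [h1] at hsumC
    exact_mod_cast hsumC.symm
  -- some coefficient is nonzero
  obtain ⟨φ₀, hφ₀⟩ : ∃ φ₀, a φ₀ ≠ 0 := by
    by_contra h
    push_neg at h
    simp [h] at hsum
  have hnn : ∀ φ : IrrCharacter G, 0 ≤ a φ * a φ := fun φ => mul_self_nonneg _
  have hsplit := Finset.add_sum_erase Finset.univ (fun φ => a φ * a φ) (Finset.mem_univ φ₀)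
  rw [hsum] at hsplit
  have hge : 1 ≤ a φ₀ * a φ₀ := by
    have : 0 < a φ₀ * a φ₀ := mul_self_pos.mpr hφ₀
    omega
  have hrest : ∑ φ ∈ Finset.univ.erase φ₀, a φ * a φ = 0 := by
    have : 0 ≤ ∑ φ ∈ Finset.univ.erase φ₀, a φ * a φ := Finset.sum_nonneg (fun φ _ => hnn φ)
    omega
  have hone : a φ₀ * a φ₀ = 1 := by omega
  have hzero : ∀ φ, φ ≠ φ₀ → a φ = 0 := by
    intro φ hφ
    have := (Finset.sum_eq_zero_iff_of_nonneg (fun φ _ => hnn φ)).mp hrest φ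
      (Finset.mem_erase.mpr ⟨hφ, Finset.mem_univ φ⟩)
    exact mul_self_eq_zero.mp this
  have hθeq : θ = ((a φ₀ : ℤ) : ℂ) • (φ₀ : G → ℂ) := by
    rw [hexp]
    rw [Finset.sum_eq_single φ₀]
    · intro b _ hb
      rw [hzero b hb]
      simp
    · intro h
      exact absurd (Finset.mem_univ _) h
  have hpm : a φ₀ = 1 ∨ a φ₀ = -1 := by
    have : (a φ₀ - 1) * (a φ₀ + 1) = 0 := by ring_nf; linarith
    rcases mul_eq_zero.mp this with h | h
    · left; omega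
    · right; omega
  refine ⟨((a φ₀ : ℤ) : ℂ), ?_, ?_⟩
  · rcases hpm with h | h
    · left; rw [h]; simp
    · right; rw [h]; simp
  · have : ((a φ₀ : ℤ) : ℂ) • θ = (φ₀ : G → ℂ) := by
      rw [hθeq, smul_smul]
      have : ((a φ₀ : ℤ) : ℂ) * ((a φ₀ : ℤ) : ℂ) = 1 := by exact_mod_cast hone
      rw [this, one_smul]
    rw [this]
    exact φ₀.2

/-- Coefficients of a generalized character with respect to the irreducible characters. -/
theorem genChar_coeff [Fintype G] [Fintype (IrrCharacter G)] {θ : G → ℂ}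
    (hθ : IsGeneralizedCharacter G θ) :
    ∃ a : IrrCharacter G → ℤ, (∀ ξ : IrrCharacter G, classInner θ (ξ : G → ℂ) = a ξ) ∧
      θ = ∑ ξ : IrrCharacter G, ((a ξ : ℤ) : ℂ) • (ξ : G → ℂ) ∧
      classInner θ θ = ∑ ξ : IrrCharacter G, ((a ξ : ℤ) : ℂ) * ((a ξ : ℤ) : ℂ) := by
  classical
  have hcl : IsClassFunction G θ := genChar_isClassFunction hθ
  have hint : ∀ φ : IrrCharacter G, ∃ a : ℤ, classInner θ (φ : G → ℂ) = a :=
    fun φ => genChar_classInner_int hθ (IsIrrCharacter.isCharacter φ.2)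
  choose a ha using hint
  have hexp := classFunction_eq_sum hcl
  simp_rw [ha] at hexp
  refine ⟨a, ha, hexp, ?_⟩
  nth_rewrite 2 [hexp]
  rw [Cfsg.Agent.CharLib.classInner_sum_right]
  apply Finset.sum_congr rfl
  intro φ _
  rw [Cfsg.Agent.CharLib.classInner_smul_right, ha, map_intCast]

/-- A generalized character of norm two is `± ξ₁ ± ξ₂` for distinct irreducible `ξ₁, ξ₂`. -/
theorem genChar_norm_two [Fintype G] {θ : G → ℂ} (hθ : IsGeneralizedCharacter G θ)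
    (h2 : classInner θ θ = 2) :
    ∃ ξ₁ ξ₂ : G → ℂ, IsIrrCharacter G ξ₁ ∧ IsIrrCharacter G ξ₂ ∧ ξ₁ ≠ ξ₂ ∧
      ∃ ε₁ ε₂ : ℂ, (ε₁ = 1 ∨ ε₁ = -1) ∧ (ε₂ = 1 ∨ ε₂ = -1) ∧ θ = ε₁ • ξ₁ + ε₂ • ξ₂ := by
  classical
  let _ := fintypeIrr G
  obtain ⟨a, ha, hexp, hsumC⟩ := genChar_coeff hθ
  have hsum : ∑ φ : IrrCharacter G, (a φ) * (a φ) = 2 := by
    rw [h2] at hsumC
    exact_mod_cast hsumC.symm
  have hnn : ∀ φ : IrrCharacter G, 0 ≤ a φ * a φ := fun φ => mul_self_nonneg _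
  obtain ⟨φ₁, hφ₁⟩ : ∃ φ₁, a φ₁ ≠ 0 := by
    by_contra h
    push_neg at h
    simp [h] at hsum
  have hsplit := Finset.add_sum_erase Finset.univ (fun φ => a φ * a φ) (Finset.mem_univ φ₁)
  rw [hsum] at hsplit
  have hrest_nn : 0 ≤ ∑ φ ∈ Finset.univ.erase φ₁, a φ * a φ := Finset.sum_nonneg (fun φ _ => hnn φ)
  have hsq1 : a φ₁ * a φ₁ = 1 := by
    have hpos : 0 < a φ₁ * a φ₁ := mul_self_pos.mpr hφ₁
    have hle : a φ₁ * a φ₁ ≤ 2 := by omega
    -- a² ∈ {1, 2} and a² = 2 impossible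
    have habs : |a φ₁| ≤ 1 := by
      by_contra hgt
      push_neg at hgt
      have h2' : 2 ≤ |a φ₁| := by omega
      have : 4 ≤ |a φ₁| * |a φ₁| := by nlinarith
      rw [abs_mul_abs_self] at this
      omega
    have : a φ₁ = 1 ∨ a φ₁ = -1 ∨ a φ₁ = 0 := by
      have := abs_le.mp habs
      omega
    rcases this with h | h | h
    · rw [h]; norm_num
    · rw [h]; norm_num
    · exact absurd h hφ₁
  have hrest : ∑ φ ∈ Finset.univ.erase φ₁, a φ * a φ = 1 := by omega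
  obtain ⟨φ₂, hφ₂mem, hφ₂⟩ : ∃ φ₂ ∈ Finset.univ.erase φ₁, a φ₂ ≠ 0 := by
    by_contra h
    push_neg at h
    have : ∑ φ ∈ Finset.univ.erase φ₁, a φ * a φ = 0 :=
      Finset.sum_eq_zero (fun φ hφ => by rw [h φ hφ]; ring)
    omega
  have hne12 : φ₂ ≠ φ₁ := (Finset.mem_erase.mp hφ₂mem).1
  have hsplit2 := Finset.add_sum_erase (Finset.univ.erase φ₁) (fun φ => a φ * a φ) hφ₂mem
  rw [hrest] at hsplit2
  have hrest2_nn : 0 ≤ ∑ φ ∈ (Finset.univ.erase φ₁).erase φ₂, a φ * a φ :=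
    Finset.sum_nonneg (fun φ _ => hnn φ)
  have hpos2 : 0 < a φ₂ * a φ₂ := mul_self_pos.mpr hφ₂
  have hsq2 : a φ₂ * a φ₂ = 1 := by omega
  have hrest2 : ∑ φ ∈ (Finset.univ.erase φ₁).erase φ₂, a φ * a φ = 0 := by omega
  have hzero : ∀ φ, φ ≠ φ₁ → φ ≠ φ₂ → a φ = 0 := by
    intro φ h1 h2
    have := (Finset.sum_eq_zero_iff_of_nonneg (fun φ _ => hnn φ)).mp hrest2 φ
      (Finset.mem_erase.mpr ⟨h2, Finset.mem_erase.mpr ⟨h1, Finset.mem_univ φ⟩⟩)
    exact mul_self_eq_zero.mp this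
  have hpm : ∀ z : ℤ, z * z = 1 → z = 1 ∨ z = -1 := by
    intro z hz
    have : (z - 1) * (z + 1) = 0 := by ring_nf; linarith
    rcases mul_eq_zero.mp this with h | h
    · left; omega
    · right; omega
  refine ⟨φ₁, φ₂, φ₁.2, φ₂.2, ?_, ((a φ₁ : ℤ) : ℂ), ((a φ₂ : ℤ) : ℂ), ?_, ?_, ?_⟩
  · intro h
    exact hne12 (Subtype.ext h.symm)
  · rcases hpm _ hsq1 with h | h
    · left; rw [h]; simp
    · right; rw [h]; simp
  · rcases hpm _ hsq2 with h | h
    · left; rw [h]; simp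
    · right; rw [h]; simp
  · rw [hexp]
    rw [← Finset.add_sum_erase Finset.univ _ (Finset.mem_univ φ₁),
      ← Finset.add_sum_erase (Finset.univ.erase φ₁) _ hφ₂mem]
    rw [Finset.sum_eq_zero, add_zero]
    intro φ hφ
    have h2 := (Finset.mem_erase.mp hφ).1
    have h1 := (Finset.mem_erase.mp (Finset.mem_erase.mp hφ).2).1
    rw [hzero φ h1 h2]
    simp

/-- A generalized character of norm two vanishing at the identity is a difference of two distinct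
irreducible characters. -/
theorem genChar_norm_two_vanish [Fintype G] {θ : G → ℂ} (hθ : IsGeneralizedCharacter G θ)
    (h2 : classInner θ θ = 2) (h1 : θ 1 = 0) :
    ∃ α β : G → ℂ, IsIrrCharacter G α ∧ IsIrrCharacter G β ∧ α ≠ β ∧ θ = α - β := by
  obtain ⟨ξ₁, ξ₂, hξ₁, hξ₂, hne, ε₁, ε₂, hε₁, hε₂, hθeq⟩ := genChar_norm_two hθ h2
  obtain ⟨d₁, hd₁pos, hd₁⟩ := IsIrrCharacter.apply_one_pos hξ₁
  obtain ⟨d₂, hd₂pos, hd₂⟩ := IsIrrCharacter.apply_one_pos hξ₂
  have hval : ε₁ * (d₁ : ℂ) + ε₂ * (d₂ : ℂ) = 0 := by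
    have := congrFun hθeq 1
    simp only [Pi.add_apply, Pi.smul_apply, smul_eq_mul, hd₁, hd₂, h1] at this
    exact this.symm
  rcases hε₁ with rfl | rfl <;> rcases hε₂ with rfl | rfl
  · exfalso
    have hc : ((d₁ + d₂ : ℕ) : ℂ) = 0 := by push_cast; linear_combination hval
    have := Nat.cast_eq_zero.mp hc
    omega
  · exact ⟨ξ₁, ξ₂, hξ₁, hξ₂, hne, by rw [hθeq]; funext g; simp [sub_eq_add_neg]⟩
  · exact ⟨ξ₂, ξ₁, hξ₂, hξ₁, hne.symm, by rw [hθeq]; funext g; simp [sub_eq_add_neg, add_comm]⟩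
  · exfalso
    have hc : ((d₁ + d₂ : ℕ) : ℂ) = 0 := by push_cast; linear_combination (-1 : ℂ) * hval
    have := Nat.cast_eq_zero.mp hc
    omega

/-- Inner product of two differences of irreducible characters. -/
theorem classInner_sub_sub_irr [Fintype G] {α₁ β₁ α₂ β₂ : G → ℂ} (hα₁ : IsIrrCharacter G α₁)
    (hβ₁ : IsIrrCharacter G β₁) (hα₂ : IsIrrCharacter G α₂) (hβ₂ : IsIrrCharacter G β₂)
    [Decidable (α₁ = α₂)] [Decidable (α₁ = β₂)] [Decidable (β₁ = α₂)] [Decidable (β₁ = β₂)] :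
    classInner (α₁ - β₁) (α₂ - β₂) = (if α₁ = α₂ then 1 else 0) - (if α₁ = β₂ then 1 else 0)
      - ((if β₁ = α₂ then 1 else 0) - (if β₁ = β₂ then 1 else 0)) := by
  rw [Cfsg.Agent.CharLib.classInner_sub_left, Cfsg.Agent.Lib.Helper10.classInner_sub_right,
    Cfsg.Agent.Lib.Helper10.classInner_sub_right]
  have e := fun (x y : G → ℂ) (hx : IsIrrCharacter G x) (hy : IsIrrCharacter G y) =>
    Cfsg.Agent.CharLib.classInner_irr hx hy
  rw [e _ _ hα₁ hα₂, e _ _ hα₁ hβ₂, e _ _ hβ₁ hα₂, e _ _ hβ₁ hβ₂]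
  congr!

end Cfsg.Agent.Lib.Helper10
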