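import Mathlib

set_option autoImplicit false

namespace Cfsg.Agent.Lib.Helper10

open Subgroup

variable {R : Type*} [Group R]

/-- In a finite `p`-group, a nontrivial normal subgroup contains a nontrivial central element. -/
theorem exists_mem_center_of_normal_ne_bot [Finite R] (p : ℕ) [Fact p.Prime] (hR : IsPGroup p R)
    (N : Subgroup R) [N.Normal] (hN : N ≠ ⊥) :
    ∃ x ∈ N, x ∈ Subgroup.center R ∧ x ≠ 1 := by
  have hpN : p ∣ Nat.card N := by
    have hNp : IsPGroup p N := hR.to_subgroup N
    rcases hNp.card_eq_or_dvd with h | h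
    · exact absurd ((Subgroup.card_eq_one).mp h) hN
    · exact h
  have h1 : (1 : N) ∈ MulAction.fixedPoints (ConjAct R) N := by
    intro g
    exact smul_one g
  obtain ⟨b, hb, hne⟩ := (hR.of_equiv ConjAct.toConjAct).exists_fixed_point_of_prime_dvd_card_of_fixed_point
    (α := N) hpN h1
  refine ⟨b, b.2, ?_, ?_⟩
  · rw [Subgroup.mem_center_iff]
    intro g
    have := hb (ConjAct.toConjAct g)
    have h2 : ((ConjAct.toConjAct g • b : N) : R) = b := by rw [this]
    rw [ConjAct.Subgroup.val_conj_smul, ConjAct.toConjAct_smul] at h2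
    calc g * (b : R) = (g * b * g⁻¹) * g := by group
      _ = b * g := by rw [h2]
  · intro hb1
    apply hne
    exact (Subtype.ext hb1).symm

/-- In a finite `p`-group there is a normal abelian subgroup equal to its own centralizer
(any maximal normal abelian subgroup will do). -/
theorem exists_normal_abelian_self_centralizing [Finite R] (p : ℕ) [Fact p.Prime] (hR : IsPGroup p R) :
    ∃ A : Subgroup R, A.Normal ∧ IsMulCommutative A ∧ Subgroup.centralizer (A : Set R) = A := by
  -- pick a maximal element among normal abelian subgroups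
  let S : Set (Subgroup R) := {A | A.Normal ∧ IsMulCommutative A}
  have hSne : S.Nonempty := ⟨⊥, inferInstance, inferInstance⟩
  obtain ⟨A, hAS, hAmax⟩ := (Set.toFinite S).exists_maximal hSne
  obtain ⟨hAn, hAc⟩ := hAS
  refine ⟨A, hAn, hAc, ?_⟩
  have hAle : A ≤ Subgroup.centralizer (A : Set R) := Subgroup.le_centralizer A
  apply le_antisymm _ hAle
  by_contra hCA
  -- C = centralizer A is normal, strictly bigger than A
  have : A.Normal := hAn
  set C := Subgroup.centralizer (A : Set R) with hC
  have hCn : C.Normal := Subgroup.normal_centralizer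
  -- image of C in R ⧸ A is a nontrivial normal subgroup
  let π := QuotientGroup.mk' A
  have hCbar_n : (C.map π).Normal := Subgroup.Normal.map hCn π (QuotientGroup.mk'_surjective A)
  have hCbar_ne : C.map π ≠ ⊥ := by
    intro h
    apply hCA
    intro c hc
    have : π c ∈ C.map π := Subgroup.mem_map_of_mem π hc
    rw [h, Subgroup.mem_bot] at this
    exact (QuotientGroup.eq_one_iff c).mp this
  have := hCbar_n
  obtain ⟨xb, hxC, hxZ, hx1⟩ := exists_mem_center_of_normal_ne_bot p (hR.to_quotient A) (C.map π) hCbar_ne
  obtain ⟨x, hxC', rfl⟩ := hxC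
  have hxA : x ∉ A := fun h => hx1 ((QuotientGroup.eq_one_iff x).mpr h)
  -- B = A ⊔ zpowers x
  have hB_S : A ⊔ Subgroup.zpowers x ∈ S := by
    constructor
    · -- normal: it is the preimage of a central cyclic subgroup
      have hzn : (Subgroup.zpowers (π x)).Normal := by
        constructor
        intro y hy g
        have hyZ : y ∈ Subgroup.center (R ⧸ A) :=
          (Subgroup.zpowers_le.mpr hxZ) hy
        have : g * y * g⁻¹ = y := by
          rw [(Subgroup.mem_center_iff.mp hyZ) g]; group
        rw [this]; exact hy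
      have : A ⊔ Subgroup.zpowers x = (Subgroup.zpowers (π x)).comap π := by
        rw [← MonoidHom.map_zpowers, QuotientGroup.comap_map_mk']
      rw [this]
      exact hzn.comap π
    · rw [Subgroup.sup_eq_closure]
      apply Subgroup.isMulCommutative_closure
      have hzC : Subgroup.zpowers x ≤ C := Subgroup.zpowers_le.mpr hxC'
      rintro a (ha | ha) b (hb | hb)
      · exact congrArg Subtype.val (hAc.is_comm.comm ⟨a, ha⟩ ⟨b, hb⟩)
      · exact (Subgroup.mem_centralizer_iff.mp (hzC hb)) a ha
      · exact ((Subgroup.mem_centralizer_iff.mp (hzC ha)) b hb).symm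
      · obtain ⟨k, rfl⟩ := Subgroup.mem_zpowers_iff.mp ha
        obtain ⟨l, rfl⟩ := Subgroup.mem_zpowers_iff.mp hb
        exact (Commute.refl x).zpow_zpow k l
  have hAB : A ≤ A ⊔ Subgroup.zpowers x := le_sup_left
  have := hAmax hB_S hAB
  exact hxA (this ((le_sup_right : Subgroup.zpowers x ≤ _) (Subgroup.mem_zpowers x)))

end Cfsg.Agent.Lib.Helper10
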