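import Mathlib
import Cfsg.Prelude.Def_Characters
import Cfsg.Agent.Lib.Helper10.IndFun
import Cfsg.Agent.Lib.Helper10.ConjChar

/-! Induction from the normalizer of a TI-subset: linearity of `indFun` and the isometry. -/

namespace Cfsg.Agent.Lib.Helper10
open Cfsg
open scoped ComplexConjugate

variable {G : Type*} [Group G]

theorem extendByZero_sub (H : Subgroup G) (α β : H → ℂ) (g : G) :
    extendByZero H (α - β) g = extendByZero H α g - extendByZero H β g := by
  by_cases hg : g ∈ H
  · rw [extendByZero_apply_mem _ _ hg, extendByZero_apply_mem _ _ hg,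
      extendByZero_apply_mem _ _ hg]
    rfl
  · rw [extendByZero_apply_not_mem _ _ hg, extendByZero_apply_not_mem _ _ hg,
      extendByZero_apply_not_mem _ _ hg]
    simp

theorem indFun_sub [Fintype G] (H : Subgroup G) (α β : H → ℂ) :
    indFun H (α - β) = indFun H α - indFun H β := by
  funext g
  unfold indFun
  simp only [Pi.sub_apply, extendByZero_sub, Finset.sum_sub_distrib, mul_sub]

theorem indFun_apply_one [Fintype G] (H : Subgroup G) (α : H → ℂ) :
    indFun H α 1 = (Nat.card H : ℂ)⁻¹ * ((Nat.card G : ℂ) * α 1) := by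
  unfold indFun
  congr 1
  have : ∀ x : G, extendByZero H α (x⁻¹ * 1 * x) = α 1 := by
    intro x
    have h1 : x⁻¹ * 1 * x = ((1 : H) : G) := by simp
    rw [h1, extendByZero_apply_coe]
  simp_rw [this]
  rw [Finset.sum_const, Finset.card_univ, nsmul_eq_mul, Nat.card_eq_fintype_card]

/-- Values of an induced class function on the non-identity elements of a TI-subset. -/
theorem indFun_apply_of_TI [Fintype G] (S : Set G)
    (hTI : ∀ g : G, g ∉ Subgroup.normalizer S → ∀ s ∈ S, g * s * g⁻¹ ∈ S → s = 1)
    (α : Subgroup.normalizer S → ℂ) (hα : IsClassFunction (Subgroup.normalizer S) α)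
    (hvan : ∀ x : Subgroup.normalizer S, (x : G) ∉ S → α x = 0)
    (x : Subgroup.normalizer S) (hxS : (x : G) ∈ S) (hx1 : (x : G) ≠ 1) :
    indFun (Subgroup.normalizer S) α x = α x := by
  classical
  have hN0 : (Nat.card (Subgroup.normalizer S) : ℂ) ≠ 0 := Nat.cast_ne_zero.mpr Nat.card_pos.ne'
  have key : ∀ g : G, extendByZero (Subgroup.normalizer S) α (g⁻¹ * x * g)
      = if g ∈ Subgroup.normalizer S then α x else 0 := by
    intro g
    by_cases hg : g ∈ Subgroup.normalizer S
    · rw [if_pos hg]
      have hmem : g⁻¹ * x * g ∈ Subgroup.normalizer S :=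
        Subgroup.mul_mem _ (Subgroup.mul_mem _ (Subgroup.inv_mem _ hg) x.2) hg
      rw [extendByZero_apply_mem _ _ hmem]
      have h1 := hα x ⟨g⁻¹, Subgroup.inv_mem _ hg⟩
      rw [← h1]
      congr 1
      apply Subtype.ext
      simp
    · rw [if_neg hg]
      by_cases hc : g⁻¹ * x * g ∈ Subgroup.normalizer S
      · rw [extendByZero_apply_mem _ _ hc]
        by_cases hcS : g⁻¹ * (x : G) * g ∈ S
        · exfalso
          apply hx1
          have hg' : g⁻¹ ∉ Subgroup.normalizer S := fun h => hg (by simpa using Subgroup.inv_mem _ h)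
          exact hTI g⁻¹ hg' x hxS (by simpa using hcS)
        · exact hvan ⟨_, hc⟩ hcS
      · rw [extendByZero_apply_not_mem _ _ hc]
  unfold indFun
  simp_rw [key]
  rw [Finset.sum_ite, Finset.sum_const_zero, add_zero, Finset.sum_const, nsmul_eq_mul]
  have hcard : (Finset.univ.filter (fun g : G => g ∈ Subgroup.normalizer S)).card
      = Nat.card (Subgroup.normalizer S) := by
    rw [Nat.card_eq_fintype_card, Fintype.card_subtype]
  rw [hcard]
  field_simp

/-- Induction from the normalizer of a TI-subset `S` is an isometry on class functions supported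
on `S` minus the identity. -/
theorem classInner_indFun_of_TI [Fintype G] (S : Set G) [Fintype (Subgroup.normalizer S)]
    (hTI : ∀ g : G, g ∉ Subgroup.normalizer S → ∀ s ∈ S, g * s * g⁻¹ ∈ S → s = 1)
    (α β : Subgroup.normalizer S → ℂ) (hα : IsClassFunction (Subgroup.normalizer S) α)
    (hαvan : ∀ x : Subgroup.normalizer S, (x : G) ∉ S → α x = 0)
    (hβvan : ∀ x : Subgroup.normalizer S, (x : G) ∉ S → β x = 0) (hβ1 : β 1 = 0) :
    classInner (indFun (Subgroup.normalizer S) α) (indFun (Subgroup.normalizer S) β)
      = classInner α β := by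
  rw [classInner_indFun_right (Subgroup.normalizer S) β _ (isClassFunction_indFun _ α)]
  unfold classInner
  congr 1
  apply Finset.sum_congr rfl
  intro x _
  by_cases hxS : (x : G) ∈ S
  · by_cases hx1 : (x : G) = 1
    · have : x = 1 := Subtype.ext hx1
      rw [this, hβ1]
      simp
    · rw [indFun_apply_of_TI S hTI α hα hαvan x hxS hx1]
  · rw [hβvan x hxS]
    simp

end Cfsg.Agent.Lib.Helper10
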