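import Mathlib
import Cfsg.Prelude.Def_Characters
import Cfsg.Agent.Lib.Lead.CharMain
import Cfsg.Agent.Lib.Helper24.CentralChar

/-! Generalized orthogonality relation for irreducible characters (`Cfsg.IsIrrCharacter`):
`∑ b, χ b⁻¹ * ψ (b * h) = if χ = ψ then |G| * ψ h / ψ 1 else 0`. -/

namespace Cfsg.Agent.Lib.Helper10
open Cfsg Cfsg.Agent.CharLib Module
open scoped ComplexConjugate

universe u
variable {G : Type u} [Group G]

theorem irr_norm_le [Finite G] {χ : G → ℂ} (hχ : IsIrrCharacter G χ) (g : G) : ‖χ g‖ ≤ ‖χ 1‖ := by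
  obtain ⟨n, ρ, hirr, rfl⟩ := hχ
  have h1 := norm_char_le ρ g
  have h2 : ρ.character 1 = (finrank ℂ (Fin n → ℂ) : ℂ) := by simp
  rw [h2, Complex.norm_natCast]
  exact h1

theorem sum_irr_inv_mul_irr [Fintype G] {χ ψ : G → ℂ} (hχ : IsIrrCharacter G χ)
    (hψ : IsIrrCharacter G ψ) (h : G) [Decidable (χ = ψ)] :
    ∑ b : G, χ b⁻¹ * ψ (b * h) = if χ = ψ then (Nat.card G : ℂ) * ψ h / ψ 1 else 0 := by
  have hχcl : IsClassFunction G χ := IsCharacter.isClassFunction (IsIrrCharacter.isCharacter hχ)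
  have hinner := classInner_irr hψ hχ
  obtain ⟨n, ρ, hirr, rfl⟩ := hψ
  haveI := hirr
  have hcf : ∀ g k : G, (fun b => χ b⁻¹) (k * g * k⁻¹) = (fun b => χ b⁻¹) g := by
    intro g k
    simp only
    have : (k * g * k⁻¹)⁻¹ = k * g⁻¹ * k⁻¹ := by group
    rw [this, hχcl]
  have h1 := Cfsg.Agent.Lib.Helper24.coeffSum_eq_omega_smul ρ (fun b => χ b⁻¹) hcf
  have hpos := Cfsg.Agent.Lib.Helper24.finrank_pos_of_isIrreducible ρ
  have hn : (finrank ℂ (Fin n → ℂ) : ℂ) ≠ 0 := by exact_mod_cast hpos.ne'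
  have hone : ρ.character 1 = (finrank ℂ (Fin n → ℂ) : ℂ) := by simp
  have hG : (Nat.card G : ℂ) ≠ 0 := card_ne_zero_complex
  have hχinv : ∀ g : G, χ g⁻¹ = conj (χ g) :=
    fun g => IsCharacter.apply_inv (IsIrrCharacter.isCharacter hχ) g
  have hω : Cfsg.Agent.Lib.Helper24.omega ρ (fun b => χ b⁻¹) =
      (Nat.card G : ℂ) * (if ρ.character = χ then 1 else 0) / (finrank ℂ (Fin n → ℂ) : ℂ) := by
    unfold Cfsg.Agent.Lib.Helper24.omega
    congr 1
    rw [← hinner]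
    simp only [classInner]
    rw [← mul_assoc, mul_inv_cancel₀ hG, one_mul]
    apply Finset.sum_congr rfl
    intro g _
    rw [hχinv, mul_comm]
  have h3 : ∑ b : G, χ b⁻¹ * ρ.character (b * h) =
      LinearMap.trace ℂ (Fin n → ℂ)
        (Cfsg.Agent.Lib.Helper24.coeffSum ρ (fun b => χ b⁻¹) * ρ h) := by
    unfold Cfsg.Agent.Lib.Helper24.coeffSum
    simp only [Finset.sum_mul, map_sum, smul_mul_assoc, map_smul, smul_eq_mul]
    apply Finset.sum_congr rfl
    intro b _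
    rw [← map_mul]
    rfl
  rw [h3, h1, hω, smul_mul_assoc, one_mul, map_smul, smul_eq_mul, hone]
  by_cases hc : χ = ρ.character
  · rw [if_pos hc, if_pos hc.symm]
    simp only [Representation.character]
    ring
  · rw [if_neg hc, if_neg (fun h' => hc h'.symm)]
    simp

end Cfsg.Agent.Lib.Helper10
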