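import Mathlib
import Cfsg.Prelude.Def_OddOrderLocal

set_option autoImplicit false

namespace Cfsg.Agent.Lib.Helper10

open Cfsg

variable {G : Type*} [Group G]

/-- If `H` is TI, `h ∈ H`, `h ≠ 1` and `n h n⁻¹ ∈ H` then `n` normalizes `H`. -/
theorem mem_normalizer_of_ti {H : Subgroup G} (hTI : IsTISubset (H : Set G)) {h n : G} (hh : h ∈ H)
    (h1 : h ≠ 1) (hn : n * h * n⁻¹ ∈ H) : n ∈ Subgroup.normalizer (H : Set G) := by
  by_contra hc
  exact h1 (hTI n hc h hh hn)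

theorem conj_ne_one_of_ne_one {g x : G} (h : g ≠ 1) : x * g * x⁻¹ ≠ 1 := by
  intro h'
  apply h
  have : g = x⁻¹ * (x * g * x⁻¹) * x := by group
  rw [this, h']; group

/-- Counting the nonidentity elements conjugate into a TI-subgroup. -/
theorem ti_count [Finite G] (H : Subgroup G) (hTI : IsTISubset (H : Set G)) :
    Nat.card {g : G // g ≠ 1 ∧ ∃ x : G, x * g * x⁻¹ ∈ H} * Nat.card (Subgroup.normalizer (H : Set G))
      = Nat.card G * Nat.card {h : G // h ∈ H ∧ h ≠ 1} := by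
  classical
  have : Fintype G := Fintype.ofFinite G
  have hfinT : Fintype {g : G // g ≠ 1 ∧ ∃ x : G, x * g * x⁻¹ ∈ H} := Fintype.ofFinite _
  have h1 : Nat.card {p : {g : G // g ≠ 1 ∧ ∃ x : G, x * g * x⁻¹ ∈ H} × G // p.2 * p.1.1 * p.2⁻¹ ∈ H}
      = Nat.card {g : G // g ≠ 1 ∧ ∃ x : G, x * g * x⁻¹ ∈ H} * Nat.card (Subgroup.normalizer (H : Set G)) := by
    rw [Nat.card_congr (Equiv.subtypeProdEquivSigmaSubtype
      (fun (t : {g : G // g ≠ 1 ∧ ∃ x : G, x * g * x⁻¹ ∈ H}) (x : G) => x * t.1 * x⁻¹ ∈ H)), Nat.card_sigma]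
    have : ∀ t : {g : G // g ≠ 1 ∧ ∃ x : G, x * g * x⁻¹ ∈ H},
        Nat.card {x : G // x * t.1 * x⁻¹ ∈ H} = Nat.card (Subgroup.normalizer (H : Set G)) := by
      intro t
      obtain ⟨xt, hxt⟩ := t.2.2
      have ht1 : xt * t.1 * xt⁻¹ ≠ 1 := conj_ne_one_of_ne_one t.2.1
      apply Nat.card_congr
      refine Equiv.subtypeEquiv (Equiv.mulRight xt⁻¹) ?_
      intro x
      simp only [Equiv.coe_mulRight]
      have e : x * xt⁻¹ * (xt * t.1 * xt⁻¹) * (x * xt⁻¹)⁻¹ = x * t.1 * x⁻¹ := by group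
      constructor
      · intro hx
        apply mem_normalizer_of_ti hTI hxt ht1
        rw [e]; exact hx
      · intro hx
        have := (Subgroup.mem_set_normalizer_iff.mp hx (xt * t.1 * xt⁻¹)).mp hxt
        rwa [e] at this
    simp only [this, Finset.sum_const, Finset.card_univ, smul_eq_mul, Nat.card_eq_fintype_card]
  have h2 : Nat.card {p : {g : G // g ≠ 1 ∧ ∃ x : G, x * g * x⁻¹ ∈ H} × G // p.2 * p.1.1 * p.2⁻¹ ∈ H}
      = Nat.card G * Nat.card {h : G // h ∈ H ∧ h ≠ 1} := by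
    refine (Nat.card_congr ((Equiv.prodComm {g : G // g ≠ 1 ∧ ∃ x : G, x * g * x⁻¹ ∈ H} G).subtypeEquiv
      (p := fun p : {g : G // g ≠ 1 ∧ ∃ x : G, x * g * x⁻¹ ∈ H} × G => p.2 * p.1.1 * p.2⁻¹ ∈ H)
      (q := fun p : G × {g : G // g ≠ 1 ∧ ∃ x : G, x * g * x⁻¹ ∈ H} => p.1 * p.2.1 * p.1⁻¹ ∈ H)
      (fun p => Iff.rfl))).trans ?_
    rw [Nat.card_congr (Equiv.subtypeProdEquivSigmaSubtype
      (fun (x : G) (t : {g : G // g ≠ 1 ∧ ∃ x : G, x * g * x⁻¹ ∈ H}) => x * t.1 * x⁻¹ ∈ H)), Nat.card_sigma]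
    have : ∀ x : G, Nat.card {t : {g : G // g ≠ 1 ∧ ∃ x : G, x * g * x⁻¹ ∈ H} // x * t.1 * x⁻¹ ∈ H}
        = Nat.card {h : G // h ∈ H ∧ h ≠ 1} := by
      intro x
      apply Nat.card_congr
      exact
        { toFun := fun t => ⟨x * t.1.1 * x⁻¹, t.2, conj_ne_one_of_ne_one t.1.2.1⟩
          invFun := fun h =>
            ⟨⟨x⁻¹ * h.1 * x, by
                have := conj_ne_one_of_ne_one (x := x⁻¹) h.2.2
                simpa using this,
              ⟨x, by
                have : x * (x⁻¹ * h.1 * x) * x⁻¹ = h.1 := by group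
                rw [this]; exact h.2.1⟩⟩, by
              have : x * (x⁻¹ * h.1 * x) * x⁻¹ = h.1 := by group
              show x * (x⁻¹ * h.1 * x) * x⁻¹ ∈ H
              rw [this]; exact h.2.1⟩
          left_inv := by
            intro t
            apply Subtype.ext; apply Subtype.ext
            show x⁻¹ * (x * t.1.1 * x⁻¹) * x = t.1.1
            group
          right_inv := by
            intro h
            apply Subtype.ext
            show x * (x⁻¹ * h.1 * x) * x⁻¹ = h.1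
            group }
    simp only [this, Finset.sum_const, Finset.card_univ, smul_eq_mul, Nat.card_eq_fintype_card]
  rw [← h1, h2]

end Cfsg.Agent.Lib.Helper10
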