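import Cfsg.Prelude.Def_OddOrderLocal

set_option autoImplicit false

namespace Cfsg.Agent.Lib.Helper10

open Cfsg

variable {G : Type*} [Group G]

theorem puigStep_antitone {X Y : Subgroup G} (h : X ≤ Y) : puigStep Y ≤ puigStep X := by
  unfold puigStep
  apply sSup_le_sSup
  rintro A ⟨hA, hYA⟩
  exact ⟨hA, h.trans hYA⟩

theorem puigSeq_zero : puigSeq G 0 = ⊥ := rfl

theorem puigSeq_succ (n : ℕ) : puigSeq G (n + 1) = puigStep (puigSeq G n) := rfl

theorem puigStep_bot : puigStep (⊥ : Subgroup G) = ⊤ := by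
  rw [eq_top_iff]
  intro g _
  have : Subgroup.zpowers g ≤ puigStep (⊥ : Subgroup G) := by
    unfold puigStep
    apply le_sSup
    exact ⟨inferInstance, bot_le⟩
  exact this (Subgroup.mem_zpowers g)

theorem puigSeq_one : puigSeq G 1 = ⊤ := by
  rw [puigSeq_succ, puigSeq_zero, puigStep_bot]

/-- Even terms increase, odd terms decrease, and even terms lie below the odd term of same index. -/
theorem puigSeq_chain (n : ℕ) :
    puigSeq G (2 * n) ≤ puigSeq G (2 * n + 2) ∧ puigSeq G (2 * n + 3) ≤ puigSeq G (2 * n + 1) ∧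
      puigSeq G (2 * n) ≤ puigSeq G (2 * n + 1) := by
  induction n with
  | zero =>
    refine ⟨?_, ?_, ?_⟩
    · simp [puigSeq_zero]
    · show puigSeq G 3 ≤ puigSeq G 1
      rw [puigSeq_one]; exact le_top
    · simp [puigSeq_zero]
  | succ n ih =>
    obtain ⟨h1, h2, h3⟩ := ih
    have e1 : 2 * (n + 1) = 2 * n + 2 := by ring
    rw [e1]
    -- a(n+1) ≤ a(n+2): from b(n+1) ≤ b n
    have h4 : puigSeq G (2 * n + 2) ≤ puigSeq G (2 * n + 4) := puigStep_antitone h2
    have h5 : puigSeq G (2 * n + 5) ≤ puigSeq G (2 * n + 3) := puigStep_antitone h4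
    -- a(n+1) ≤ b n
    have h6 : puigSeq G (2 * n + 2) ≤ puigSeq G (2 * n + 1) := puigStep_antitone h3
    have h7 : puigSeq G (2 * n + 2) ≤ puigSeq G (2 * n + 3) := puigStep_antitone h6
    exact ⟨h4, h5, h7⟩

theorem puigSeq_even_mono : Monotone (fun n => puigSeq G (2 * n)) :=
  monotone_nat_of_le_succ (fun n => (puigSeq_chain n).1)

theorem puigSeq_odd_anti : Antitone (fun n => puigSeq G (2 * n + 1)) :=
  antitone_nat_of_succ_le (fun n => (puigSeq_chain n).2.1)

theorem puigSeq_even_le_odd (n m : ℕ) : puigSeq G (2 * n) ≤ puigSeq G (2 * m + 1) := by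
  calc puigSeq G (2 * n) ≤ puigSeq G (2 * (max n m)) := puigSeq_even_mono (le_max_left n m)
    _ ≤ puigSeq G (2 * (max n m) + 1) := (puigSeq_chain _).2.2
    _ ≤ puigSeq G (2 * m + 1) := puigSeq_odd_anti (le_max_right n m)

theorem puigLower_le_puigSubgroup : puigLower G ≤ puigSubgroup G := by
  unfold puigLower puigSubgroup
  exact iSup_le fun n => le_iInf fun m => puigSeq_even_le_odd n m

theorem puigSeq_even_le_lower (n : ℕ) : puigSeq G (2 * n) ≤ puigLower G :=
  le_iSup (fun n => puigSeq G (2 * n)) n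

theorem puigSubgroup_le_odd (n : ℕ) : puigSubgroup G ≤ puigSeq G (2 * n + 1) :=
  iInf_le (fun n => puigSeq G (2 * n + 1)) n

theorem puig_stabilizes [Finite G] :
    ∃ k : ℕ, ∀ n : ℕ, k ≤ n → puigSeq G (2 * n) = puigLower G ∧ puigSeq G (2 * n + 1) = puigSubgroup G := by
  obtain ⟨k1, hk1⟩ := (wellFoundedGT_iff_monotone_chain_condition (α := Subgroup G)).mp inferInstance
    ⟨fun n => puigSeq G (2 * n), puigSeq_even_mono⟩
  obtain ⟨k2, hk2⟩ := (wellFoundedGT_iff_monotone_chain_condition (α := (Subgroup G)ᵒᵈ)).mp inferInstance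
    ⟨fun n => OrderDual.toDual (puigSeq G (2 * n + 1)), fun a b hab => puigSeq_odd_anti hab⟩
  refine ⟨max k1 k2, fun n hn => ⟨?_, ?_⟩⟩
  · apply le_antisymm (puigSeq_even_le_lower n)
    unfold puigLower
    apply iSup_le
    intro m
    have h1 : puigSeq G (2 * k1) = puigSeq G (2 * n) := hk1 n (le_trans (le_max_left _ _) hn)
    have h2 : puigSeq G (2 * k1) = puigSeq G (2 * (max m k1)) := hk1 _ (le_max_right _ _)
    calc puigSeq G (2 * m) ≤ puigSeq G (2 * (max m k1)) := puigSeq_even_mono (le_max_left _ _)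
      _ = puigSeq G (2 * n) := by rw [← h2, h1]
  · apply le_antisymm _ (puigSubgroup_le_odd n)
    unfold puigSubgroup
    apply le_iInf
    intro m
    have h1 : puigSeq G (2 * k2 + 1) = puigSeq G (2 * n + 1) :=
      congrArg OrderDual.ofDual (hk2 n (le_trans (le_max_right _ _) hn))
    have h2 : puigSeq G (2 * k2 + 1) = puigSeq G (2 * (max m k2) + 1) :=
      congrArg OrderDual.ofDual (hk2 _ (le_max_right _ _))
    calc puigSeq G (2 * n + 1) = puigSeq G (2 * (max m k2) + 1) := by rw [← h1, h2]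
      _ ≤ puigSeq G (2 * m + 1) := puigSeq_odd_anti (le_max_left _ _)

theorem puigStep_lower [Finite G] : puigStep (puigLower G) = puigSubgroup G := by
  obtain ⟨k, hk⟩ := puig_stabilizes (G := G)
  obtain ⟨h1, h2⟩ := hk k le_rfl
  rw [← h1, ← h2]; rfl

theorem puigStep_subgroup [Finite G] : puigStep (puigSubgroup G) = puigLower G := by
  obtain ⟨k, hk⟩ := puig_stabilizes (G := G)
  obtain ⟨_, h2⟩ := hk k le_rfl
  obtain ⟨h3, _⟩ := hk (k + 1) (Nat.le_succ k)
  rw [← h2, ← h3]; rfl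

end Cfsg.Agent.Lib.Helper10
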