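import Mathlib
import Cfsg.Agent.Lib.Helper10.PGroupBasic
import Cfsg.Agent.Lib.Helper29.PrimePowerElement

/-!
# CN-groups: maximal nilpotent subgroups (helper10)

In a finite group all of whose non-identity elements have nilpotent centralizers, a maximal nilpotent
subgroup `H` is a Hall subgroup; if `|H|` is not a prime power it is a TI-subgroup, and if it is a
TI-subgroup it contains the centralizers of its non-identity elements.
-/

set_option autoImplicit false

namespace Cfsg.Agent.Lib.Helper10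

open Subgroup

universe u
variable {G : Type u} [Group G]

/-- Bezout for powers lying in a subgroup. -/
theorem mem_of_pow_mem_of_coprime (C : Subgroup G) (h : G) {x y : ℕ} (hxy : x.Coprime y)
    (hx : h ^ x ∈ C) (hy : h ^ y ∈ C) : h ∈ C := by
  have hb := Nat.gcd_eq_gcd_ab x y
  rw [hxy.gcd_eq_one] at hb
  have h1 : h = (h ^ x) ^ (Nat.gcdA x y) * (h ^ y) ^ (Nat.gcdB x y) := by
    rw [← zpow_natCast, ← zpow_natCast, ← zpow_mul, ← zpow_mul, ← zpow_add, ← hb]
    simp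
  rw [h1]
  exact C.mul_mem (C.zpow_mem hx _) (C.zpow_mem hy _)

/-- An element lies in a subgroup as soon as its `p`-part and its `p'`-part do. -/
theorem mem_of_parts_mem [Finite G] (p : ℕ) [hp : Fact p.Prime] (C : Subgroup G) (h : G)
    (h1 : ∀ k : ℕ, ∀ y : G, y ∈ zpowers h → y ^ p ^ k = 1 → y ∈ C)
    (h2 : ∀ y : G, y ∈ zpowers h → (orderOf y).Coprime p → y ∈ C) : h ∈ C := by
  have hn : orderOf h ≠ 0 := (orderOf_pos h).ne'
  obtain ⟨a, m, hm, hnm⟩ := Nat.exists_eq_pow_mul_and_not_dvd hn p hp.out.ne_one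
  have hcop : (p ^ a).Coprime m := ((Nat.Prime.coprime_iff_not_dvd hp.out).mpr hm).pow_left a
  apply mem_of_pow_mem_of_coprime C h hcop.symm
  · apply h1 a (h ^ m) (Subgroup.pow_mem _ (mem_zpowers h) m)
    rw [← pow_mul, mul_comm, ← hnm, pow_orderOf_eq_one]
  · apply h2 (h ^ p ^ a) (Subgroup.pow_mem _ (mem_zpowers h) _)
    have hd : orderOf (h ^ p ^ a) ∣ m :=
      orderOf_dvd_of_pow_eq_one (by rw [← pow_mul, ← hnm, pow_orderOf_eq_one])
    exact Nat.Coprime.coprime_dvd_left hd ((Nat.Prime.coprime_iff_not_dvd hp.out).mpr hm).symm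

theorem isPGroup_zpowers_of_pow_eq_one {p : ℕ} (y : G) (k : ℕ) (h : y ^ p ^ k = 1) :
    IsPGroup p (zpowers y) := by
  rintro ⟨z, hz⟩
  obtain ⟨n, rfl⟩ := mem_zpowers_iff.mp hz
  refine ⟨k, Subtype.ext ?_⟩
  simp only [SubmonoidClass.mk_pow, OneMemClass.coe_one]
  rw [← zpow_natCast, ← zpow_mul, mul_comm, zpow_mul, zpow_natCast, h, one_zpow]

/-- `P` is the (unique) Sylow `p`-subgroup of the nilpotent subgroup `H`, as a subgroup of `G`. -/
def IsNilpSylow (p : ℕ) (H P : Subgroup G) : Prop :=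
  P ≤ H ∧ IsPGroup p P ∧ ∀ Q : Subgroup G, Q ≤ H → IsPGroup p Q → Q ≤ P

theorem nilp_exists_sylow [Finite G] (H : Subgroup G) (hH : Group.IsNilpotent H) (p : ℕ)
    [Fact p.Prime] : ∃ P : Subgroup G, IsNilpSylow p H P := by
  obtain ⟨S⟩ : Nonempty (Sylow p H) := inferInstance
  have hall := (Group.isNilpotent_of_finite_tfae (G := H)).out 0 3 |>.mp hH
  have hSn : (S : Subgroup H).Normal := hall p inferInstance S
  refine ⟨(S : Subgroup H).map H.subtype, Subgroup.map_subtype_le _, S.2.map _, ?_⟩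
  intro Q hQH hQ
  have h1 : IsPGroup p (Q.subgroupOf H) := hQ.comap_subtype
  obtain ⟨S', hS'⟩ := h1.exists_le_sylow
  have := Sylow.unique_of_normal S hSn
  have hSS : S' = S := Subsingleton.elim S' S
  rw [← Subgroup.map_subgroupOf_eq_of_le hQH]
  exact Subgroup.map_mono (hSS ▸ hS')

theorem IsNilpSylow.mem {p : ℕ} {H P : Subgroup G} (hP : IsNilpSylow p H P) {y : G} (hy : y ∈ H)
    (k : ℕ) (hyk : y ^ p ^ k = 1) : y ∈ P :=
  hP.2.2 (zpowers y) (zpowers_le.mpr hy) (isPGroup_zpowers_of_pow_eq_one y k hyk) (mem_zpowers y)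

theorem IsNilpSylow.ne_bot [Finite G] {p : ℕ} [Fact p.Prime] {H P : Subgroup G}
    (hP : IsNilpSylow p H P) (hpH : p ∣ Nat.card H) : P ≠ ⊥ := by
  obtain ⟨x, hx⟩ := exists_prime_orderOf_dvd_card' (G := H) p hpH
  have hx' : orderOf (x : G) = p := by rw [Subgroup.orderOf_coe]; exact hx
  have hxP : (x : G) ∈ P := hP.mem x.2 1 (by rw [pow_one, ← hx', pow_orderOf_eq_one])
  intro hbot
  rw [hbot, mem_bot] at hxP
  rw [hxP, orderOf_one] at hx'
  exact (Fact.out : p.Prime).ne_one hx'.symm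

/-- In a nilpotent subgroup, a `q`-element commutes with every element of order prime to `q`. -/
theorem nilp_commute_of_coprime [Finite G] (L : Subgroup G) (hL : Group.IsNilpotent L) {q : ℕ}
    [Fact q.Prime] {a b : G} (ha : a ∈ L) (hb : b ∈ L) (k : ℕ) (hak : a ^ q ^ k = 1)
    (hbq : (orderOf b).Coprime q) : a * b = b * a := by
  have h := Cfsg.Agent.Lib.Helper29.commute_of_isNilpotent_of_coprime hL (⟨a, ha⟩ : L) ⟨b, hb⟩ k
    (Subtype.ext (by simpa using hak)) (by rwa [Subgroup.orderOf_mk])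
  exact congrArg Subtype.val h

/-- An element of the Sylow `p`-subgroup `P` of the nilpotent group `H` that centralizes `P`
centralizes `H`. -/
theorem IsNilpSylow.le_centralizer [Finite G] {p : ℕ} [Fact p.Prime] {H P : Subgroup G}
    (hH : Group.IsNilpotent H) (hP : IsNilpSylow p H P) (w : G) (hw : w ∈ P)
    (hwc : ∀ y ∈ P, y * w = w * y) : H ≤ centralizer {w} := by
  intro h hh
  apply mem_of_parts_mem p (centralizer {w}) h
  · intro k y hy hyk
    have hyH : y ∈ H := (zpowers_le.mpr hh) hy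
    rw [mem_centralizer_singleton_iff]
    exact hwc y (hP.mem hyH k hyk)
  · intro y hy hyc
    have hyH : y ∈ H := (zpowers_le.mpr hh) hy
    obtain ⟨k, hk⟩ := hP.2.1 ⟨w, hw⟩
    have hk' : w ^ p ^ k = 1 := by simpa using congrArg Subtype.val hk
    rw [mem_centralizer_singleton_iff]
    exact (nilp_commute_of_coprime H hH (hP.1 hw) hyH k hk' hyc).symm


section CN

variable [Finite G]

/-- Lemma C: a `p`-subgroup `Q ⊇ P` with a non-identity central element lying in `P` lies in `H`. -/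
theorem cn_le_of_central
    (hCN : ∀ g : G, g ≠ 1 → Group.IsNilpotent (centralizer ({g} : Set G)))
    (H : Subgroup G) (hH : Group.IsNilpotent H)
    (hmax : ∀ L : Subgroup G, Group.IsNilpotent L → H ≤ L → L = H)
    {p : ℕ} [Fact p.Prime] {P : Subgroup G} (hP : IsNilpSylow p H P)
    (Q : Subgroup G) (hPQ : P ≤ Q) (w : G) (hwP : w ∈ P) (hw1 : w ≠ 1)
    (hwc : ∀ y ∈ Q, y * w = w * y) : Q ≤ H := by
  have h1 : H ≤ centralizer {w} := hP.le_centralizer hH w hwP (fun y hy => hwc y (hPQ hy))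
  have h2 := hmax _ (hCN w hw1) h1
  intro y hy
  rw [← h2, mem_centralizer_singleton_iff]
  exact hwc y hy

/-- Lemma D: the Sylow `p`-subgroup of `H`, if non-trivial, is a maximal `p`-subgroup of `G`. -/
theorem cn_sylow_max
    (hCN : ∀ g : G, g ≠ 1 → Group.IsNilpotent (centralizer ({g} : Set G)))
    (H : Subgroup G) (hH : Group.IsNilpotent H)
    (hmax : ∀ L : Subgroup G, Group.IsNilpotent L → H ≤ L → L = H)
    {p : ℕ} [Fact p.Prime] {P : Subgroup G} (hP : IsNilpSylow p H P) (hP1 : P ≠ ⊥)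
    (S : Subgroup G) (hS : IsPGroup p S) (hPS : P ≤ S) : S ≤ P := by
  set Q : Subgroup G := normalizer (P : Set G) ⊓ S with hQdef
  have hPQ : P ≤ Q := le_inf le_normalizer hPS
  have hQp : IsPGroup p Q := hS.to_le inf_le_right
  have hQn : (P.subgroupOf Q).Normal := normal_subgroupOf_of_le_normalizer inf_le_left
  have hne : P.subgroupOf Q ≠ ⊥ := by
    intro h
    rw [subgroupOf_eq_bot] at h
    exact hP1 (disjoint_self.mp (h.mono_right hPQ))
  obtain ⟨w', hw'P, hw'c, hw'1⟩ :=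
    exists_mem_center_of_normal_ne_bot p hQp (P.subgroupOf Q) hne
  have hQH : Q ≤ H := by
    refine cn_le_of_central hCN H hH hmax hP Q hPQ (w' : G) (mem_subgroupOf.mp hw'P) ?_ ?_
    · intro h
      exact hw'1 (Subtype.ext h)
    · intro y hy
      have := (mem_center_iff.mp hw'c) ⟨y, hy⟩
      exact congrArg Subtype.val this
  have hQP : Q ≤ P := hP.2.2 Q hQH hQp
  by_contra hSP
  have hlt : P.subgroupOf S < ⊤ := by
    rw [lt_top_iff_ne_top, Ne, subgroupOf_eq_top]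
    exact hSP
  have hnil : Group.IsNilpotent S := hS.isNilpotent
  have hnc := Group.normalizerCondition_of_isNilpotent (G := S) (P.subgroupOf S) hlt
  rw [← subgroupOf_normalizer_eq hPS] at hnc
  obtain ⟨y, hyn, hyP⟩ := SetLike.exists_of_lt hnc
  apply hyP
  rw [mem_subgroupOf] at hyn ⊢
  exact hQP ⟨hyn, y.2⟩

/-- (1): a maximal nilpotent subgroup of a CN-group is a Hall subgroup. -/
theorem cn_maxnilp_hall
    (hCN : ∀ g : G, g ≠ 1 → Group.IsNilpotent (centralizer ({g} : Set G)))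
    (H : Subgroup G) (hH : Group.IsNilpotent H)
    (hmax : ∀ L : Subgroup G, Group.IsNilpotent L → H ≤ L → L = H) :
    (Nat.card H).Coprime H.index := by
  apply Nat.coprime_of_dvd
  intro p hp hpH hpI
  have : Fact p.Prime := ⟨hp⟩
  obtain ⟨P, hP⟩ := nilp_exists_sylow H hH p
  have hP1 : P ≠ ⊥ := hP.ne_bot hpH
  obtain ⟨S, hPS⟩ := hP.2.1.exists_le_sylow
  have hSP : (S : Subgroup G) ≤ P := cn_sylow_max hCN H hH hmax hP hP1 S S.2 hPS
  have hSH : (S : Subgroup G) ≤ H := hSP.trans hP.1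
  exact S.not_dvd_index (dvd_trans hpI (Subgroup.index_dvd_of_le hSH))


theorem exists_central_of_pgroup {p : ℕ} [Fact p.Prime] {P : Subgroup G} (hP : IsPGroup p P)
    (hP1 : P ≠ ⊥) : ∃ z ∈ P, (∀ y ∈ P, y * z = z * y) ∧ z ≠ 1 := by
  have hnt : Nontrivial P := (Subgroup.nontrivial_iff_ne_bot P).mpr hP1
  have hc := hP.center_nontrivial
  obtain ⟨⟨z, hz⟩, hz1⟩ := exists_ne (1 : center P)
  refine ⟨z, z.2, ?_, ?_⟩
  · intro y hy
    exact congrArg Subtype.val ((mem_center_iff.mp hz) ⟨y, hy⟩)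
  · intro h
    apply hz1
    apply Subtype.ext
    apply Subtype.ext
    exact h

/-- (3): a maximal nilpotent TI-subgroup of a CN-group contains the centralizers of its
non-identity elements. -/
theorem cn_maxnilp_centralizer_le
    (hCN : ∀ g : G, g ≠ 1 → Group.IsNilpotent (centralizer ({g} : Set G)))
    (H : Subgroup G) (hH : Group.IsNilpotent H)
    (hmax : ∀ L : Subgroup G, Group.IsNilpotent L → H ≤ L → L = H)
    (hTI : ∀ g : G, H.map (MulAut.conj g).toMonoidHom ≠ H →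
      H ⊓ H.map (MulAut.conj g).toMonoidHom = ⊥)
    (x : G) (hxH : x ∈ H) (hx1 : x ≠ 1) : centralizer ({x} : Set G) ≤ H := by
  have hord : orderOf x ≠ 1 := by rwa [Ne, orderOf_eq_one_iff]
  obtain ⟨p, hp, hpx⟩ := Nat.exists_prime_and_dvd hord
  have : Fact p.Prime := ⟨hp⟩
  set x₀ := x ^ (orderOf x / p) with hx₀
  have hx₀ord : orderOf x₀ = p := orderOf_pow_orderOf_div (orderOf_pos x).ne' hpx
  have hx₀H : x₀ ∈ H := H.pow_mem hxH _
  have hx₀1 : x₀ ≠ 1 := by
    intro h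
    rw [h, orderOf_one] at hx₀ord
    exact hp.ne_one hx₀ord.symm
  have hle : centralizer ({x} : Set G) ≤ centralizer {x₀} := by
    intro c hc
    rw [mem_centralizer_singleton_iff] at hc ⊢
    have hc' : Commute c x := hc
    exact (hc'.pow_right _).eq
  refine hle.trans ?_
  obtain ⟨P, hP⟩ := nilp_exists_sylow H hH p
  have hx₀P : x₀ ∈ P := hP.mem hx₀H 1 (by rw [pow_one, ← hx₀ord, pow_orderOf_eq_one])
  have hP1 : P ≠ ⊥ := fun h => hx₀1 (by rwa [h, mem_bot] at hx₀P)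
  set C := centralizer ({x₀} : Set G) with hC
  have hCnil : Group.IsNilpotent C := hCN x₀ hx₀1
  have hCN_H : ∀ c ∈ C, H.map (MulAut.conj c).toMonoidHom = H := by
    intro c hc
    by_contra hne
    have hbot := hTI c hne
    have hmem : x₀ ∈ H ⊓ H.map (MulAut.conj c).toMonoidHom := by
      rw [mem_inf]
      refine ⟨hx₀H, ?_⟩
      rw [mem_map]
      refine ⟨x₀, hx₀H, ?_⟩
      show c * x₀ * c⁻¹ = x₀
      rw [mem_centralizer_singleton_iff.mp hc, mul_inv_cancel_right]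
    rw [hbot, mem_bot] at hmem
    exact hx₀1 hmem
  have hCN_P : ∀ c ∈ C, ∀ y ∈ P, c * y * c⁻¹ ∈ P := by
    intro c hc y hy
    have hle2 : P.map (MulAut.conj c).toMonoidHom ≤ P := by
      apply hP.2.2 _ _ (hP.2.1.map _)
      calc P.map (MulAut.conj c).toMonoidHom ≤ H.map (MulAut.conj c).toMonoidHom :=
            Subgroup.map_mono hP.1
        _ = H := hCN_H c hc
    exact hle2 (mem_map_of_mem _ hy)
  obtain ⟨z, hzP, hzc, hz1⟩ := exists_central_of_pgroup hP.2.1 hP1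
  have hHz : centralizer ({z} : Set G) = H :=
    hmax _ (hCN z hz1) (hP.le_centralizer hH z hzP hzc)
  have hzC : z ∈ C := by
    rw [hC, mem_centralizer_singleton_iff]
    exact (hzc x₀ hx₀P).symm
  intro c hc
  apply mem_of_parts_mem p H c
  · intro k y hy hyk
    have hyC : y ∈ C := (zpowers_le.mpr hc) hy
    have hQ : IsPGroup p (zpowers y ⊔ P : Subgroup G) := by
      apply IsPGroup.to_sup_of_normal_right' (isPGroup_zpowers_of_pow_eq_one y k hyk) hP.2.1
      rw [zpowers_le, mem_normalizer_iff]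
      intro h
      constructor
      · exact hCN_P y hyC h
      · intro hh
        have h3 := hCN_P y⁻¹ (C.inv_mem hyC) _ hh
        simpa [mul_assoc] using h3
    have h4 := cn_sylow_max hCN H hH hmax hP hP1 _ hQ le_sup_right
    exact hP.1 (h4 (le_sup_left (α := Subgroup G) (mem_zpowers y)))
  · intro y hy hyc
    have hyC : y ∈ C := (zpowers_le.mpr hc) hy
    obtain ⟨k, hk⟩ := hP.2.1 ⟨z, hzP⟩
    have hk' : z ^ p ^ k = 1 := by simpa using congrArg Subtype.val hk
    have h5 := nilp_commute_of_coprime C hCnil hzC hyC k hk' hyc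
    rw [← hHz, mem_centralizer_singleton_iff]
    exact h5.symm


/-- (2): a maximal nilpotent subgroup of a CN-group whose order is not a prime power is a
TI-subgroup. -/
theorem cn_maxnilp_ti
    (hCN : ∀ g : G, g ≠ 1 → Group.IsNilpotent (centralizer ({g} : Set G)))
    (H : Subgroup G) (hH : Group.IsNilpotent H)
    (hmax : ∀ L : Subgroup G, Group.IsNilpotent L → H ≤ L → L = H)
    (hnpp : ¬ IsPrimePow (Nat.card H)) (hne1 : Nat.card H ≠ 1) (g : G)
    (hg : H.map (MulAut.conj g).toMonoidHom ≠ H) :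
    H ⊓ H.map (MulAut.conj g).toMonoidHom = ⊥ := by
  rw [eq_bot_iff]
  intro x hx
  rw [mem_bot]
  by_contra hx1
  apply hg
  rw [mem_inf] at hx
  have hord : orderOf x ≠ 1 := by rwa [Ne, orderOf_eq_one_iff]
  obtain ⟨p, hp, hpx⟩ := Nat.exists_prime_and_dvd hord
  have : Fact p.Prime := ⟨hp⟩
  set x₀ := x ^ (orderOf x / p) with hx₀
  have hx₀ord : orderOf x₀ = p := orderOf_pow_orderOf_div (orderOf_pos x).ne' hpx
  have hx₀H : x₀ ∈ H := H.pow_mem hx.1 _
  have hx₀Hg : x₀ ∈ H.map (MulAut.conj g).toMonoidHom := Subgroup.pow_mem _ hx.2 _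
  have hx₀1 : x₀ ≠ 1 := by
    intro h
    rw [h, orderOf_one] at hx₀ord
    exact hp.ne_one hx₀ord.symm
  obtain ⟨x₁, hx₁H, hx₁⟩ := mem_map.mp hx₀Hg
  have hx₁' : g * x₁ * g⁻¹ = x₀ := hx₁
  have hx₁ord : orderOf x₁ = p := by
    rw [← hx₀ord, ← hx₁]
    exact (orderOf_injective _ (MulAut.conj g).injective x₁).symm
  obtain ⟨q, hq, hqH, hqp⟩ : ∃ q, q.Prime ∧ q ∣ Nat.card H ∧ q ≠ p := by
    by_contra hcon
    push Not at hcon
    apply hnpp
    have h1 := Nat.eq_prime_pow_of_unique_prime_dvd (n := Nat.card H) (p := p) (Nat.card_pos.ne')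
      (fun {d} hd hdH => hcon d hd hdH)
    rw [h1]
    refine hp.isPrimePow.pow ?_
    intro h0
    rw [h0, pow_zero] at h1
    exact hne1 h1
  have : Fact q.Prime := ⟨hq⟩
  obtain ⟨Q, hQ⟩ := nilp_exists_sylow H hH q
  have hQ1 : Q ≠ ⊥ := hQ.ne_bot hqH
  have hcomm : ∀ y ∈ H, orderOf y = p → ∀ s ∈ Q, s * y = y * s := by
    intro y hy hyo s hs
    obtain ⟨k, hk⟩ := hQ.2.1 ⟨s, hs⟩
    have hk' : s ^ q ^ k = 1 := by simpa using congrArg Subtype.val hk
    exact nilp_commute_of_coprime H hH (hQ.1 hs) hy k hk'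
      (by rw [hyo]; exact (Nat.coprime_primes hp hq).mpr hqp.symm)
  set C := centralizer ({x₀} : Set G) with hC
  have hCnil : Group.IsNilpotent C := hCN x₀ hx₀1
  obtain ⟨R, hR⟩ := nilp_exists_sylow C hCnil q
  have hQC : Q ≤ C := fun s hs => by
    rw [hC, mem_centralizer_singleton_iff]
    exact hcomm x₀ hx₀H hx₀ord s hs
  have hQR : Q ≤ R := hR.2.2 Q hQC hQ.2.1
  have hRQ : R ≤ Q := cn_sylow_max hCN H hH hmax hQ hQ1 R hR.2.1 hQR
  have hQgC : Q.map (MulAut.conj g).toMonoidHom ≤ C := by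
    rintro _ ⟨s, hs, rfl⟩
    rw [hC, mem_centralizer_singleton_iff]
    have h2 := hcomm x₁ hx₁H hx₁ord s hs
    show g * s * g⁻¹ * x₀ = x₀ * (g * s * g⁻¹)
    rw [← hx₁']
    calc g * s * g⁻¹ * (g * x₁ * g⁻¹) = g * (s * x₁) * g⁻¹ := by group
      _ = g * (x₁ * s) * g⁻¹ := by rw [h2]
      _ = g * x₁ * g⁻¹ * (g * s * g⁻¹) := by group
  have hQgQ : Q.map (MulAut.conj g).toMonoidHom ≤ Q :=
    (hR.2.2 _ hQgC (hQ.2.1.map _)).trans hRQ
  have hQgQ' : Q.map (MulAut.conj g).toMonoidHom = Q :=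
    Subgroup.eq_of_le_of_card_ge hQgQ
      (by rw [Subgroup.card_map_of_injective (MulAut.conj g).injective])
  obtain ⟨w, hwQ, hwc, hw1⟩ := exists_central_of_pgroup hQ.2.1 hQ1
  have hHw : centralizer ({w} : Set G) = H :=
    hmax _ (hCN w hw1) (hQ.le_centralizer hH w hwQ hwc)
  have hw'Q : g * w * g⁻¹ ∈ Q := hQgQ (mem_map_of_mem _ hwQ)
  have hw'1 : g * w * g⁻¹ ≠ 1 := by
    intro h
    exact hw1 (conj_eq_one_iff.mp h)
  have hw'c : ∀ s ∈ Q, s * (g * w * g⁻¹) = g * w * g⁻¹ * s := by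
    intro s hs
    have hs2 : s ∈ Q.map (MulAut.conj g).toMonoidHom := by rw [hQgQ']; exact hs
    obtain ⟨s', hs', rfl⟩ := mem_map.mp hs2
    show g * s' * g⁻¹ * (g * w * g⁻¹) = g * w * g⁻¹ * (g * s' * g⁻¹)
    have h3 := hwc s' hs'
    calc g * s' * g⁻¹ * (g * w * g⁻¹) = g * (s' * w) * g⁻¹ := by group
      _ = g * (w * s') * g⁻¹ := by rw [h3]
      _ = g * w * g⁻¹ * (g * s' * g⁻¹) := by group
  have hHw' : centralizer ({g * w * g⁻¹} : Set G) = H :=
    hmax _ (hCN _ hw'1) (hQ.le_centralizer hH _ hw'Q hw'c)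
  apply le_antisymm
  · rintro _ ⟨h, hh, rfl⟩
    rw [← hHw', mem_centralizer_singleton_iff]
    have hh' : h ∈ centralizer ({w} : Set G) := by rw [hHw]; exact hh
    rw [mem_centralizer_singleton_iff] at hh'
    show g * h * g⁻¹ * (g * w * g⁻¹) = g * w * g⁻¹ * (g * h * g⁻¹)
    calc g * h * g⁻¹ * (g * w * g⁻¹) = g * (h * w) * g⁻¹ := by group
      _ = g * (w * h) * g⁻¹ := by rw [hh']
      _ = g * w * g⁻¹ * (g * h * g⁻¹) := by group
  · intro h hh
    rw [mem_map]
    refine ⟨g⁻¹ * h * g, ?_, ?_⟩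
    · have hh' : h ∈ centralizer ({g * w * g⁻¹} : Set G) := by rw [hHw']; exact hh
      rw [mem_centralizer_singleton_iff] at hh'
      rw [← hHw, mem_centralizer_singleton_iff]
      calc g⁻¹ * h * g * w = g⁻¹ * (h * (g * w * g⁻¹)) * g := by group
        _ = g⁻¹ * ((g * w * g⁻¹) * h) * g := by rw [hh']
        _ = w * (g⁻¹ * h * g) := by group
    · show g * (g⁻¹ * h * g) * g⁻¹ = h
      group

/-- Maximal nilpotent subgroups of CN-groups. -/
theorem cn_maxnilp
    (hCN : ∀ g : G, g ≠ 1 → Group.IsNilpotent (centralizer ({g} : Set G)))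
    (H : Subgroup G) (hH : Group.IsNilpotent H)
    (hmax : ∀ L : Subgroup G, Group.IsNilpotent L → H ≤ L → L = H) :
    (Nat.card H).Coprime H.index ∧
      (¬ IsPrimePow (Nat.card H) → Nat.card H ≠ 1 → ∀ g : G,
        H.map (MulAut.conj g).toMonoidHom ≠ H → H ⊓ H.map (MulAut.conj g).toMonoidHom = ⊥) ∧
      ((∀ g : G, H.map (MulAut.conj g).toMonoidHom ≠ H →
        H ⊓ H.map (MulAut.conj g).toMonoidHom = ⊥) →
        ∀ x ∈ H, x ≠ 1 → Subgroup.centralizer ({x} : Set G) ≤ H) :=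
  ⟨cn_maxnilp_hall hCN H hH hmax, cn_maxnilp_ti hCN H hH hmax,
    fun hTI x hx hx1 => cn_maxnilp_centralizer_le hCN H hH hmax hTI x hx hx1⟩

end CN

end Cfsg.Agent.Lib.Helper10
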