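import Mathlib
import Cfsg.Prelude.Def_LieExceptional
import Cfsg.Prelude.Def_OddOrderLocal
import Cfsg.Prelude.Def_Solvable
import Cfsg.Agent.Lib.Helper1.Transport
import Cfsg.Agent.Lib.Helper9.FittingHall
import Cfsg.Agent.Lib.Helper10.CNGroup
import Cfsg.Agent.Lib.Helper10.PGroupBasic
import Cfsg.Agent.S0069

set_option autoImplicit false

namespace Cfsg.Agent.Lib.Helper10

open Subgroup
open scoped Pointwise

section
variable {G : Type*} [Group G]

/-- a complement of a nontrivial normal subgroup acting without fixed points is a Frobenius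
complement -/
theorem isFrobeniusComplement_of_fpf (K E : Subgroup G) [hKn : K.Normal]
    (hc : IsComplement' K E) (hK : K ≠ ⊥) (hE : E ≠ ⊥)
    (hfpf : ∀ e ∈ E, e ≠ 1 → K ⊓ centralizer {e} = ⊥) : Cfsg.IsFrobeniusComplement E := by
  refine ⟨hE, ?_, ?_⟩
  · intro htop
    apply hK
    have hd := hc.disjoint
    rw [htop, disjoint_top] at hd
    exact hd
  · intro g hg
    rw [eq_bot_iff]
    intro x hx
    rw [mem_bot]
    obtain ⟨hxE, hxg⟩ := hx
    have hxg' : g⁻¹ * x * g ∈ E := (Cfsg.Agent.Lib.Helper1.mem_conj_smul_iff E g x).mp hxg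
    obtain ⟨k, hk, e₀, he₀, hke⟩ := Cfsg.Agent.Lib.Helper1.IsComplement'.exists_mul_eq hc g
    by_contra hx1
    have he₂ : k⁻¹ * x * k ∈ E := by
      have : k⁻¹ * x * k = e₀ * (g⁻¹ * x * g) * e₀⁻¹ := by rw [← hke]; group
      rw [this]
      exact E.mul_mem (E.mul_mem he₀ hxg') (E.inv_mem he₀)
    have h1 : x * (k⁻¹ * x * k)⁻¹ ∈ K := by
      have : x * (k⁻¹ * x * k)⁻¹ = (x * k⁻¹ * x⁻¹) * k := by group
      rw [this]
      exact K.mul_mem (hKn.conj_mem k⁻¹ (K.inv_mem hk) x) hk
    have h2 : x * (k⁻¹ * x * k)⁻¹ ∈ E := E.mul_mem hxE (E.inv_mem he₂)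
    have h3 : x * (k⁻¹ * x * k)⁻¹ = 1 := Subgroup.disjoint_def.mp hc.disjoint h1 h2
    have h4 : k ∈ K ⊓ centralizer {x} := by
      refine ⟨hk, mem_centralizer_singleton_iff.mpr ?_⟩
      have h5 : x = k⁻¹ * x * k := by
        have := mul_inv_eq_one.mp h3
        exact this
      calc k * x = k * (k⁻¹ * x * k) := by rw [← h5]
        _ = x * k := by group
    rw [hfpf x hxE hx1, mem_bot] at h4
    apply hg
    rw [← hke, h4, one_mul]
    exact he₀

end

section main
variable {G : Type*} [Group G] [Finite G]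

/-- in a CN-group, a complement `E` of the largest normal nilpotent Hall subgroup `H`
acts without fixed points on `H` -/
theorem cn_fittingHall_fpf (hCN : Cfsg.IsCNGroup G) (E : Subgroup G)
    (hE : IsComplement' (Cfsg.fittingHall G) E) (hH1 : Cfsg.fittingHall G ≠ ⊥) :
    ∀ e ∈ E, e ≠ 1 → Cfsg.fittingHall G ⊓ centralizer {e} = ⊥ := by
  set H := Cfsg.fittingHall G with hHdef
  have hHnil : Group.IsNilpotent H := Cfsg.Agent.Lib.Helper9.fittingHall_isNilpotent G
  have hHcop : (Nat.card H).Coprime H.index := Cfsg.Agent.Lib.Helper9.fittingHall_coprime G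
  have hHn : H.Normal := Cfsg.fittingHall_normal G
  have hEcard : H.index = Nat.card E := by
    have := hE.symm.index_eq_card
    exact this
  intro e₁ he₁E he₁1
  rw [eq_bot_iff]
  intro h hh
  rw [mem_bot]
  by_contra hh1
  obtain ⟨hhH, hhe⟩ := hh
  have hhe' : h * e₁ = e₁ * h := mem_centralizer_singleton_iff.mp hhe
  -- reduce to prime order
  have hord1 : orderOf e₁ ≠ 1 := by rwa [Ne, orderOf_eq_one_iff]
  obtain ⟨q, hq, hqe⟩ := Nat.exists_prime_and_dvd hord1
  set e := e₁ ^ (orderOf e₁ / q) with hedef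
  have heord : orderOf e = q := orderOf_pow_orderOf_div (orderOf_pos e₁).ne' hqe
  have heE : e ∈ E := E.pow_mem he₁E _
  have he1 : e ≠ 1 := by
    intro h1
    rw [h1, orderOf_one] at heord
    exact hq.ne_one heord.symm
  have heh : h * e = e * h := by
    have : Commute h e₁ := hhe'
    exact this.pow_right _
  haveI : Fact q.Prime := ⟨hq⟩
  have hqE : q ∣ Nat.card E := by
    rw [← heord, ← Subgroup.orderOf_mk e heE]
    exact orderOf_dvd_natCard _
  have hqH : (Nat.card H).Coprime q := by
    apply hHcop.coprime_dvd_right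
    rw [hEcard]
    exact hqE
  have heq : e ^ q ^ 1 = 1 := by rw [pow_one, ← heord, pow_orderOf_eq_one]
  -- a central element of H
  have hHnt : Nontrivial H := (Subgroup.nontrivial_iff_ne_bot H).mpr hH1
  have hcen := Group.IsNilpotent.center_ne_bot (G := H)
  obtain ⟨z₀, hz₀1⟩ := (Subgroup.ne_bot_iff_exists_ne_one.mp hcen)
  set z : G := ((z₀ : H) : G) with hzdef
  have hzc' : ∀ y ∈ H, y * z = z * y := by
    intro y hy
    have := (mem_center_iff.mp z₀.2) ⟨y, hy⟩
    exact congrArg Subtype.val this
  have hz1' : z ≠ 1 := by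
    intro h1
    apply hz₀1
    apply Subtype.ext
    apply Subtype.ext
    exact h1
  have hzH : z ∈ H := (z₀ : H).2
  -- e centralizes z (inside the nilpotent C(h))
  have hCh := hCN h hh1
  have hez : e * z = z * e := by
    apply nilp_commute_of_coprime (centralizer {h}) hCh (q := q)
      (mem_centralizer_singleton_iff.mpr heh.symm)
      (mem_centralizer_singleton_iff.mpr (hzc' h hhH).symm) 1 heq
    have : orderOf z ∣ Nat.card H := by
      rw [← Subgroup.orderOf_mk _ hzH]
      exact orderOf_dvd_natCard _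
    exact Nat.Coprime.coprime_dvd_left this hqH
  -- the nilpotent group C(z) contains H and e
  have hCz := hCN z hz1'
  have hHCz : H ≤ centralizer {z} := by
    intro y hy
    exact mem_centralizer_singleton_iff.mpr (hzc' y hy)
  have heCz : e ∈ centralizer {z} := mem_centralizer_singleton_iff.mpr hez
  -- every q-element of C(z) centralizes H
  have hqcent : ∀ x ∈ centralizer {z}, ∀ k : ℕ, x ^ q ^ k = 1 →
      x ∈ centralizer (H : Set G) := by
    intro x hx k hxk
    rw [mem_centralizer_iff]
    intro y hy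
    have hyH : y ∈ H := hy
    have hyord : (orderOf y).Coprime q := by
      have : orderOf y ∣ Nat.card H := by
        rw [← Subgroup.orderOf_mk _ hyH]
        exact orderOf_dvd_natCard _
      exact Nat.Coprime.coprime_dvd_left this hqH
    exact (nilp_commute_of_coprime (centralizer {z}) hCz (q := q) hx (hHCz hyH) k hxk
      hyord).symm
  have heT : e ∈ centralizer (H : Set G) := hqcent e heCz 1 heq
  -- a Sylow q-subgroup containing e
  obtain ⟨Q, hQ⟩ := IsPGroup.exists_le_sylow (isPGroup_zpowers_of_pow_eq_one e 1 heq)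
  have heQ : e ∈ (Q : Subgroup G) := hQ (mem_zpowers e)
  -- a nontrivial element of Z(Q) centralizing H
  haveI hTn : (centralizer (H : Set G)).Normal := Subgroup.normal_centralizer
  set N : Subgroup (Q : Subgroup G) := (centralizer (H : Set G)).subgroupOf Q with hNdef
  have hNn : N.Normal := by
    rw [hNdef]
    infer_instance
  have hN1 : N ≠ ⊥ := by
    intro hbot
    have : (⟨e, heQ⟩ : (Q : Subgroup G)) ∈ N := by
      rw [hNdef, mem_subgroupOf]
      exact heT
    rw [hbot, mem_bot] at this
    exact he1 (congrArg Subtype.val this)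
  obtain ⟨y, hyN, hyc, hy1⟩ := exists_mem_center_of_normal_ne_bot q Q.2 N hN1
  have hyT : (y : G) ∈ centralizer (H : Set G) := by
    rw [hNdef, mem_subgroupOf] at hyN
    exact hyN
  have hy1' : (y : G) ≠ 1 := fun h1 => hy1 (Subtype.ext h1)
  have hCy := hCN (y : G) hy1'
  have hQCy : (Q : Subgroup G) ≤ centralizer {(y : G)} := by
    intro x hx
    rw [mem_centralizer_singleton_iff]
    have := (mem_center_iff.mp hyc) ⟨x, hx⟩
    exact congrArg Subtype.val this
  have hHCy : H ≤ centralizer {(y : G)} := by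
    intro x hx
    rw [mem_centralizer_singleton_iff]
    exact (mem_centralizer_iff.mp hyT) x hx
  -- Q centralizes H
  have hQT : (Q : Subgroup G) ≤ centralizer (H : Set G) := by
    intro x hx
    obtain ⟨k, hk⟩ := (Q.2 ⟨x, hx⟩)
    have hxk : x ^ q ^ k = 1 := by
      have := congrArg Subtype.val hk
      simpa using this
    rw [mem_centralizer_iff]
    intro u hu
    have huH : u ∈ H := hu
    have huord : (orderOf u).Coprime q := by
      have : orderOf u ∣ Nat.card H := by
        rw [← Subgroup.orderOf_mk _ huH]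
        exact orderOf_dvd_natCard _
      exact Nat.Coprime.coprime_dvd_left this hqH
    exact (nilp_commute_of_coprime (centralizer {(y : G)}) hCy (q := q) (hQCy hx) (hHCy huH) k hxk
      huord).symm
  -- the centralizer of H is nilpotent, so its Sylow q-subgroup Q is normal in G
  have hTle : centralizer (H : Set G) ≤ centralizer {z} := by
    intro x hx
    rw [mem_centralizer_singleton_iff]
    exact ((mem_centralizer_iff.mp hx) _ hzH).symm
  have hTnil : Group.IsNilpotent (centralizer (H : Set G)) := by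
    have h1 : Group.IsNilpotent ((centralizer (H : Set G)).subgroupOf
        (centralizer {z})) := by
      haveI := hCz
      infer_instance
    exact @Group.nilpotent_of_mulEquiv _ _ _ _ h1 (Subgroup.subgroupOfEquivOfLe hTle)
  have hQn : (Q : Subgroup G).Normal := by
    set QT : Sylow q (centralizer (H : Set G)) := Q.subtype hQT with hQTdef
    have hall := (Group.isNilpotent_of_finite_tfae (G := centralizer (H : Set G))).out 0 3 |>.mp hTnil
    have hQTn : (QT : Subgroup (centralizer (H : Set G))).Normal := hall q inferInstance QT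
    haveI hchar : (QT : Subgroup (centralizer (H : Set G))).Characteristic :=
      Sylow.characteristic_of_normal QT hQTn
    have hmap : ((QT : Subgroup (centralizer (H : Set G))).map
        (centralizer (H : Set G)).subtype).Normal :=
      ConjAct.normal_of_characteristic_of_normal
    have heq' : (QT : Subgroup (centralizer (H : Set G))).map (centralizer (H : Set G)).subtype
        = (Q : Subgroup G) := by
      rw [hQTdef, Sylow.coe_subtype, Subgroup.map_subgroupOf_eq_of_le hQT]
    rw [heq'] at hmap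
    exact hmap
  -- so Q lies in the largest normal nilpotent Hall subgroup
  have hQH : (Q : Subgroup G) ≤ H :=
    Cfsg.Agent.Lib.Helper9.le_fittingHall hQn Q.2.isNilpotent Q.card_coprime_index
  have heH : e ∈ H := hQH heQ
  exact he1 (Subgroup.disjoint_def.mp hE.disjoint heH heE)

theorem cn_normal_sylow (hCN : Cfsg.IsCNGroup G) (hnn : ¬ Group.IsNilpotent G) (p : ℕ)
    [Fact p.Prime] (P : Sylow p G) (hP1 : (P : Subgroup G) ≠ ⊥) (hPn : (P : Subgroup G).Normal) :
    Cfsg.fittingHall G ≠ ⊥ ∧ Cfsg.fittingHall G ≠ ⊤ ∧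
      (∃ E : Subgroup G, Subgroup.IsComplement' (Cfsg.fittingHall G) E ∧
        Cfsg.IsFrobeniusComplement E ∧
        ∀ e ∈ E, e ≠ 1 → Cfsg.fittingHall G ⊓ Subgroup.centralizer ({e} : Set G) = ⊥) ∧
      Group.IsNilpotent (G ⧸ Cfsg.fittingHall G) := by
  set H := Cfsg.fittingHall G with hHdef
  have hHnil : Group.IsNilpotent H := Cfsg.Agent.Lib.Helper9.fittingHall_isNilpotent G
  have hHcop : (Nat.card H).Coprime H.index := Cfsg.Agent.Lib.Helper9.fittingHall_coprime G
  have hHn : H.Normal := Cfsg.fittingHall_normal G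
  have hPH : (P : Subgroup G) ≤ H :=
    Cfsg.Agent.Lib.Helper9.le_fittingHall hPn P.2.isNilpotent P.card_coprime_index
  have hH1 : H ≠ ⊥ := fun h => hP1 (le_bot_iff.mp (h ▸ hPH))
  have hHtop : H ≠ ⊤ := by
    intro htop
    apply hnn
    rw [htop] at hHnil
    exact @Group.nilpotent_of_mulEquiv _ _ _ _ hHnil Subgroup.topEquiv
  obtain ⟨E, hE⟩ := Subgroup.exists_right_complement'_of_coprime hHcop
  have hE1 : E ≠ ⊥ := by
    intro hbot
    rw [hbot] at hE
    exact hHtop (Subgroup.isComplement'_bot_right.mp hE)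
  have hfpf := cn_fittingHall_fpf hCN E hE hH1
  have hFrob : Cfsg.IsFrobeniusComplement E := isFrobeniusComplement_of_fpf H E hE hH1 hE1 hfpf
  refine ⟨hH1, hHtop, ⟨E, hE, hFrob, hfpf⟩, ?_⟩
  -- E is nilpotent: it has nontrivial centre and lies in the centralizer of a central element
  have hcen := Cfsg.Agent.S0069.result H E hE hH1 hE1 hfpf
  obtain ⟨z₀, hz₀1⟩ := (Subgroup.ne_bot_iff_exists_ne_one.mp hcen)
  set z : G := ((z₀ : E) : G) with hzdef
  have hz1 : z ≠ 1 := by
    intro h1
    apply hz₀1
    apply Subtype.ext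
    apply Subtype.ext
    exact h1
  have hECz : E ≤ centralizer {z} := by
    intro y hy
    rw [mem_centralizer_singleton_iff]
    have := (mem_center_iff.mp z₀.2) ⟨y, hy⟩
    exact congrArg Subtype.val this
  have hCz := hCN z hz1
  have hEnil : Group.IsNilpotent E := by
    have h1 : Group.IsNilpotent (E.subgroupOf (centralizer {z})) := by
      haveI := hCz
      infer_instance
    exact @Group.nilpotent_of_mulEquiv _ _ _ _ h1 (Subgroup.subgroupOfEquivOfLe hECz)
  -- G/H is an image of E
  let f : E →* G ⧸ H := (QuotientGroup.mk' H).comp E.subtype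
  have hf : Function.Surjective f := by
    intro x
    obtain ⟨g, rfl⟩ := QuotientGroup.mk'_surjective H x
    obtain ⟨k, hk, e, he, hke⟩ := Cfsg.Agent.Lib.Helper1.IsComplement'.exists_mul_eq hE g
    refine ⟨⟨e, he⟩, ?_⟩
    show (QuotientGroup.mk' H) e = (QuotientGroup.mk' H) g
    rw [← hke, map_mul]
    have : (QuotientGroup.mk' H) k = 1 := (QuotientGroup.eq_one_iff k).mpr hk
    rw [this, one_mul]
  exact @Group.nilpotent_of_surjective _ _ _ _ hEnil f hf

end main

end Cfsg.Agent.Lib.Helper10
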