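import Mathlib
import Cfsg.Prelude.Def_Characters
import Cfsg.Agent.Lib.Lead.CharMain
import Cfsg.Agent.Lib.Helper2.CommonEigen
import Cfsg.Agent.Lib.Helper24.ClassMul
import Cfsg.Agent.Lib.Helper24.IrrFacts
import Cfsg.Agent.Lib.Helper10.IrrOrtho

/-! Irreducible characters of abelian groups are multiplicative; values of a character on a pair of
commuting elements via restriction to an abelian subgroup: `χ(xy) - χ(y) ∈ (1 - ε) 𝔸` for `x` of order `p`. -/

namespace Cfsg.Agent.Lib.Helper10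
open Cfsg Cfsg.Agent.CharLib Module
open scoped ComplexConjugate

universe u
variable {G : Type u} [Group G]

theorem irr_mul_of_comm [Finite G] (hcomm : ∀ a b : G, a * b = b * a) {μ : G → ℂ}
    (hμ : IsIrrCharacter G μ) (a b : G) : μ (a * b) = μ a * μ b := by
  obtain ⟨n, ρ, hirr, rfl⟩ := hμ
  haveI := hirr
  have h1 := Cfsg.Agent.Lib.Helper2.finrank_le_index_of_abelian ρ ⊤ (fun a _ b _ => hcomm a b)
  rw [Subgroup.index_top] at h1
  have h2 := Cfsg.Agent.Lib.Helper24.finrank_pos_of_isIrreducible ρ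
  exact Cfsg.Agent.Lib.Helper24.char_mul_of_finrank_eq_one ρ (by omega) a b

theorem irr_one_of_comm [Finite G] (hcomm : ∀ a b : G, a * b = b * a) {μ : G → ℂ}
    (hμ : IsIrrCharacter G μ) : μ 1 = 1 := by
  have h1 := irr_mul_of_comm hcomm hμ 1 1
  rw [mul_one] at h1
  have h2 := irr_one_ne_zero hμ
  exact (mul_left_cancel₀ h2 (by rw [← h1, mul_one])).symm

theorem irr_pow_of_comm [Finite G] (hcomm : ∀ a b : G, a * b = b * a) {μ : G → ℂ}
    (hμ : IsIrrCharacter G μ) (a : G) (n : ℕ) : μ (a ^ n) = μ a ^ n := by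
  induction n with
  | zero => rw [pow_zero, pow_zero, irr_one_of_comm hcomm hμ]
  | succ n ih => rw [pow_succ, pow_succ, irr_mul_of_comm hcomm hμ, ih]

/-- For a character `φ`, `x` with `x ^ p = 1` and `y` commuting with `x`:
`φ (x y) - φ y` is `(1 - ε)` times an algebraic integer, `ε = exp(2πi/p)`. -/
theorem char_mul_sub_char_of_commute [Finite G] {φ : G → ℂ} (hφ : IsCharacter G φ) {p : ℕ}
    (hp : p.Prime) (x y : G) (hx : x ^ p = 1) (hxy : x * y = y * x) :
    ∃ ω : ℂ, IsIntegral ℤ ω ∧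
      φ (x * y) - φ y = (1 - Complex.exp (2 * Real.pi * Complex.I / p)) * ω := by
  classical
  set ε := Complex.exp (2 * Real.pi * Complex.I / p) with hε
  have hprim : IsPrimitiveRoot ε p := Complex.isPrimitiveRoot_exp p hp.ne_zero
  haveI : NeZero p := ⟨hp.ne_zero⟩
  have hεint : IsIntegral ℤ ε := hprim.isIntegral hp.pos
  let C : Subgroup G := Subgroup.centralizer ({x, y} : Set G)
  let A : Subgroup G := Subgroup.centralizer (C : Set G)
  have hxA : x ∈ A := by
    rw [Subgroup.mem_centralizer_iff]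
    intro c hc
    exact ((Subgroup.mem_centralizer_iff.mp hc) x (by simp)).symm
  have hyA : y ∈ A := by
    rw [Subgroup.mem_centralizer_iff]
    intro c hc
    exact ((Subgroup.mem_centralizer_iff.mp hc) y (by simp)).symm
  have hAC : A ≤ C := by
    intro a ha
    rw [Subgroup.mem_centralizer_iff]
    intro z hz
    have hzC : z ∈ C := by
      rw [Subgroup.mem_centralizer_iff]
      intro w hw
      rcases hw with rfl | rfl
      · rcases hz with rfl | rfl
        · rfl
        · exact hxy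
      · rcases hz with rfl | rfl
        · exact hxy.symm
        · rfl
    exact (Subgroup.mem_centralizer_iff.mp ha) z hzC
  have hcomm : ∀ a b : A, a * b = b * a := by
    intro a b
    apply Subtype.ext
    exact ((Subgroup.mem_centralizer_iff.mp a.2) b (hAC b.2)).symm
  have hres := IsCharacter.restrict hφ A
  obtain ⟨m, hm⟩ := IsCharacter.exists_decomp hres
  let _ := fintypeIrr A
  rw [finsum_eq_sum_of_fintype] at hm
  have hval : ∀ a : A, φ a = ∑ μ : IrrCharacter A, (m μ : ℂ) * (μ : A → ℂ) a := by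
    intro a
    have := congrFun hm a
    simpa [Finset.sum_apply, nsmul_eq_mul] using this
  have hμx : ∀ μ : IrrCharacter A, ∃ k : ℕ, (μ : A → ℂ) ⟨x, hxA⟩ = ε ^ k := by
    intro μ
    have hpow : ((μ : A → ℂ) ⟨x, hxA⟩) ^ p = 1 := by
      rw [← irr_pow_of_comm hcomm μ.2]
      have : (⟨x, hxA⟩ : A) ^ p = 1 := Subtype.ext (by simpa using hx)
      rw [this, irr_one_of_comm hcomm μ.2]
    obtain ⟨k, _, hk⟩ := hprim.eq_pow_of_pow_eq_one hpow
    exact ⟨k, hk.symm⟩
  choose k hk using hμx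
  refine ⟨- ∑ μ : IrrCharacter A, (m μ : ℂ) * (μ : A → ℂ) ⟨y, hyA⟩ *
    ∑ j ∈ Finset.range (k μ), ε ^ j, ?_, ?_⟩
  · apply IsIntegral.neg
    apply IsIntegral.sum
    intro μ _
    apply IsIntegral.mul
    · apply IsIntegral.mul
      · have : IsIntegral ℤ (((m μ : ℤ) : ℂ)) := isIntegral_algebraMap (R := ℤ) (A := ℂ) (x := (m μ : ℤ))
        simpa using this
      · exact Cfsg.Agent.Lib.Helper24.irr_isIntegral μ _
    · apply IsIntegral.sum
      intro j _
      exact hεint.pow j
  · have h1 := hval ⟨x * y, A.mul_mem hxA hyA⟩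
    have h2 := hval ⟨y, hyA⟩
    simp only at h1 h2
    rw [h1, h2, ← Finset.sum_sub_distrib, mul_neg, Finset.mul_sum, ← Finset.sum_neg_distrib]
    apply Finset.sum_congr rfl
    intro μ _
    have h3 : (⟨x * y, A.mul_mem hxA hyA⟩ : A) = ⟨x, hxA⟩ * ⟨y, hyA⟩ := rfl
    rw [h3, irr_mul_of_comm hcomm μ.2, hk μ]
    have hgeom := geom_sum_mul ε (k μ)
    linear_combination (-((m μ : ℂ) * (μ : A → ℂ) ⟨y, hyA⟩)) * hgeom

end Cfsg.Agent.Lib.Helper10
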