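/-
helper10: DEFECT-ONE CLUSTER, Part O, ROUTE I (TI-induction) for GRAM / ORTH: the local basics.

* `exists_decomp`       : a `p`-singular element of `C = C_G(P)` is `x * y`, `1 ≠ x ∈ P`, `y ∈ C` `p`-regular;
* `singular_TI`         : the `p`-singular elements of `C` form a TI-set with normalizer `N`;
* `hasIdx_zero_of_pTriv`: a `P`-trivial irreducible character has central index `0`;
* `mult_eq_classInner`  : `mult H χ φ = ⟨χ|_H, φ⟩`;
* `exists_unit_conj`    : `n x0 n⁻¹ = x0 ^ u`, `u` a unit, for `n ∈ N`.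
-/
import Mathlib
import Cfsg.Prelude.Def_BlockRank
import Cfsg.Agent.Lib.Helper27.DODefs
import Cfsg.Agent.Lib.Helper27.BlkAlgDefs2
import Cfsg.Agent.Lib.Helper29.DOTI
import Cfsg.Agent.Lib.Helper16.DOSETUP
import Cfsg.Agent.Lib.Lead.SecondMain
import Cfsg.Agent.Lib.Helper10.IrrOrtho

set_option autoImplicit false

namespace Cfsg.Agent.Lib.Helper10.DOGRAMBase

open Cfsg Cfsg.Agent.Lib.Helper8.DOM Cfsg.Agent.Lib.Helper27.DO Cfsg.Agent.Lib.Helper27.BlkAlg
open scoped ComplexConjugate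

universe u

variable {G : Type u} [Group G] [Finite G] {p : ℕ} [Fact p.Prime]

/-- a `p`-element centralizing the Sylow subgroup `P` lies in `P` -/
theorem mem_of_mem_Cz_of_pow (P : Subgroup G) (hP : Nat.card P = p) (hSyl : ¬ p ∣ P.index) {z : G}
    (hz : z ∈ Cz P) {k : ℕ} (hzp : orderOf z = p ^ k) : z ∈ P := by
  have hPp := Cfsg.Agent.Lib.Helper29.DOTI.isPGroup_of_card P hP
  have hZ : IsPGroup p (Subgroup.zpowers z) :=
    IsPGroup.of_card (n := k) (by rw [Nat.card_zpowers, hzp])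
  have hle : Subgroup.zpowers z ≤ Subgroup.normalizer (P : Set G) := by
    rw [Subgroup.zpowers_le]
    exact Subgroup.centralizer_le_normalizer (P : Set G) hz
  have hsup : IsPGroup p (Subgroup.zpowers z ⊔ P : Subgroup G) :=
    IsPGroup.to_sup_of_normal_right' hZ hPp hle
  have hmax := (hPp.toSylow hSyl).is_maximal' hsup (by
    rw [IsPGroup.toSylow_coe]
    exact le_sup_right)
  rw [IsPGroup.toSylow_coe] at hmax
  have : z ∈ Subgroup.zpowers z ⊔ P := Subgroup.mem_sup_left (Subgroup.mem_zpowers z)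
  rwa [hmax] at this

/-- a `p`-singular element of `C_G(P)` is `x * y` with `1 ≠ x ∈ P` and `y ∈ C_G(P)` `p`-regular -/
theorem exists_decomp (P : Subgroup G) (hP : Nat.card P = p) (hSyl : ¬ p ∣ P.index) {c : G}
    (hc : c ∈ Cz P) (hcp : p ∣ orderOf c) :
    ∃ x ∈ P, x ≠ 1 ∧ ∃ y ∈ Cz P, ¬ p ∣ orderOf y ∧ c = x * y := by
  obtain ⟨m, s, gp, -, ⟨gq, hmul, hcomm, ⟨k, hk⟩, hreg⟩, ⟨i, hi⟩⟩ :=
    Cfsg.Agent.CharLib.exists_ppart_data p c
  have hgp1 : gp ≠ 1 := by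
    rintro rfl
    rw [one_mul] at hmul
    rw [hmul] at hreg
    exact hreg hcp
  have hgpC : gp ∈ Cz P := by
    rw [hi]
    exact Subgroup.pow_mem _ (Subgroup.pow_mem _ hc _) _
  have hgqC : gq ∈ Cz P := by
    have : gq = gp⁻¹ * c := by rw [← hmul]; group
    rw [this]
    exact Subgroup.mul_mem _ (Subgroup.inv_mem _ hgpC) hc
  exact ⟨gp, mem_of_mem_Cz_of_pow P hP hSyl hgpC hk, hgp1, gq, hgqC, hreg, hmul.symm⟩

/-- the `p`-singular elements of `C_G(P)` form a TI-set with normalizer `N_G(P)` -/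
theorem singular_TI (P : Subgroup G) (hP : Nat.card P = p) (hSyl : ¬ p ∣ P.index) :
    ∀ c ∈ {g : G | g ∈ Cz P ∧ p ∣ orderOf g}, ∀ g : G,
      g * c * g⁻¹ ∈ {g : G | g ∈ Cz P ∧ p ∣ orderOf g} → g ∈ Nz P := by
  rintro c ⟨hc, hcp⟩ g ⟨hg, -⟩
  obtain ⟨x, hx, hx1, y, hy, hyreg, rfl⟩ := exists_decomp P hP hSyl hc hcp
  exact Cfsg.Agent.Lib.Helper29.DOTI.mem_Nz_of_conj_mem P hP hSyl x hx hx1 y hy hyreg g hg

omit [Finite G] in
theorem zetaP_prim' : IsPrimitiveRoot (zetaP p) p :=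
  Complex.isPrimitiveRoot_exp p (Fact.out : p.Prime).ne_zero

omit [Finite G] in
/-- the generator commutes with `P` -/
theorem x0_mem_Cz (P : Subgroup G) (x0 : G) (hx0 : P = Subgroup.zpowers x0) : x0 ∈ Cz P := by
  rw [Subgroup.mem_centralizer_iff]
  intro w hw
  rw [SetLike.mem_coe, hx0] at hw
  obtain ⟨j, rfl⟩ := Subgroup.mem_zpowers_iff.mp hw
  exact ((Commute.refl x0).zpow_left j).eq

/-- a `P`-trivial irreducible character has central index `0`, given that it has some index -/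
theorem hasIdx_zero_of_pTriv (P : Subgroup G) (x0 : G) (hx0 : P = Subgroup.zpowers x0)
    (ψ : Cz P → ℂ) (hψ : IsIrrCharacter (Cz P) ψ) (hP : PTriv P ψ) (i : ZMod p)
    (hi : HasIdx p P x0 ψ i) : i = 0 := by
  have hx0P : x0 ∈ P := by rw [hx0]; exact Subgroup.mem_zpowers x0
  have h1 := hi 1 ⟨x0, x0_mem_Cz P x0 hx0⟩ (by simp)
  have h2 := hP ⟨x0, x0_mem_Cz P x0 hx0⟩ hx0P
  rw [h2] at h1
  have h3 : ψ 1 ≠ 0 := Cfsg.Agent.Lib.Helper10.irr_one_ne_zero hψ
  have h4 : zetaP p ^ i.val = 1 := by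
    have : (zetaP p ^ i.val - 1) * ψ 1 = 0 := by rw [sub_mul, one_mul, ← h1, sub_self]
    rcases mul_eq_zero.mp this with h | h
    · exact sub_eq_zero.mp h
    · exact absurd h h3
  have h5 : p ∣ i.val := (zetaP_prim' (p := p)).dvd_of_pow_eq_one _ h4
  have h6 : i.val < p := ZMod.val_lt i
  have h7 : i.val = 0 := Nat.eq_zero_of_dvd_of_lt h5 h6
  exact (ZMod.val_eq_zero i).mp h7

omit [Finite G] in
/-- `mult` as `classInner` of the restriction -/
theorem mult_eq_classInner (H : Subgroup G) [Fintype H] (χ : G → ℂ) (φ : H → ℂ) :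
    mult H χ φ = classInner (fun h : H => χ h) φ := by
  unfold mult classInner
  rw [finsum_eq_sum_of_fintype]

/-- `n x0 n⁻¹ = x0 ^ u` with `u` a unit, for `n ∈ N_G(P)` -/
theorem exists_unit_conj (P : Subgroup G) (hP : Nat.card P = p) (x0 : G)
    (hx0 : P = Subgroup.zpowers x0) (n : Nz P) :
    ∃ u : (ZMod p)ˣ, (n : G) * x0 * (n : G)⁻¹ = x0 ^ (u : ZMod p).val := by
  have hord : orderOf x0 = p := by rw [← Nat.card_zpowers, ← hx0, hP]
  have hx0P : x0 ∈ P := by rw [hx0]; exact Subgroup.mem_zpowers x0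
  have hmem0 : (n : G) * x0 * (n : G)⁻¹ ∈ P := (Subgroup.mem_normalizer_iff.mp n.2 x0).mp hx0P
  have hmem : (n : G) * x0 * (n : G)⁻¹ ∈ Subgroup.zpowers x0 := hx0 ▸ hmem0
  obtain ⟨k, hk⟩ := Cfsg.Agent.Lib.Helper16.DOSETUP.exists_pow_val hord hmem
  have hk0 : k ≠ 0 := by
    rintro rfl
    rw [ZMod.val_zero, pow_zero] at hk
    have h1 : x0 = 1 := conj_eq_one_iff.mp hk
    have hp := (Fact.out : p.Prime)
    rw [h1, orderOf_one] at hord
    exact hp.one_lt.ne' hord.symm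
  exact ⟨Units.mk0 k hk0, hk⟩

end Cfsg.Agent.Lib.Helper10.DOGRAMBase
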