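/-
helper10: DEFECT-ONE CLUSTER, Part O, ROUTE I (TI-induction) for GRAM / ORTH: the abstract core.

* `indFun_apply_of_TI'`          : on a TI-support `A` (with `g c g⁻¹ ∈ A → g ∈ N`) an induced function is a sum over `N`;
* `indFun_eq_zero_of_forall`     : an induced function vanishes where no conjugate meets the support;
* `classInner_indFun_indFun_of_TI`: `⟨Ind α, Ind β⟩ = |C|⁻¹ ∑_{n ∈ N} ⟨α^n, β⟩_C`;
* `sum_irr_classInner`           : bilinear Parseval;
* `classInner_res_eq`            : `⟨χ|_C, α⟩ = conj ⟨Ind α, χ⟩`.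
-/
import Mathlib
import Cfsg.Prelude.Def_Characters
import Cfsg.Agent.Lib.Helper10.IndFun
import Cfsg.Agent.Lib.Helper10.ConjChar
import Cfsg.Agent.Lib.Lead.CharMain
import Cfsg.Agent.Lib.Lead.CharInd

set_option autoImplicit false

namespace Cfsg.Agent.Lib.Helper10.DOGRAMCore

open Cfsg
open scoped ComplexConjugate

universe u

variable {G : Type u} [Group G] [Fintype G]

/-- the support of the zero-extension -/
theorem mem_of_extendByZero_ne_zero (C : Subgroup G) (A : Set G) (α : C → ℂ)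
    (hα : ∀ c : C, (c : G) ∉ A → α c = 0) {g : G} (h : extendByZero C α g ≠ 0) : g ∈ A := by
  by_contra hg
  apply h
  by_cases hgC : g ∈ C
  · rw [extendByZero_apply_mem C α hgC]
    exact hα ⟨g, hgC⟩ hg
  · exact extendByZero_apply_not_mem C α hgC

/-- on a TI-support an induced function is a sum over `N` -/
theorem indFun_apply_of_TI' (C N : Subgroup G) [Fintype N] (A : Set G)
    (hTI : ∀ c ∈ A, ∀ g : G, g * c * g⁻¹ ∈ A → g ∈ N)
    (α : C → ℂ) (hα : ∀ c : C, (c : G) ∉ A → α c = 0) (c : G) (hc : c ∈ A) :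
    indFun C α c =
      (Nat.card C : ℂ)⁻¹ * ∑ n : N, extendByZero C α ((n : G) * c * (n : G)⁻¹) := by
  classical
  unfold indFun
  congr 1
  -- reindex `x ↦ x⁻¹`
  have h1 : ∑ x : G, extendByZero C α (x⁻¹ * c * x) = ∑ g : G, extendByZero C α (g * c * g⁻¹) := by
    apply Fintype.sum_equiv (Equiv.inv G)
    intro x
    simp only [Equiv.inv_apply, inv_inv]
  rw [h1]
  have h2 : ∑ g : G, extendByZero C α (g * c * g⁻¹) =
      ∑ g ∈ Finset.univ.filter (fun g : G => g ∈ N), extendByZero C α (g * c * g⁻¹) := by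
    symm
    apply Finset.sum_subset (Finset.filter_subset _ _)
    intro g _ hg
    have hgN : g ∉ N := by simpa using hg
    by_contra hne
    exact hgN (hTI c hc g (mem_of_extendByZero_ne_zero C A α hα hne))
  rw [h2, Finset.sum_subtype (Finset.univ.filter (fun g : G => g ∈ N)) (p := fun g => g ∈ N)
    (by simp)]

/-- an induced function vanishes at `g` if no conjugate of `g` meets the support -/
theorem indFun_eq_zero_of_forall (C : Subgroup G) (A : Set G)
    (α : C → ℂ) (hα : ∀ c : C, (c : G) ∉ A → α c = 0) (g : G)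
    (hg : ∀ x : G, x⁻¹ * g * x ∉ A) : indFun C α g = 0 := by
  unfold indFun
  rw [Finset.sum_eq_zero, mul_zero]
  intro x _
  by_contra hne
  exact hg x (mem_of_extendByZero_ne_zero C A α hα hne)

/-- the TI inner product formula `⟨Ind α, Ind β⟩ = |C|⁻¹ ∑_{n ∈ N} ⟨α^n, β⟩_C` -/
theorem classInner_indFun_indFun_of_TI (C N : Subgroup G) [Fintype C] [Fintype N] (A : Set G)
    (hTI : ∀ c ∈ A, ∀ g : G, g * c * g⁻¹ ∈ A → g ∈ N)
    (α β : C → ℂ) (hα : ∀ c : C, (c : G) ∉ A → α c = 0) (hβ : ∀ c : C, (c : G) ∉ A → β c = 0) :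
    classInner (indFun C α) (indFun C β) =
      (Nat.card C : ℂ)⁻¹ * ∑ n : N,
        classInner (fun c : C => extendByZero C α ((n : G) * (c : G) * (n : G)⁻¹)) β := by
  classical
  rw [classInner_indFun_right C β _ (isClassFunction_indFun C α)]
  congr 1
  have h1 : ∀ c : C, indFun C α c * conj (β c) =
      ((Nat.card C : ℂ)⁻¹ * ∑ n : N, extendByZero C α ((n : G) * (c : G) * (n : G)⁻¹)) *
        conj (β c) := by
    intro c
    by_cases hc : (c : G) ∈ A
    · rw [indFun_apply_of_TI' C N A hTI α hα c hc]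
    · rw [hβ c hc, map_zero, mul_zero, mul_zero]
  rw [Finset.sum_congr rfl (fun c _ => h1 c)]
  unfold classInner
  simp only [Finset.mul_sum, Finset.sum_mul]
  rw [Finset.sum_comm]
  apply Finset.sum_congr rfl
  intro n _
  apply Finset.sum_congr rfl
  intro c _
  ring

/-- bilinear Parseval -/
theorem sum_irr_classInner [Fintype (IrrCharacter G)] {f : G → ℂ} (hf : IsClassFunction G f)
    (g : G → ℂ) :
    ∑ χ : IrrCharacter G, classInner f (χ : G → ℂ) * conj (classInner g (χ : G → ℂ)) =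
      classInner f g := by
  symm
  conv_lhs => arg 1; rw [Cfsg.Agent.CharLib.classFunction_eq_sum hf]
  rw [Cfsg.Agent.CharLib.classInner_sum_left]
  apply Finset.sum_congr rfl
  intro χ _
  rw [Cfsg.Agent.CharLib.classInner_smul_left, Cfsg.Agent.CharLib.classInner_conj_symm]

/-- `⟨χ|_C, α⟩_C = conj ⟨Ind α, χ⟩_G` -/
theorem classInner_res_eq (C : Subgroup G) [Fintype C] (α : C → ℂ) {χ : G → ℂ}
    (hχ : IsClassFunction G χ) :
    classInner (fun h : C => χ h) α = conj (classInner (indFun C α) χ) := by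
  rw [Cfsg.Agent.CharLib.frobenius_reciprocity C α hχ, Cfsg.Agent.CharLib.classInner_conj_symm]

end Cfsg.Agent.Lib.Helper10.DOGRAMCore
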