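/-
helper10: DEFECT-ONE CLUSTER, Part O, leaves GRAM `gram_main` and ORTH `orth_main` by ROUTE I
(TI-induction from `C = C_G(P)`), in `_of` form over the cited leaves (bundled in `Leaves`):
LOC1, LOC2 (three clauses), CONJ (`isIrrCharacter_conjC`, `hasIdx_conjC`, `pTriv_conjC`, `mem_blockOf_conjC`),
MULT (`muZ_cast`), OFF (`muZ_off`).  TI (helper29) and INERT (helper16) are cited from their landed modules.

`α_i := φ_i − θ` (`φ_i` = the member of the block of `θ` with central index `i`) is supported on the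
`p`-singular elements of `C`, a TI-set with normalizer `N`; `Φ_i := Ind_C^G α_i`;
`a χ i = ⟨Φ_i, χ⟩`; `∑_χ a χ i a χ j = ⟨Φ_i, Φ_j⟩ = |C|⁻¹ ∑_{n ∈ N} ⟨α_i^n, α_j⟩_C`.
-/
import Mathlib
import Cfsg.Prelude.Def_BlockRank
import Cfsg.Agent.Lib.Helper27.DODefs
import Cfsg.Agent.Lib.Helper27.BlkAlgDefs2
import Cfsg.Agent.Lib.Helper10.DOGRAMCore
import Cfsg.Agent.Lib.Helper10.DOGRAMBase
import Cfsg.Agent.Lib.Helper6.FirstMain
import Cfsg.Agent.Lib.Helper16.DOINERT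
import Cfsg.Agent.Lib.Helper19.DOINV

set_option autoImplicit false

namespace Cfsg.Agent.Lib.Helper10.DOGRAMof

open Cfsg Cfsg.Agent.Lib.Helper8.DOM Cfsg.Agent.Lib.Helper27.DO Cfsg.Agent.Lib.Helper27.BlkAlg
open Cfsg.Agent.Lib.Helper10.DOGRAMCore Cfsg.Agent.Lib.Helper10.DOGRAMBase
open scoped ComplexConjugate

universe u

variable {G : Type u} [Group G] {p : ℕ} [Fact p.Prime] {M : Ideal AlgInt}
  {P : Subgroup G} {B : Set (IrrCharacter G)} {θ : IrrCharacter (Cz P)} {T : Subgroup G} {x0 : G}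

/-- the cited leaves -/
structure Leaves (p : ℕ) (M : Ideal AlgInt) (P : Subgroup G) (B : Set (IrrCharacter G))
    (θ : IrrCharacter (Cz P)) (x0 : G) : Prop where
  loc1 : ∀ φ : IrrCharacter (Cz P), ∃! i : ZMod p, HasIdx p P x0 (φ : Cz P → ℂ) i
  hL : ∀ i : ZMod p, ∃! φ : IrrCharacter (Cz P),
    φ ∈ blockOf M (θ : Cz P → ℂ) ∧ HasIdx p P x0 (φ : Cz P → ℂ) i
  hL2 : ∀ φ ∈ blockOf M (θ : Cz P → ℂ), ∀ y : Cz P, ¬ p ∣ orderOf y →
    (φ : Cz P → ℂ) y = (θ : Cz P → ℂ) y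
  hL3 : ∀ φ ∈ blockOf M (θ : Cz P → ℂ), PTriv P (φ : Cz P → ℂ) → φ = θ
  hirr : ∀ (n : Nz P) (φ : IrrCharacter (Cz P)), IsIrrCharacter (Cz P) (conjC P n (φ : Cz P → ℂ))
  hidx : ∀ (n : Nz P) (u : (ZMod p)ˣ),
    (n : G) * x0 * (n : G)⁻¹ = x0 ^ (u : ZMod p).val → ∀ (φ : Cz P → ℂ) (i : ZMod p),
    HasIdx p P x0 φ i → HasIdx p P x0 (conjC P n φ) ((u : ZMod p) * i)
  hptriv : ∀ (n : Nz P) (φ : Cz P → ℂ), PTriv P φ → PTriv P (conjC P n φ)
  hblk : ∀ (n : Nz P) (φ φ' : IrrCharacter (Cz P)), φ' ∈ blockOf M (φ : Cz P → ℂ) →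
    (⟨conjC P n (φ' : Cz P → ℂ), hirr n φ'⟩ : IrrCharacter (Cz P)) ∈
      blockOf M (conjC P n (φ : Cz P → ℂ))
  hcast : ∀ (χ : IrrCharacter G) (i : ZMod p),
    ((muZ p M P θ x0 χ i : ℤ) : ℂ) = muC p M P θ x0 χ i
  hoff : ∀ χ : IrrCharacter G, χ ∉ B → ∀ i : ZMod p, muZ p M P θ x0 χ i = muZ p M P θ x0 χ 0

section local_

variable (L : Leaves p M P B θ x0)
include L

/-- the member of the block of `θ` with central index `i` -/
noncomputable def phi (i : ZMod p) : IrrCharacter (Cz P) := (L.hL i).choose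

theorem phi_mem (i : ZMod p) : phi L i ∈ blockOf M (θ : Cz P → ℂ) := (L.hL i).choose_spec.1.1

theorem phi_idx (i : ZMod p) : HasIdx p P x0 (phi L i : Cz P → ℂ) i := (L.hL i).choose_spec.1.2

theorem phi_uniq (i : ZMod p) (φ : IrrCharacter (Cz P)) (h1 : φ ∈ blockOf M (θ : Cz P → ℂ))
    (h2 : HasIdx p P x0 (φ : Cz P → ℂ) i) : φ = phi L i := (L.hL i).choose_spec.2 φ ⟨h1, h2⟩

/-- a `P`-trivial irreducible character has index `0` -/
theorem hasIdx_zero [Finite G] (hgen : P = Subgroup.zpowers x0) (ψ : IrrCharacter (Cz P))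
    (hψ : PTriv P (ψ : Cz P → ℂ)) : HasIdx p P x0 (ψ : Cz P → ℂ) 0 := by
  obtain ⟨i, hi, -⟩ := L.loc1 ψ
  have := hasIdx_zero_of_pTriv P x0 hgen (ψ : Cz P → ℂ) ψ.2 hψ i hi
  rwa [this] at hi

/-- the index is unique -/
theorem idx_unique (ψ : IrrCharacter (Cz P)) {i j : ZMod p}
    (hi : HasIdx p P x0 (ψ : Cz P → ℂ) i) (hj : HasIdx p P x0 (ψ : Cz P → ℂ) j) : i = j := by
  obtain ⟨k, -, hk⟩ := L.loc1 ψ
  rw [hk i hi, hk j hj]

theorem phi_zero [Finite G] (c : Ctx p M P B θ T x0) : phi L 0 = θ := by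
  haveI : M.IsPrime := c.hM.2.1.isPrime
  exact (phi_uniq L 0 θ (Cfsg.Agent.Lib.Helper6.mem_blockOf_self θ)
    (hasIdx_zero L c.gen θ c.hθP)).symm

end local_

section count

open scoped Classical

variable [Fintype G]

/-- the exponent of `n ∈ N_G(P)` on `x0` -/
noncomputable def uu (hP : Nat.card P = p) (hgen : P = Subgroup.zpowers x0) (n : Nz P) :
    (ZMod p)ˣ :=
  (exists_unit_conj P hP x0 hgen n).choose

theorem uu_spec (hP : Nat.card P = p) (hgen : P = Subgroup.zpowers x0) (n : Nz P) :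
    (n : G) * x0 * (n : G)⁻¹ = x0 ^ ((uu hP hgen n : (ZMod p)ˣ) : ZMod p).val :=
  (exists_unit_conj P hP x0 hgen n).choose_spec

theorem orderOf_x0 (hP : Nat.card P = p) (hgen : P = Subgroup.zpowers x0) : orderOf x0 = p := by
  rw [← Nat.card_zpowers, ← hgen, hP]

/-- the exponent is determined by the conjugate -/
theorem uu_eq_of (hP : Nat.card P = p) (hgen : P = Subgroup.zpowers x0) (n : Nz P)
    (w : (ZMod p)ˣ) (h : (n : G) * x0 * (n : G)⁻¹ = x0 ^ (w : ZMod p).val) : uu hP hgen n = w := by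
  have h1 := uu_spec hP hgen n
  rw [h] at h1
  exact (Units.ext (Cfsg.Agent.Lib.Helper16.DOSETUP.pow_val_injective (orderOf_x0 hP hgen) h1)).symm

theorem card_filter_T (hTN : T ≤ Nz P) :
    (Finset.univ.filter (fun n : Nz P => (n : G) ∈ T)).card = Nat.card T := by
  rw [Nat.card_eq_fintype_card, ← Fintype.card_subtype]
  apply Fintype.card_congr
  exact
    { toFun := fun n => ⟨(n.1 : G), n.2⟩
      invFun := fun t => ⟨⟨(t : G), hTN t.2⟩, t.2⟩
      left_inv := fun n => rfl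
      right_inv := fun t => rfl }

/-- an element commuting with `x0` centralizes `P` -/
theorem mem_Cz_of_comm (hgen : P = Subgroup.zpowers x0) {g : G} (h : g * x0 * g⁻¹ = x0) :
    g ∈ Cz P := by
  rw [Subgroup.mem_centralizer_iff]
  intro w hw
  rw [SetLike.mem_coe, hgen] at hw
  obtain ⟨k, rfl⟩ := Subgroup.mem_zpowers_iff.mp hw
  have h1 : Commute x0 g := by
    unfold Commute SemiconjBy
    calc x0 * g = (g * x0 * g⁻¹) * g := by rw [h]
      _ = g * x0 := by group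
  exact (h1.zpow_left k).eq

theorem card_filter_u (hP : Nat.card P = p) (hgen : P = Subgroup.zpowers x0) (hCT : Cz P ≤ T)
    (hTN : T ≤ Nz P) (w : (ZMod p)ˣ) (n₀ : G) (hn₀ : n₀ ∈ T)
    (hw : n₀ * x0 * n₀⁻¹ = x0 ^ (w : ZMod p).val) :
    (Finset.univ.filter (fun n : Nz P => (n : G) ∈ T ∧ uu hP hgen n = w)).card =
      Nat.card (Cz P) := by
  have hx0C : x0 ∈ Cz P := x0_mem_Cz P x0 hgen
  let f : Cz P → Nz P := fun c => ⟨n₀ * (c : G), hTN (T.mul_mem hn₀ (hCT c.2))⟩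
  have hf : Function.Injective f := by
    intro a b hab
    have := congrArg (fun z : Nz P => (z : G)) hab
    exact Subtype.ext (mul_left_cancel this)
  have himg : Finset.univ.filter (fun n : Nz P => (n : G) ∈ T ∧ uu hP hgen n = w) =
      Finset.univ.image f := by
    ext n
    rw [Finset.mem_filter, Finset.mem_image]
    constructor
    · rintro ⟨-, hnT, hnu⟩
      have h1 := uu_spec hP hgen n
      rw [hnu] at h1
      have h2 : (n₀⁻¹ * (n : G)) * x0 * (n₀⁻¹ * (n : G))⁻¹ = x0 := by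
        calc (n₀⁻¹ * (n : G)) * x0 * (n₀⁻¹ * (n : G))⁻¹
            = n₀⁻¹ * ((n : G) * x0 * (n : G)⁻¹) * n₀ := by group
          _ = n₀⁻¹ * (n₀ * x0 * n₀⁻¹) * n₀ := by rw [h1, hw]
          _ = x0 := by group
      refine ⟨⟨n₀⁻¹ * (n : G), mem_Cz_of_comm hgen h2⟩, Finset.mem_univ _, ?_⟩
      apply Subtype.ext
      show n₀ * (n₀⁻¹ * (n : G)) = (n : G)
      group
    · rintro ⟨c, -, rfl⟩
      refine ⟨Finset.mem_univ _, T.mul_mem hn₀ (hCT c.2), ?_⟩
      apply uu_eq_of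
      have hc : (c : G) * x0 * (c : G)⁻¹ = x0 := by
        have := (Subgroup.mem_centralizer_iff.mp c.2) x0 (by
          rw [SetLike.mem_coe, hgen]; exact Subgroup.mem_zpowers x0)
        calc (c : G) * x0 * (c : G)⁻¹ = (x0 * (c : G)) * (c : G)⁻¹ := by rw [this]
          _ = x0 := by group
      show n₀ * (c : G) * x0 * (n₀ * (c : G))⁻¹ = x0 ^ (w : ZMod p).val
      calc n₀ * (c : G) * x0 * (n₀ * (c : G))⁻¹ = n₀ * ((c : G) * x0 * (c : G)⁻¹) * n₀⁻¹ := by group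
        _ = x0 ^ (w : ZMod p).val := by rw [hc, hw]
  rw [himg, Finset.card_image_of_injective _ hf, Finset.card_univ, Nat.card_eq_fintype_card]

end count

section main

open scoped Classical

variable [Fintype G] [Fintype (IrrCharacter G)] (L : Leaves p M P B θ x0)
include L

/-- `α_i = φ_i − θ` -/
noncomputable def alpha (i : ZMod p) : Cz P → ℂ := (phi L i : Cz P → ℂ) - (θ : Cz P → ℂ)

/-- `Φ_i = Ind_C^G α_i` -/
noncomputable def Phi (i : ZMod p) : G → ℂ := indFun (Cz P) (alpha L i)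

/-- the support: the `p`-singular elements of `C` -/
def sing (p : ℕ) (P : Subgroup G) : Set G := {g : G | g ∈ Cz P ∧ p ∣ orderOf g}

theorem alpha_support (i : ZMod p) (c : Cz P) (hc : (c : G) ∉ sing p P) : alpha L i c = 0 := by
  have h1 : ¬ p ∣ orderOf (c : G) := fun h => hc ⟨c.2, h⟩
  rw [Subgroup.orderOf_coe] at h1
  unfold alpha
  rw [Pi.sub_apply, L.hL2 (phi L i) (phi_mem L i) c h1, sub_self]

theorem muZ_cast_mult (χ : IrrCharacter G) (i : ZMod p) :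
    ((muZ p M P θ x0 χ i : ℤ) : ℂ) = mult (Cz P) (χ : G → ℂ) (phi L i : Cz P → ℂ) := by
  rw [L.hcast]
  exact Cfsg.Agent.Lib.Helper19.DOINV.muC_eq_mult_of_unique χ i (phi L i)
    ⟨phi_mem L i, phi_idx L i⟩ (fun φ' h => phi_uniq L i φ' h.1 h.2)

/-- `a χ i = ⟨Φ_i, χ⟩` -/
theorem a_eq_classInner (c : Ctx p M P B θ T x0) (χ : IrrCharacter G) (i : ZMod p) :
    (((muZ p M P θ x0 χ i - muZ p M P θ x0 χ 0 : ℤ)) : ℂ) = classInner (Phi L i) (χ : G → ℂ) := by
  have hχ : IsClassFunction G (χ : G → ℂ) :=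
    Cfsg.Agent.CharLib.IsCharacter.isClassFunction (Cfsg.Agent.CharLib.IsIrrCharacter.isCharacter χ.2)
  have h1 : (((muZ p M P θ x0 χ i - muZ p M P θ x0 χ 0 : ℤ)) : ℂ) =
      conj (classInner (Phi L i) (χ : G → ℂ)) := by
    rw [Int.cast_sub, muZ_cast_mult L χ i, muZ_cast_mult L χ 0, phi_zero L c,
      mult_eq_classInner, mult_eq_classInner, ← Cfsg.Agent.Lib.Helper10.classInner_sub_right]
    exact classInner_res_eq (Cz P) (alpha L i) hχ
  have h2 := congrArg conj h1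
  rw [Complex.conj_conj, map_intCast] at h2
  exact h2

/-- Parseval: `∑_χ a χ i a χ j = ⟨Φ_i, Φ_j⟩` -/
theorem sum_a_mul_a (c : Ctx p M P B θ T x0) (i j : ZMod p) :
    ∑ χ : IrrCharacter G, (((muZ p M P θ x0 χ i - muZ p M P θ x0 χ 0 : ℤ)) : ℂ) *
      (((muZ p M P θ x0 χ j - muZ p M P θ x0 χ 0 : ℤ)) : ℂ) =
      classInner (Phi L i) (Phi L j) := by
  have hcf : IsClassFunction G (Phi L i) := isClassFunction_indFun (Cz P) (alpha L i)
  rw [← sum_irr_classInner hcf (Phi L j)]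
  apply Finset.sum_congr rfl
  intro χ _
  rw [a_eq_classInner L c χ i]
  congr 1
  have := a_eq_classInner L c χ j
  rw [← this, map_intCast]

/-- the TI formula for `⟨Φ_i, Φ_j⟩` -/
theorem classInner_Phi_Phi (c : Ctx p M P B θ T x0) (i j : ZMod p) :
    classInner (Phi L i) (Phi L j) = (Nat.card (Cz P) : ℂ)⁻¹ *
      ∑ n : Nz P, classInner (conjC P n (alpha L i)) (alpha L j) := by
  unfold Phi
  rw [classInner_indFun_indFun_of_TI (Cz P) (Nz P) (sing p P) (singular_TI P c.hP c.hSyl)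
    (alpha L i) (alpha L j) (alpha_support L i) (alpha_support L j)]
  congr 1
  apply Finset.sum_congr rfl
  intro n _
  congr 1
  funext x
  rw [extendByZero_apply_mem _ _ (conj_mem_Cz P n.2 x.2)]
  rfl

/-- `θ^n = θ ↔ n ∈ T` -/
theorem conjC_theta_eq_iff (c : Ctx p M P B θ T x0) (n : Nz P) :
    conjC P n (θ : Cz P → ℂ) = (θ : Cz P → ℂ) ↔ (n : G) ∈ T := by
  rw [c.hT (n : G)]
  constructor
  · intro h
    refine ⟨n.2, ?_⟩
    intro x x' hx
    have h1 := congrFun h x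
    have h2 : x' = ⟨(n : G) * (x : G) * (n : G)⁻¹, conj_mem_Cz P n.2 x.2⟩ := Subtype.ext hx
    rw [h2]
    exact h1
  · rintro ⟨-, h⟩
    funext x
    unfold conjC
    exact h x _ rfl

/-- `φ_i^n ≠ θ` for a unit `i` -/
theorem conjC_phi_ne_theta (c : Ctx p M P B θ T x0) (n : Nz P) (u : (ZMod p)ˣ)
    (hu : (n : G) * x0 * (n : G)⁻¹ = x0 ^ (u : ZMod p).val) (i : (ZMod p)ˣ) :
    conjC P n (phi L i : Cz P → ℂ) ≠ (θ : Cz P → ℂ) := by
  intro h
  have h1 := L.hidx n u hu (phi L i : Cz P → ℂ) i (phi_idx L i)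
  rw [h] at h1
  have h2 := hasIdx_zero L c.gen θ c.hθP
  have h3 := idx_unique L θ h1 h2
  have h4 : ((u * i : (ZMod p)ˣ) : ZMod p) = 0 := by rw [Units.val_mul]; exact h3
  exact Units.ne_zero _ h4

/-- `θ^n ≠ φ_j` for a unit `j` -/
theorem conjC_theta_ne_phi (c : Ctx p M P B θ T x0) (n : Nz P) (j : (ZMod p)ˣ) :
    conjC P n (θ : Cz P → ℂ) ≠ (phi L j : Cz P → ℂ) := by
  intro h
  have h1 : HasIdx p P x0 ((⟨conjC P n (θ : Cz P → ℂ), L.hirr n θ⟩ : IrrCharacter (Cz P)) :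
      Cz P → ℂ) 0 :=
    hasIdx_zero L c.gen ⟨conjC P n (θ : Cz P → ℂ), L.hirr n θ⟩ (L.hptriv n _ c.hθP)
  have h2 : HasIdx p P x0 (phi L j : Cz P → ℂ) 0 := by
    rw [← h]; exact h1
  have h3 := idx_unique L (phi L j) h2 (phi_idx L j)
  exact Units.ne_zero j h3.symm

/-- `φ_i^n = φ_j ↔ n ∈ T ∧ u i = j` -/
theorem conjC_phi_eq_iff (c : Ctx p M P B θ T x0) (n : Nz P) (u : (ZMod p)ˣ)
    (hu : (n : G) * x0 * (n : G)⁻¹ = x0 ^ (u : ZMod p).val) (i j : ZMod p) :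
    conjC P n (phi L i : Cz P → ℂ) = (phi L j : Cz P → ℂ) ↔
      ((n : G) ∈ T ∧ (u : ZMod p) * i = j) := by
  haveI : M.IsPrime := c.hM.2.1.isPrime
  have hidx := L.hidx n u hu (phi L i : Cz P → ℂ) i (phi_idx L i)
  have hblk := L.hblk n θ (phi L i) (phi_mem L i)
  constructor
  · intro h
    have hψ : (⟨conjC P n (phi L i : Cz P → ℂ), L.hirr n (phi L i)⟩ : IrrCharacter (Cz P)) =
        phi L j := Subtype.ext h
    rw [hψ] at hblk
    -- the blocks of `θ^n` and `θ` share `φ_j`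
    have hB1 : IsPBlock M (blockOf M (conjC P n (θ : Cz P → ℂ))) :=
      ⟨⟨conjC P n (θ : Cz P → ℂ), L.hirr n θ⟩, rfl⟩
    have hB2 : IsPBlock M (blockOf M (θ : Cz P → ℂ)) := ⟨θ, rfl⟩
    have hBeq := Cfsg.Agent.Lib.Helper6.isPBlock_eq_of_mem hB1 hB2 hblk (phi_mem L j)
    have hθn : (⟨conjC P n (θ : Cz P → ℂ), L.hirr n θ⟩ : IrrCharacter (Cz P)) ∈
        blockOf M (θ : Cz P → ℂ) := by
      rw [← hBeq]
      exact Cfsg.Agent.Lib.Helper6.mem_blockOf_self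
        (⟨conjC P n (θ : Cz P → ℂ), L.hirr n θ⟩ : IrrCharacter (Cz P))
    have hθeq := L.hL3 _ hθn (L.hptriv n _ c.hθP)
    have hθfun : conjC P n (θ : Cz P → ℂ) = (θ : Cz P → ℂ) := congrArg Subtype.val hθeq
    refine ⟨(conjC_theta_eq_iff L c n).mp hθfun, ?_⟩
    rw [h] at hidx
    exact idx_unique L (phi L j) hidx (phi_idx L j)
  · rintro ⟨hT, hij⟩
    have hθfun := (conjC_theta_eq_iff L c n).mpr hT
    rw [hθfun] at hblk
    rw [hij] at hidx
    exact congrArg Subtype.val (phi_uniq L j _ hblk hidx)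

/-- the local inner products -/
theorem classInner_conjC_alpha (c : Ctx p M P B θ T x0) (n : Nz P) (u : (ZMod p)ˣ)
    (hu : (n : G) * x0 * (n : G)⁻¹ = x0 ^ (u : ZMod p).val) (i j : (ZMod p)ˣ) :
    classInner (conjC P n (alpha L i)) (alpha L j) =
      (if ((n : G) ∈ T ∧ (u : ZMod p) * i = j) then (1 : ℂ) else 0) +
        (if (n : G) ∈ T then (1 : ℂ) else 0) := by
  have e1 : conjC P n (alpha L i) =
      conjC P n (phi L i : Cz P → ℂ) - conjC P n (θ : Cz P → ℂ) := by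
    funext x; rfl
  rw [e1]
  unfold alpha
  rw [Cfsg.Agent.CharLib.classInner_sub_left, Cfsg.Agent.Lib.Helper10.classInner_sub_right,
    Cfsg.Agent.Lib.Helper10.classInner_sub_right,
    Cfsg.Agent.CharLib.classInner_irr (L.hirr n (phi L i)) (phi L j).2,
    Cfsg.Agent.CharLib.classInner_irr (L.hirr n (phi L i)) θ.2,
    Cfsg.Agent.CharLib.classInner_irr (L.hirr n θ) (phi L j).2,
    Cfsg.Agent.CharLib.classInner_irr (L.hirr n θ) θ.2,
    if_neg (conjC_phi_ne_theta L c n u hu i), if_neg (conjC_theta_ne_phi L c n j),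
    if_congr (conjC_phi_eq_iff L c n u hu i j) rfl rfl,
    if_congr (conjC_theta_eq_iff L c n) rfl rfl]
  ring

/-- the Gram matrix, complex form over all irreducible characters -/
theorem gram_complex (c : Ctx p M P B θ T x0) (E : Subgroup (ZMod p)ˣ)
    (hE : ∀ u : (ZMod p)ˣ, u ∈ E ↔ ∃ n ∈ T, n * x0 * n⁻¹ = x0 ^ (u : ZMod p).val)
    (hcard : Nat.card E = (Cz P).relIndex T) (i j : (ZMod p)ˣ) :
    ∑ χ : IrrCharacter G, (((muZ p M P θ x0 χ i - muZ p M P θ x0 χ 0 : ℤ)) : ℂ) *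
      (((muZ p M P θ x0 χ j - muZ p M P θ x0 χ 0 : ℤ)) : ℂ) =
      (if j * i⁻¹ ∈ E then (1 : ℂ) else 0) + (Nat.card E : ℂ) := by
  obtain ⟨hCT, hTN⟩ := Cfsg.Agent.Lib.Helper16.DOINERT.le_of_isInertia P θ T c.hT
  rw [sum_a_mul_a L c, classInner_Phi_Phi L c]
  have h1 : ∀ n : Nz P, classInner (conjC P n (alpha L i)) (alpha L j) =
      (if ((n : G) ∈ T ∧ uu c.hP c.gen n = j * i⁻¹) then (1 : ℂ) else 0) +
        (if (n : G) ∈ T then (1 : ℂ) else 0) := by
    intro n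
    rw [classInner_conjC_alpha L c n (uu c.hP c.gen n) (uu_spec c.hP c.gen n) i j]
    congr 1
    apply if_congr _ rfl rfl
    constructor
    · rintro ⟨h, h'⟩
      refine ⟨h, ?_⟩
      apply Units.ext
      rw [Units.val_mul, ← h']
      rw [mul_assoc, ← Units.val_mul, mul_inv_cancel, Units.val_one, mul_one]
    · rintro ⟨h, h'⟩
      refine ⟨h, ?_⟩
      rw [h', Units.val_mul, mul_assoc, ← Units.val_mul, inv_mul_cancel, Units.val_one, mul_one]
  rw [Finset.sum_congr rfl (fun n _ => h1 n), Finset.sum_add_distrib, Finset.sum_boole,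
    Finset.sum_boole, card_filter_T hTN]
  have hC0 : (Nat.card (Cz P) : ℂ) ≠ 0 := Nat.cast_ne_zero.mpr Nat.card_pos.ne'
  have hTcard : (Nat.card T : ℂ) = (Nat.card (Cz P) : ℂ) * (Nat.card E : ℂ) := by
    have h := Subgroup.relIndex_mul_relIndex ⊥ (Cz P) T bot_le hCT
    rw [Subgroup.relIndex_bot_left, Subgroup.relIndex_bot_left, ← hcard] at h
    rw [← h, Nat.cast_mul]
  by_cases hw : j * i⁻¹ ∈ E
  · obtain ⟨n₀, hn₀, hn₀w⟩ := (hE _).mp hw
    rw [card_filter_u c.hP c.gen hCT hTN (j * i⁻¹) n₀ hn₀ hn₀w, if_pos hw, hTcard]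
    field_simp
  · have hempty : Finset.univ.filter
        (fun n : Nz P => (n : G) ∈ T ∧ uu c.hP c.gen n = j * i⁻¹) = ∅ := by
      rw [Finset.filter_eq_empty_iff]
      rintro n - ⟨hnT, hnu⟩
      apply hw
      rw [hE]
      refine ⟨(n : G), hnT, ?_⟩
      rw [← hnu]
      exact uu_spec c.hP c.gen n
    rw [hempty, Finset.card_empty, if_neg hw, hTcard]
    field_simp
    ring

/-- the columns vanish off `B` -/
theorem a_eq_zero_of_not_mem (χ : IrrCharacter G) (hχ : χ ∉ B) (i : ZMod p) :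
    muZ p M P θ x0 χ i - muZ p M P θ x0 χ 0 = 0 := by
  rw [L.hoff χ hχ i, sub_self]

end main

section final

variable [Finite G]

/-- a `finsum` over a set of a function vanishing off the set -/
theorem finsum_mem_eq_sum' {α : Type*} [Fintype α] {R : Type*} [AddCommMonoid R] (s : Set α)
    (f : α → R) (h : ∀ a, a ∉ s → f a = 0) : ∑ᶠ a ∈ s, f a = ∑ a, f a := by
  classical
  rw [finsum_mem_def, finsum_eq_sum_of_fintype]
  apply Finset.sum_congr rfl
  intro a _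
  by_cases ha : a ∈ s
  · rw [Set.indicator_of_mem ha]
  · rw [Set.indicator_of_notMem ha, h a ha]

/-- GRAM in `_of` form -/
theorem gram_main_of (c : Ctx p M P B θ T x0) (L : Leaves p M P B θ x0) (E : Subgroup (ZMod p)ˣ)
    (hE : ∀ u : (ZMod p)ˣ, u ∈ E ↔ ∃ n ∈ T, n * x0 * n⁻¹ = x0 ^ (u : ZMod p).val)
    (hcard : Nat.card E = (Cz P).relIndex T) (i j : (ZMod p)ˣ) :
    (i * j⁻¹ ∈ E → ∑ᶠ χ ∈ B, (muZ p M P θ x0 χ i - muZ p M P θ x0 χ 0) *
      (muZ p M P θ x0 χ j - muZ p M P θ x0 χ 0) = (Nat.card E : ℤ) + 1) ∧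
    (i * j⁻¹ ∉ E → ∑ᶠ χ ∈ B, (muZ p M P θ x0 χ i - muZ p M P θ x0 χ 0) *
      (muZ p M P θ x0 χ j - muZ p M P θ x0 χ 0) = (Nat.card E : ℤ)) := by
  classical
  letI : Fintype G := Fintype.ofFinite G
  letI : Fintype (IrrCharacter G) := Fintype.ofFinite _
  have hsum : ∑ᶠ χ ∈ B, (muZ p M P θ x0 χ i - muZ p M P θ x0 χ 0) *
      (muZ p M P θ x0 χ j - muZ p M P θ x0 χ 0) =
      ∑ χ : IrrCharacter G, (muZ p M P θ x0 χ i - muZ p M P θ x0 χ 0) *
        (muZ p M P θ x0 χ j - muZ p M P θ x0 χ 0) := by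
    apply finsum_mem_eq_sum'
    intro χ hχ
    rw [a_eq_zero_of_not_mem L χ hχ i, zero_mul]
  have hcx := gram_complex L c E hE hcard i j
  have hiff : j * i⁻¹ ∈ E ↔ i * j⁻¹ ∈ E := by
    have : j * i⁻¹ = (i * j⁻¹)⁻¹ := by group
    rw [this, inv_mem_iff]
  rw [hsum]
  constructor
  · intro h
    rw [if_pos (hiff.mpr h)] at hcx
    have : ((∑ χ : IrrCharacter G, (muZ p M P θ x0 χ i - muZ p M P θ x0 χ 0) *
        (muZ p M P θ x0 χ j - muZ p M P θ x0 χ 0) : ℤ) : ℂ) = (((Nat.card E : ℤ) + 1 : ℤ) : ℂ) := by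
      rw [Int.cast_sum]
      simp only [Int.cast_mul]
      rw [hcx]
      push_cast
      ring
    exact_mod_cast this
  · intro h
    rw [if_neg (fun h' => h (hiff.mp h'))] at hcx
    have : ((∑ χ : IrrCharacter G, (muZ p M P θ x0 χ i - muZ p M P θ x0 χ 0) *
        (muZ p M P θ x0 χ j - muZ p M P θ x0 χ 0) : ℤ) : ℂ) = (((Nat.card E : ℤ) : ℤ) : ℂ) := by
      rw [Int.cast_sum]
      simp only [Int.cast_mul]
      rw [hcx]
      push_cast
      ring
    exact_mod_cast this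

/-- ORTH in `_of` form -/
theorem orth_main_of (c : Ctx p M P B θ T x0) (L : Leaves p M P B θ x0) (i : (ZMod p)ˣ) (g : G)
    (hg : ¬ p ∣ orderOf g) :
    ∑ᶠ χ ∈ B, ((muZ p M P θ x0 χ i - muZ p M P θ x0 χ 0 : ℤ) : ℂ) * (χ : G → ℂ) g = 0 := by
  classical
  letI : Fintype G := Fintype.ofFinite G
  letI : Fintype (IrrCharacter G) := Fintype.ofFinite _
  have hsum : ∑ᶠ χ ∈ B, ((muZ p M P θ x0 χ i - muZ p M P θ x0 χ 0 : ℤ) : ℂ) * (χ : G → ℂ) g =
      ∑ χ : IrrCharacter G, ((muZ p M P θ x0 χ i - muZ p M P θ x0 χ 0 : ℤ) : ℂ) *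
        (χ : G → ℂ) g := by
    apply finsum_mem_eq_sum'
    intro χ hχ
    rw [a_eq_zero_of_not_mem L χ hχ i, Int.cast_zero, zero_mul]
  rw [hsum]
  -- `Φ_i = ∑_χ a χ i χ` and `Φ_i (g) = 0`
  have hcf : IsClassFunction G (Phi L i) := isClassFunction_indFun (Cz P) (alpha L i)
  have hexp := congrFun (Cfsg.Agent.CharLib.classFunction_eq_sum hcf) g
  have hzero : Phi L i g = 0 := by
    apply indFun_eq_zero_of_forall (Cz P) (sing p P) (alpha L i) (alpha_support L i) g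
    rintro x ⟨-, hx⟩
    apply hg
    have h1 : orderOf (x⁻¹ * g * x) = orderOf g := by
      have := (MulAut.conj x⁻¹).orderOf_eq g
      rwa [MulAut.conj_apply, inv_inv] at this
    rwa [h1] at hx
  rw [hzero] at hexp
  rw [hexp, Finset.sum_apply]
  apply Finset.sum_congr rfl
  intro χ _
  rw [Pi.smul_apply, smul_eq_mul, a_eq_classInner L c χ i]

end final

end Cfsg.Agent.Lib.Helper10.DOGRAMof
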