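import Mathlib
import Cfsg.Prelude.Def_Characters
import Cfsg.Prelude.Def_OddOrderChar
import Cfsg.Agent.Lib.Lead.CharMain
import Cfsg.Agent.Lib.Helper10.IndFun
import Cfsg.Agent.Lib.Helper10.IrrOrtho
import Cfsg.Agent.Lib.Helper10.GenChar

/-! Tools for coherence arguments (`Cfsg.IsCoherent`, `Cfsg.IsLinearIsometryOn`, `Cfsg.zspan`):
closure properties of generalized characters, orthonormal expansions in ℤ-spans, construction of linear
isometries from orthonormal families of generalized characters. -/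

namespace Cfsg.Agent.Lib.Helper10
open Cfsg Cfsg.Agent.CharLib
open scoped ComplexConjugate

section closure
variable {G : Type*} [Group G]

theorem genChar_zero : IsGeneralizedCharacter G (0 : G → ℂ) :=
  ⟨0, 0, isCharacter_zero, isCharacter_zero, by simp⟩

theorem genChar_add {f g : G → ℂ} (hf : IsGeneralizedCharacter G f)
    (hg : IsGeneralizedCharacter G g) : IsGeneralizedCharacter G (f + g) := by
  obtain ⟨a, b, ha, hb, rfl⟩ := hf
  obtain ⟨c, d, hc, hd, rfl⟩ := hg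
  exact ⟨a + c, b + d, IsCharacter.add ha hc, IsCharacter.add hb hd, by abel⟩

theorem genChar_neg {f : G → ℂ} (hf : IsGeneralizedCharacter G f) :
    IsGeneralizedCharacter G (-f) := by
  obtain ⟨a, b, ha, hb, rfl⟩ := hf
  exact ⟨b, a, hb, ha, by abel⟩

theorem genChar_sub {f g : G → ℂ} (hf : IsGeneralizedCharacter G f)
    (hg : IsGeneralizedCharacter G g) : IsGeneralizedCharacter G (f - g) := by
  rw [sub_eq_add_neg]
  exact genChar_add hf (genChar_neg hg)

theorem genChar_nsmul {f : G → ℂ} (hf : IsGeneralizedCharacter G f) (n : ℕ) :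
    IsGeneralizedCharacter G (n • f) := by
  induction n with
  | zero => rw [zero_smul]; exact genChar_zero
  | succ n ih => rw [succ_nsmul]; exact genChar_add ih hf

theorem genChar_zsmul {f : G → ℂ} (hf : IsGeneralizedCharacter G f) (n : ℤ) :
    IsGeneralizedCharacter G (n • f) := by
  obtain ⟨m, rfl | rfl⟩ := Int.eq_nat_or_neg n
  · rw [natCast_zsmul]; exact genChar_nsmul hf m
  · rw [neg_smul, natCast_zsmul]; exact genChar_neg (genChar_nsmul hf m)

theorem genChar_sum {ι : Type*} (s : Finset ι) {f : ι → G → ℂ}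
    (h : ∀ i ∈ s, IsGeneralizedCharacter G (f i)) : IsGeneralizedCharacter G (∑ i ∈ s, f i) := by
  classical
  induction s using Finset.induction_on with
  | empty => simpa using genChar_zero
  | insert a s ha ih =>
    rw [Finset.sum_insert ha]
    exact genChar_add (h a (Finset.mem_insert_self a s))
      (ih (fun i hi => h i (Finset.mem_insert_of_mem hi)))

theorem genChar_inner_int [Fintype G] {θ φ : G → ℂ} (hθ : IsGeneralizedCharacter G θ)
    (hφ : IsGeneralizedCharacter G φ) : ∃ a : ℤ, classInner θ φ = a := by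
  obtain ⟨c, d, hc, hd, rfl⟩ := hφ
  obtain ⟨m, hm⟩ := genChar_classInner_int hθ hc
  obtain ⟨n, hn⟩ := genChar_classInner_int hθ hd
  exact ⟨m - n, by rw [Cfsg.Agent.Lib.Helper10.classInner_sub_right, hm, hn]; push_cast; ring⟩

end closure

section inner
variable {G : Type*} [Group G] [Fintype G]

theorem classInner_self_eq_sum (f : G → ℂ) :
    classInner f f = (((Nat.card G : ℝ)⁻¹ * ∑ g : G, ‖f g‖ ^ 2 : ℝ) : ℂ) := by
  unfold classInner
  have h2 : ∀ x : G, f x * conj (f x) = ((‖f x‖ ^ 2 : ℝ) : ℂ) := by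
    intro x
    rw [Complex.mul_conj, Complex.normSq_eq_norm_sq]
  rw [Finset.sum_congr rfl (fun x _ => h2 x)]
  push_cast
  rfl

theorem classInner_self_eq_zero {f : G → ℂ} (h : classInner f f = 0) : f = 0 := by
  rw [classInner_self_eq_sum] at h
  have h1 : (Nat.card G : ℝ)⁻¹ * ∑ g : G, ‖f g‖ ^ 2 = 0 := by exact_mod_cast h
  have hG : (0 : ℝ) < (Nat.card G : ℝ)⁻¹ := by
    rw [inv_pos]; exact_mod_cast Nat.card_pos
  have h2 : ∑ g : G, ‖f g‖ ^ 2 = 0 := by
    rcases mul_eq_zero.mp h1 with h | h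
    · exact absurd h hG.ne'
    · exact h
  have h3 := (Finset.sum_eq_zero_iff_of_nonneg (fun g _ => sq_nonneg ‖f g‖)).mp h2
  funext g
  have := h3 g (Finset.mem_univ g)
  simpa using this

theorem classInner_self_nonneg (f : G → ℂ) : ∃ r : ℝ, 0 ≤ r ∧ classInner f f = (r : ℂ) := by
  refine ⟨(Nat.card G : ℝ)⁻¹ * ∑ g : G, ‖f g‖ ^ 2, ?_, classInner_self_eq_sum f⟩
  apply mul_nonneg
  · rw [inv_nonneg]; exact Nat.cast_nonneg _
  · exact Finset.sum_nonneg (fun g _ => sq_nonneg _)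

theorem classInner_zero_left (ψ : G → ℂ) : classInner (0 : G → ℂ) ψ = 0 := by
  unfold classInner; simp

theorem classInner_zero_right (φ : G → ℂ) : classInner φ (0 : G → ℂ) = 0 := by
  unfold classInner; simp

theorem classInner_neg_left (φ ψ : G → ℂ) : classInner (-φ) ψ = -classInner φ ψ := by
  unfold classInner; simp [Finset.sum_neg_distrib]

theorem classInner_neg_right (φ ψ : G → ℂ) : classInner φ (-ψ) = -classInner φ ψ := by
  unfold classInner; simp [Finset.sum_neg_distrib]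

theorem classInner_sum_left {ι : Type*} (s : Finset ι) (f : ι → G → ℂ) (ψ : G → ℂ) :
    classInner (∑ i ∈ s, f i) ψ = ∑ i ∈ s, classInner (f i) ψ := by
  classical
  induction s using Finset.induction_on with
  | empty => simp [classInner_zero_left]
  | insert a s ha ih =>
    rw [Finset.sum_insert ha, Finset.sum_insert ha,
      Cfsg.Agent.Lib.Helper10.classInner_add_left, ih]

theorem classInner_sum_right {ι : Type*} (s : Finset ι) (φ : G → ℂ) (f : ι → G → ℂ) :
    classInner φ (∑ i ∈ s, f i) = ∑ i ∈ s, classInner φ (f i) := by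
  classical
  induction s using Finset.induction_on with
  | empty => simp [classInner_zero_right]
  | insert a s ha ih =>
    rw [Finset.sum_insert ha, Finset.sum_insert ha,
      Cfsg.Agent.Lib.Helper10.classInner_add_right, ih]

theorem classInner_zsmul_left (n : ℤ) (φ ψ : G → ℂ) :
    classInner (n • φ) ψ = (n : ℂ) * classInner φ ψ := by
  rw [← Int.cast_smul_eq_zsmul ℂ n φ, Cfsg.Agent.Lib.Helper10.classInner_smul_left]

theorem classInner_zsmul_right (n : ℤ) (φ ψ : G → ℂ) :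
    classInner φ (n • ψ) = (n : ℂ) * classInner φ ψ := by
  rw [← Int.cast_smul_eq_zsmul ℂ n ψ, Cfsg.Agent.Lib.Helper10.classInner_smul_right]
  simp

/-- Parseval for an orthonormal finite family. -/
theorem classInner_sum_smul_sum_smul {ι : Type*} [DecidableEq ι] (S : Finset ι) (g : ι → G → ℂ)
    (hg : ∀ i ∈ S, ∀ j ∈ S, classInner (g i) (g j) = if i = j then 1 else 0) (a b : ι → ℂ) :
    classInner (∑ i ∈ S, a i • g i) (∑ j ∈ S, b j • g j) = ∑ i ∈ S, a i * conj (b i) := by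
  rw [classInner_sum_left]
  apply Finset.sum_congr rfl
  intro i hi
  rw [classInner_sum_right]
  have : ∀ j ∈ S, classInner (a i • g i) (b j • g j) = if i = j then a i * conj (b i) else 0 := by
    intro j hj
    rw [Cfsg.Agent.Lib.Helper10.classInner_smul_left, Cfsg.Agent.Lib.Helper10.classInner_smul_right,
      hg i hi j hj]
    split_ifs with h
    · subst h; ring
    · ring
  rw [Finset.sum_congr rfl this, Finset.sum_ite_eq S i, if_pos hi]

theorem classInner_sum_smul_left {ι : Type*} [DecidableEq ι] (S : Finset ι) (g : ι → G → ℂ)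
    (hg : ∀ i ∈ S, ∀ j ∈ S, classInner (g i) (g j) = if i = j then 1 else 0) (a : ι → ℂ)
    {j : ι} (hj : j ∈ S) : classInner (∑ i ∈ S, a i • g i) (g j) = a j := by
  rw [classInner_sum_left]
  have : ∀ i ∈ S, classInner (a i • g i) (g j) = if j = i then a j else 0 := by
    intro i hi
    rw [Cfsg.Agent.Lib.Helper10.classInner_smul_left, hg i hi j hj]
    split_ifs with h1 h2 h2
    · subst h1; ring
    · exact absurd h1.symm h2
    · exact absurd h2.symm h1
    · ring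
  rw [Finset.sum_congr rfl this, Finset.sum_ite_eq S j, if_pos hj]

end inner

section zspan
variable {X : Type*}

theorem subset_zspan {S : Set (X → ℂ)} {ξ : X → ℂ} (h : ξ ∈ S) : ξ ∈ zspan S :=
  Submodule.subset_span h

theorem zspan_zero (S : Set (X → ℂ)) : (0 : X → ℂ) ∈ zspan S :=
  Submodule.zero_mem _

theorem zspan_add {S : Set (X → ℂ)} {α β : X → ℂ} (hα : α ∈ zspan S) (hβ : β ∈ zspan S) :
    α + β ∈ zspan S :=
  Submodule.add_mem _ hα hβ

theorem zspan_sub {S : Set (X → ℂ)} {α β : X → ℂ} (hα : α ∈ zspan S) (hβ : β ∈ zspan S) :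
    α - β ∈ zspan S :=
  Submodule.sub_mem _ hα hβ

theorem zspan_neg {S : Set (X → ℂ)} {α : X → ℂ} (hα : α ∈ zspan S) : -α ∈ zspan S :=
  Submodule.neg_mem _ hα

theorem zspan_zsmul {S : Set (X → ℂ)} {α : X → ℂ} (hα : α ∈ zspan S) (n : ℤ) :
    n • α ∈ zspan S :=
  Submodule.smul_mem _ n hα

theorem zspan_sum {S : Set (X → ℂ)} {ι : Type*} (s : Finset ι) (f : ι → X → ℂ)
    (h : ∀ i ∈ s, f i ∈ zspan S) : ∑ i ∈ s, f i ∈ zspan S :=
  Submodule.sum_mem _ h

theorem zspan_mono {S T : Set (X → ℂ)} (h : S ⊆ T) : zspan S ⊆ zspan T :=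
  Submodule.span_mono h

theorem zspanOn_mono {S T : Set (X → ℂ)} (h : S ⊆ T) (A : Set X) : zspanOn S A ⊆ zspanOn T A :=
  fun _ hα => ⟨zspan_mono h hα.1, hα.2⟩

theorem mem_zspan_finset {S : Finset (X → ℂ)} {α : X → ℂ} :
    α ∈ zspan (↑S : Set (X → ℂ)) ↔ ∃ c : (X → ℂ) → ℤ, α = ∑ ξ ∈ S, c ξ • ξ := by
  constructor
  · intro h
    obtain ⟨c, _, hc⟩ := Submodule.mem_span_finset.mp h
    exact ⟨c, hc.symm⟩
  · rintro ⟨c, rfl⟩
    exact zspan_sum S _ (fun ξ hξ => zspan_zsmul (subset_zspan hξ) (c ξ))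

end zspan

section expand
variable {L : Type*} [Group L] [Fintype L]

/-- Orthonormality of a finite set of functions. -/
def OrthoOn (S : Finset (L → ℂ)) : Prop :=
  ∀ ξ ∈ S, ∀ η ∈ S, classInner ξ η = if ξ = η then 1 else 0

theorem orthoOn_of_irr {S : Finset (L → ℂ)} (h : ∀ ξ ∈ S, IsIrrCharacter L ξ) : OrthoOn S := by
  classical
  intro ξ hξ η hη
  exact classInner_irr (h ξ hξ) (h η hη)

open Classical in
theorem zspan_expand {S : Finset (L → ℂ)} (hS : OrthoOn S) {α : L → ℂ}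
    (hα : α ∈ zspan (↑S : Set (L → ℂ))) :
    ∃ c : (L → ℂ) → ℤ, (∀ ξ ∈ S, classInner α ξ = c ξ) ∧ α = ∑ ξ ∈ S, c ξ • ξ := by
  obtain ⟨c, hc⟩ := mem_zspan_finset.mp hα
  refine ⟨c, ?_, hc⟩
  intro ξ hξ
  have h1 : α = ∑ η ∈ S, ((c η : ℤ) : ℂ) • (fun x => x) η := by
    rw [hc]
    apply Finset.sum_congr rfl
    intro η _
    exact (Int.cast_smul_eq_zsmul ℂ (c η) η).symm
  rw [h1]
  exact classInner_sum_smul_left S (fun x => x) hS (fun η => ((c η : ℤ) : ℂ)) hξ

theorem zspan_expand' {S : Finset (L → ℂ)} (hS : OrthoOn S) {α : L → ℂ}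
    (hα : α ∈ zspan (↑S : Set (L → ℂ))) : α = ∑ ξ ∈ S, classInner α ξ • ξ := by
  obtain ⟨c, hc1, hc2⟩ := zspan_expand hS hα
  conv_lhs => rw [hc2]
  apply Finset.sum_congr rfl
  intro ξ hξ
  rw [hc1 ξ hξ]
  exact (Int.cast_smul_eq_zsmul ℂ (c ξ) ξ).symm

end expand

section coefMap
variable {L : Type*} [Group L] [Fintype L] {G : Type*} [Group G] [Fintype G]

/-- The map `α ↦ ∑ ξ ∈ S, ⟨α, ξ⟩ • f ξ`. -/
noncomputable def coefMap (S : Finset (L → ℂ)) (f : (L → ℂ) → (G → ℂ)) (α : L → ℂ) : G → ℂ :=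
  ∑ ξ ∈ S, classInner α ξ • f ξ

theorem coefMap_add (S : Finset (L → ℂ)) (f : (L → ℂ) → (G → ℂ)) (α β : L → ℂ) :
    coefMap S f (α + β) = coefMap S f α + coefMap S f β := by
  unfold coefMap
  rw [← Finset.sum_add_distrib]
  apply Finset.sum_congr rfl
  intro ξ _
  rw [Cfsg.Agent.Lib.Helper10.classInner_add_left, add_smul]

theorem coefMap_sub (S : Finset (L → ℂ)) (f : (L → ℂ) → (G → ℂ)) (α β : L → ℂ) :
    coefMap S f (α - β) = coefMap S f α - coefMap S f β := by
  unfold coefMap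
  rw [← Finset.sum_sub_distrib]
  apply Finset.sum_congr rfl
  intro ξ _
  rw [Cfsg.Agent.Lib.Helper10.classInner_sub_left, sub_smul]

theorem coefMap_zsmul (S : Finset (L → ℂ)) (f : (L → ℂ) → (G → ℂ)) (n : ℤ) (α : L → ℂ) :
    coefMap S f (n • α) = n • coefMap S f α := by
  unfold coefMap
  rw [Finset.smul_sum]
  apply Finset.sum_congr rfl
  intro ξ _
  rw [classInner_zsmul_left, mul_smul, Int.cast_smul_eq_zsmul]

open Classical in
theorem coefMap_apply_mem {S : Finset (L → ℂ)} (hS : OrthoOn S) (f : (L → ℂ) → (G → ℂ))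
    {ξ : L → ℂ} (hξ : ξ ∈ S) : coefMap S f ξ = f ξ := by
  unfold coefMap
  have : ∀ η ∈ S, classInner ξ η • f η = if ξ = η then f ξ else 0 := by
    intro η hη
    rw [hS ξ hξ η hη]
    split_ifs with h
    · subst h; rw [one_smul]
    · rw [zero_smul]
  rw [Finset.sum_congr rfl this, Finset.sum_ite_eq S ξ, if_pos hξ]

open Classical in
/-- An orthonormal family of generalized characters indexed by an orthonormal finite set `S` gives a linear
isometry on `zspan S`. -/
theorem coefMap_isLinearIsometryOn {S : Finset (L → ℂ)} (hS : OrthoOn S) (f : (L → ℂ) → (G → ℂ))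
    (hf : ∀ ξ ∈ S, ∀ η ∈ S, classInner (f ξ) (f η) = if ξ = η then 1 else 0)
    (hfg : ∀ ξ ∈ S, IsGeneralizedCharacter G (f ξ)) :
    IsLinearIsometryOn (zspan (↑S : Set (L → ℂ))) (coefMap S f) := by
  refine ⟨fun α _ β _ => coefMap_add S f α β, fun α _ n => coefMap_zsmul S f n α, ?_, ?_⟩
  · intro α hα β hβ
    have h1 : classInner (coefMap S f α) (coefMap S f β) =
        ∑ ξ ∈ S, classInner α ξ * conj (classInner β ξ) := by
      unfold coefMap
      exact classInner_sum_smul_sum_smul S f hf _ _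
    rw [h1]
    conv_rhs => rw [zspan_expand' hS hα, zspan_expand' hS hβ]
    exact (classInner_sum_smul_sum_smul S (fun x => x) hS _ _).symm
  · intro α hα
    obtain ⟨c, hc1, _⟩ := zspan_expand hS hα
    unfold coefMap
    apply genChar_sum
    intro ξ hξ
    rw [hc1 ξ hξ, Int.cast_smul_eq_zsmul]
    exact genChar_zsmul (hfg ξ hξ) (c ξ)

open Classical in
theorem isometry_map_zero {E : Set (L → ℂ)} {τ₁ : (L → ℂ) → (G → ℂ)}
    (hτ₁ : IsLinearIsometryOn E τ₁) (h0 : (0 : L → ℂ) ∈ E) : τ₁ 0 = 0 := by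
  have := hτ₁.2.1 0 h0 0
  simpa using this

open Classical in
theorem isometry_map_sum_zsmul {S : Finset (L → ℂ)} {τ₁ : (L → ℂ) → (G → ℂ)}
    (hτ₁ : IsLinearIsometryOn (zspan (↑S : Set (L → ℂ))) τ₁) (c : (L → ℂ) → ℤ)
    (T : Finset (L → ℂ)) (hT : T ⊆ S) :
    τ₁ (∑ ξ ∈ T, c ξ • ξ) = ∑ ξ ∈ T, c ξ • τ₁ ξ := by
  induction T using Finset.induction_on with
  | empty =>
    simp only [Finset.sum_empty]
    exact isometry_map_zero hτ₁ (zspan_zero _)
  | insert a T ha ih =>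
    rw [Finset.sum_insert ha, Finset.sum_insert ha]
    have haS : a ∈ S := hT (Finset.mem_insert_self a T)
    have hTS : T ⊆ S := fun x hx => hT (Finset.mem_insert_of_mem hx)
    have h1 : c a • a ∈ zspan (↑S : Set (L → ℂ)) := zspan_zsmul (subset_zspan haS) _
    have h2 : ∑ ξ ∈ T, c ξ • ξ ∈ zspan (↑S : Set (L → ℂ)) :=
      zspan_sum T _ (fun ξ hξ => zspan_zsmul (subset_zspan (hTS hξ)) _)
    rw [hτ₁.1 _ h1 _ h2, hτ₁.2.1 a (subset_zspan haS), ih hTS]

open Classical in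
/-- A linear isometry on `zspan S` (`S` finite orthonormal) is given by the coefficient formula. -/
theorem isometry_eq_coefMap {S : Finset (L → ℂ)} (hS : OrthoOn S) {τ₁ : (L → ℂ) → (G → ℂ)}
    (hτ₁ : IsLinearIsometryOn (zspan (↑S : Set (L → ℂ))) τ₁) {α : L → ℂ}
    (hα : α ∈ zspan (↑S : Set (L → ℂ))) : τ₁ α = coefMap S τ₁ α := by
  obtain ⟨c, hc1, hc2⟩ := zspan_expand hS hα
  conv_lhs => rw [hc2]
  rw [isometry_map_sum_zsmul hτ₁ c S (Finset.Subset.refl S)]
  unfold coefMap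
  apply Finset.sum_congr rfl
  intro ξ hξ
  rw [hc1 ξ hξ, Int.cast_smul_eq_zsmul]

theorem isometry_ortho {S : Finset (L → ℂ)} (hS : OrthoOn S) {τ₁ : (L → ℂ) → (G → ℂ)}
    (hτ₁ : IsLinearIsometryOn (zspan (↑S : Set (L → ℂ))) τ₁) :
    ∀ ξ ∈ S, ∀ η ∈ S, classInner (τ₁ ξ) (τ₁ η) = if ξ = η then 1 else 0 := by
  intro ξ hξ η hη
  rw [hτ₁.2.2.1 ξ (subset_zspan hξ) η (subset_zspan hη)]
  exact hS ξ hξ η hη

end coefMap

section more
variable {X : Type*}

theorem zspanOn_add {S : Set (X → ℂ)} {A : Set X} {α β : X → ℂ} (hα : α ∈ zspanOn S A)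
    (hβ : β ∈ zspanOn S A) : α + β ∈ zspanOn S A :=
  ⟨zspan_add hα.1 hβ.1, fun x hx => by rw [Pi.add_apply, hα.2 x hx, hβ.2 x hx, add_zero]⟩

theorem zspanOn_sub {S : Set (X → ℂ)} {A : Set X} {α β : X → ℂ} (hα : α ∈ zspanOn S A)
    (hβ : β ∈ zspanOn S A) : α - β ∈ zspanOn S A :=
  ⟨zspan_sub hα.1 hβ.1, fun x hx => by rw [Pi.sub_apply, hα.2 x hx, hβ.2 x hx, sub_zero]⟩

theorem zspanOn_zsmul {S : Set (X → ℂ)} {A : Set X} {α : X → ℂ} (hα : α ∈ zspanOn S A) (n : ℤ) :
    n • α ∈ zspanOn S A :=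
  ⟨zspan_zsmul hα.1 n, fun x hx => by rw [Pi.smul_apply, hα.2 x hx, smul_zero]⟩

theorem zspanOn_zero (S : Set (X → ℂ)) (A : Set X) : (0 : X → ℂ) ∈ zspanOn S A :=
  ⟨zspan_zero S, fun _ _ => rfl⟩

end more

section coefMap2
variable {L : Type*} [Group L] [Fintype L] {G : Type*} [Group G] [Fintype G]

theorem coefMap_insert [DecidableEq (L → ℂ)] {χ : L → ℂ} {S₀ : Finset (L → ℂ)} (h : χ ∉ S₀)
    (f : (L → ℂ) → (G → ℂ)) (α : L → ℂ) :
    coefMap (insert χ S₀) f α = classInner α χ • f χ + coefMap S₀ f α := by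
  unfold coefMap
  rw [Finset.sum_insert h]

theorem coefMap_congr {S : Finset (L → ℂ)} {f g : (L → ℂ) → (G → ℂ)} (h : ∀ ξ ∈ S, f ξ = g ξ)
    (α : L → ℂ) : coefMap S f α = coefMap S g α := by
  unfold coefMap
  apply Finset.sum_congr rfl
  intro ξ hξ
  rw [h ξ hξ]

end coefMap2

end Cfsg.Agent.Lib.Helper10
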