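/-
helper10: S4638 leaf (PERFB), core.  Two blocks `B` of `G` and `c` of `N` with four characters each and
`TransData` (one sign vector `σ`, resp. `τ`; `Θ = ∑ σ χ • χ` vanishes on the 2-regular elements, every
`χ ∈ B` equals `σ χ • Θ / 4` on the 2-singular elements, `Θ x / 4` and `Θ x / |C(x)|` local integers)
are perfectly isometric: take any bijection `I : c → B` and `ε η = σ (I η) τ η`.  Then
`μ(x,y) = ∑ ε η (I η)(x) η(y) = Θ(x) Θ^N(y) / 4` as soon as one of `x`, `y` is singular; for `x`, `y` both
regular the divisibility of `μ(x,y)` by `|C(x)|` (and `|C(y)|`) is (LPROJ) applied to the function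
`x ↦ μ(x,y)` (coefficients `ε η η(y)`), which vanishes on the singular elements.
Here (LPROJ) enters as the hypothesis `LProj`; the glue file `KleinPIPERFB` discharges it.
-/
import Mathlib
import Cfsg.Prelude.Def_BlockLocal
import Cfsg.Agent.Lib.Helper27.KleinPIDefs
import Cfsg.Agent.Lib.Helper24.LocalRing
import Cfsg.Agent.Lib.Helper6.OneBlock
import Cfsg.Agent.Lib.Lead.RealOddBlock

set_option autoImplicit false

namespace Cfsg.Agent.Lib.Helper10.KleinPIPERFBCore

open Cfsg Cfsg.Agent.CharLib Cfsg.Agent.Lib.Helper24 Cfsg.Agent.Lib.Helper6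
open Cfsg.Agent.Lib.Helper27.KleinPI

universe u

/-- the statement of the leaf (LPROJ), for groups in `Type u` -/
def LProj : Prop :=
  ∀ {G : Type u} [Group G] [Fintype G] {M : Ideal AlgInt}
    {p : ℕ} [Fact p.Prime] (_ : IsPModular p M) (a : IrrCharacter G → ℂ)
    (_ : ∀ χ, MemLocalRing M (a χ))
    (_ : ∀ x : G, ¬ IsPRegular p x → ∑ᶠ χ : IrrCharacter G, a χ * (χ : G → ℂ) x = 0) (x : G),
    MemLocalRing M ((∑ᶠ χ : IrrCharacter G, a χ * (χ : G → ℂ) x) /
      (Nat.card (Subgroup.centralizer ({x} : Set G)) : ℂ))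

theorem sign_mul_self {z : ℤ} (h : z = 1 ∨ z = -1) : (z : ℂ) * (z : ℂ) = 1 := by
  rcases h with rfl | rfl <;> simp

theorem memLocalRing_finset_sum {M : Ideal AlgInt} [hp : M.IsPrime] {ι : Type*} (s : Finset ι)
    (f : ι → ℂ) (h : ∀ i ∈ s, MemLocalRing M (f i)) : MemLocalRing M (∑ i ∈ s, f i) := by
  classical
  induction s using Finset.induction_on with
  | empty =>
    rw [Finset.sum_empty]
    exact ⟨0, 1, hp.one_notMem, by simp⟩
  | insert a s ha ih =>
    rw [Finset.sum_insert ha]
    exact memLocalRing_add (h _ (Finset.mem_insert_self _ _))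
      (ih (fun i hi => h i (Finset.mem_insert_of_mem hi)))

theorem memLocalRing_irr {M : Ideal AlgInt} [hp : M.IsPrime] {G : Type u} [Group G] [Finite G]
    (χ : IrrCharacter G) (g : G) : MemLocalRing M ((χ : G → ℂ) g) :=
  memLocalRing_char (IsIrrCharacter.isCharacter χ.2) g

/-- a bijection between two sets of the same finite nonzero cardinality, as a total map -/
theorem exists_bijOn_of_card_eq {X Y : Type u} (B : Set X) (c : Set Y) (hB : Nat.card B = 4)
    (hc : Nat.card c = 4) : ∃ I : Y → X, Set.BijOn I c B := by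
  classical
  have : Finite B := Nat.finite_of_card_ne_zero (by rw [hB]; norm_num)
  have : Finite c := Nat.finite_of_card_ne_zero (by rw [hc]; norm_num)
  obtain ⟨e⟩ := Finite.card_eq.mp (hc.trans hB.symm)
  have hne : Nonempty B := by
    rw [← Finite.card_pos_iff, hB]; norm_num
  obtain ⟨χ₀⟩ := hne
  refine ⟨fun η => if h : η ∈ c then (e ⟨η, h⟩ : X) else χ₀, ?_, ?_, ?_⟩
  · intro η hη
    simp only [dif_pos hη]
    exact (e ⟨η, hη⟩).2
  · intro η hη η' hη' h
    simp only [dif_pos hη, dif_pos hη'] at h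
    have := e.injective (Subtype.ext h)
    exact congrArg Subtype.val this
  · intro χ hχ
    refine ⟨(e.symm ⟨χ, hχ⟩ : Y), (e.symm ⟨χ, hχ⟩).2, ?_⟩
    simp

section main

variable {G N : Type u} [Group G] [Fintype G] [Group N] [Fintype N] {M : Ideal AlgInt}

/-- the kernel when `x` is singular -/
theorem kernel_of_left_singular (B : Set (IrrCharacter G)) (c : Set (IrrCharacter N))
    (σ : IrrCharacter G → ℤ) (τ : IrrCharacter N → ℤ)
    (hσ1 : ∀ χ ∈ B, σ χ = 1 ∨ σ χ = -1)
    (I : IrrCharacter N → IrrCharacter G) (hI : Set.BijOn I c B) (x : G) (y : N)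
    (hx : ∀ χ ∈ B, (χ : G → ℂ) x = (σ χ : ℂ) * thetaFun B σ x / 4) :
    signedBijectionKernel c I (fun η => σ (I η) * τ η) x y =
      thetaFun B σ x / 4 * thetaFun c τ y := by
  unfold signedBijectionKernel
  rw [thetaFun, thetaFun, ← thetaFun]
  rw [mul_finsum_mem]
  refine finsum_mem_congr rfl (fun η hη => ?_)
  have h1 := hx (I η) (hI.mapsTo hη)
  have h2 := sign_mul_self (hσ1 (I η) (hI.mapsTo hη))
  rw [h1]
  push_cast
  calc ((σ (I η) : ℂ) * (τ η : ℂ)) * ((σ (I η) : ℂ) * thetaFun B σ x / 4) * (η : N → ℂ) y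
      = ((σ (I η) : ℂ) * (σ (I η) : ℂ)) * (thetaFun B σ x / 4 * ((τ η : ℂ) * (η : N → ℂ) y)) := by
        ring
    _ = thetaFun B σ x / 4 * ((τ η : ℂ) * (η : N → ℂ) y) := by rw [h2, one_mul]

/-- the kernel when `y` is singular -/
theorem kernel_of_right_singular (B : Set (IrrCharacter G)) (c : Set (IrrCharacter N))
    (σ : IrrCharacter G → ℤ) (τ : IrrCharacter N → ℤ)
    (hτ1 : ∀ η ∈ c, τ η = 1 ∨ τ η = -1)
    (I : IrrCharacter N → IrrCharacter G) (hI : Set.BijOn I c B) (x : G) (y : N)
    (hy : ∀ η ∈ c, (η : N → ℂ) y = (τ η : ℂ) * thetaFun c τ y / 4) :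
    signedBijectionKernel c I (fun η => σ (I η) * τ η) x y =
      thetaFun B σ x / 4 * thetaFun c τ y := by
  unfold signedBijectionKernel
  have hre : thetaFun B σ x = ∑ᶠ η ∈ c, (σ (I η) : ℂ) * (I η : G → ℂ) x := by
    rw [thetaFun]
    exact (finsum_mem_eq_of_bijOn I hI (fun η _ => rfl)).symm
  rw [hre]
  rw [mul_comm, div_eq_mul_inv, finsum_mem_mul, mul_finsum_mem]
  refine finsum_mem_congr rfl (fun η hη => ?_)
  have h1 := hy η hη
  have h2 := sign_mul_self (hτ1 η hη)
  rw [h1]
  push_cast
  calc ((σ (I η) : ℂ) * (τ η : ℂ)) * (I η : G → ℂ) x * ((τ η : ℂ) * thetaFun c τ y / 4)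
      = ((τ η : ℂ) * (τ η : ℂ)) *
          (thetaFun c τ y * ((σ (I η) : ℂ) * (I η : G → ℂ) x * 4⁻¹)) := by ring
    _ = thetaFun c τ y * ((σ (I η) : ℂ) * (I η : G → ℂ) x * 4⁻¹) := by rw [h2, one_mul]

/-- `G`-side: the kernel at fixed `y` as a combination of all the irreducible characters of `G` -/
theorem kernel_eq_finsum_left (c : Set (IrrCharacter N)) (hcf : c.Finite)
    (I : IrrCharacter N → IrrCharacter G) (ε : IrrCharacter N → ℤ) (x : G) (y : N) :
    signedBijectionKernel c I ε x y =
      ∑ᶠ χ : IrrCharacter G, (∑ η ∈ hcf.toFinset,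
        if I η = χ then (ε η : ℂ) * (η : N → ℂ) y else 0) * (χ : G → ℂ) x := by
  classical
  letI := fintypeIrr G
  rw [finsum_eq_sum_of_fintype]
  unfold signedBijectionKernel
  rw [finsum_mem_eq_finite_toFinset_sum _ hcf]
  simp_rw [Finset.sum_mul]
  rw [Finset.sum_comm]
  refine Finset.sum_congr rfl (fun η _ => ?_)
  simp only [ite_mul, zero_mul, Finset.sum_ite_eq, Finset.mem_univ, if_true]
  ring

/-- `N`-side: the kernel at fixed `x` as a combination of all the irreducible characters of `N` -/
theorem kernel_eq_finsum_right (c : Set (IrrCharacter N)) [DecidablePred (· ∈ c)]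
    (I : IrrCharacter N → IrrCharacter G) (ε : IrrCharacter N → ℤ) (x : G) (y : N) :
    signedBijectionKernel c I ε x y =
      ∑ᶠ η : IrrCharacter N, (if η ∈ c then (ε η : ℂ) * (I η : G → ℂ) x else 0) *
        (η : N → ℂ) y := by
  unfold signedBijectionKernel
  rw [finsum_mem_def]
  refine finsum_congr (fun η => ?_)
  by_cases h : η ∈ c
  · rw [Set.indicator_of_mem h, if_pos h]
  · rw [Set.indicator_of_notMem h, if_neg h, zero_mul]

/-- (PERFB), with (LPROJ) as a hypothesis. -/
theorem exists_perfect_of_transData_of (hL : LProj.{u}) (hM : IsPModular 2 M)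
    (B : Set (IrrCharacter G)) (c : Set (IrrCharacter N))
    (hB : Nat.card B = 4) (hc : Nat.card c = 4) (σ : IrrCharacter G → ℤ)
    (τ : IrrCharacter N → ℤ) (hσ : TransData M B σ) (hτ : TransData M c τ) :
    ∃ (I : IrrCharacter N → IrrCharacter G) (ε : IrrCharacter N → ℤ),
      IsPerfectIsometry 2 M c B I ε := by
  classical
  haveI : M.IsPrime := isPrime_of_isPModular hM
  haveI : Fact (Nat.Prime 2) := ⟨Nat.prime_two⟩
  obtain ⟨hσ1, hσreg, hσsing, hσloc⟩ := hσ
  obtain ⟨hτ1, hτreg, hτsing, hτloc⟩ := hτ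
  obtain ⟨I, hI⟩ := exists_bijOn_of_card_eq B c hB hc
  have hzero : MemLocalRing M 0 := ⟨0, 1, ‹M.IsPrime›.one_notMem, by simp⟩
  have hcf : c.Finite := Set.toFinite c
  refine ⟨I, fun η => σ (I η) * τ η, hI, ?_, ?_⟩
  · intro η hη
    rcases hσ1 (I η) (hI.mapsTo hη) with h | h <;> rcases hτ1 η hη with h' | h' <;>
      simp [h, h']
  · intro x y
    by_cases hx : IsPRegular 2 x
    · by_cases hy : IsPRegular 2 y
      · -- both regular: (LPROJ) on both sides
        refine ⟨?_, ?_, Or.inl ⟨fun _ => hy, fun _ => hx⟩⟩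
        · have hker : ∀ x' : G, signedBijectionKernel c I (fun η => σ (I η) * τ η) x' y = _ :=
            fun x' => kernel_eq_finsum_left c hcf I (fun η => σ (I η) * τ η) x' y
          rw [hker x]
          refine hL hM _ (fun χ => ?_) (fun x' hx' => ?_) x
          · refine memLocalRing_finset_sum _ _ (fun η _ => ?_)
            split_ifs
            · exact memLocalRing_mul (memLocalRing_intCast _) (memLocalRing_irr η y)
            · exact hzero
          · rw [← hker x', kernel_of_left_singular B c σ τ hσ1 I hI x' y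
              (fun χ hχ => hσsing χ hχ x' hx'), hτreg y hy, mul_zero]
        · have hker : ∀ y' : N, signedBijectionKernel c I (fun η => σ (I η) * τ η) x y' = _ :=
            fun y' => kernel_eq_finsum_right c I (fun η => σ (I η) * τ η) x y'
          rw [hker y]
          refine hL hM _ (fun η => ?_) (fun y' hy' => ?_) y
          · split_ifs
            · exact memLocalRing_mul (memLocalRing_intCast _) (memLocalRing_irr (I η) x)
            · exact hzero
          · rw [← hker y', kernel_of_right_singular B c σ τ hτ1 I hI x y'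
              (fun η hη => hτsing η hη y' hy'), hσreg x hx, zero_div, zero_mul]
      · -- `x` regular, `y` singular: the kernel vanishes
        have hk := kernel_of_right_singular B c σ τ hτ1 I hI x y (fun η hη => hτsing η hη y hy)
        rw [hk, hσreg x hx, zero_div, zero_mul, zero_div, zero_div]
        exact ⟨hzero, hzero, Or.inr rfl⟩
    · have hk := kernel_of_left_singular B c σ τ hσ1 I hI x y (fun χ hχ => hσsing χ hχ x hx)
      rw [hk]
      refine ⟨?_, ?_, ?_⟩
      · have h1 : thetaFun B σ x / 4 * thetaFun c τ y /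
            (Nat.card (Subgroup.centralizer ({x} : Set G)) : ℂ) =
            (thetaFun B σ x / (Nat.card (Subgroup.centralizer ({x} : Set G)) : ℂ)) *
              (thetaFun c τ y / 4) := by ring
        rw [h1]
        exact memLocalRing_mul (hσloc x).2 (hτloc y).1
      · have h1 : thetaFun B σ x / 4 * thetaFun c τ y /
            (Nat.card (Subgroup.centralizer ({y} : Set N)) : ℂ) =
            (thetaFun B σ x / 4) *
              (thetaFun c τ y / (Nat.card (Subgroup.centralizer ({y} : Set N)) : ℂ)) := by ring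
        rw [h1]
        exact memLocalRing_mul (hσloc x).1 (hτloc y).2
      · by_cases hy : IsPRegular 2 y
        · right
          rw [hτreg y hy, mul_zero]
        · left
          exact ⟨fun h => absurd h hx, fun h => absurd h hy⟩

end main

end Cfsg.Agent.Lib.Helper10.KleinPIPERFBCore
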