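/-
helper10: S4638 leaf (LPROJ), twin copy.  `θ = ∑ a χ • χ` with local-integral coefficients, vanishing
on the `p`-singular elements: then `θ x / |C_G(x)|` is a local integer.
Proof.  `x` singular: `θ x = 0`.  `x` regular: `Q` a Sylow `p`-subgroup of `C_G(x)`, `A = ⟨x⟩`,
`ι : Q × A → G`, `(q, a) ↦ q a` (a homomorphism).  For `λ ∈ Irr A` and `Λ = λ ∘ snd`:
`⟨θ ∘ ι, Λ⟩ = ∑ a χ ⟨χ ∘ ι, Λ⟩` is a local integer (inner products of characters are naturals), and
equals `|Q|⁻¹ ⟨θ|_A, λ⟩_A` since `θ (q a) = 0` for `q ≠ 1`.  Expanding the class function `θ|_A` of `A`: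
`θ x = ∑_λ ⟨θ|_A, λ⟩ λ x = |Q| ∑_λ ⟨θ ∘ ι, Λ⟩ λ x`.  Finally `|C_G(x)| / |Q|` is prime to `p`.
-/
import Mathlib
import Cfsg.Prelude.Def_BlockLocal
import Cfsg.Agent.Lib.Lead.CharMain
import Cfsg.Agent.Lib.Lead.BlockBasic
import Cfsg.Agent.Lib.Helper6.CharExtra
import Cfsg.Agent.Lib.Helper24.LocalRing
import Cfsg.Agent.Lib.Helper6.OneBlock
import Cfsg.Agent.Lib.Helper10.KleinPIPERFBCore

set_option autoImplicit false

namespace Cfsg.Agent.Lib.Helper10.KleinPILPROJ

open Cfsg Cfsg.Agent.CharLib Cfsg.Agent.Lib.Helper24 Cfsg.Agent.Lib.Helper6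
open Cfsg.Agent.Lib.Helper10.KleinPIPERFBCore
open scoped ComplexConjugate

universe u

/-- the inner product of two characters is a natural number -/
theorem classInner_char_char {K : Type u} [Group K] [Fintype K] {Φ Ψ : K → ℂ}
    (hΦ : IsCharacter K Φ) (hΨ : IsCharacter K Ψ) : ∃ n : ℕ, classInner Φ Ψ = (n : ℂ) := by
  classical
  let _ := fintypeIrr K
  obtain ⟨m, hm, -⟩ := IsCharacter.exists_decomp_sum hΦ
  obtain ⟨n, -, hn⟩ := IsCharacter.exists_decomp_sum hΨ
  refine ⟨∑ ψ : IrrCharacter K, m ψ * n ψ, ?_⟩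
  rw [hm, classInner_sum_left]
  push_cast
  refine Finset.sum_congr rfl (fun ψ _ => ?_)
  rw [← Nat.cast_smul_eq_nsmul ℂ, classInner_smul_left]
  have h1 : classInner (ψ : K → ℂ) Ψ = (n ψ : ℂ) := by
    have h2 := Cfsg.Agent.CharLib.classInner_conj_symm Ψ (ψ : K → ℂ)
    rw [hn ψ] at h2
    rw [← h2]
    simp
  rw [h1]

section abstract

variable {G : Type u} [Group G] [Fintype G] {M : Ideal AlgInt} {p : ℕ} [hpp : Fact p.Prime]

/-- an element `q b` with `q ≠ 1` in a `p`-group, `b` in a `p'`-group commuting with `q`, is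
`p`-singular -/
theorem not_isPRegular_mul (Q A : Subgroup G) (hcomm : ∀ q ∈ Q, ∀ b ∈ A, Commute q b)
    (hQ : IsPGroup p Q) (hA : (Nat.card A).Coprime p) (q : Q) (b : A) (hq : q ≠ 1) :
    ¬ IsPRegular p ((q : G) * (b : G)) := by
  intro hreg
  apply hreg
  obtain ⟨k, hk⟩ := hQ q
  have h1 : orderOf q ∣ p ^ k := orderOf_dvd_of_pow_eq_one hk
  obtain ⟨j, -, hj⟩ := (Nat.dvd_prime_pow hpp.out).mp h1
  have h2 : orderOf (q : G) = p ^ j := by rw [Subgroup.orderOf_coe, hj]
  have hj0 : j ≠ 0 := by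
    intro h0
    rw [h0, pow_zero, orderOf_eq_one_iff] at hj
    exact hq hj
  have h3 : orderOf (b : G) ∣ Nat.card A := by
    rw [Subgroup.orderOf_coe]
    exact orderOf_dvd_natCard b
  have hco : (orderOf (q : G)).Coprime (orderOf (b : G)) := by
    rw [h2]
    exact Nat.Coprime.pow_left j ((Nat.Coprime.coprime_dvd_right h3 hA.symm))
  rw [(hcomm q q.2 b b.2).orderOf_mul_eq_mul_orderOf_of_coprime hco, h2]
  exact Dvd.dvd.mul_right (dvd_pow_self p hj0) _

theorem memLocalRing_div_card_of_product [hp : M.IsPrime] (a : IrrCharacter G → ℂ)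
    (ha : ∀ χ, MemLocalRing M (a χ))
    (hvan : ∀ x : G, ¬ IsPRegular p x → ∑ᶠ χ : IrrCharacter G, a χ * (χ : G → ℂ) x = 0)
    (Q A : Subgroup G) (hcomm : ∀ q ∈ Q, ∀ b ∈ A, Commute q b)
    (hQ : IsPGroup p Q) (hA : (Nat.card A).Coprime p) (x : G) (hx : x ∈ A) :
    MemLocalRing M ((∑ᶠ χ : IrrCharacter G, a χ * (χ : G → ℂ) x) / (Nat.card Q : ℂ)) := by
  classical
  let _ := fintypeIrr G
  let _ := fintypeIrr A
  let _ : Fintype Q := Fintype.ofFinite _
  let _ : Fintype A := Fintype.ofFinite _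
  set θ : G → ℂ := fun g => ∑ χ : IrrCharacter G, a χ * (χ : G → ℂ) g with hθ
  have hθ' : ∀ g, ∑ᶠ χ : IrrCharacter G, a χ * (χ : G → ℂ) g = θ g :=
    fun g => finsum_eq_sum_of_fintype _
  rw [hθ' x]
  have hθsum : θ = ∑ χ : IrrCharacter G, a χ • (χ : G → ℂ) := by
    funext g
    simp [hθ, Finset.sum_apply]
  have hθcf : IsClassFunction G θ := by
    rw [hθsum]
    exact IsClassFunction.sum _ (fun χ _ => IsClassFunction.smul _
      (IsCharacter.isClassFunction (IsIrrCharacter.isCharacter χ.2)))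
  let ι : Q × A →* G := MonoidHom.noncommCoprod Q.subtype A.subtype
    (fun q b => hcomm q q.2 b b.2)
  have hι : ∀ (q : Q) (b : A), ι (q, b) = (q : G) * (b : G) := fun q b => rfl
  have hvan' : ∀ (q : Q) (b : A), q ≠ 1 → θ ((q : G) * (b : G)) = 0 := by
    intro q b hq
    rw [← hθ']
    exact hvan _ (not_isPRegular_mul Q A hcomm hQ hA q b hq)
  -- the multiplicities
  set r : IrrCharacter A → ℂ := fun l =>
    classInner (θ ∘ ι) ((l : A → ℂ) ∘ (MonoidHom.snd Q A)) with hr
  have hrloc : ∀ l, MemLocalRing M (r l) := by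
    intro l
    have h1 : θ ∘ ι = ∑ χ : IrrCharacter G, a χ • ((χ : G → ℂ) ∘ ι) := by
      funext k
      simp [hθ, Finset.sum_apply]
    simp only [hr]
    rw [h1, classInner_sum_left]
    refine memLocalRing_finset_sum _ _ (fun χ _ => ?_)
    rw [classInner_smul_left]
    obtain ⟨n, hn⟩ := classInner_char_char
      (IsCharacter.comp_hom (IsIrrCharacter.isCharacter χ.2) ι)
      (IsCharacter.comp_hom (IsIrrCharacter.isCharacter l.2) (MonoidHom.snd Q A))
    rw [hn]
    exact memLocalRing_mul (ha χ) (memLocalRing_natCast n)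
  have hQ0 : (Nat.card Q : ℂ) ≠ 0 := by
    have : Nat.card Q ≠ 0 := Nat.card_pos.ne'
    exact_mod_cast this
  have hA0 : (Nat.card A : ℂ) ≠ 0 := by
    have : Nat.card A ≠ 0 := Nat.card_pos.ne'
    exact_mod_cast this
  have hb : ∀ l : IrrCharacter A,
      classInner (θ ∘ A.subtype) (l : A → ℂ) = (Nat.card Q : ℂ) * r l := by
    intro l
    simp only [hr, classInner]
    rw [Fintype.sum_prod_type, Finset.sum_eq_single (1 : Q)]
    · rw [Nat.card_prod]
      push_cast
      have h2 : ∀ b : A, (θ ∘ ι) ((1 : Q), b) *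
          conj (((l : A → ℂ) ∘ (MonoidHom.snd Q A)) ((1 : Q), b)) =
          (θ ∘ A.subtype) b * conj ((l : A → ℂ) b) := by
        intro b
        simp [hι]
      rw [Finset.sum_congr rfl (fun b _ => h2 b)]
      field_simp
    · intro q _ hq
      refine Finset.sum_eq_zero (fun b _ => ?_)
      rw [Function.comp_apply, hι, hvan' q b hq, zero_mul]
    · intro h
      exact absurd (Finset.mem_univ _) h
  have hcfA : IsClassFunction A (θ ∘ A.subtype) := by
    intro g h
    simp only [Function.comp_apply, Subgroup.coe_subtype, Subgroup.coe_mul, Subgroup.coe_inv]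
    exact hθcf g h
  have hexp := classFunction_eq_sum hcfA
  have hexp' := congrFun hexp ⟨x, hx⟩
  simp only [Function.comp_apply, Subgroup.coe_subtype, Finset.sum_apply, Pi.smul_apply,
    smul_eq_mul] at hexp'
  have h3 : θ x / (Nat.card Q : ℂ) =
      ∑ l : IrrCharacter A, r l * (l : A → ℂ) ⟨x, hx⟩ := by
    rw [hexp', Finset.sum_div]
    refine Finset.sum_congr rfl (fun l _ => ?_)
    rw [show classInner (θ ∘ Subtype.val) (l : A → ℂ) = (Nat.card Q : ℂ) * r l from hb l]
    field_simp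
  rw [h3]
  exact memLocalRing_finset_sum _ _ (fun l _ =>
    memLocalRing_mul (hrloc l) (memLocalRing_irr l _))

end abstract

/-- (LPROJ) a local-integral combination of irreducible characters that vanishes on the `p`-singular
elements is divisible by the centralizer orders. -/
theorem memLocalRing_div_card_centralizer {G : Type u} [Group G] [Fintype G] {M : Ideal AlgInt}
    {p : ℕ} [hpp : Fact p.Prime] (hM : IsPModular p M) (a : IrrCharacter G → ℂ)
    (ha : ∀ χ, MemLocalRing M (a χ))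
    (hvan : ∀ x : G, ¬ IsPRegular p x → ∑ᶠ χ : IrrCharacter G, a χ * (χ : G → ℂ) x = 0) (x : G) :
    MemLocalRing M ((∑ᶠ χ : IrrCharacter G, a χ * (χ : G → ℂ) x) /
      (Nat.card (Subgroup.centralizer ({x} : Set G)) : ℂ)) := by
  classical
  haveI : M.IsPrime := isPrime_of_isPModular hM
  by_cases hx : IsPRegular p x
  · obtain ⟨P⟩ : Nonempty (Sylow p (Subgroup.centralizer ({x} : Set G))) := inferInstance
    have hcomm : ∀ q ∈ (P : Subgroup (Subgroup.centralizer ({x} : Set G))).map
        (Subgroup.centralizer ({x} : Set G)).subtype, ∀ b ∈ Subgroup.zpowers x, Commute q b := by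
      intro q hq b hb
      obtain ⟨q', -, rfl⟩ := hq
      have h1 : Commute ((Subgroup.centralizer ({x} : Set G)).subtype q') x := by
        have h2 := q'.2
        rw [Subgroup.mem_centralizer_iff] at h2
        exact (h2 x rfl).symm
      obtain ⟨k, rfl⟩ := Subgroup.mem_zpowers_iff.mp hb
      exact h1.zpow_right k
    have hQp : IsPGroup p ((P : Subgroup (Subgroup.centralizer ({x} : Set G))).map
        (Subgroup.centralizer ({x} : Set G)).subtype) := P.isPGroup'.map _
    have hAco : (Nat.card (Subgroup.zpowers x)).Coprime p := by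
      rw [Nat.card_zpowers]
      exact ((Nat.Prime.coprime_iff_not_dvd hpp.out).mpr hx).symm
    have h1 := memLocalRing_div_card_of_product a ha hvan _ _ hcomm hQp hAco x
      (Subgroup.mem_zpowers x)
    rw [Subgroup.card_map_of_injective (Subgroup.subtype_injective _)] at h1
    have hidx : ¬ p ∣ (P : Subgroup (Subgroup.centralizer ({x} : Set G))).index :=
      P.not_dvd_index
    have hmul := (P : Subgroup (Subgroup.centralizer ({x} : Set G))).card_mul_index
    rw [← hmul]
    push_cast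
    rw [div_mul_eq_div_div, div_eq_mul_inv _
      (((P : Subgroup (Subgroup.centralizer ({x} : Set G))).index : ℂ))]
    exact memLocalRing_mul h1 (memLocalRing_inv_natCast_of_not_dvd hM hidx)
  · rw [hvan x hx, zero_div]
    exact ⟨0, 1, ‹M.IsPrime›.one_notMem, by simp⟩

end Cfsg.Agent.Lib.Helper10.KleinPILPROJ
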