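import Cfsg.Agent.Lib.Helper10.StSharp

set_option autoImplicit false

/-! Automorphism groups of set systems: transport along isomorphisms, sharp transitivity. -/

namespace Cfsg.Agent.Lib.Helper10.StCert

open Cfsg Cfsg.Agent.Lib.Helper28.SteinerDerived
open scoped Pointwise

section
variable {α β : Type*} [DecidableEq α] [DecidableEq β]

theorem mem_aut_of_forall {B : Set (Finset α)} {σ : Equiv.Perm α}
    (h1 : ∀ b ∈ B, b.image σ ∈ B) (h2 : ∀ b ∈ B, b.image σ.symm ∈ B) : σ ∈ setSystemAut B := by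
  rw [MulAction.mem_stabilizer_iff]
  ext x
  constructor
  · rintro ⟨b, hb, rfl⟩
    exact h1 b hb
  · intro hx
    refine ⟨x.image σ.symm, h2 x hx, ?_⟩
    show (x.image σ.symm).image σ = x
    exact image_image_symm σ x

theorem image_symm_mem_of_aut {B : Set (Finset α)} {σ : Equiv.Perm α} (hσ : σ ∈ setSystemAut B)
    {b : Finset α} (hb : b ∈ B) : b.image σ.symm ∈ B :=
  smul_mem_of_aut ((setSystemAut B).inv_mem hσ) hb

theorem image_permCongr (e : α ≃ β) (σ : Equiv.Perm α) (b : Finset β) :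
    (b.image (e.permCongr σ)).image e.symm = (b.image e.symm).image σ := by
  rw [Finset.image_image, Finset.image_image]
  congr 1
  funext x
  simp [Equiv.permCongr_apply]

theorem permCongr_mem_aut (e : α ≃ β) {B : Set (Finset α)} {σ : Equiv.Perm α}
    (hσ : σ ∈ setSystemAut B) : e.permCongr σ ∈ setSystemAut (imgSys e B) := by
  have key : ∀ τ : Equiv.Perm α, τ ∈ setSystemAut B → ∀ b ∈ imgSys e B,
      b.image (e.permCongr τ) ∈ imgSys e B := by
    intro τ hτ b hb
    rw [mem_imgSys] at hb ⊢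
    rw [image_permCongr]
    exact smul_mem_of_aut hτ hb
  apply mem_aut_of_forall (key σ hσ)
  have hs : (e.permCongr σ).symm = e.permCongr σ⁻¹ := by
    refine Equiv.ext fun x => ?_
    rw [Equiv.symm_apply_eq]
    simp [Equiv.permCongr_apply]
  rw [hs]
  exact key _ ((setSystemAut B).inv_mem hσ)

/-- the isomorphism of automorphism groups induced by a bijection -/
noncomputable def autCongr (e : α ≃ β) (B : Set (Finset α)) :
    ↥(setSystemAut B) ≃* ↥(setSystemAut (imgSys e B)) where
  toFun σ := ⟨e.permCongr σ.1, permCongr_mem_aut e σ.2⟩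
  invFun τ := ⟨e.symm.permCongr τ.1, by
    have := permCongr_mem_aut e.symm τ.2
    rwa [imgSys_symm] at this⟩
  left_inv σ := Subtype.ext (Equiv.ext fun x => by simp [Equiv.permCongr_apply])
  right_inv τ := Subtype.ext (Equiv.ext fun x => by simp [Equiv.permCongr_apply])
  map_mul' a b := Subtype.ext (Equiv.ext fun x => by simp [Equiv.permCongr_apply])

/-- transitivity of the automorphism group on injective `n`-tuples -/
def TransOn (n : ℕ) (B : Set (Finset α)) : Prop :=
  ∀ x y : Fin n ↪ α, ∃ g ∈ setSystemAut B, ∀ i, g (x i) = y i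

/-- an automorphism fixing an injective `n`-tuple is trivial -/
def SharpOn (n : ℕ) (B : Set (Finset α)) : Prop :=
  ∀ g ∈ setSystemAut B, ∀ x : Fin n ↪ α, (∀ i, g (x i) = x i) → g = 1

theorem TransOn.img (e : α ≃ β) {B : Set (Finset α)} {n : ℕ} (h : TransOn n B) :
    TransOn n (imgSys e B) := by
  intro x y
  obtain ⟨g, hg, hmap⟩ := h (x.trans e.symm.toEmbedding) (y.trans e.symm.toEmbedding)
  refine ⟨e.permCongr g, permCongr_mem_aut e hg, fun i => ?_⟩
  have := hmap i
  simp only [Function.Embedding.trans_apply, Equiv.coe_toEmbedding] at this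
  rw [Equiv.permCongr_apply, this, Equiv.apply_symm_apply]

theorem SharpOn.img (e : α ≃ β) {B : Set (Finset α)} {n : ℕ} (h : SharpOn n B) :
    SharpOn n (imgSys e B) := by
  intro g hg x hx
  have hg' : e.symm.permCongr g ∈ setSystemAut B := by
    have := permCongr_mem_aut e.symm hg
    rwa [imgSys_symm] at this
  have h1 := h _ hg' (x.trans e.symm.toEmbedding) (fun i => by
    simp only [Function.Embedding.trans_apply, Equiv.coe_toEmbedding, Equiv.permCongr_apply,
      Equiv.symm_symm, Equiv.apply_symm_apply, hx i])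
  refine Equiv.ext fun z => ?_
  have h2 := congrArg (fun τ : Equiv.Perm α => τ (e.symm z)) h1
  simp only [Equiv.permCongr_apply, Equiv.symm_symm, Equiv.apply_symm_apply,
    Equiv.Perm.coe_one, id_eq] at h2
  show g z = z
  exact e.symm.injective h2

theorem sharpOn_of_base {B : Set (Finset α)} {n : ℕ} (ht : TransOn n B) (x₀ : Fin n ↪ α)
    (h0 : ∀ g ∈ setSystemAut B, (∀ i, g (x₀ i) = x₀ i) → g = 1) : SharpOn n B := by
  intro g hg x hx
  obtain ⟨k, hk, hmap⟩ := ht x₀ x
  have h1 : k⁻¹ * g * k = 1 := by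
    apply h0 _ ((setSystemAut B).mul_mem ((setSystemAut B).mul_mem ((setSystemAut B).inv_mem hk) hg)
      hk)
    intro i
    simp only [Equiv.Perm.mul_apply, hmap i, hx i]
    rw [← hmap i]
    simp
  have : g = k * (k⁻¹ * g * k) * k⁻¹ := by group
  rw [this, h1]
  group

theorem bijective_of_sharp [Fintype α] {B : Set (Finset α)} {n : ℕ} (hn : n ≤ Fintype.card α)
    {M : Type*} [Group M] (ρ : M →* ↥(setSystemAut B)) (hinj : Function.Injective ρ)
    (htr : ∀ x y : Fin n ↪ α, ∃ m : M, ∀ i, (ρ m : Equiv.Perm α) (x i) = y i)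
    (hs : SharpOn n B) : Function.Bijective ρ := by
  refine ⟨hinj, fun a => ?_⟩
  obtain ⟨x₀⟩ : Nonempty (Fin n ↪ α) :=
    Function.Embedding.nonempty_of_card_le (by rw [Fintype.card_fin]; exact hn)
  obtain ⟨m, hm⟩ := htr x₀ (x₀.trans (a : Equiv.Perm α).toEmbedding)
  refine ⟨m, ?_⟩
  have h1 : ((ρ m)⁻¹ * a : ↥(setSystemAut B)).1 = 1 := by
    apply hs _ ((ρ m)⁻¹ * a).2 x₀
    intro i
    have := hm i
    simp only [Function.Embedding.trans_apply, Equiv.coe_toEmbedding] at this
    show ((ρ m : Equiv.Perm α)⁻¹ * (a : Equiv.Perm α)) (x₀ i) = x₀ i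
    rw [Equiv.Perm.mul_apply, ← this]
    simp
  have h2 : (ρ m)⁻¹ * a = 1 := Subtype.ext h1
  exact (inv_mul_eq_one.mp h2)

theorem transOn_of_hom {B : Set (Finset α)} {n : ℕ} {M : Type*} [Group M]
    (ρ : M →* ↥(setSystemAut B))
    (htr : ∀ x y : Fin n ↪ α, ∃ m : M, ∀ i, (ρ m : Equiv.Perm α) (x i) = y i) : TransOn n B := by
  intro x y
  obtain ⟨m, hm⟩ := htr x y
  exact ⟨(ρ m).1, (ρ m).2, hm⟩

/-- the form of the statements -/
theorem final_form {B : Set (Finset α)} {n : ℕ} (ht : TransOn n B) (hs : SharpOn n B) :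
    MulAction.IsMultiplyPretransitive (setSystemAut B) α n ∧
      ∀ x : Fin n ↪ α, MulAction.stabilizer (setSystemAut B) x = ⊥ := by
  constructor
  · refine ⟨fun x y => ?_⟩
    obtain ⟨g, hg, hmap⟩ := ht x y
    refine ⟨⟨g, hg⟩, ?_⟩
    ext i : 1
    rw [Function.Embedding.smul_apply]
    exact hmap i
  · intro x
    rw [Subgroup.eq_bot_iff_forall]
    intro g hg
    rw [MulAction.mem_stabilizer_iff] at hg
    apply Subtype.ext
    apply hs g.1 g.2 x
    intro i
    exact DFunLike.congr_fun hg i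

end

/-- the base tuple `0, …, t - 1` -/
def baseEmb {t v : ℕ} (h : t ≤ v) : Fin t ↪ Fin v := Fin.castLEEmb h

theorem sharp_base {t v : ℕ} {std : List ℕ} {tab : List (List (List (ℕ × ℕ × ℕ × ℕ)))}
    (h : sharpOk t v std tab = true) (hstd : IsSteinerSystem t (t + 1) (Std v std)) (htv : t ≤ v) :
    ∀ g ∈ setSystemAut (Std v std), (∀ i, g (baseEmb htv i) = baseEmb htv i) → g = 1 := by
  intro g hg hfix
  apply sharp_of_ok h hstd hg
  intro i hi
  have := hfix ⟨i.val, hi⟩
  have e : baseEmb htv ⟨i.val, hi⟩ = i := Fin.ext rfl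
  rwa [e] at this

end Cfsg.Agent.Lib.Helper10.StCert
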