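import Cfsg.Agent.Lib.Helper10.StCertA

set_option autoImplicit false

/-! Certificate data for the uniqueness of S(5, 6, 12). -/

namespace Cfsg.Agent.Lib.Helper10.StCert

/-- the blocks of the standard S(5, 6, 12) on `Fin 12`, as bit masks -/
def std12 : List ℕ :=
  [4032, 3888, 3312, 1008, 3752, 2920, 1512, 1944, 3416, 2776, 2488, 1656, 3492, 1892, 2788, 2964, 3668, 1492, 1716, 2420, 3852, 1740, 2508, 940, 3180, 3228, 860, 2620, 1340, 252, 2978, 3426, 1762, 3730, 1874, 2514, 1458, 2674, 3466, 3658, 970, 1834, 2282, 2842, 1242, 3130, 698, 378, 1926, 2886, 3270, 3622, 486, 3350, 726, 822, 2230, 1142, 2702, 1358, 2350, 1198, 622, 1566, 414, 2142, 1953, 3681, 2529, 3473, 2897, 1745, 2737, 1393, 2953, 1865, 3273, 3369, 745, 3609, 473, 825, 1209, 2169, 3717, 3397, 965, 2853, 1253, 1813, 2261, 3125, 437, 629, 1421, 2637, 2221, 1581, 365, 2333, 669, 1117, 3843, 2755, 1475, 3235, 867, 915, 2355, 1587, 3155, 243, 1675, 2379, 2603, 427, 1131, 2203, 1307, 603, 2439, 1319, 679, 1607, 2151, 2583,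 1175, 343, 3087, 783, 207, 63]

set_option maxRecDepth 100000 in
/-- the search certificate -/
def cert12 : Cert :=
  (.branch 31 (.cons 5 (.branch 79 (.cons 7 (.branch 271 (.cons 9 (.branch 1039 (.cons 11 (.branch 87 (.cons 8 (.branch 1047 (.cons 7 (.branch 535 (.cons 11 (.branch 2119 (.cons 5 (.branch 583 (.cons 10 (.branch 551 (.cons 7 (.branch 295 (.cons 10 (.branch 391 (.cons 11 (.branch 91 (.cons 9 (.branch 1051 (.cons 8 (.branch 155 (.cons 11 (.branch 1099 (.cons 5 (.branch 171 (.cons 8 (.branch 555 (.cons 11 (.branch 331 (.cons 11 (.branch 651 (.cons 10 (.branch 115 (.cons 7 (.branch 1107 (.cons 11 (.branch 1075 (.cons 9 (.branch 307 (.cons 11 (.branch 403 (.cons 9 (.branch 355 (.cons 9 (.branch 1187 (.cons 11 (.branch 451 (.cons 10 (.branch 707 (.cons 11 (.branch 1795 (.cons 11 (.branch 93 (.cons 10 (.branch 541 (.cons 7 (.branch 285 (.cons 11 (.branch 301 (.cons 6 (.branch 557 (.cons 10 (.branch 173 (.cons 11 (.branch 589 (.cons 11 (.branch 397 (.cons 10 (.branch 117 (.cons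 9 (.branch 181 (.cons 8 (.branch 1077 (.cons 11 (.branch 213 (.cons 11 (.branch 789 (.cons 10 (.branch 229 (.cons 10 (.branch 805 (.cons 11 (.branch 453 (.cons 9 (.branch 1349 (.cons 11 (.branch 1669 (.cons 11 (.branch 121 (.cons 11 (.branch 185 (.cons 10 (.branch 313 (.cons 9 (.branch 217 (.cons 8 (.branch 1561 (.cons 11 (.branch 233 (.cons 9 (.branch 1321 (.cons 11 (.branch 1225 (.cons 11 (.branch 841 (.cons 10 (.branch 905 (.cons 11 (.branch 369 (.cons 10 (.branch 689 (.cons 11 (.branch 721 (.cons 10 (.branch 849 (.cons 11 (.branch 1425 (.cons 11 (.branch 481 (.cons 11 (.branch 1633 (.cons 11 (.branch 929 (.cons 10 (.branch 94 (.cons 11 (.branch 158 (.cons 8 (.branch 542 (.cons 10 (.branch 110 (.cons 9 (.branch 174 (.cons 10 (.branch 302 (.cons 11 (.branch 334 (.cons 10 (.branch 654 (.cons 11 (.branch 118 (.cons 10 (.branch 182 (.cons 11 (.branch 310 (.cons 9 (.branch 214 (.cons 9 (.branch 1302 (.cons 11 (.branch 230 (.cons 8 (.branch 1574 (.cons 11 (.branch 1222 (.cons 11 (.branch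 838 (.cons 11 (.branch 902 (.cons 10 (.branch 122 (.cons 8 (.branch 186 (.cons 9 (.branch 1082 (.cons 11 (.branch 218 (.cons 10 (.branch 794 (.cons 11 (.branch 234 (.cons 11 (.branch 810 (.cons 10 (.branch 458 (.cons 9 (.branch 1610 (.cons 11 (.branch 1418 (.cons 11 (.branch 626 (.cons 11 (.branch 434 (.cons 10 (.branch 466 (.cons 11 (.branch 850 (.cons 10 (.branch 1682 (.cons 11 (.branch 738 (.cons 10 (.branch 1378 (.cons 11 (.branch 930 (.cons 11 (.branch 124 (.cons 7 (.branch 316 (.cons 10 (.branch 572 (.cons 11 (.branch 348 (.cons 9 (.branch 1180 (.cons 11 (.branch 1132 (.cons 11 (.branch 428 (.cons 9 (.branch 460 (.cons 11 (.branch 716 (.cons 10 (.branch 1804 (.cons 11 (.branch 372 (.cons 11 (.branch 692 (.cons 10 (.branch 468 (.cons 10 (.branch 1620 (.cons 11 (.branch 916 (.cons 11 (.branch 740 (.cons 11 (.branch 868 (.cons 10 (.branch 1444 (.cons 11 (.branch 632 (.cons 10 (.branch 440 (.cons 11 (.branch 728 (.cons 11 (.branch 1368 (.cons 11 (.branch 920 (.cons 10 (.branch 488 (.cons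 10 (.branch 872 (.cons 11 (.branch 1704 (.cons 11 (.branch 496 (.cons 9 (.branch 1264 (.cons 11 (.branch 1840 (.cons 11 (.branch 1984 (.cons 11 (.leaf 407901468851537952) .nil) []) .nil) []) .nil) []) .nil) []) .nil) []) .nil) []) .nil) []) .nil) []) .nil) []) .nil) []) .nil) []) .nil) []) .nil) []) .nil) []) .nil) []) .nil) []) .nil) []) .nil) []) .nil) []) .nil) []) .nil) []) .nil) []) .nil) []) .nil) []) .nil) []) .nil) []) .nil) []) .nil) []) .nil) []) .nil) []) .nil) []) .nil) []) .nil) []) .nil) []) .nil) []) .nil) []) .nil) []) .nil) []) .nil) []) .nil) []) .nil) []) .nil) []) .nil) []) .nil) []) .nil) []) .nil) []) .nil) []) .nil) []) .nil) []) .nil) []) .nil) []) .nil) []) .nil) []) .nil) []) .nil) []) .nil) []) .nil) []) .nil) []) .nil) []) .nil) []) .nil) []) .nil) []) .nil) []) .nil) []) .nil) []) .nil) []) .nil) []) .nil) []) .nil) []) .nil) []) .nil) []) .nil) []) .nil) []) .nil) []) .nil) []) .nil) []) .nil) []) .nil) []) .nil) []) .nil) []) .nil) []) .nil) []) .nil) [])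 .nil) []) .nil) []) .nil) []) .nil) []) .nil) []) .nil) []) .nil) []) .nil) []) .nil) []) .nil) []) .nil) []) .nil) []) .nil) []) .nil) []) .nil) []) .nil) []) .nil) []) .nil) []) .nil) [(11, 372998500941662240, 10)]) .nil) []) .nil) []) .nil) []) .nil) []) .nil) []) .nil) []) .nil) []) .nil) []) .nil) []) .nil) []) .nil) []) .nil) []) .nil) []) .nil) []) .nil) []) .nil) []) .nil) []) .nil) [(10, 298582666993829920, 9), (11, 298510066009606176, 9)]) .nil) []) .nil) []) .nil) []) .nil) []) .nil) []) .nil) []) .nil) [(9, 407828971951065120, 7)]) .nil) [(9, 407867383991076896, 8), (10, 333664642767357984, 8), (11, 333630557906896928, 8)]) .nil) []) .nil) [(10, 406810753316784160, 9), (11, 370817140669909024, 9)]) .nil) [(8, 407900403699648544, 7), (9, 407865253687298080, 7), (10, 406739388140193824, 7), (11, 370710625480968224, 7)]) .nil) [(6, 407901467811350560, 5), (7, 407901433485166624, 5), (8, 407900334007093280, 5), (9, 407865149668558880, 5), (10, 406739249795270688, 5), (11, 370710452809861152,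 5)])

set_option maxRecDepth 100000 in
theorem cover12 : coverOk 5 12 std12 = true := by decide +kernel

set_option maxRecDepth 100000 in
theorem chk12 : chk 5 12 std12 cert12 none [] = true := by decide +kernel

end Cfsg.Agent.Lib.Helper10.StCert
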