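import Cfsg.Agent.Lib.Helper10.StSharp
import Cfsg.Agent.Lib.Helper10.StData12

set_option autoImplicit false

/-! Refutation tables: an automorphism of the standard S(5, 6, 12) fixing the first 5 points
is trivial. -/

namespace Cfsg.Agent.Lib.Helper10.StCert

/-- refutation steps for `σ x = y`, `x ≠ y` -/
def sharpTab12 : List (List (List (ℕ × ℕ × ℕ × ℕ))) :=
  [
    [[], [], [], [], [], [], [], [], [], [], [], []],
    [[], [], [], [], [], [], [], [], [], [], [], []],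
    [[], [], [], [], [], [], [], [], [], [], [], []],
    [[], [], [], [], [], [], [], [], [], [], [], []],
    [[], [], [], [], [], [], [], [], [], [], [], []],
    [[], [], [], [], [], [], [(63, 2142, 0, 11)], [(63, 414, 0, 8)], [(63, 414, 0, 7)], [(63, 1566, 0, 10)], [(63, 1566, 0, 9)], [(63, 2142, 0, 6)]],
    [[], [], [], [], [], [(2142, 63, 11, 0)], [], [(2142, 414, 11, 8), (2169, 473, 5, 6), (2261, 437, 7, 5), (3125, 343, 10, 1)], [(2142, 414, 11, 7), (2169, 473, 5, 6), (2261, 437, 7, 5), (3125, 2261, 10, 11), (437, 629, 8, 9), (629, 343, 9, 1)], [(2142, 1566, 11, 10), (2169, 3609, 5, 11), (2261, 1813, 7, 8), (3125, 3125, 10, 5), (437, 2333, 8, 3)], [(2142, 1566, 11, 9), (2169, 3609, 5, 11), (2261, 1813, 7, 8), (3125, 2583, 10, 1)], [(2142, 2142, 11, 6), (2169, 2169, 5, 5), (2261, 2261, 7, 7), (3125, 629, 10, 9), (437, 437, 8, 8), (629, 3125, 9, 10), (1421, 940, 0, 5)]],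
    [[], [], [], [], [], [(414, 63, 8, 0)], [(414, 2142, 8, 11), (473, 2169, 6, 5), (965, 2151, 9, 1)], [], [(414, 414, 8, 7), (473, 473, 6, 6), (965, 965, 9, 9), (1813, 669, 10, 3)], [(414, 1566, 8, 10), (473, 3609, 6, 11), (965, 3717, 9, 7), (1813, 1175, 10, 1)], [(414, 1566, 8, 9), (473, 3609, 6, 11), (965, 3717, 9, 7), (1813, 669, 10, 3)], [(414, 2142, 8, 6), (473, 2169, 6, 5), (965, 2151, 9, 1)]],
    [[], [], [], [], [], [(414, 63, 7, 0)], [(414, 2142, 7, 11), (473, 2169, 6, 5), (965, 2151, 9, 1)], [(414, 414, 7, 8), (473, 473, 6, 6), (965, 965, 9, 9), (1813, 669, 10, 3)], [], [(414, 1566, 7, 10), (473, 3609, 6, 11), (965, 3717, 9, 7), (1813, 669, 10, 3)], [(414, 1566, 7, 9), (473, 3609, 6, 11), (965, 3717, 9, 7), (1813, 1175, 10, 1)], [(414, 2142, 7, 6), (473, 2169, 6, 5), (965, 2151, 9, 1)]],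
    [[], [], [], [], [], [(1566, 63, 10, 0)], [(1566, 2142, 10, 11), (3609, 2169, 11, 5), (3717, 2151, 7, 1)], [(1566, 414, 10, 8), (3609, 473, 11, 6), (3717, 965, 7, 9), (1813, 437, 8, 5), (2261, 629, 6, 5)], [(1566, 414, 10, 7), (3609, 473, 11, 6), (3717, 965, 7, 9), (1813, 437, 8, 5), (2261, 629, 6, 5)], [], [(1566, 1566, 10, 9), (3609, 3609, 11, 11), (3717, 3717, 7, 7), (1813, 1813, 8, 8), (2261, 2261, 6, 6), (3125, 2583, 5, 1)], [(1566, 2142, 10, 6), (3609, 2169, 11, 5), (3717, 2151, 7, 1)]],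
    [[], [], [], [], [], [(1566, 63, 9, 0)], [(1566, 2142, 9, 11), (3609, 2169, 11, 5), (3717, 2151, 7, 1)], [(1566, 414, 9, 8), (3609, 473, 11, 6), (3717, 965, 7, 9), (1813, 437, 8, 5), (2261, 629, 6, 5)], [(1566, 414, 9, 7), (3609, 473, 11, 6), (3717, 965, 7, 9), (1813, 437, 8, 5), (2261, 629, 6, 5)], [(1566, 1566, 9, 10), (3609, 3609, 11, 11), (3717, 3717, 7, 7), (1813, 1813, 8, 8), (2261, 2261, 6, 6), (3125, 2583, 5, 1)], [], [(1566, 2142, 9, 6), (3609, 2169, 11, 5), (3717, 2151, 7, 1)]],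
    [[], [], [], [], [], [(2142, 63, 6, 0)], [(2142, 2142, 6, 11), (2169, 2169, 5, 5), (2261, 2261, 7, 7), (3125, 629, 10, 9), (437, 437, 8, 8), (629, 3125, 9, 10), (1421, 940, 0, 5)], [(2142, 414, 6, 8), (2169, 473, 5, 6), (2261, 437, 7, 5), (3125, 2261, 10, 11), (437, 629, 8, 9), (629, 343, 9, 1)], [(2142, 414, 6, 7), (2169, 473, 5, 6), (2261, 437, 7, 5), (3125, 343, 10, 1)], [(2142, 1566, 6, 10), (2169, 3609, 5, 11), (2261, 1813, 7, 8), (3125, 2583, 10, 1)], [(2142, 1566, 6, 9), (2169, 3609, 5, 11), (2261, 1813, 7, 8), (3125, 3125, 10, 5), (437, 2333, 8, 3)], []]]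

set_option maxRecDepth 100000 in
theorem sharpOk12 : sharpOk 5 12 std12 sharpTab12 = true := by decide +kernel

end Cfsg.Agent.Lib.Helper10.StCert
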