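import Cfsg.Agent.Lib.Helper10.StCertA

set_option autoImplicit false

/-! Certificate data for the uniqueness of S(4, 5, 11). -/

namespace Cfsg.Agent.Lib.Helper10.StCert

/-- the blocks of the standard S(4, 5, 11) on `Fin 11`, as bit masks -/
def std11 : List ℕ :=
  [976, 1840, 1264, 1736, 1448, 872, 1368, 696, 1476, 932, 1636, 1684, 372, 1804, 236, 412, 604, 1084, 1858, 1698, 482, 1426, 626, 906, 1130, 1562, 218, 314, 710, 1318, 1110, 790, 182, 1166, 334, 558, 1921, 1377, 737, 1617, 433, 457, 1177, 793, 1577, 121, 837, 1189, 1301, 213, 565, 1101, 653, 301, 1219, 659, 339, 803, 1075, 1291, 587, 171, 1543, 391, 103, 31]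

set_option maxRecDepth 100000 in
/-- the search certificate -/
def cert11 : Cert :=
  (.branch 15 (.cons 4 (.branch 39 (.cons 6 (.branch 135 (.cons 8 (.branch 519 (.cons 10 (.branch 43 (.cons 7 (.branch 523 (.cons 6 (.branch 267 (.cons 10 (.branch 1059 (.cons 4 (.branch 291 (.cons 9 (.branch 275 (.cons 6 (.branch 147 (.cons 9 (.branch 195 (.cons 10 (.branch 45 (.cons 8 (.branch 525 (.cons 7 (.branch 77 (.cons 10 (.branch 549 (.cons 4 (.branch 85 (.cons 7 (.branch 277 (.cons 10 (.branch 165 (.cons 10 (.branch 325 (.cons 9 (.branch 57 (.cons 6 (.branch 553 (.cons 10 (.branch 537 (.cons 8 (.branch 153 (.cons 10 (.branch 201 (.cons 8 (.branch 177 (.cons 8 (.branch 593 (.cons 10 (.branch 225 (.cons 9 (.branch 353 (.cons 10 (.branch 897 (.cons 10 (.branch 46 (.cons 9 (.branch 270 (.cons 6 (.branch 142 (.cons 10 (.branch 150 (.cons 5 (.branch 278 (.cons 9 (.branch 86 (.cons 10 (.branch 294 (.cons 10 (.branch 198 (.cons 9 (.branch 58 (.cons 8 (.branch 90 (.cons 7 (.branch 538 (.cons 10 (.branch 106 (.cons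 10 (.branch 394 (.cons 9 (.branch 114 (.cons 9 (.branch 402 (.cons 10 (.branch 226 (.cons 8 (.branch 674 (.cons 10 (.branch 834 (.cons 10 (.branch 60 (.cons 10 (.branch 92 (.cons 9 (.branch 156 (.cons 8 (.branch 108 (.cons 7 (.branch 780 (.cons 10 (.branch 116 (.cons 8 (.branch 660 (.cons 10 (.branch 612 (.cons 10 (.branch 420 (.cons 9 (.branch 452 (.cons 10 (.branch 184 (.cons 9 (.branch 344 (.cons 10 (.branch 360 (.cons 9 (.branch 424 (.cons 10 (.branch 712 (.cons 10 (.branch 240 (.cons 10 (.branch 816 (.cons 10 (.branch 464 (.cons 9 (.leaf 11584701642934304) .nil) []) .nil) []) .nil) []) .nil) []) .nil) []) .nil) []) .nil) []) .nil) []) .nil) []) .nil) []) .nil) []) .nil) []) .nil) []) .nil) []) .nil) []) .nil) []) .nil) []) .nil) []) .nil) []) .nil) []) .nil) []) .nil) []) .nil) []) .nil) []) .nil) []) .nil) []) .nil) []) .nil) []) .nil) []) .nil) []) .nil) []) .nil) []) .nil) []) .nil) []) .nil) []) .nil) [(10, 10493983895750688, 9)]) .nil) []) .nil) []) .nil) []) .nil) []) .nil) []) .nil) [])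 .nil) []) .nil) []) .nil) []) .nil) []) .nil) []) .nil) []) .nil) []) .nil) []) .nil) []) .nil) []) .nil) []) .nil) [(9, 8168489084880928, 8), (10, 8166220304123936, 8)]) .nil) []) .nil) []) .nil) []) .nil) []) .nil) []) .nil) []) .nil) [(8, 11582436114794528, 6)]) .nil) [(8, 11583636491044896, 7), (9, 9264800827803680, 7), (10, 9263735675914272, 7)]) .nil) []) .nil) [(9, 11550616782473248, 8), (10, 10425816387258400, 8)]) .nil) [(7, 11584668356937760, 6), (8, 11583569919051808, 6), (9, 11548386620704800, 6), (10, 10422487787604000, 6)]) .nil) [(5, 11584701610428448, 4), (6, 11584700537735200, 4), (7, 11584666179045408, 4), (8, 11583566668466208, 4), (9, 11548382297425952, 4), (10, 10422482391631904, 4)])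

set_option maxRecDepth 100000 in
theorem cover11 : coverOk 4 11 std11 = true := by decide +kernel

set_option maxRecDepth 100000 in
theorem chk11 : chk 4 11 std11 cert11 none [] = true := by decide +kernel

end Cfsg.Agent.Lib.Helper10.StCert
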