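import Cfsg.Agent.Lib.Helper10.StCertA
import Cfsg.Agent.Lib.Helper10.StData11
import Cfsg.Agent.Lib.Helper10.StData12

set_option autoImplicit false

/-! Uniqueness of the Steiner systems S(5, 6, 12) and S(4, 5, 11). -/

namespace Cfsg.Agent.Lib.Helper10.StCert

open Cfsg Cfsg.Agent.Lib.Helper28.SteinerDerived

/-- every S(5, 6, 12) is isomorphic to the standard one on `Fin 12` -/
theorem iso_std12 {α : Type*} [Fintype α] [DecidableEq α] (hα : Fintype.card α = 12)
    {B : Set (Finset α)} (hB : IsSteinerSystem 5 6 B) : SetSystemIso B (Std 12 std12) :=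
  unique_gen (t := 5) cert12 cover12 chk12 hα hB

/-- every S(4, 5, 11) is isomorphic to the standard one on `Fin 11` -/
theorem iso_std11 {α : Type*} [Fintype α] [DecidableEq α] (hα : Fintype.card α = 11)
    {B : Set (Finset α)} (hB : IsSteinerSystem 4 5 B) : SetSystemIso B (Std 11 std11) :=
  unique_gen (t := 4) cert11 cover11 chk11 hα hB

/-- S0408 -/
theorem steiner_5_6_12_unique {α β : Type*} [Fintype α] [DecidableEq α] [Fintype β]
    [DecidableEq β] (hα : Fintype.card α = 12) (hβ : Fintype.card β = 12) {B : Set (Finset α)}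
    {B' : Set (Finset β)} (hB : IsSteinerSystem 5 6 B) (hB' : IsSteinerSystem 5 6 B') :
    SetSystemIso B B' :=
  iso_trans (iso_std12 hα hB) (iso_symm (iso_std12 hβ hB'))

/-- S0411 -/
theorem steiner_4_5_11_unique {α β : Type*} [Fintype α] [DecidableEq α] [Fintype β]
    [DecidableEq β] (hα : Fintype.card α = 11) (hβ : Fintype.card β = 11) {B : Set (Finset α)}
    {B' : Set (Finset β)} (hB : IsSteinerSystem 4 5 B) (hB' : IsSteinerSystem 4 5 B') :
    SetSystemIso B B' :=
  iso_trans (iso_std11 hα hB) (iso_symm (iso_std11 hβ hB'))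

end Cfsg.Agent.Lib.Helper10.StCert
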