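import Cfsg.Prelude.Def_Sporadic
import Cfsg.Agent.Lib.Helper10.StAut
import Cfsg.Agent.Lib.Helper10.StUnique
import Cfsg.Agent.Lib.Helper10.StSharpData12
import Cfsg.Agent.Lib.Helper3.Golay.Dodecad
import Cfsg.Agent.S0382
import Cfsg.Agent.S0383
import Cfsg.Agent.S0384
import Cfsg.Agent.S0385
import Cfsg.Agent.S1602

set_option autoImplicit false

/-! The automorphism group of an S(5, 6, 12) is the Mathieu group of degree 12. -/

namespace Cfsg.Agent.Lib.Helper10.StCert

open Cfsg Cfsg.Agent.Lib.Helper28.GolayCode Cfsg.Agent.Lib.Helper28.SteinerDerived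
open Cfsg.Agent.S1602 (ψ ψ_apply mem_iff_of_smul_eq eq_one_of_fix)
open scoped Pointwise

/-- the hexads of a dodecad, as subsets of the dodecad -/
def Hex (d : Finset GolayPt) : Set (Finset {p : GolayPt // p ∈ d}) :=
  {h | ∃ o ∈ octads, (o ∩ d).card = 6 ∧ h = Finset.subtype (fun p => p ∈ d) o}

theorem isSteiner_Hex {d : Finset GolayPt} (hd : d ∈ dodecads) : IsSteinerSystem 5 6 (Hex d) :=
  Cfsg.Agent.S0385.result d hd

/-- the stabiliser of a dodecad -/
abbrev M12g (d : Finset GolayPt) : Subgroup ↥M24 := MulAction.stabilizer M24 d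

theorem M12_inv {d : Finset GolayPt} :
    ∀ g ∈ M12g d, ∀ x, (g : Equiv.Perm GolayPt) x ∈ d ↔ x ∈ d := fun g hg x =>
  mem_iff_of_smul_eq (show (g : Equiv.Perm GolayPt) • d = d from hg) x

theorem psi_image_hex {d : Finset GolayPt} (g : ↥(M12g d)) {h : Finset {p : GolayPt // p ∈ d}}
    (hh : h ∈ Hex d) : h.image (ψ (M12g d) d M12_inv g) ∈ Hex d := by
  obtain ⟨o, ho, hc, rfl⟩ := hh
  have hgd : (g.1.1 : Equiv.Perm GolayPt) • d = d := g.2
  refine ⟨(g.1.1 : Equiv.Perm GolayPt) • o, smul_mem_octads g.1.2 ho, ?_, ?_⟩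
  · have e : (g.1.1 : Equiv.Perm GolayPt) • o ∩ d = (g.1.1 : Equiv.Perm GolayPt) • (o ∩ d) := by
      rw [Finset.smul_finset_inter, hgd]
    rw [e, Finset.card_smul_finset, hc]
  · ext ⟨y, hy⟩
    rw [Finset.mem_image, Finset.mem_subtype, mem_smul_finset_perm]
    constructor
    · rintro ⟨x, hx, hxy⟩
      rw [Finset.mem_subtype] at hx
      have : (g.1.1 : Equiv.Perm GolayPt) x.1 = y := congrArg Subtype.val hxy
      show (g.1.1 : Equiv.Perm GolayPt).symm y ∈ o
      rw [← this, Equiv.symm_apply_apply]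
      exact hx
    · intro hy'
      have hd' : (g.1.1 : Equiv.Perm GolayPt).symm y ∈ d := by
        rw [← M12_inv g.1 g.2, Equiv.apply_symm_apply]; exact hy
      refine ⟨⟨_, hd'⟩, Finset.mem_subtype.mpr hy', Subtype.ext ?_⟩
      rw [ψ_apply]
      exact Equiv.apply_symm_apply _ _

/-- the restriction of the dodecad stabiliser to the dodecad -/
noncomputable def rho12 (d : Finset GolayPt) : ↥(M12g d) →* ↥(setSystemAut (Hex d)) :=
  (ψ (M12g d) d M12_inv).codRestrict _ (fun g => by
    apply mem_aut_of_forall (fun h hh => psi_image_hex g hh)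
    intro h hh
    have : (ψ (M12g d) d M12_inv g).symm = ψ (M12g d) d M12_inv g⁻¹ := by
      rw [map_inv]; rfl
    rw [this]
    exact psi_image_hex g⁻¹ hh)

theorem rho12_apply {d : Finset GolayPt} (g : ↥(M12g d)) (x : {p : GolayPt // p ∈ d}) :
    (((rho12 d g : ↥(setSystemAut (Hex d))) : Equiv.Perm {p : GolayPt // p ∈ d}) x).1 =
      (g.1.1 : Equiv.Perm GolayPt) x.1 := rfl

theorem rho12_injective {d : Finset GolayPt} (hd : d ∈ dodecads) :
    Function.Injective (rho12 d) := by
  rw [injective_iff_map_eq_one]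
  intro g hg
  obtain ⟨Ω5, hsub5, h5⟩ := Finset.exists_subset_card_eq (s := d) (n := 5) (by rw [hd.2]; norm_num)
  have h1 : (g.1.1 : Equiv.Perm GolayPt) = 1 := by
    apply eq_one_of_fix hd h5 hsub5 ⟨g.1.2, g.2⟩
    intro x hx
    have := rho12_apply g ⟨x, hsub5 hx⟩
    rw [hg] at this
    exact this.symm
  exact Subtype.ext (Subtype.ext h1)

theorem rho12_trans {d : Finset GolayPt} (hd : d ∈ dodecads)
    (x y : Fin 5 ↪ {p : GolayPt // p ∈ d}) :
    ∃ m : ↥(M12g d), ∀ i, ((rho12 d m : ↥(setSystemAut (Hex d))) :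
      Equiv.Perm {p : GolayPt // p ∈ d}) (x i) = y i := by
  obtain ⟨g, hg, -⟩ := Cfsg.Agent.S0384.result d hd
    (x.trans (Function.Embedding.subtype _)) (y.trans (Function.Embedding.subtype _))
    (fun i => (x i).2) (fun i => (y i).2)
  refine ⟨g, fun i => Subtype.ext ?_⟩
  rw [rho12_apply]
  exact hg i

theorem card_dodecad_pts {d : Finset GolayPt} (hd : d ∈ dodecads) :
    Fintype.card {p : GolayPt // p ∈ d} = 12 := by
  rw [Fintype.card_coe, hd.2]

/-- the standard S(5, 6, 12) on `Fin 12` is a Steiner system whose automorphism group is simple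
of order 95040 and sharply 5-transitive -/
theorem std12_good : IsSteinerSystem 5 6 (Std 12 std12) ∧
    IsSimpleGroup ↥(setSystemAut (Std 12 std12)) ∧
    Nat.card ↥(setSystemAut (Std 12 std12)) = 95040 ∧
    TransOn 5 (Std 12 std12) ∧ SharpOn 5 (Std 12 std12) := by
  have hd := Cfsg.Agent.Lib.Helper3.Golay.d0_mem
  set d := Cfsg.Agent.Lib.Helper3.Golay.bitSet Cfsg.Agent.Lib.Helper3.Golay.d0 with hdd
  have hH := isSteiner_Hex hd
  obtain ⟨e, he⟩ := iso_std12 (card_dodecad_pts hd) hH
  have he' : imgSys e (Hex d) = Std 12 std12 := he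
  have hStd : IsSteinerSystem 5 6 (Std 12 std12) := he' ▸ isSteiner_imgSys e hH
  have htH : TransOn 5 (Hex d) := transOn_of_hom (rho12 d) (rho12_trans hd)
  have htS : TransOn 5 (Std 12 std12) := he' ▸ htH.img e
  have hsS : SharpOn 5 (Std 12 std12) :=
    sharpOn_of_base htS (baseEmb (by norm_num)) (sharp_base sharpOk12 hStd (by norm_num))
  have hsH : SharpOn 5 (Hex d) := by
    have := hsS.img e.symm
    rwa [← he', imgSys_symm] at this
  have hbij := bijective_of_sharp (n := 5) (by rw [card_dodecad_pts hd]; norm_num) (rho12 d)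
    (rho12_injective hd) (rho12_trans hd) hsH
  let E1 : ↥(M12g d) ≃* ↥(setSystemAut (Hex d)) := MulEquiv.ofBijective (rho12 d) hbij
  have E2 : ↥(setSystemAut (Hex d)) ≃* ↥(setSystemAut (Std 12 std12)) := by
    have := autCongr e (Hex d)
    rwa [he'] at this
  have E := E1.trans E2
  have : IsSimpleGroup ↥(M12g d) := Cfsg.Agent.S0383.result d hd
  refine ⟨hStd, MulEquiv.isSimpleGroup E.symm, ?_, htS, hsS⟩
  rw [← Nat.card_congr E.toEquiv]
  exact Cfsg.Agent.S0382.result d hd

/-- S0425 -/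
theorem steiner_5_6_12_aut {α : Type*} [Fintype α] [DecidableEq α] (hα : Fintype.card α = 12)
    {B : Set (Finset α)} (hB : IsSteinerSystem 5 6 B) :
    IsM12 (setSystemAut B) ∧ MulAction.IsMultiplyPretransitive (setSystemAut B) α 5 ∧
      ∀ x : Fin 5 ↪ α, MulAction.stabilizer (setSystemAut B) x = ⊥ := by
  obtain ⟨-, hsimple, hcard, htS, hsS⟩ := std12_good
  obtain ⟨e, he⟩ := iso_std12 hα hB
  have he' : imgSys e B = Std 12 std12 := he
  have E : ↥(setSystemAut B) ≃* ↥(setSystemAut (Std 12 std12)) := by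
    have := autCongr e B
    rwa [he'] at this
  have ht : TransOn 5 B := by
    have := htS.img e.symm
    rwa [← he', imgSys_symm] at this
  have hs : SharpOn 5 B := by
    have := hsS.img e.symm
    rwa [← he', imgSys_symm] at this
  have := hsimple
  refine ⟨⟨MulEquiv.isSimpleGroup E, ?_⟩, (final_form ht hs).1, (final_form ht hs).2⟩
  rw [Nat.card_congr E.toEquiv]
  exact hcard

end Cfsg.Agent.Lib.Helper10.StCert
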