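import Cfsg.Agent.Lib.Helper10.StSharp
import Cfsg.Agent.Lib.Helper10.StData11

set_option autoImplicit false

/-! Refutation tables: an automorphism of the standard S(4, 5, 11) fixing the first 4 points
is trivial. -/

namespace Cfsg.Agent.Lib.Helper10.StCert

/-- refutation steps for `σ x = y`, `x ≠ y` -/
def sharpTab11 : List (List (List (ℕ × ℕ × ℕ × ℕ))) :=
  [
    [[], [], [], [], [], [], [], [], [], [], []],
    [[], [], [], [], [], [], [], [], [], [], []],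
    [[], [], [], [], [], [], [], [], [], [], []],
    [[], [], [], [], [], [], [], [], [], [], []],
    [[], [], [], [], [], [(31, 558, 0, 9)], [(31, 334, 0, 8)], [(31, 1166, 0, 10)], [(31, 334, 0, 6)], [(31, 558, 0, 5)], [(31, 1166, 0, 7)]],
    [[], [], [], [], [(558, 31, 9, 0)], [], [(558, 334, 9, 8), (1577, 457, 10, 7), (1189, 213, 7, 4), (565, 837, 4, 9), (1101, 653, 6, 9)], [(558, 1166, 9, 10), (1577, 1177, 10, 4), (1189, 213, 7, 6), (565, 1189, 4, 5), (1101, 31, 6, 1)], [(558, 334, 9, 6), (1577, 457, 10, 7), (1189, 391, 7, 1)], [(558, 558, 9, 5), (1577, 1577, 10, 10), (1189, 1543, 7, 1)], [(558, 1166, 9, 7), (1577, 1177, 10, 4), (1189, 1301, 7, 8), (565, 1189, 4, 5), (1101, 31, 6, 1)]],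
    [[], [], [], [], [(334, 31, 8, 0)], [(334, 558, 8, 9), (457, 1577, 7, 10), (837, 565, 9, 4), (213, 1189, 4, 7), (565, 213, 5, 6), (1101, 301, 10, 8), (653, 1084, 0, 5)], [], [(334, 1166, 8, 10), (457, 1177, 7, 4), (837, 1189, 9, 5), (213, 213, 4, 6), (565, 103, 5, 1)], [(334, 334, 8, 6), (457, 457, 7, 7), (837, 837, 9, 9), (213, 391, 4, 1)], [(334, 558, 8, 5), (457, 1577, 7, 10), (837, 565, 9, 4), (213, 1543, 4, 1)], [(334, 1166, 8, 7), (457, 1177, 7, 4), (837, 1189, 9, 5), (213, 1301, 4, 8), (565, 301, 5, 3)]],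
    [[], [], [], [], [(1166, 31, 10, 0)], [(1166, 558, 10, 9), (1177, 1577, 4, 10), (1189, 565, 5, 4), (1301, 1543, 8, 1)], [(1166, 334, 10, 8), (1177, 457, 4, 7), (1189, 837, 5, 9), (1301, 391, 8, 1)], [], [(1166, 334, 10, 6), (1177, 457, 4, 7), (1189, 837, 5, 9), (1301, 213, 8, 4), (213, 391, 6, 1)], [(1166, 558, 10, 5), (1177, 1577, 4, 10), (1189, 565, 5, 4), (1301, 1189, 8, 7), (213, 1543, 6, 1)], [(1166, 1166, 10, 7), (1177, 1177, 4, 4), (1189, 1189, 5, 5), (1301, 213, 8, 6), (213, 1301, 6, 8), (565, 565, 9, 9), (1101, 412, 0, 4)]],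
    [[], [], [], [], [(334, 31, 6, 0)], [(334, 558, 6, 9), (457, 1577, 7, 10), (837, 565, 9, 4), (213, 1543, 4, 1)], [(334, 334, 6, 8), (457, 457, 7, 7), (837, 837, 9, 9), (213, 391, 4, 1)], [(334, 1166, 6, 10), (457, 1177, 7, 4), (837, 1189, 9, 5), (213, 1301, 4, 8), (565, 301, 5, 3)], [], [(334, 558, 6, 5), (457, 1577, 7, 10), (837, 565, 9, 4), (213, 1189, 4, 7), (565, 213, 5, 6), (1101, 301, 10, 8), (653, 1084, 0, 5)], [(334, 1166, 6, 7), (457, 1177, 7, 4), (837, 1189, 9, 5), (213, 213, 4, 6), (565, 103, 5, 1)]],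
    [[], [], [], [], [(558, 31, 5, 0)], [(558, 558, 5, 9), (1577, 1577, 10, 10), (1189, 1543, 7, 1)], [(558, 334, 5, 8), (1577, 457, 10, 7), (1189, 391, 7, 1)], [(558, 1166, 5, 10), (1577, 1177, 10, 4), (1189, 1301, 7, 8), (565, 1189, 4, 5), (1101, 31, 6, 1)], [(558, 334, 5, 6), (1577, 457, 10, 7), (1189, 213, 7, 4), (565, 837, 4, 9), (1101, 653, 6, 9)], [], [(558, 1166, 5, 7), (1577, 1177, 10, 4), (1189, 213, 7, 6), (565, 1189, 4, 5), (1101, 31, 6, 1)]],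
    [[], [], [], [], [(1166, 31, 7, 0)], [(1166, 558, 7, 9), (1177, 1577, 4, 10), (1189, 565, 5, 4), (1301, 1189, 8, 7), (213, 1543, 6, 1)], [(1166, 334, 7, 8), (1177, 457, 4, 7), (1189, 837, 5, 9), (1301, 213, 8, 4), (213, 391, 6, 1)], [(1166, 1166, 7, 10), (1177, 1177, 4, 4), (1189, 1189, 5, 5), (1301, 213, 8, 6), (213, 1301, 6, 8), (565, 565, 9, 9), (1101, 412, 0, 4)], [(1166, 334, 7, 6), (1177, 457, 4, 7), (1189, 837, 5, 9), (1301, 391, 8, 1)], [(1166, 558, 7, 5), (1177, 1577, 4, 10), (1189, 565, 5, 4), (1301, 1543, 8, 1)], []]]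

set_option maxRecDepth 100000 in
theorem sharpOk11 : sharpOk 4 11 std11 sharpTab11 = true := by decide +kernel

end Cfsg.Agent.Lib.Helper10.StCert
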