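import Cfsg.Prelude.Def_Sporadic
import Cfsg.Agent.Lib.Helper10.StAut12
import Cfsg.Agent.Lib.Helper10.StSharpData11
import Cfsg.Agent.Lib.Helper3.Golay.Dodecad3
import Cfsg.Agent.S0387
import Cfsg.Agent.S0388

set_option autoImplicit false

/-! The automorphism group of an S(4, 5, 11) is the Mathieu group of degree 11. -/

namespace Cfsg.Agent.Lib.Helper10.StCert

open Cfsg Cfsg.Agent.Lib.Helper28.GolayCode Cfsg.Agent.Lib.Helper28.SteinerDerived
open Cfsg.Agent.S1602 (ψ ψ_apply mem_iff_of_smul_eq eq_one_of_fix Kgrp)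
open scoped Pointwise

/-- the hexads of a dodecad through a point, minus the point -/
def Pent (d : Finset GolayPt) (p : GolayPt) : Set (Finset {q : GolayPt // q ∈ d.erase p}) :=
  {h | ∃ o ∈ octads, (o ∩ d).card = 6 ∧ p ∈ o ∧ h = Finset.subtype (fun q => q ∈ d.erase p) o}

/-- the inclusion of the points other than `p` -/
def incl (d : Finset GolayPt) (p : GolayPt) :
    {q : GolayPt // q ∈ d.erase p} ↪ {q : GolayPt // q ∈ d} :=
  Subtype.impEmbedding _ _ (fun _ h => Finset.mem_of_mem_erase h)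

theorem incl_val {d : Finset GolayPt} {p : GolayPt} (q : {q : GolayPt // q ∈ d.erase p}) :
    (incl d p q).1 = q.1 := rfl

/-- the tuple `p, z 0, …, z 3` -/
def extN (p : GolayPt) {s : Finset GolayPt} (z : Fin 4 ↪ {q : GolayPt // q ∈ s}) : ℕ → GolayPt :=
  fun i => if i = 0 then p else if h : i - 1 < 4 then (z ⟨i - 1, h⟩).1 else p

theorem extN_zero (p : GolayPt) {s : Finset GolayPt} (z : Fin 4 ↪ {q : GolayPt // q ∈ s}) :
    extN p z 0 = p := by simp [extN]

theorem extN_succ (p : GolayPt) {s : Finset GolayPt} (z : Fin 4 ↪ {q : GolayPt // q ∈ s})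
    (j : Fin 4) : extN p z (j.val + 1) = (z j).1 := by
  have h1 : j.val + 1 ≠ 0 := by omega
  have h2 : j.val + 1 - 1 < 4 := by have := j.isLt; omega
  simp only [extN, h1, if_false, h2, dif_pos]
  congr 2

theorem extN_pos (p : GolayPt) {s : Finset GolayPt} (z : Fin 4 ↪ {q : GolayPt // q ∈ s})
    {i : ℕ} (hi : i < 5) (hpos : 0 < i) : extN p z i = (z ⟨i - 1, by omega⟩).1 := by
  have := extN_succ p z ⟨i - 1, by omega⟩
  simp only at this
  rwa [show i - 1 + 1 = i by omega] at this

theorem extN_inj {p : GolayPt} {s : Finset GolayPt} (hps : p ∉ s)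
    (z : Fin 4 ↪ {q : GolayPt // q ∈ s}) :
    ∀ i < 5, ∀ j < 5, extN p z i = extN p z j → i = j := by
  intro i hi j hj hij
  rcases Nat.eq_zero_or_pos i with rfl | hpi
  · rcases Nat.eq_zero_or_pos j with rfl | hpj
    · rfl
    · exfalso
      rw [extN_zero, extN_pos p z hj hpj] at hij
      exact hps (hij ▸ (z _).2)
  · rcases Nat.eq_zero_or_pos j with rfl | hpj
    · exfalso
      rw [extN_zero, extN_pos p z hi hpi] at hij
      exact hps (hij ▸ (z _).2)
    · rw [extN_pos p z hi hpi, extN_pos p z hj hpj] at hij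
      have := z.injective (Subtype.ext hij)
      have : i - 1 = j - 1 := congrArg Fin.val this
      omega

theorem isSteiner_Pent {d : Finset GolayPt} (hd : d ∈ dodecads) {p : GolayPt} (hp : p ∈ d) :
    IsSteinerSystem 4 5 (Pent d p) := by
  have hH := isSteiner_Hex hd
  constructor
  · rintro h ⟨o, ho, hc, hpo, rfl⟩
    rw [Finset.card_subtype]
    have e : o.filter (fun q => q ∈ d.erase p) = (o ∩ d).erase p := by
      ext q
      simp only [Finset.mem_filter, Finset.mem_erase, Finset.mem_inter]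
      tauto
    rw [e, Finset.card_erase_of_mem (Finset.mem_inter.mpr ⟨hpo, hp⟩), hc]
  · intro s hs
    have hps : (⟨p, hp⟩ : {q : GolayPt // q ∈ d}) ∉ s.map (incl d p) := by
      rw [Finset.mem_map]
      rintro ⟨q, -, hq⟩
      have : q.1 = p := congrArg Subtype.val hq
      exact Finset.ne_of_mem_erase q.2 this
    have hs'c : (insert (⟨p, hp⟩ : {q : GolayPt // q ∈ d}) (s.map (incl d p))).card = 5 := by
      rw [Finset.card_insert_of_notMem hps, Finset.card_map, hs]
    obtain ⟨h', ⟨⟨o, ho, hc, hh'⟩, hsub⟩, huniq⟩ := hH.2 _ hs'c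
    rw [hh'] at hsub
    have hpo : p ∈ o := by
      have := hsub (Finset.mem_insert_self _ _)
      exact Finset.mem_subtype.mp this
    refine ⟨Finset.subtype (fun q => q ∈ d.erase p) o, ⟨⟨o, ho, hc, hpo, rfl⟩, ?_⟩, ?_⟩
    · intro q hq
      rw [Finset.mem_subtype]
      have : incl d p q ∈ insert (⟨p, hp⟩ : {q : GolayPt // q ∈ d}) (s.map (incl d p)) :=
        Finset.mem_insert_of_mem (Finset.mem_map_of_mem _ hq)
      have h2 : (incl d p q).1 ∈ o := Finset.mem_subtype.mp (hsub this)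
      rwa [incl_val] at h2
    · rintro b₂ ⟨⟨o₂, ho₂, hc₂, hpo₂, hb₂⟩, hsub₂⟩
      rw [hb₂] at hsub₂ ⊢
      have hsub₂' : insert (⟨p, hp⟩ : {q : GolayPt // q ∈ d}) (s.map (incl d p)) ⊆
          Finset.subtype (fun q => q ∈ d) o₂ := by
        intro z hz
        rw [Finset.mem_insert] at hz
        rw [Finset.mem_subtype]
        rcases hz with hz | hz
        · rw [hz]; exact hpo₂
        · obtain ⟨q, hq, hqz⟩ := Finset.mem_map.mp hz
          rw [← hqz, incl_val]
          have h2 : q.1 ∈ o₂ := Finset.mem_subtype.mp (hsub₂ hq)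
          exact h2
      have heq : Finset.subtype (fun q => q ∈ d) o₂ = h' := huniq _ ⟨⟨o₂, ho₂, hc₂, rfl⟩, hsub₂'⟩
      rw [hh'] at heq
      ext q
      rw [Finset.mem_subtype, Finset.mem_subtype]
      have h1 : incl d p q ∈ Finset.subtype (fun q => q ∈ d) o₂ ↔
          incl d p q ∈ Finset.subtype (fun q => q ∈ d) o := by rw [heq]
      rw [Finset.mem_subtype, Finset.mem_subtype, incl_val] at h1
      exact h1

theorem K_inv {d : Finset GolayPt} {p : GolayPt} :
    ∀ g ∈ Kgrp d p, ∀ x, (g : Equiv.Perm GolayPt) x ∈ d.erase p ↔ x ∈ d.erase p := by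
  intro g hg x
  obtain ⟨h1, h2⟩ := hg
  have h1' : (g : Equiv.Perm GolayPt) • d = d := h1
  have h2' : (g : Equiv.Perm GolayPt) p = p := h2
  simp only [Finset.mem_erase]
  rw [mem_iff_of_smul_eq h1' x]
  have : (g : Equiv.Perm GolayPt) x = p ↔ x = p := by
    conv_lhs => rw [← h2']
    exact (g : Equiv.Perm GolayPt).injective.eq_iff
  rw [Ne, Ne, this]

theorem psi_image_pent {d : Finset GolayPt} {p : GolayPt} (g : ↥(Kgrp d p))
    {h : Finset {q : GolayPt // q ∈ d.erase p}} (hh : h ∈ Pent d p) :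
    h.image (ψ (Kgrp d p) (d.erase p) K_inv g) ∈ Pent d p := by
  obtain ⟨o, ho, hc, hpo, rfl⟩ := hh
  have hgd : (g.1.1 : Equiv.Perm GolayPt) • d = d := g.2.1
  have hgp : (g.1.1 : Equiv.Perm GolayPt) p = p := g.2.2
  refine ⟨(g.1.1 : Equiv.Perm GolayPt) • o, smul_mem_octads g.1.2 ho, ?_, ?_, ?_⟩
  · have e : (g.1.1 : Equiv.Perm GolayPt) • o ∩ d = (g.1.1 : Equiv.Perm GolayPt) • (o ∩ d) := by
      rw [Finset.smul_finset_inter, hgd]
    rw [e, Finset.card_smul_finset, hc]
  · rw [mem_smul_finset_perm]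
    have : (g.1.1 : Equiv.Perm GolayPt).symm p = p := by
      rw [Equiv.symm_apply_eq, hgp]
    rw [this]
    exact hpo
  · ext ⟨y, hy⟩
    rw [Finset.mem_image, Finset.mem_subtype, mem_smul_finset_perm]
    constructor
    · rintro ⟨x, hx, hxy⟩
      rw [Finset.mem_subtype] at hx
      have : (g.1.1 : Equiv.Perm GolayPt) x.1 = y := congrArg Subtype.val hxy
      show (g.1.1 : Equiv.Perm GolayPt).symm y ∈ o
      rw [← this, Equiv.symm_apply_apply]
      exact hx
    · intro hy'
      have hd' : (g.1.1 : Equiv.Perm GolayPt).symm y ∈ d.erase p := by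
        rw [← K_inv g.1 g.2, Equiv.apply_symm_apply]; exact hy
      refine ⟨⟨_, hd'⟩, Finset.mem_subtype.mpr hy', Subtype.ext ?_⟩
      rw [ψ_apply]
      exact Equiv.apply_symm_apply _ _

/-- the restriction of the stabiliser of a dodecad and a point to the other points -/
noncomputable def rho11 (d : Finset GolayPt) (p : GolayPt) :
    ↥(Kgrp d p) →* ↥(setSystemAut (Pent d p)) :=
  (ψ (Kgrp d p) (d.erase p) K_inv).codRestrict _ (fun g => by
    apply mem_aut_of_forall (fun h hh => psi_image_pent g hh)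
    intro h hh
    have : (ψ (Kgrp d p) (d.erase p) K_inv g).symm = ψ (Kgrp d p) (d.erase p) K_inv g⁻¹ := by
      rw [map_inv]; rfl
    rw [this]
    exact psi_image_pent g⁻¹ hh)

theorem rho11_apply {d : Finset GolayPt} {p : GolayPt} (g : ↥(Kgrp d p))
    (x : {q : GolayPt // q ∈ d.erase p}) :
    (((rho11 d p g : ↥(setSystemAut (Pent d p))) :
      Equiv.Perm {q : GolayPt // q ∈ d.erase p}) x).1 = (g.1.1 : Equiv.Perm GolayPt) x.1 := rfl

theorem card_erase_pts {d : Finset GolayPt} (hd : d ∈ dodecads) {p : GolayPt} (hp : p ∈ d) :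
    Fintype.card {q : GolayPt // q ∈ d.erase p} = 11 := by
  rw [Fintype.card_coe, Finset.card_erase_of_mem hp, hd.2]

theorem rho11_injective {d : Finset GolayPt} (hd : d ∈ dodecads) {p : GolayPt} (hp : p ∈ d) :
    Function.Injective (rho11 d p) := by
  rw [injective_iff_map_eq_one]
  intro g hg
  have hc : (d.erase p).card = 11 := by rw [Finset.card_erase_of_mem hp, hd.2]
  obtain ⟨Ω5, hsub5, h5⟩ := Finset.exists_subset_card_eq (s := d.erase p) (n := 5) (by omega)
  have h1 : (g.1.1 : Equiv.Perm GolayPt) = 1 := by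
    apply eq_one_of_fix hd h5 (fun x hx => Finset.mem_of_mem_erase (hsub5 hx)) ⟨g.1.2, g.2.1⟩
    intro x hx
    have := rho11_apply g ⟨x, hsub5 hx⟩
    rw [hg] at this
    exact this.symm
  exact Subtype.ext (Subtype.ext h1)

theorem rho11_trans {d : Finset GolayPt} (hd : d ∈ dodecads) {p : GolayPt} (hp : p ∈ d)
    (x y : Fin 4 ↪ {q : GolayPt // q ∈ d.erase p}) :
    ∃ m : ↥(Kgrp d p), ∀ i, ((rho11 d p m : ↥(setSystemAut (Pent d p))) :
      Equiv.Perm {q : GolayPt // q ∈ d.erase p}) (x i) = y i := by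
  have hpe : p ∉ d.erase p := Finset.notMem_erase p d
  have hmem : ∀ z : Fin 4 ↪ {q : GolayPt // q ∈ d.erase p}, ∀ i < 5, extN p z i ∈ d := by
    intro z i hi
    rcases Nat.eq_zero_or_pos i with rfl | hpos
    · rw [extN_zero]; exact hp
    · rw [extN_pos p z hi hpos]
      exact Finset.mem_of_mem_erase (z _).2
  obtain ⟨g, hg, hmap⟩ := Cfsg.Agent.Lib.Helper3.Golay.stab_dodecad_map hd (extN p x) (extN p y)
    5 le_rfl (hmem x) (hmem y) (extN_inj hpe x) (extN_inj hpe y)
  have hgp : g p = p := by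
    have := hmap 0 (by norm_num)
    rwa [extN_zero, extN_zero] at this
  refine ⟨⟨⟨g, hg.1⟩, ⟨hg.2, hgp⟩⟩, fun i => Subtype.ext ?_⟩
  rw [rho11_apply]
  have := hmap (i.val + 1) (by have := i.isLt; omega)
  rw [extN_succ, extN_succ] at this
  exact this

/-- the standard S(4, 5, 11) on `Fin 11` is a Steiner system whose automorphism group is simple
of order 7920 and sharply 4-transitive -/
theorem std11_good : IsSteinerSystem 4 5 (Std 11 std11) ∧
    IsSimpleGroup ↥(setSystemAut (Std 11 std11)) ∧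
    Nat.card ↥(setSystemAut (Std 11 std11)) = 7920 ∧
    TransOn 4 (Std 11 std11) ∧ SharpOn 4 (Std 11 std11) := by
  have hd := Cfsg.Agent.Lib.Helper3.Golay.d0_mem
  have hp := Cfsg.Agent.Lib.Helper3.Golay.p0_mem
  set d := Cfsg.Agent.Lib.Helper3.Golay.bitSet Cfsg.Agent.Lib.Helper3.Golay.d0 with hdd
  set p := Cfsg.Agent.Lib.Helper3.Golay.p0 with hpp
  have hH := isSteiner_Pent hd hp
  obtain ⟨e, he⟩ := iso_std11 (card_erase_pts hd hp) hH
  have he' : imgSys e (Pent d p) = Std 11 std11 := he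
  have hStd : IsSteinerSystem 4 5 (Std 11 std11) := he' ▸ isSteiner_imgSys e hH
  have htH : TransOn 4 (Pent d p) := transOn_of_hom (rho11 d p) (rho11_trans hd hp)
  have htS : TransOn 4 (Std 11 std11) := he' ▸ htH.img e
  have hsS : SharpOn 4 (Std 11 std11) :=
    sharpOn_of_base htS (baseEmb (by norm_num)) (sharp_base sharpOk11 hStd (by norm_num))
  have hsH : SharpOn 4 (Pent d p) := by
    have := hsS.img e.symm
    rwa [← he', imgSys_symm] at this
  have hbij := bijective_of_sharp (n := 4) (by rw [card_erase_pts hd hp]; norm_num) (rho11 d p)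
    (rho11_injective hd hp) (rho11_trans hd hp) hsH
  let E1 : ↥(Kgrp d p) ≃* ↥(setSystemAut (Pent d p)) := MulEquiv.ofBijective (rho11 d p) hbij
  have E2 : ↥(setSystemAut (Pent d p)) ≃* ↥(setSystemAut (Std 11 std11)) := by
    have := autCongr e (Pent d p)
    rwa [he'] at this
  have E := E1.trans E2
  have : IsSimpleGroup ↥(Kgrp d p) := Cfsg.Agent.S0388.result d hd p hp
  refine ⟨hStd, MulEquiv.isSimpleGroup E.symm, ?_, htS, hsS⟩
  rw [← Nat.card_congr E.toEquiv]
  exact Cfsg.Agent.S0387.result d hd p hp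

/-- S0426 -/
theorem steiner_4_5_11_aut {α : Type*} [Fintype α] [DecidableEq α] (hα : Fintype.card α = 11)
    {B : Set (Finset α)} (hB : IsSteinerSystem 4 5 B) :
    IsM11 (setSystemAut B) ∧ MulAction.IsMultiplyPretransitive (setSystemAut B) α 4 ∧
      ∀ x : Fin 4 ↪ α, MulAction.stabilizer (setSystemAut B) x = ⊥ := by
  obtain ⟨-, hsimple, hcard, htS, hsS⟩ := std11_good
  obtain ⟨e, he⟩ := iso_std11 hα hB
  have he' : imgSys e B = Std 11 std11 := he
  have E : ↥(setSystemAut B) ≃* ↥(setSystemAut (Std 11 std11)) := by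
    have := autCongr e B
    rwa [he'] at this
  have ht : TransOn 4 B := by
    have := htS.img e.symm
    rwa [← he', imgSys_symm] at this
  have hs : SharpOn 4 B := by
    have := hsS.img e.symm
    rwa [← he', imgSys_symm] at this
  have := hsimple
  refine ⟨⟨MulEquiv.isSimpleGroup E, ?_⟩, (final_form ht hs).1, (final_form ht hs).2⟩
  rw [Nat.card_congr E.toEquiv]
  exact hcard

end Cfsg.Agent.Lib.Helper10.StCert
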