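import Mathlib
import Cfsg.Agent.Lib.Helper22.PSLCongr
import Cfsg.Agent.Lib.Helper2.GLCard

set_option autoImplicit false

/-!
The group `PSL₂(13)`: its order is `1092`; the orders of its elements divide 6, 7 or 13 (by the
recursion for the powers of a matrix of determinant one in terms of its trace); it has an element
of order 6.
-/

namespace Cfsg.Agent.Lib.Helper10.PSL213

open Matrix

section general

variable {R : Type*} [CommRing R]

/-- the pair `(u_k, u_{k+1})` of the sequence `u_0 = 0`, `u_1 = 1`, `u_{k+2} = t u_{k+1} - u_k` -/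
def chebPair (t : R) : ℕ → R × R
  | 0 => (0, 1)
  | k + 1 => ((chebPair t k).2, t * (chebPair t k).2 - (chebPair t k).1)

theorem sq_eq (g : SpecialLinearGroup (Fin 2) R) :
    (g : Matrix (Fin 2) (Fin 2) R) * (g : Matrix (Fin 2) (Fin 2) R) =
      (trace (g : Matrix (Fin 2) (Fin 2) R)) • (g : Matrix (Fin 2) (Fin 2) R) - 1 := by
  have hd := g.det_coe
  rw [Matrix.det_fin_two] at hd
  ext i j
  fin_cases i <;> fin_cases j
  · simp [Matrix.mul_apply, Fin.sum_univ_two, Matrix.trace_fin_two]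
    linear_combination (-1 : R) * hd
  · simp [Matrix.mul_apply, Fin.sum_univ_two, Matrix.trace_fin_two]
    ring
  · simp [Matrix.mul_apply, Fin.sum_univ_two, Matrix.trace_fin_two]
    ring
  · simp [Matrix.mul_apply, Fin.sum_univ_two, Matrix.trace_fin_two]
    linear_combination (-1 : R) * hd

/-- the powers of a matrix of determinant one -/
theorem pow_eq (g : SpecialLinearGroup (Fin 2) R) (k : ℕ) :
    (g : Matrix (Fin 2) (Fin 2) R) ^ (k + 1) =
      (chebPair (trace (g : Matrix (Fin 2) (Fin 2) R)) k).2 • (g : Matrix (Fin 2) (Fin 2) R) -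
        (chebPair (trace (g : Matrix (Fin 2) (Fin 2) R)) k).1 • 1 := by
  induction k with
  | zero => simp [chebPair]
  | succ k ih =>
    rw [pow_succ, ih, sub_mul, smul_mul_assoc, smul_mul_assoc, one_mul, sq_eq]
    show _ = (trace (g : Matrix (Fin 2) (Fin 2) R) *
      (chebPair (trace (g : Matrix (Fin 2) (Fin 2) R)) k).2 -
        (chebPair (trace (g : Matrix (Fin 2) (Fin 2) R)) k).1) • (g : Matrix (Fin 2) (Fin 2) R) -
      (chebPair (trace (g : Matrix (Fin 2) (Fin 2) R)) k).2 • 1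
    module

/-- a scalar matrix of determinant one is central -/
theorem mem_center_of_smul_one (g : SpecialLinearGroup (Fin 2) R) (s : R)
    (h : (g : Matrix (Fin 2) (Fin 2) R) = s • (1 : Matrix (Fin 2) (Fin 2) R)) :
    g ∈ Subgroup.center (SpecialLinearGroup (Fin 2) R) := by
  rw [Matrix.SpecialLinearGroup.mem_center_iff]
  refine ⟨s, ?_, ?_⟩
  · have := g.2
    rw [h, Matrix.det_smul, Matrix.det_one, mul_one] at this
    exact this
  · rw [h]
    ext i j
    simp [Matrix.scalar, Matrix.one_apply, Matrix.diagonal_apply]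

theorem smul_one_of_mem_center (g : SpecialLinearGroup (Fin 2) R)
    (h : g ∈ Subgroup.center (SpecialLinearGroup (Fin 2) R)) :
    ∃ r : R, (g : Matrix (Fin 2) (Fin 2) R) = r • (1 : Matrix (Fin 2) (Fin 2) R) := by
  obtain ⟨r, -, hr⟩ := Matrix.SpecialLinearGroup.mem_center_iff.mp h
  refine ⟨r, ?_⟩
  rw [← hr]
  ext i j
  simp [Matrix.scalar, Matrix.one_apply, Matrix.diagonal_apply]

theorem pow_mem_center (g : SpecialLinearGroup (Fin 2) R) (k : ℕ)
    (h : (chebPair (trace (g : Matrix (Fin 2) (Fin 2) R)) k).2 = 0) :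
    g ^ (k + 1) ∈ Subgroup.center (SpecialLinearGroup (Fin 2) R) := by
  apply mem_center_of_smul_one (g ^ (k + 1))
    (-(chebPair (trace (g : Matrix (Fin 2) (Fin 2) R)) k).1)
  refine (Matrix.SpecialLinearGroup.coe_pow g (k + 1)).trans ?_
  rw [pow_eq, h, zero_smul, zero_sub, neg_smul]

end general

section field

variable {F : Type*} [Field F]

theorem pow_not_mem_center (g : SpecialLinearGroup (Fin 2) F) (k : ℕ)
    (h : (chebPair (trace (g : Matrix (Fin 2) (Fin 2) F)) k).2 ≠ 0)
    (hg : (g : Matrix (Fin 2) (Fin 2) F) 0 0 ≠ (g : Matrix (Fin 2) (Fin 2) F) 1 1) :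
    g ^ (k + 1) ∉ Subgroup.center (SpecialLinearGroup (Fin 2) F) := by
  intro hc
  obtain ⟨r, hr⟩ := smul_one_of_mem_center _ hc
  have hr' := (Matrix.SpecialLinearGroup.coe_pow g (k + 1)).symm.trans hr
  rw [pow_eq] at hr'
  have h0 := congrFun (congrFun hr' 0) 0
  have h1 := congrFun (congrFun hr' 1) 1
  simp only [Matrix.sub_apply, Matrix.smul_apply, Matrix.one_apply_eq, smul_eq_mul, mul_one] at h0 h1
  have : (chebPair (trace (g : Matrix (Fin 2) (Fin 2) F)) k).2 *
      ((g : Matrix (Fin 2) (Fin 2) F) 0 0 - (g : Matrix (Fin 2) (Fin 2) F) 1 1) = 0 := by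
    linear_combination h0 - h1
  rcases mul_eq_zero.mp this with h2 | h2
  · exact h h2
  · exact hg (sub_eq_zero.mp h2)

end field

/-! ### the field with thirteen elements -/

instance fact13 : Fact (Nat.Prime 13) := ⟨by norm_num⟩

theorem cheb_cases : ∀ t : ZMod 13,
    (chebPair t 5).2 = 0 ∨ (chebPair t 6).2 = 0 ∨ (chebPair t 12).2 = 0 := by decide

/-- every element of `PSL₂(13)` has order dividing 6, 7 or 13 -/
theorem pow_cases (y : ProjectiveSpecialLinearGroup (Fin 2) (ZMod 13)) :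
    y ^ 6 = 1 ∨ y ^ 7 = 1 ∨ y ^ 13 = 1 := by
  obtain ⟨g, rfl⟩ := QuotientGroup.mk_surjective y
  rcases cheb_cases (trace (g : Matrix (Fin 2) (Fin 2) (ZMod 13))) with h | h | h
  · left
    rw [← QuotientGroup.mk_pow, QuotientGroup.eq_one_iff]
    exact pow_mem_center g 5 h
  · right; left
    rw [← QuotientGroup.mk_pow, QuotientGroup.eq_one_iff]
    exact pow_mem_center g 6 h
  · right; right
    rw [← QuotientGroup.mk_pow, QuotientGroup.eq_one_iff]
    exact pow_mem_center g 12 h

/-- a diagonal matrix of order twelve -/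
def d6 : SpecialLinearGroup (Fin 2) (ZMod 13) := ⟨!![2, 0; 0, 7], by decide⟩

theorem trace_d6 : trace (d6 : Matrix (Fin 2) (Fin 2) (ZMod 13)) = 9 := by decide

theorem exists_order6 : ∃ y : ProjectiveSpecialLinearGroup (Fin 2) (ZMod 13), orderOf y = 6 := by
  refine ⟨QuotientGroup.mk d6, ?_⟩
  have hne : (d6 : Matrix (Fin 2) (Fin 2) (ZMod 13)) 0 0 ≠
      (d6 : Matrix (Fin 2) (Fin 2) (ZMod 13)) 1 1 := by decide
  apply orderOf_eq_of_pow_and_pow_div_prime (by norm_num)
  · rw [← QuotientGroup.mk_pow, QuotientGroup.eq_one_iff]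
    exact pow_mem_center d6 5 (by rw [trace_d6]; decide)
  · intro p hp hdvd
    have hp6 : p ∣ 2 * 3 := hdvd
    rcases (Nat.Prime.dvd_mul hp).mp hp6 with h | h
    · have : p = 2 := (Nat.prime_dvd_prime_iff_eq hp (by norm_num)).mp h
      subst this
      rw [← QuotientGroup.mk_pow, Ne, QuotientGroup.eq_one_iff]
      exact pow_not_mem_center d6 2 (by rw [trace_d6]; decide) hne
    · have : p = 3 := (Nat.prime_dvd_prime_iff_eq hp (by norm_num)).mp h
      subst this
      rw [← QuotientGroup.mk_pow, Ne, QuotientGroup.eq_one_iff]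
      exact pow_not_mem_center d6 1 (by rw [trace_d6]; decide) hne

theorem card13 : Nat.card (ProjectiveSpecialLinearGroup (Fin 2) (ZMod 13)) = 1092 := by
  have h := Cfsg.Agent.Lib.Helper2.card_PSL_field (F := ZMod 13) 2 (by norm_num)
  rw [ZMod.card 13, Fin.prod_univ_two] at h
  norm_num at h
  rw [Nat.card_eq_fintype_card]
  omega

/-! ### arithmetic -/

theorem not_mul_dvd_prime {r s p : ℕ} (hr : r.Prime) (hs : s.Prime) (hne : r ≠ s)
    (hp : p.Prime) : ¬ r * s ∣ p := by
  intro h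
  have h1 : r = p := (Nat.prime_dvd_prime_iff_eq hr hp).mp (dvd_trans (dvd_mul_right r s) h)
  have h2 : s = p := (Nat.prime_dvd_prime_iff_eq hs hp).mp (dvd_trans (dvd_mul_left s r) h)
  exact hne (h1.trans h2.symm)

theorem two_or_three {r : ℕ} (hr : r.Prime) (h : r ∣ 6) : r = 2 ∨ r = 3 := by
  have h6 : r ∣ 2 * 3 := h
  rcases (Nat.Prime.dvd_mul hr).mp h6 with h | h
  · left; exact (Nat.prime_dvd_prime_iff_eq hr (by norm_num)).mp h
  · right; exact (Nat.prime_dvd_prime_iff_eq hr (by norm_num)).mp h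

theorem cases_of_mul_dvd_six {r s : ℕ} (hr : r.Prime) (hs : s.Prime) (hne : r ≠ s)
    (h : r * s ∣ 6) : (r = 2 ∧ s = 3) ∨ (r = 3 ∧ s = 2) := by
  have h1 := two_or_three hr (dvd_trans (dvd_mul_right r s) h)
  have h2 := two_or_three hs (dvd_trans (dvd_mul_left s r) h)
  rcases h1 with rfl | rfl <;> rcases h2 with rfl | rfl
  · exact absurd rfl hne
  · left; exact ⟨rfl, rfl⟩
  · right; exact ⟨rfl, rfl⟩
  · exact absurd rfl hne

/-- the orders `r s` of elements of `PSL₂(13)`, with `r ≠ s` primes -/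
theorem order_iff13 {r s : ℕ} (hr : r.Prime) (hs : s.Prime) (hne : r ≠ s) :
    (∃ y : ProjectiveSpecialLinearGroup (Fin 2) (ZMod 13), orderOf y = r * s) ↔
      ((r = 2 ∧ s = 3) ∨ (r = 3 ∧ s = 2)) := by
  constructor
  · rintro ⟨y, hy⟩
    rcases pow_cases y with h | h | h
    · exact cases_of_mul_dvd_six hr hs hne (hy ▸ orderOf_dvd_of_pow_eq_one h)
    · exact absurd (hy ▸ orderOf_dvd_of_pow_eq_one h)
        (not_mul_dvd_prime hr hs hne (by norm_num))
    · exact absurd (hy ▸ orderOf_dvd_of_pow_eq_one h)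
        (not_mul_dvd_prime hr hs hne (by norm_num))
  · rintro (⟨rfl, rfl⟩ | ⟨rfl, rfl⟩)
    · exact exists_order6
    · exact exists_order6

/-! ### any field with thirteen elements -/

section anyfield

variable {E : Type*} [Field E] [Fintype E]

/-- the isomorphism with the group over `ZMod 13` -/
noncomputable def toZ (hE : Fintype.card E = 13) :
    ProjectiveSpecialLinearGroup (Fin 2) E ≃* ProjectiveSpecialLinearGroup (Fin 2) (ZMod 13) :=
  Cfsg.Agent.Lib.Helper22.PSLCongr.pslCongr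
    (FiniteField.ringEquivOfCardEq (hE.trans (ZMod.card 13).symm))

theorem card_psl (hE : Fintype.card E = 13) :
    Nat.card (ProjectiveSpecialLinearGroup (Fin 2) E) = 1092 := by
  rw [Nat.card_congr (toZ hE).toEquiv, card13]

theorem order_iff (hE : Fintype.card E = 13) {r s : ℕ} (hr : r.Prime) (hs : s.Prime)
    (hne : r ≠ s) :
    (∃ y : ProjectiveSpecialLinearGroup (Fin 2) E, orderOf y = r * s) ↔
      ((r = 2 ∧ s = 3) ∨ (r = 3 ∧ s = 2)) := by
  rw [← order_iff13 hr hs hne]
  constructor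
  · rintro ⟨y, hy⟩
    exact ⟨toZ hE y, by rw [MulEquiv.orderOf_eq]; exact hy⟩
  · rintro ⟨y, hy⟩
    exact ⟨(toZ hE).symm y, by rw [MulEquiv.orderOf_eq]; exact hy⟩

end anyfield

end Cfsg.Agent.Lib.Helper10.PSL213
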