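import Mathlib

/-!
# Market "PR" (S3612), leaf PRSUM (helper10)

A set of at least three non-zero residues mod `p` that every non-zero square maps into itself or
off itself has sum zero.
-/

set_option autoImplicit false

namespace Cfsg.Agent.Lib.Helper10.PRSUM

/-- two non-zero residues with the same quadratic character have a square quotient -/
theorem isSquare_div_of_char_eq {p : ℕ} [Fact p.Prime] {y y' : ZMod p} (hy : y ≠ 0) (hy' : y' ≠ 0)
    (h : quadraticChar (ZMod p) y = quadraticChar (ZMod p) y') : IsSquare (y' * y⁻¹) := by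
  have h1 : quadraticChar (ZMod p) (y' * y) = 1 := by
    rw [map_mul, ← h]
    rcases quadraticChar_dichotomy hy with h2 | h2 <;> rw [h2] <;> norm_num
  have h2 : IsSquare (y' * y) := (quadraticChar_one_iff_isSquare (mul_ne_zero hy' hy)).mp h1
  obtain ⟨s, hs⟩ := h2
  refine ⟨s * y⁻¹, ?_⟩
  have : y' * y⁻¹ = (y' * y) * (y⁻¹ * y⁻¹) := by
    field_simp
  rw [this, hs]
  ring

/-- **PRSUM**. -/
theorem PRSUM {p : ℕ} [Fact p.Prime] (E : Finset (ZMod p)) (h0 : (0 : ZMod p) ∉ E)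
    (hblk : ∀ u : ZMod p, u ≠ 0 → IsSquare u →
      (∀ y ∈ E, u * y ∈ E) ∨ (∀ y ∈ E, u * y ∉ E))
    (h3 : 3 ≤ E.card) : ∑ y ∈ E, y = 0 := by
  classical
  -- a non-trivial square ratio
  have key : ∃ v : ZMod p, v ≠ 0 ∧ v ≠ 1 ∧ IsSquare v ∧ ∃ y ∈ E, v * y ∈ E := by
    obtain ⟨a, b, c, ha, hb, hc, hab, hac, hbc⟩ := Finset.two_lt_card_iff.mp (by omega : 2 < E.card)
    have ha0 : a ≠ 0 := fun h => h0 (h ▸ ha)
    have hb0 : b ≠ 0 := fun h => h0 (h ▸ hb)
    have hc0 : c ≠ 0 := fun h => h0 (h ▸ hc)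
    have mk : ∀ y y' : ZMod p, y ∈ E → y' ∈ E → y ≠ y' → y ≠ 0 → y' ≠ 0 →
        quadraticChar (ZMod p) y = quadraticChar (ZMod p) y' →
        ∃ v : ZMod p, v ≠ 0 ∧ v ≠ 1 ∧ IsSquare v ∧ ∃ y ∈ E, v * y ∈ E := by
      intro y y' hy hy' hne hy0 hy'0 hχ
      refine ⟨y' * y⁻¹, mul_ne_zero hy'0 (inv_ne_zero hy0), ?_, isSquare_div_of_char_eq hy0 hy'0 hχ,
        y, hy, ?_⟩
      · intro h
        apply hne
        have : y' = y' * y⁻¹ * y := by field_simp
        rw [this, h, one_mul]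
      · have : y' * y⁻¹ * y = y' := by field_simp
        rw [this]
        exact hy'
    rcases quadraticChar_dichotomy ha0 with h1 | h1 <;>
    rcases quadraticChar_dichotomy hb0 with h2 | h2 <;>
    rcases quadraticChar_dichotomy hc0 with h3' | h3'
    · exact mk a b ha hb hab ha0 hb0 (by rw [h1, h2])
    · exact mk a b ha hb hab ha0 hb0 (by rw [h1, h2])
    · exact mk a c ha hc hac ha0 hc0 (by rw [h1, h3'])
    · exact mk b c hb hc hbc hb0 hc0 (by rw [h2, h3'])
    · exact mk b c hb hc hbc hb0 hc0 (by rw [h2, h3'])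
    · exact mk a c ha hc hac ha0 hc0 (by rw [h1, h3'])
    · exact mk a b ha hb hab ha0 hb0 (by rw [h1, h2])
    · exact mk a b ha hb hab ha0 hb0 (by rw [h1, h2])
  obtain ⟨v, hv0, hv1, hvsq, y0, hy0, hvy0⟩ := key
  have hmap : ∀ y ∈ E, v * y ∈ E := by
    rcases hblk v hv0 hvsq with h | h
    · exact h
    · exact absurd hvy0 (h y0 hy0)
  have hinj : Function.Injective (fun y : ZMod p => v * y) := mul_right_injective₀ hv0
  have himg : E.image (fun y : ZMod p => v * y) = E := by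
    apply Finset.eq_of_subset_of_card_le
    · intro z hz
      obtain ⟨y, hy, rfl⟩ := Finset.mem_image.mp hz
      exact hmap y hy
    · rw [Finset.card_image_of_injective _ hinj]
  have hsum : ∑ y ∈ E, y = v * ∑ y ∈ E, y := by
    conv_lhs => rw [← himg]
    rw [Finset.sum_image (fun a _ b _ h => hinj h), Finset.mul_sum]
  have h1 : (1 - v) * ∑ y ∈ E, y = 0 := by
    rw [sub_mul, one_mul, ← hsum, sub_self]
  rcases mul_eq_zero.mp h1 with h | h
  · exact absurd (sub_eq_zero.mp h).symm hv1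
  · exact h

end Cfsg.Agent.Lib.Helper10.PRSUM
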