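import Mathlib
import Cfsg.Agent.Lib.Helper1.PRDefs
import Cfsg.Agent.Lib.Helper1.Netto
import Cfsg.Agent.Lib.Helper10.PRSUM

/-!
# Market "PR" (S3612), leaf PRNETTO (helper10)

In coordinates a `Star` is the Netto triple system.
-/

set_option autoImplicit false

namespace Cfsg.Agent.Lib.Helper10.PRNETTO

open MulAction Cfsg.Agent.Lib.Helper1.PR Cfsg.Agent.Lib.Helper1.Netto

/-- the pure `ZMod p` part: a symmetric involutive third-point map on `ZMod p` that is equivariant
under all `j ↦ u j + c`, `u` a non-zero square, is the Netto map. -/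
theorem netto_of_affine {p : ℕ} [Fact p.Prime] (hp : 3 < p) (s : ZMod p → ZMod p → ZMod p)
    (hsymm : ∀ a b, a ≠ b → s a b = s b a)
    (hinvol : ∀ a b, a ≠ b → s a (s a b) = b)
    (hnl : ∀ a b, a ≠ b → s a b ≠ a)
    (hnr : ∀ a b, a ≠ b → s a b ≠ b)
    (haff : ∀ u c : ZMod p, u ≠ 0 → IsSquare u → ∀ a b, a ≠ b →
      s (u * a + c) (u * b + c) = u * s a b + c) :
    ∃ w : ZMod p, w ^ 2 - w + 1 = 0 ∧ p % 12 = 7 ∧
      ∀ a b : ZMod p, a ≠ b → s a b = op w a b := by
  have h01 : (0 : ZMod p) ≠ 1 := zero_ne_one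
  have h3 : (3 : ZMod p) ≠ 0 := by
    intro h
    have h' : ((3 : ℕ) : ZMod p) = 0 := by exact_mod_cast h
    rw [ZMod.natCast_eq_zero_iff] at h'
    have := Nat.le_of_dvd (by norm_num) h'
    omega
  obtain ⟨ν, hν⟩ : ∃ ν, ν = s 0 1 := ⟨_, rfl⟩
  have hν0 : ν ≠ 0 := by rw [hν]; exact hnl 0 1 h01
  have hν1 : ν ≠ 1 := by rw [hν]; exact hnr 0 1 h01
  have hm10 : (-1 : ZMod p) ≠ 0 := by simp
  -- (N1)
  have N1 : ∀ a u : ZMod p, u ≠ 0 → IsSquare u → s a (a + u) = a + u * ν := by
    intro a u hu hsq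
    have := haff u a hu hsq 0 1 h01
    rw [mul_zero, zero_add, mul_one, ← hν] at this
    rw [add_comm a u, this, add_comm]
  -- (N2) ν is a non-square
  have N2 : ¬ IsSquare ν := by
    intro hsq
    have h1 : s 0 ν = ν * ν := by
      have := N1 0 ν hν0 hsq
      rwa [zero_add, zero_add] at this
    have h2 : s 0 ν = 1 := by rw [hν]; exact hinvol 0 1 h01
    have h3' : ν * ν = 1 := by rw [← h1, h2]
    have h4 : ν = -1 := by
      have : (ν - 1) * (ν + 1) = 0 := by linear_combination h3'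
      rcases mul_eq_zero.mp this with h | h
      · exact absurd (sub_eq_zero.mp h) hν1
      · exact eq_neg_of_add_eq_zero_left h
    have hm1 : IsSquare (-1 : ZMod p) := h4 ▸ hsq
    have h5 : s 1 0 = 1 + (-1) * ν := by
      have := N1 1 (-1) hm10 hm1
      rwa [add_neg_cancel] at this
    have h6 : s 1 0 = ν := by rw [hν]; exact (hsymm 0 1 h01).symm
    apply h3
    have h7 : ν = 1 + (-1) * ν := by rw [← h5, h6]
    rw [h4] at h7
    linear_combination (-1 : ZMod p) * h7
  have hχν : quadraticChar (ZMod p) ν = -1 := quadraticChar_neg_one_iff_not_isSquare.mpr N2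
  -- (N3)
  have N3 : ∀ a y : ZMod p, y ≠ 0 → ¬ IsSquare y → s a (a + y) = a + y * ν⁻¹ := by
    intro a y hy hnsq
    have hχy : quadraticChar (ZMod p) y = -1 := quadraticChar_neg_one_iff_not_isSquare.mpr hnsq
    have hsq : IsSquare (y * ν⁻¹) :=
      Cfsg.Agent.Lib.Helper10.PRSUM.isSquare_div_of_char_eq hν0 hy (by rw [hχν, hχy])
    have hne : y * ν⁻¹ ≠ 0 := mul_ne_zero hy (inv_ne_zero hν0)
    have h1 : s a (a + y * ν⁻¹) = a + y := by
      rw [N1 a (y * ν⁻¹) hne hsq]
      congr 1
      field_simp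
    have hne' : a ≠ a + y * ν⁻¹ := by
      intro h
      apply hne
      have : a + 0 = a + y * ν⁻¹ := by rw [add_zero]; exact h
      exact (add_left_cancel this).symm
    have h2 := hinvol a (a + y * ν⁻¹) hne'
    rwa [h1] at h2
  have hsν : s 0 ν = 1 := by rw [hν]; exact hinvol 0 1 h01
  have hs10 : s 1 0 = ν := by rw [hν]; exact (hsymm 0 1 h01).symm
  -- (N4) -1 is a non-square
  have N4 : ¬ IsSquare (-1 : ZMod p) := by
    intro hm1
    have h5 : s 1 0 = 1 + (-1) * ν := by
      have := N1 1 (-1) hm10 hm1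
      rwa [add_neg_cancel] at this
    have hA : ν = 1 + (-1) * ν := by rw [← h5, hs10]
    have hnν : ¬ IsSquare (-ν) := by
      intro h
      apply N2
      have := hm1.mul h
      rwa [neg_one_mul, neg_neg] at this
    have h6 : s ν 0 = ν + (-ν) * ν⁻¹ := by
      have := N3 ν (-ν) (neg_ne_zero.mpr hν0) hnν
      rwa [add_neg_cancel] at this
    have h7 : s 0 ν = s ν 0 := hsymm 0 ν (Ne.symm hν0)
    have hB : (1 : ZMod p) = ν + (-ν) * ν⁻¹ := by rw [← h6, ← h7, hsν]
    have hB1 : (-ν) * ν⁻¹ = -1 := by rw [neg_mul, mul_inv_cancel₀ hν0]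
    have hB' : (1 : ZMod p) = ν - 1 := by
      rw [hB1] at hB
      linear_combination hB
    apply h3
    linear_combination hA + 2 * hB'
  -- (N5)
  have N5 : ν ^ 2 - ν + 1 = 0 := by
    have h5 : s 1 0 = 1 + (-1) * ν⁻¹ := by
      have := N3 1 (-1) hm10 N4
      rwa [add_neg_cancel] at this
    have h6 : ν = 1 + (-1) * ν⁻¹ := by rw [← h5, hs10]
    have h7 : ν * ν = ν + (-1) := by
      have : ν * ν = ν * (1 + (-1) * ν⁻¹) := by rw [← h6]
      rw [this]
      field_simp
    linear_combination h7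
  refine ⟨ν, N5, ?_, ?_⟩
  · -- p % 12 = 7
    have hp4 : p % 4 = 3 := by
      by_contra h
      exact N4 (ZMod.exists_sq_eq_neg_one_iff.mpr h)
    have hp3 : p % 3 ≠ 0 := by
      intro h
      have hd : 3 ∣ p := Nat.dvd_of_mod_eq_zero h
      have := (Nat.prime_dvd_prime_iff_eq Nat.prime_three (Fact.out : p.Prime)).mp hd
      omega
    have hν3 : ν ^ 3 = -1 := by linear_combination (ν + 1) * N5
    have hν6 : ν ^ 6 = 1 := by
      have : ν ^ 6 = (ν ^ 3) ^ 2 := by ring
      rw [this, hν3]; ring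
    have h11 : p % 12 ≠ 11 := by
      intro h
      obtain ⟨k, hk⟩ : ∃ k, p - 1 = 6 * k + 4 := ⟨2 * (p / 12) + 1, by omega⟩
      have h1 := ZMod.pow_card_sub_one_eq_one hν0
      rw [hk, pow_add, pow_mul, hν6, one_pow, one_mul] at h1
      have h2 : ν ^ 4 = -ν := by
        have : ν ^ 4 = ν ^ 3 * ν := by ring
        rw [this, hν3]; ring
      rw [h2] at h1
      apply h3
      have h4 : ν = -1 := by linear_combination (-1 : ZMod p) * h1
      rw [h4] at N5
      linear_combination N5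
    omega
  · -- the formula
    intro a b hab
    have hba : b - a ≠ 0 := sub_ne_zero.mpr (Ne.symm hab)
    have hb : b = a + (b - a) := by ring
    unfold op
    split_ifs with hsq
    · rw [hb, N1 a (b - a) hba hsq]
      ring
    · rw [hb, N3 a (b - a) hba hsq]
      have hinv : ν⁻¹ = 1 - ν := by
        have : ν * (1 - ν) = 1 := by linear_combination (-1 : ZMod p) * N5
        exact (eq_inv_of_mul_eq_one_right this).symm
      rw [hinv]
      ring

/-- **PRNETTO**.  In coordinates a `Star` is the Netto triple system. -/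
theorem PRNETTO {G Ω : Type*} [Group G] [MulAction G Ω] {p : ℕ} [Fact p.Prime] (hp : 3 < p)
    (e : ZMod p ≃ Ω) (hC : Coord G e) (star : Ω → Ω → Ω) (hs : Star G star) :
    ∃ w : ZMod p, w ^ 2 - w + 1 = 0 ∧ p % 12 = 7 ∧
      ∀ a b : ZMod p, a ≠ b → e.symm (star (e a) (e b)) = op w a b := by
  have hne : ∀ a b : ZMod p, a ≠ b → e a ≠ e b := fun a b h h' => h (e.injective h')
  apply netto_of_affine hp (fun a b => e.symm (star (e a) (e b)))
  · intro a b hab
    rw [hs.symm (e a) (e b) (hne a b hab)]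
  · intro a b hab
    rw [Equiv.apply_symm_apply, hs.invol (e a) (e b) (hne a b hab), Equiv.symm_apply_apply]
  · intro a b hab h
    apply hs.ne_left (e a) (e b) (hne a b hab)
    have h' := congrArg e h
    rwa [Equiv.apply_symm_apply] at h'
  · intro a b hab h
    apply hs.ne_right (e a) (e b) (hne a b hab)
    have h' := congrArg e h
    rwa [Equiv.apply_symm_apply] at h'
  · intro u c hu hsq a b hab
    obtain ⟨n, hn⟩ := hC u c hu hsq
    rw [← hn a, ← hn b, ← hs.equiv n (e a) (e b) (hne a b hab)]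
    have : star (e a) (e b) = e (e.symm (star (e a) (e b))) := (Equiv.apply_symm_apply _ _).symm
    rw [this, hn, Equiv.symm_apply_apply, Equiv.symm_apply_apply]

end Cfsg.Agent.Lib.Helper10.PRNETTO
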