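/-
Counting in Frobenius-type quotients: a group acting on a finite set with a normal subgroup acting
trivially and all other elements fixing a single point (helper10).
-/
import Mathlib

set_option autoImplicit false

namespace Cfsg.Agent.Lib.Helper10

universe u v

open Classical in
/-- Burnside counting: if `K` acts trivially on `X` and every element outside `K` fixes exactly the
point `x₀`, then `|L : K|` divides `|X| - 1`. -/
theorem index_dvd_card_sub_one_of_free {L : Type u} {X : Type v} [Group L] [Fintype L]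
    [MulAction L X] [Fintype X] (K : Subgroup L) (x₀ : X)
    (hK : ∀ k ∈ K, ∀ q : X, k • q = q)
    (hfree : ∀ x : L, x ∉ K → ∀ q : X, x • q = q → q = x₀)
    (hx₀ : ∀ x : L, x • x₀ = x₀) : K.index ∣ Fintype.card X - 1 := by
  have hB := MulAction.sum_card_fixedBy_eq_card_orbits_mul_card_group L X
  set m := Fintype.card (Quotient (MulAction.orbitRel L X)) with hm
  have hfix : ∀ a : L, Fintype.card (MulAction.fixedBy X a) =
      if a ∈ K then Fintype.card X else 1 := by
    intro a
    split_ifs with ha
    · apply Fintype.card_of_subtype Finset.univ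
      intro q
      simp only [Finset.mem_univ, MulAction.mem_fixedBy, true_iff]
      exact hK a ha q
    · rw [Fintype.card_eq_one_iff]
      refine ⟨⟨x₀, hx₀ a⟩, ?_⟩
      rintro ⟨q, hq⟩
      exact Subtype.ext (hfree a ha q hq)
  rw [Finset.sum_congr rfl (fun a _ => hfix a), Finset.sum_ite, Finset.sum_const, Finset.sum_const,
    smul_eq_mul, smul_eq_mul, mul_one] at hB
  have hcK : (Finset.univ.filter (fun a : L => a ∈ K)).card = Nat.card K := by
    rw [Nat.card_eq_fintype_card, Fintype.card_subtype]
  have hcK' : (Finset.univ.filter (fun a : L => a ∉ K)).card = Nat.card L - Nat.card K := by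
    have h1 := Finset.card_filter_add_card_filter_not (s := (Finset.univ : Finset L)) (fun a : L => a ∈ K)
    rw [Finset.card_univ, hcK, ← Nat.card_eq_fintype_card] at h1
    omega
  rw [hcK, hcK', ← Nat.card_eq_fintype_card (α := L)] at hB
  have hLK : Nat.card L = Nat.card K * K.index := (Subgroup.card_mul_index K).symm
  have hKpos : 0 < Nat.card K := Nat.card_pos
  have hepos : 0 < K.index := Nat.pos_of_ne_zero Subgroup.index_ne_zero_of_finite
  have hXpos : 0 < Fintype.card X := Fintype.card_pos_iff.mpr ⟨x₀⟩
  rw [hLK] at hB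
  have h2 : Nat.card K * K.index - Nat.card K = Nat.card K * (K.index - 1) := by
    rw [Nat.mul_sub, mul_one]
  rw [h2, ← Nat.mul_add] at hB
  have h3 : Fintype.card X + (K.index - 1) = m * K.index := by
    apply Nat.eq_of_mul_eq_mul_left hKpos
    rw [hB]; ring
  have h4 : (Fintype.card X - 1) + K.index = m * K.index := by omega
  have h5 : K.index ∣ (Fintype.card X - 1) + K.index := ⟨m, by rw [h4]; ring⟩
  exact (Nat.dvd_add_left (dvd_refl _)).mp h5

section conj

variable {L : Type u} [Group L]

/-- conjugation action of `L` on the cosets of `H₁` in a normal subgroup `N` -/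
noncomputable def conjQuotAction (N H₁ : Subgroup L) [hN : N.Normal] [hH : H₁.Normal] :
    MulAction L (↥N ⧸ H₁.subgroupOf N) where
  smul x q := Quotient.map' (fun n : N => (⟨x * n * x⁻¹, hN.conj_mem n n.2 x⟩ : N))
    (by
      intro a b hab
      rw [QuotientGroup.leftRel_apply] at hab ⊢
      rw [Subgroup.mem_subgroupOf] at hab ⊢
      have h1 := hH.conj_mem _ hab x
      have h2 : x * ((a⁻¹ * b : N) : L) * x⁻¹ =
          (((⟨x * a * x⁻¹, hN.conj_mem a a.2 x⟩ : N)⁻¹ * (⟨x * b * x⁻¹, hN.conj_mem b b.2 x⟩ : N) : N) : L) := by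
        simp only [Subgroup.coe_mul, Subgroup.coe_inv]
        group
      rw [← h2]; exact h1) q
  one_smul q := by
    induction q using Quotient.inductionOn' with
    | _ n =>
      change Quotient.mk'' _ = Quotient.mk'' _
      congr 1
      apply Subtype.ext
      simp
  mul_smul x y q := by
    induction q using Quotient.inductionOn' with
    | _ n =>
      change Quotient.mk'' _ = Quotient.mk'' _
      congr 1
      apply Subtype.ext
      simp only [mul_inv_rev]
      group

theorem conjQuotAction_mk (N H₁ : Subgroup L) [hN : N.Normal] [hH : H₁.Normal] (x : L) (n : N) :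
    (conjQuotAction N H₁).smul x (QuotientGroup.mk n : ↥N ⧸ H₁.subgroupOf N) =
      QuotientGroup.mk (⟨x * n * x⁻¹, hN.conj_mem n n.2 x⟩ : N) := rfl

end conj

open Classical in
/-- In a Frobenius-type quotient `L/H₁` with kernel `K/H₁` (abelian), `|L:K|` divides `|N:H₁| - 1` for
every normal `N` with `H₁ ≤ N ≤ K`. -/
theorem frobQuot_index_dvd {L : Type u} [Group L] [Fintype L] (K H₁ N : Subgroup L) [K.Normal]
    [hN : N.Normal] [hH : H₁.Normal] (hNK : N ≤ K) (hcomm : ⁅K, K⁆ ≤ H₁)
    (hfrob : ∀ k ∈ K, k ∉ H₁ → ∀ x : L, x * k * x⁻¹ * k⁻¹ ∈ H₁ → x ∈ K) :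
    K.index ∣ H₁.relIndex N - 1 := by
  letI := conjQuotAction N H₁
  have hcard : Fintype.card (↥N ⧸ H₁.subgroupOf N) = H₁.relIndex N := by
    rw [← Nat.card_eq_fintype_card, ← Subgroup.index_eq_card]; rfl
  rw [← hcard]
  apply index_dvd_card_sub_one_of_free K (1 : ↥N ⧸ H₁.subgroupOf N)
  · intro k hk q
    induction q using Quotient.inductionOn' with
    | _ n =>
      change (conjQuotAction N H₁).smul k (QuotientGroup.mk n) = QuotientGroup.mk n
      rw [conjQuotAction_mk, QuotientGroup.eq, Subgroup.mem_subgroupOf]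
      apply hcomm
      have h1 := Subgroup.commutator_mem_commutator hk (hNK n.2)
      rw [commutatorElement_def] at h1
      have h2 : ((⟨k * n * k⁻¹, hN.conj_mem n n.2 k⟩ : N)⁻¹ * n : N) =
          ((n : L)⁻¹ * (k * n * k⁻¹ * (n : L)⁻¹)⁻¹ * ((n : L)⁻¹)⁻¹ : L) := by
        simp only [Subgroup.coe_mul, Subgroup.coe_inv]
        group
      rw [h2]
      exact Subgroup.Normal.conj_mem inferInstance _ (inv_mem h1) _
  · intro x hx q hq
    induction q using Quotient.inductionOn' with
    | _ n =>
      change (conjQuotAction N H₁).smul x (QuotientGroup.mk n) = QuotientGroup.mk n at hq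
      rw [conjQuotAction_mk, QuotientGroup.eq, Subgroup.mem_subgroupOf] at hq
      change (QuotientGroup.mk n : ↥N ⧸ H₁.subgroupOf N) = 1
      rw [QuotientGroup.eq_one_iff, Subgroup.mem_subgroupOf]
      by_contra hn
      apply hx
      apply hfrob n (hNK n.2) hn x
      have h2 : x * (n : L) * x⁻¹ * (n : L)⁻¹ =
          ((n : L) * (((⟨x * n * x⁻¹, hN.conj_mem n n.2 x⟩ : N)⁻¹ * n : N) : L) * (n : L)⁻¹)⁻¹ := by
        simp only [Subgroup.coe_mul, Subgroup.coe_inv]
        group
      rw [h2]
      exact inv_mem (hH.conj_mem _ hq _)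
  · intro x
    change (conjQuotAction N H₁).smul x (QuotientGroup.mk (1 : N)) = QuotientGroup.mk (1 : N)
    rw [conjQuotAction_mk]
    congr 1
    apply Subtype.ext
    simp

end Cfsg.Agent.Lib.Helper10
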