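import Mathlib

/-!
# Market "AP" (S3614), leaf AP-BR (helper10)

Multiple transitivity passes to the image of the group in `Perm Ω`.
-/

set_option autoImplicit false

namespace Cfsg.Agent.Lib.Helper10.APBR

open Equiv MulAction

/-- **AP-BR** (bridge). -/
theorem APBR {G Ω : Type*} [Group G] [MulAction G Ω] (n : ℕ)
    (h : IsMultiplyPretransitive G Ω n) :
    IsMultiplyPretransitive ↥(MulAction.toPermHom G Ω).range Ω n := by
  rw [isMultiplyPretransitive_iff] at h ⊢
  intro x y
  obtain ⟨g, hg⟩ := h x y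
  refine ⟨⟨MulAction.toPermHom G Ω g, ⟨g, rfl⟩⟩, ?_⟩
  ext i
  have := DFunLike.congr_fun hg i
  rw [Function.Embedding.smul_apply] at this ⊢
  exact this

end Cfsg.Agent.Lib.Helper10.APBR
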