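import Mathlib

/-!
# Market "AP" (S3614), leaf AP-C3, parametrized form (helper10)

`|Ω| = 3r+4`, `z ∈ H` of order `r` with three `r`-cycles (and minimal support), `H` 5-transitive
⟹ `Alt Ω ≤ H`, given the statements of the leaves AP-COMM (`t = 4`), AP-CL3 and AP-CT as hypotheses.
-/

set_option autoImplicit false

namespace Cfsg.Agent.Lib.Helper10.APC3Of

open Equiv MulAction

variable {Ω : Type*} [Fintype Ω] [DecidableEq Ω]

set_option linter.unusedSectionVars false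
set_option linter.unusedVariables false

/-- the first commutator in `Perm (Fin 4)`: a 3-cycle on `{0,1,2}` -/
def κ₁ : Perm (Fin 4) := swap 0 1 * swap 1 2 * (swap 0 1)⁻¹ * (swap 1 2)⁻¹

/-- the second commutator in `Perm (Fin 4)`: a 3-cycle on `{0,1,3}` -/
def κ₂ : Perm (Fin 4) := swap 0 1 * swap 1 3 * (swap 0 1)⁻¹ * (swap 1 3)⁻¹

/-- their commutator: a fixed-point-free involution -/
def κ : Perm (Fin 4) := κ₁ * κ₂ * κ₁⁻¹ * κ₂⁻¹

set_option maxRecDepth 100000 in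
theorem κ_ne : ∀ i : Fin 4, κ i ≠ i := by decide

set_option maxRecDepth 100000 in
theorem κ_sq : ∀ i : Fin 4, κ (κ i) = i := by decide

theorem κ_mul_self : κ * κ = 1 := by
  ext i
  simp only [Perm.mul_apply, Perm.one_apply, κ_sq]

theorem κ_pow_odd (m : ℕ) : κ ^ (2 * m + 1) = κ := by
  rw [pow_succ, pow_mul, pow_two, κ_mul_self, one_pow, one_mul]

/-- `c` acts on the tuple `x` like `k` -/
def Acts (x : Fin 4 ↪ Ω) (c : Perm Ω) (k : Perm (Fin 4)) : Prop := ∀ i, c (x i) = x (k i)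

theorem Acts.mul {x : Fin 4 ↪ Ω} {c c' : Perm Ω} {k k' : Perm (Fin 4)} (h : Acts x c k)
    (h' : Acts x c' k') : Acts x (c * c') (k * k') := by
  intro i
  rw [Perm.mul_apply, h' i, h (k' i), Perm.mul_apply]

theorem Acts.inv {x : Fin 4 ↪ Ω} {c : Perm Ω} {k : Perm (Fin 4)} (h : Acts x c k) :
    Acts x c⁻¹ k⁻¹ := by
  intro i
  rw [Perm.inv_eq_iff_eq, h (k⁻¹ i)]
  simp

theorem Acts.one {x : Fin 4 ↪ Ω} : Acts x (1 : Perm Ω) 1 := fun _ => rfl

theorem Acts.pow {x : Fin 4 ↪ Ω} {c : Perm Ω} {k : Perm (Fin 4)} (h : Acts x c k) (n : ℕ) :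
    Acts x (c ^ n) (k ^ n) := by
  induction n with
  | zero => simpa using Acts.one
  | succ n ih =>
    rw [pow_succ, pow_succ]
    exact ih.mul h

/-- **AP-C3**, with the statements of AP-COMM (`t = 4`), AP-CL3, AP-CT as hypotheses. -/
theorem APC3Of (H : Subgroup (Perm Ω)) (h5 : IsMultiplyPretransitive ↥H Ω 5)
    (r : ℕ) (hr : r.Prime) (hr5 : 5 ≤ r) (hΩ : Fintype.card Ω = 3 * r + 4)
    {z : Perm Ω} (hz : z ∈ H) (hzr : orderOf z = r)
    (hk : z.support.card = 3 * r)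
    (hCOMM : ∀ x : Fin 4 ↪ Ω, (∀ i, z (x i) = x i) → ∀ σ τ : Perm (Fin 4),
      ∃ c ∈ H, Commute c z ∧ Perm.sign c = 1 ∧ ∀ i, c (x i) = x ((σ * τ * σ⁻¹ * τ⁻¹) i))
    (hCL3 : ∀ w : Perm Ω, Commute w z → Perm.sign w = 1 →
      (∀ x, z x = x → w x ≠ x ∧ w (w x) = x) → ∀ x ∈ z.support, (w ^ (3 * r)) x = x)
    (hCT : ∀ t : ℕ, IsMultiplyPretransitive ↥H Ω t → t < Fintype.card Ω →
      ∀ u : Perm Ω, u ∈ H → u ≠ 1 → u.support.card ≤ t → alternatingGroup Ω ≤ H) :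
    alternatingGroup Ω ≤ H := by
  classical
  -- the four fixed points
  have hF : (z.supportᶜ : Finset Ω).card = 4 := by
    rw [Finset.card_compl, hΩ, hk]
    omega
  let e : ↥(z.supportᶜ : Finset Ω) ≃ Fin 4 := Finset.equivFinOfCardEq hF
  let x : Fin 4 ↪ Ω := e.symm.toEmbedding.trans (Function.Embedding.subtype _)
  have hxF : ∀ i, x i ∈ (z.supportᶜ : Finset Ω) := fun i => (e.symm i).2
  have hxfix : ∀ i, z (x i) = x i := by
    intro i
    have := hxF i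
    rw [Finset.mem_compl, Perm.mem_support, not_not] at this
    exact this
  have hxsurj : ∀ y, z y = y → ∃ i, x i = y := by
    intro y hy
    have hyF : y ∈ (z.supportᶜ : Finset Ω) := by
      rw [Finset.mem_compl, Perm.mem_support, not_not]
      exact hy
    refine ⟨e ⟨y, hyF⟩, ?_⟩
    show ((e.symm (e ⟨y, hyF⟩) : ↥(z.supportᶜ : Finset Ω)) : Ω) = y
    rw [Equiv.symm_apply_apply]
  -- the two commutators from AP-COMM
  obtain ⟨c₁, hc₁H, hc₁z, -, hc₁x⟩ := hCOMM x hxfix (swap 0 1) (swap 1 2)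
  obtain ⟨c₂, hc₂H, hc₂z, -, hc₂x⟩ := hCOMM x hxfix (swap 0 1) (swap 1 3)
  have hA₁ : Acts x c₁ κ₁ := hc₁x
  have hA₂ : Acts x c₂ κ₂ := hc₂x
  obtain ⟨w, hw⟩ : ∃ w : Perm Ω, w = c₁ * c₂ * c₁⁻¹ * c₂⁻¹ := ⟨_, rfl⟩
  have hwH : w ∈ H := by
    rw [hw]
    exact H.mul_mem (H.mul_mem (H.mul_mem hc₁H hc₂H) (H.inv_mem hc₁H)) (H.inv_mem hc₂H)
  have hwz : Commute w z := by
    rw [hw]
    exact ((hc₁z.mul_left hc₂z).mul_left hc₁z.inv_left).mul_left hc₂z.inv_left
  have hwsign : Perm.sign w = 1 := by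
    rw [hw, map_mul, map_mul, map_mul, map_inv, map_inv]
    rw [mul_comm (Perm.sign c₁) (Perm.sign c₂), mul_assoc (Perm.sign c₂), mul_inv_cancel,
      mul_one, mul_inv_cancel]
  have hAw : Acts x w κ := by
    rw [hw]
    exact ((hA₁.mul hA₂).mul hA₁.inv).mul hA₂.inv
  have hwF : ∀ y, z y = y → w y ≠ y ∧ w (w y) = y := by
    intro y hy
    obtain ⟨i, rfl⟩ := hxsurj y hy
    constructor
    · rw [hAw i]
      intro h
      exact κ_ne i (x.injective h)
    · rw [hAw i, hAw (κ i), κ_sq]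
  have hfix := hCL3 w hwz hwsign hwF
  -- `u = w ^ (3 r)`
  obtain ⟨u, hu⟩ : ∃ u : Perm Ω, u = w ^ (3 * r) := ⟨_, rfl⟩
  have huH : u ∈ H := by rw [hu]; exact H.pow_mem hwH _
  have hodd : ∃ m, 3 * r = 2 * m + 1 := by
    rcases hr.eq_two_or_odd' with h2 | hodd
    · omega
    · obtain ⟨j, hj⟩ := hodd
      exact ⟨3 * j + 1, by omega⟩
  obtain ⟨m, hm⟩ := hodd
  have hAu : Acts x u κ := by
    have := hAw.pow (3 * r)
    rw [hm, κ_pow_odd, ← hm, ← hu] at this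
    exact this
  have hu1 : u ≠ 1 := by
    intro h1
    have := hAu 0
    rw [h1, Perm.one_apply] at this
    exact κ_ne 0 (x.injective this).symm
  have husupp : u.support ⊆ (z.supportᶜ : Finset Ω) := by
    intro y hy
    rw [Finset.mem_compl]
    intro hyz
    rw [Perm.mem_support] at hy
    apply hy
    rw [hu]
    exact hfix y hyz
  have hucard : u.support.card ≤ 5 := by
    have := Finset.card_le_card husupp
    rw [hF] at this
    omega
  exact hCT 5 h5 (by rw [hΩ]; omega) u huH hu1 hucard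

end Cfsg.Agent.Lib.Helper10.APC3Of
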