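import Mathlib

/-!
# Market "AP" (S3614), leaf AP-ORD (helper10)

A 5-transitive group of degree `2r+3` or `3r+4` (`r` prime) contains an element of order `r`.
-/

set_option autoImplicit false

namespace Cfsg.Agent.Lib.Helper10.APORD

open Equiv MulAction

variable {Ω : Type*} [Fintype Ω] [DecidableEq Ω]

/-- **AP-ORD**. -/
theorem APORD (H : Subgroup (Perm Ω)) (h5 : IsMultiplyPretransitive ↥H Ω 5)
    (r : ℕ) (hr : r.Prime)
    (hcard : Fintype.card Ω = 2 * r + 3 ∨ Fintype.card Ω = 3 * r + 4) :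
    ∃ z ∈ H, orderOf z = r := by
  classical
  have : Fact r.Prime := ⟨hr⟩
  have hr2 : 2 ≤ r := hr.two_le
  have hN5 : 5 ≤ Fintype.card Ω := by rcases hcard with h | h <;> omega
  -- a 5-subset
  obtain ⟨t, -, ht⟩ := Finset.exists_subset_card_eq (s := (Finset.univ : Finset Ω)) (n := 5)
    (by rw [Finset.card_univ]; exact hN5)
  have hs : (t : Set Ω).ncard = 5 := by rw [Set.ncard_coe_finset, ht]
  have hidx := h5.index_of_fixingSubgroup_mul hs
  rw [Nat.card_eq_fintype_card] at hidx
  have hfac := Nat.factorial_mul_descFactorial hN5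
  have hidx' : (fixingSubgroup ↥H (t : Set Ω)).index = (Fintype.card Ω).descFactorial 5 := by
    have hpos : 0 < (Fintype.card Ω - 5).factorial := Nat.factorial_pos _
    apply Nat.eq_of_mul_eq_mul_left hpos
    rw [hfac, mul_comm, hidx]
  have hdesc : (Fintype.card Ω).descFactorial 5 =
      (Fintype.card Ω - 4) * ((Fintype.card Ω - 3) * ((Fintype.card Ω - 2) *
        ((Fintype.card Ω - 1) * Fintype.card Ω))) := by
    simp [Nat.descFactorial]
  have hrdvd : r ∣ (Fintype.card Ω).descFactorial 5 := by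
    rw [hdesc]
    rcases hcard with h | h
    · have h3 : Fintype.card Ω - 3 = 2 * r := by omega
      rw [h3]
      exact Dvd.dvd.mul_left (Dvd.dvd.mul_right (Dvd.intro_left 2 rfl) _) _
    · have h4 : Fintype.card Ω - 4 = 3 * r := by omega
      rw [h4]
      exact Dvd.dvd.mul_right (Dvd.intro_left 3 rfl) _
  have hrH : r ∣ Nat.card ↥H := by
    rw [← hidx'] at hrdvd
    exact hrdvd.trans (Subgroup.index_dvd_card _)
  obtain ⟨z', hz'⟩ := exists_prime_orderOf_dvd_card' r hrH
  exact ⟨(z' : Perm Ω), z'.2, by rw [Subgroup.orderOf_coe]; exact hz'⟩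

end Cfsg.Agent.Lib.Helper10.APORD
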