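import Mathlib

set_option autoImplicit false

namespace Cfsg.Agent.Lib.Helper10

/-- A matrix `M i j` over finite index types of odd sizes `p < q` satisfying the additive relation
`M i j + M i' j' = M i j' + M i' j` and with fewer than `2p` nonzero entries is zero, or supported
on a single column with constant value, or supported on a single row with constant value. -/
theorem additive_matrix_few_nonzero {I J : Type*} [Fintype I] [Fintype J] [DecidableEq I]
    [DecidableEq J] (M : I → J → ℂ)
    (hrel : ∀ i i' j j', M i j + M i' j' = M i j' + M i' j)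
    (hp : Odd (Fintype.card I)) (hq : Odd (Fintype.card J))
    (hpq : Fintype.card I < Fintype.card J)
    (hfew : (Finset.univ.filter (fun x : I × J => M x.1 x.2 ≠ 0)).card < 2 * Fintype.card I) :
    (∀ i j, M i j = 0) ∨ (∃ j₀ a, ∀ i j, M i j = if j = j₀ then a else 0) ∨
      (∃ i₀ a, ∀ i j, M i j = if i = i₀ then a else 0) := by
  classical
  set p := Fintype.card I with hpdef
  set q := Fintype.card J with hqdef
  have hq2 : p + 2 ≤ q := by
    obtain ⟨a, ha⟩ := hp
    obtain ⟨b, hb⟩ := hq
    omega
  have hppos : 0 < p := by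
    obtain ⟨a, ha⟩ := hp
    omega
  -- row counts
  set ρ : I → ℕ := fun i => (Finset.univ.filter (fun j : J => M i j ≠ 0)).card with hρ
  have hS : (Finset.univ.filter (fun x : I × J => M x.1 x.2 ≠ 0)).card = ∑ i, ρ i := by
    rw [Finset.card_filter, Fintype.sum_prod_type]
    apply Finset.sum_congr rfl
    intro i _
    rw [hρ]
    simp only
    rw [Finset.card_filter]
  rw [hS] at hfew
  -- a row with at most one nonzero entry
  have hrow : ∃ i₁, ρ i₁ ≤ 1 := by
    by_contra hcon
    push Not at hcon
    have : ∑ _i : I, 2 ≤ ∑ i, ρ i := Finset.sum_le_sum (fun i _ => hcon i)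
    rw [Finset.sum_const, Finset.card_univ, smul_eq_mul] at this
    omega
  obtain ⟨i₁, hi₁⟩ := hrow
  have hJne : Nonempty J := by
    have : 0 < Fintype.card J := by omega
    exact Fintype.card_pos_iff.mp this
  obtain ⟨j₀⟩ := hJne
  have hcases : ρ i₁ = 0 ∨ ρ i₁ = 1 := by omega
  rcases hcases with h0 | h1
  · -- Case A: row i₁ is zero, all rows are constant
    have hz : ∀ j, M i₁ j = 0 := by
      intro j
      by_contra hne
      have : j ∈ Finset.univ.filter (fun j : J => M i₁ j ≠ 0) := by simp [hne]
      rw [Finset.card_eq_zero.mp h0] at this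
      exact absurd this (Finset.notMem_empty j)
    have hconst : ∀ i j, M i j = M i j₀ := by
      intro i j
      have := hrel i i₁ j j₀
      rw [hz, hz, add_zero, add_zero] at this
      exact this
    set R := Finset.univ.filter (fun i : I => M i j₀ ≠ 0) with hR
    have hρR : ∀ i ∈ R, ρ i = q := by
      intro i hi
      rw [hR, Finset.mem_filter] at hi
      rw [hρ]
      simp only
      rw [Finset.filter_true_of_mem, Finset.card_univ]
      intro j _
      rw [hconst i j]
      exact hi.2
    have hge : R.card * q ≤ ∑ i, ρ i := by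
      calc R.card * q = ∑ _i ∈ R, q := by rw [Finset.sum_const, smul_eq_mul]
        _ = ∑ i ∈ R, ρ i := (Finset.sum_congr rfl (fun i hi => (hρR i hi).symm))
        _ ≤ ∑ i, ρ i := Finset.sum_le_sum_of_subset (Finset.subset_univ R)
    have hRcard : R.card ≤ 1 := by
      by_contra hcon
      push Not at hcon
      have : 2 * q ≤ R.card * q := Nat.mul_le_mul_right q hcon
      omega
    have hcases : R.card = 0 ∨ R.card = 1 := by omega
    rcases hcases with hR0 | hR1
    · left
      intro i j
      rw [hconst i j]
      by_contra hne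
      have : i ∈ R := by rw [hR, Finset.mem_filter]; exact ⟨Finset.mem_univ i, hne⟩
      rw [Finset.card_eq_zero.mp hR0] at this
      exact absurd this (Finset.notMem_empty i)
    · right; right
      obtain ⟨i₂, hi₂⟩ := Finset.card_eq_one.mp hR1
      refine ⟨i₂, M i₂ j₀, ?_⟩
      intro i j
      rw [hconst i j]
      by_cases hi : i = i₂
      · rw [if_pos hi, hi]
      · rw [if_neg hi]
        by_contra hne
        have : i ∈ R := by rw [hR, Finset.mem_filter]; exact ⟨Finset.mem_univ i, hne⟩
        rw [hi₂, Finset.mem_singleton] at this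
        exact hi this
  · -- Case B: row i₁ has exactly one nonzero entry, at j₁
    obtain ⟨j₁, hj₁⟩ := Finset.card_eq_one.mp h1
    have hδ : M i₁ j₁ ≠ 0 := by
      have : j₁ ∈ Finset.univ.filter (fun j : J => M i₁ j ≠ 0) := by
        rw [hj₁]; exact Finset.mem_singleton_self j₁
      exact (Finset.mem_filter.mp this).2
    have hz : ∀ j, j ≠ j₁ → M i₁ j = 0 := by
      intro j hj
      by_contra hne
      have : j ∈ Finset.univ.filter (fun j : J => M i₁ j ≠ 0) := by simp [hne]
      rw [hj₁, Finset.mem_singleton] at this
      exact hj this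
    -- a second column
    have hj₂ : ∃ j₂, j₂ ≠ j₁ := by
      by_contra hcon
      push Not at hcon
      have : Fintype.card J ≤ 1 := Fintype.card_le_one_iff.mpr (fun a b => (hcon a).trans (hcon b).symm)
      omega
    obtain ⟨j₂, hj₂⟩ := hj₂
    have hconst : ∀ i j, j ≠ j₁ → M i j = M i j₂ := by
      intro i j hj
      have := hrel i i₁ j j₂
      rw [hz j hj, hz j₂ hj₂, add_zero, add_zero] at this
      exact this
    have hcol : ∀ i, M i j₁ = M i j₂ + M i₁ j₁ := by
      intro i
      have := hrel i i₁ j₂ j₁
      rw [hz j₂ hj₂, add_zero] at this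
      exact this.symm
    set R := Finset.univ.filter (fun i : I => M i j₂ ≠ 0) with hR
    -- rows in R have at least q - 1 nonzero entries
    have hρR : ∀ i ∈ R, q - 1 ≤ ρ i := by
      intro i hi
      rw [hR, Finset.mem_filter] at hi
      rw [hρ]
      simp only
      have hsub : Finset.univ.erase j₁ ⊆ Finset.univ.filter (fun j : J => M i j ≠ 0) := by
        intro j hj
        rw [Finset.mem_erase] at hj
        rw [Finset.mem_filter]
        refine ⟨Finset.mem_univ j, ?_⟩
        rw [hconst i j hj.1]
        exact hi.2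
      have := Finset.card_le_card hsub
      rw [Finset.card_erase_of_mem (Finset.mem_univ j₁), Finset.card_univ] at this
      exact this
    -- rows outside R have at least one nonzero entry
    have hρR' : ∀ i, i ∉ R → 1 ≤ ρ i := by
      intro i hi
      have hi0 : M i j₂ = 0 := by
        by_contra hne
        exact hi (by rw [hR, Finset.mem_filter]; exact ⟨Finset.mem_univ i, hne⟩)
      rw [hρ]
      simp only
      apply Finset.card_pos.mpr
      refine ⟨j₁, ?_⟩
      rw [Finset.mem_filter]
      refine ⟨Finset.mem_univ j₁, ?_⟩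
      rw [hcol i, hi0, zero_add]
      exact hδ
    have hsum : R.card * (q - 1) + (p - R.card) ≤ ∑ i, ρ i := by
      have h1 : ∑ i, ρ i = ∑ i ∈ R, ρ i + ∑ i ∈ Rᶜ, ρ i := by
        rw [Finset.sum_add_sum_compl]
      have h2 : R.card * (q - 1) ≤ ∑ i ∈ R, ρ i := by
        calc R.card * (q - 1) = ∑ _i ∈ R, (q - 1) := by rw [Finset.sum_const, smul_eq_mul]
          _ ≤ ∑ i ∈ R, ρ i := Finset.sum_le_sum hρR
      have h3 : p - R.card ≤ ∑ i ∈ Rᶜ, ρ i := by
        calc p - R.card = Rᶜ.card := by rw [Finset.card_compl]
          _ = ∑ _i ∈ Rᶜ, 1 := by rw [Finset.sum_const, smul_eq_mul, mul_one]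
          _ ≤ ∑ i ∈ Rᶜ, ρ i :=
            Finset.sum_le_sum (fun i hi => hρR' i (Finset.mem_compl.mp hi))
      omega
    have hRle : R.card ≤ p := by
      rw [hpdef, ← Finset.card_univ]
      exact Finset.card_le_card (Finset.subset_univ R)
    have hR0 : R.card = 0 := by
      by_contra hcon
      have hk : 1 ≤ R.card := Nat.one_le_iff_ne_zero.mpr hcon
      have h1 : R.card * (p + 1) ≤ R.card * (q - 1) := Nat.mul_le_mul_left _ (by omega)
      have h2 : p ≤ R.card * p := Nat.le_mul_of_pos_left p hk
      have h3 : R.card * (p + 1) = R.card * p + R.card := by ring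
      omega
    right; left
    refine ⟨j₁, M i₁ j₁, ?_⟩
    intro i j
    have hi0 : M i j₂ = 0 := by
      by_contra hne
      have : i ∈ R := by rw [hR, Finset.mem_filter]; exact ⟨Finset.mem_univ i, hne⟩
      rw [Finset.card_eq_zero.mp hR0] at this
      exact absurd this (Finset.notMem_empty i)
    by_cases hj : j = j₁
    · rw [if_pos hj, hj, hcol i, hi0, zero_add]
    · rw [if_neg hj, hconst i j hj, hi0]

end Cfsg.Agent.Lib.Helper10
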