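import Mathlib
import Cfsg.Prelude.Def_BlockRank
import Cfsg.Agent.Lib.Helper24.BRCDefs
import Cfsg.Agent.Lib.Helper6.LinChar

/-!
# BRC layer 0 (helper10): common tools.  `N = N_G(P)`, `C_G(P) = P` of prime order `p`:
`N / P` is abelian of order `f`, and `Lin P` is in bijection with the homomorphisms `N / P →* ℂˣ`.
-/

set_option autoImplicit false

namespace Cfsg.Agent.Lib.Helper10.BRCL0

open Cfsg Cfsg.Agent.Lib.Helper8.DOM Cfsg.Agent.Lib.Helper27.DO Cfsg.Agent.CharLib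
open Cfsg.Agent.Lib.Helper6.BRH Cfsg.Agent.Lib.Helper24.BRC
open scoped ComplexConjugate commutatorElement

universe u

variable {G : Type u} [Group G]

/-- `P` as a subgroup of its normalizer -/
abbrev NP (P : Subgroup G) : Subgroup (Nz P) := P.subgroupOf (Nz P)

instance NP_normal (P : Subgroup G) : (NP P).Normal := Subgroup.normal_in_normalizer

theorem mem_NP (P : Subgroup G) (x : Nz P) : x ∈ NP P ↔ (x : G) ∈ P := Subgroup.mem_subgroupOf

/-- the quotient `N / P` -/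
abbrev QP (P : Subgroup G) : Type u := Nz P ⧸ NP P

theorem card_QP [Finite G] (P : Subgroup G) (hC : Cz P = P) : Nat.card (QP P) = fI P := by
  show Nat.card (Nz P ⧸ NP P) = (Cz P).relIndex (Nz P)
  rw [hC, ← Subgroup.index_eq_card]
  rfl

/-- a subgroup of prime order is generated by each of its non-trivial elements -/
theorem zpowers_eq_of_mem [Finite G] {p : ℕ} [hp : Fact p.Prime] (P : Subgroup G) (hP : Nat.card P = p)
    {x : G} (hx : x ∈ P) (hx1 : x ≠ 1) : orderOf x = p ∧ Subgroup.zpowers x = P := by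
  have hle : Subgroup.zpowers x ≤ P := (Subgroup.zpowers_le).mpr hx
  have hdvd : orderOf x ∣ p := by
    rw [← hP, ← Nat.card_zpowers]
    exact Subgroup.card_dvd_of_le hle
  have hord : orderOf x = p := by
    rcases (Nat.dvd_prime hp.out).mp hdvd with h | h
    · exact absurd (orderOf_eq_one_iff.mp h) hx1
    · exact h
  refine ⟨hord, Subgroup.eq_of_le_of_card_ge hle ?_⟩
  rw [Nat.card_zpowers, hord, hP]

theorem exists_gen [Finite G] {p : ℕ} [hp : Fact p.Prime] (P : Subgroup G) (hP : Nat.card P = p) :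
    ∃ x ∈ P, x ≠ 1 ∧ orderOf x = p ∧ Subgroup.zpowers x = P := by
  have hnt : Nontrivial P := by
    rw [← Finite.one_lt_card_iff_nontrivial, hP]
    exact hp.out.one_lt
  obtain ⟨x, hx⟩ := exists_ne (1 : P)
  have hx1 : (x : G) ≠ 1 := fun h => hx (Subtype.ext h)
  obtain ⟨h1, h2⟩ := zpowers_eq_of_mem P hP x.2 hx1
  exact ⟨x, x.2, hx1, h1, h2⟩

/-- an element of `N` commuting with a non-trivial element of `P` lies in `C_G(P)` -/
theorem mem_Cz_of_commute [Finite G] {p : ℕ} [hp : Fact p.Prime] (P : Subgroup G) (hP : Nat.card P = p)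
    {x y : G} (hx : x ∈ P) (hx1 : x ≠ 1) (hxy : Commute y x) : y ∈ Cz P := by
  obtain ⟨-, hz⟩ := zpowers_eq_of_mem P hP hx hx1
  rw [Subgroup.mem_centralizer_iff]
  intro g hg
  rw [SetLike.mem_coe, ← hz] at hg
  obtain ⟨k, rfl⟩ := hg
  exact ((hxy.zpow_right k).eq).symm

/-- `N(⟨x⟩)' ≤ ⟨x⟩` when `C_G(x) = ⟨x⟩` (conjugation by `n₁ n₂` and by `n₂ n₁` agree on `x`) -/
theorem comm_mem {x : G} (hC : Subgroup.centralizer ({x} : Set G) = Subgroup.zpowers x) {n₁ n₂ : G}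
    (h₁ : n₁ ∈ Subgroup.normalizer (Subgroup.zpowers x : Set G))
    (h₂ : n₂ ∈ Subgroup.normalizer (Subgroup.zpowers x : Set G)) :
    (n₂ * n₁)⁻¹ * (n₁ * n₂) ∈ Subgroup.zpowers x := by
  obtain ⟨a, ha⟩ := (Subgroup.mem_normalizer_iff.mp h₁ x).mp (Subgroup.mem_zpowers x)
  obtain ⟨b, hb⟩ := (Subgroup.mem_normalizer_iff.mp h₂ x).mp (Subgroup.mem_zpowers x)
  simp only at ha hb
  have hu : (n₁ * n₂) * x * (n₁ * n₂)⁻¹ = x ^ (a * b) := by
    have : (n₁ * n₂) * x * (n₁ * n₂)⁻¹ = n₁ * (n₂ * x * n₂⁻¹) * n₁⁻¹ := by group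
    rw [this, ← hb, ← conj_zpow, ← ha, ← zpow_mul]
  have hv : (n₂ * n₁) * x * (n₂ * n₁)⁻¹ = x ^ (a * b) := by
    have : (n₂ * n₁) * x * (n₂ * n₁)⁻¹ = n₂ * (n₁ * x * n₁⁻¹) * n₂⁻¹ := by group
    rw [this, ← ha, ← conj_zpow, ← hb, ← zpow_mul, mul_comm]
  rw [← hC, Subgroup.mem_centralizer_iff]
  intro y hy
  rw [Set.mem_singleton_iff] at hy
  subst hy
  calc y * ((n₂ * n₁)⁻¹ * (n₁ * n₂))
      = (n₂ * n₁)⁻¹ * ((n₂ * n₁) * y * (n₂ * n₁)⁻¹) * (n₁ * n₂) := by group
    _ = (n₂ * n₁)⁻¹ * ((n₁ * n₂) * y * (n₁ * n₂)⁻¹) * (n₁ * n₂) := by rw [hv, hu]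
    _ = (n₂ * n₁)⁻¹ * (n₁ * n₂) * y := by group

/-- `N / P` is abelian -/
theorem QP_comm [Finite G] {p : ℕ} [hp : Fact p.Prime] (P : Subgroup G) (hP : Nat.card P = p) (hC : Cz P = P)
    (a b : QP P) : a * b = b * a := by
  obtain ⟨x, hxP, hx1, hxo, hxz⟩ := exists_gen P hP
  have hCx : Subgroup.centralizer ({x} : Set G) = Subgroup.zpowers x := by
    rw [hxz]
    apply le_antisymm
    · intro y hy
      rw [Subgroup.mem_centralizer_iff] at hy
      have hc : Commute y x := (hy x rfl).symm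
      have := mem_Cz_of_commute P hP hxP hx1 hc
      rwa [hC] at this
    · intro y hy
      rw [Subgroup.mem_centralizer_iff]
      intro g hg
      rw [Set.mem_singleton_iff] at hg
      rw [hg]
      have hyC : y ∈ Cz P := by rw [hC]; exact hy
      rw [Subgroup.mem_centralizer_iff] at hyC
      exact hyC x hxP
  induction a using QuotientGroup.induction_on with
  | H n₁ =>
    induction b using QuotientGroup.induction_on with
    | H n₂ =>
      rw [← QuotientGroup.mk_mul, ← QuotientGroup.mk_mul, QuotientGroup.eq, mem_NP]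
      have h1 : (n₁ : G) ∈ Subgroup.normalizer (Subgroup.zpowers x : Set G) := by
        rw [hxz]; exact n₁.2
      have h2 : (n₂ : G) ∈ Subgroup.normalizer (Subgroup.zpowers x : Set G) := by
        rw [hxz]; exact n₂.2
      have h3 := comm_mem hCx h2 h1
      rw [hxz] at h3
      exact h3

/-- the character of `N` given by a homomorphism `N / P →* ℂˣ` -/
noncomputable def linOf (P : Subgroup G) (ψ : QP P →* ℂˣ) : IrrCharacter (Nz P) :=
  ⟨fun y => (((ψ.comp (QuotientGroup.mk' (NP P))) y : ℂˣ) : ℂ),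
    Cfsg.Agent.Lib.Helper6.isIrrCharacter_of_hom (ψ.comp (QuotientGroup.mk' (NP P)))⟩

theorem linOf_apply (P : Subgroup G) (ψ : QP P →* ℂˣ) (y : Nz P) :
    ((linOf P ψ : IrrCharacter (Nz P)) : Nz P → ℂ) y = ((ψ (QuotientGroup.mk y) : ℂˣ) : ℂ) := rfl

theorem linOf_mem (P : Subgroup G) (ψ : QP P →* ℂˣ) : linOf P ψ ∈ Lin P := by
  intro x hx
  rw [linOf_apply]
  have : (QuotientGroup.mk x : QP P) = 1 := (QuotientGroup.eq_one_iff x).mpr ((mem_NP P x).mpr hx)
  rw [this, map_one, Units.val_one]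

theorem linOf_injective (P : Subgroup G) : Function.Injective (linOf P) := by
  intro ψ ψ' h
  ext y
  exact congrFun (congrArg Subtype.val h) y

theorem linOf_surjective (P : Subgroup G) : ∀ β ∈ Lin P, ∃ ψ : QP P →* ℂˣ, linOf P ψ = β := by
  intro β hβ
  have h1 : (β : Nz P → ℂ) 1 = 1 := hβ 1 (one_mem P)
  have hch : IsCharacter (Nz P) (β : Nz P → ℂ) := IsIrrCharacter.isCharacter β.2
  let φ : Nz P →* ℂˣ := Cfsg.Agent.Lib.Helper6.linCharUnitsHom hch h1
  have hφ : ∀ y : Nz P, ((φ y : ℂˣ) : ℂ) = (β : Nz P → ℂ) y := fun y =>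
    Cfsg.Agent.Lib.Helper6.linCharUnitsHom_apply hch h1 y
  have hker : NP P ≤ φ.ker := by
    intro x hx
    rw [MonoidHom.mem_ker]
    apply Units.ext
    rw [hφ, Units.val_one]
    exact hβ x ((mem_NP P x).mp hx)
  refine ⟨QuotientGroup.lift (NP P) φ hker, ?_⟩
  apply Subtype.ext
  funext y
  rw [linOf_apply]
  show ((QuotientGroup.lift (NP P) φ hker (QuotientGroup.mk y) : ℂˣ) : ℂ) = _
  rw [QuotientGroup.lift_mk, hφ]

/-- the bijection `(N / P →* ℂˣ) ≃ Lin P` -/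
noncomputable def linEquiv (P : Subgroup G) : (QP P →* ℂˣ) ≃ Lin P :=
  Equiv.ofBijective (fun ψ => ⟨linOf P ψ, linOf_mem P ψ⟩)
    ⟨fun ψ ψ' h => linOf_injective P (congrArg Subtype.val h),
      fun β => by
        obtain ⟨ψ, hψ⟩ := linOf_surjective P β.1 β.2
        exact ⟨ψ, Subtype.ext hψ⟩⟩

theorem linEquiv_apply (P : Subgroup G) (ψ : QP P →* ℂˣ) : ((linEquiv P ψ : Lin P) : IrrCharacter (Nz P)) = linOf P ψ :=
  rfl

/-- sums over `Lin P` are sums over the homomorphisms -/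
theorem finsum_Lin (P : Subgroup G) (F : IrrCharacter (Nz P) → ℂ) :
    ∑ᶠ β ∈ Lin P, F β = ∑ᶠ ψ : QP P →* ℂˣ, F (linOf P ψ) := by
  rw [← finsum_set_coe_eq_finsum_mem]
  exact (finsum_comp_equiv (linEquiv P) (f := fun β : Lin P => F β)).symm

end Cfsg.Agent.Lib.Helper10.BRCL0
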