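import Mathlib
import Cfsg.Prelude.Def_BlockRank
import Cfsg.Prelude.Def_Perm
import Cfsg.Agent.Lib.Helper24.BRCDefs
import Cfsg.Agent.Lib.Helper6.CharNorm
import Cfsg.Agent.Lib.Helper10.BRCL0

/-!
# BRC-LINA (helper10): the `f` linear characters of `N / P`
-/

set_option autoImplicit false

namespace Cfsg.Agent.Lib.Helper10.BRCLINA

open Cfsg Cfsg.Agent.Lib.Helper8.DOM Cfsg.Agent.Lib.Helper27.DO Cfsg.Agent.CharLib
open Cfsg.Agent.Lib.Helper6.BRH Cfsg.Agent.Lib.Helper24.BRC Cfsg.Agent.Lib.Helper10.BRCL0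
open scoped ComplexConjugate commutatorElement

universe u

variable {G : Type u} [Group G] [Finite G] {p : ℕ} [Fact p.Prime]

theorem commutator_QP (P : Subgroup G) (hP : Nat.card P = p) (hC : Cz P = P) :
    commutator (QP P) = ⊥ := by
  rw [commutator_eq_closure, Subgroup.closure_eq_bot_iff]
  rintro c ⟨a, b, rfl⟩
  rw [Set.mem_singleton_iff, commutatorElement_eq_one_iff_mul_comm]
  exact QP_comm P hP hC a b

theorem card_hom (P : Subgroup G) (hP : Nat.card P = p) (hC : Cz P = P) :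
    Nat.card (QP P →* ℂˣ) = fI P := by
  rw [Cfsg.Agent.Lib.Helper6.card_hom_units, commutator_QP P hP hC, Subgroup.index_bot, card_QP P hC]

/-- **BRC-LINA** (a). -/
theorem card_Lin (P : Subgroup G) (hP : Nat.card P = p) (hC : Cz P = P) : Nat.card (Lin P) = fI P := by
  rw [← Nat.card_congr (linEquiv P), card_hom P hP hC]

/-- **BRC-LINA** (b).  Every `β ∈ Lin P` is linear. -/
theorem Lin_normSq (P : Subgroup G) (hP : Nat.card P = p) (hC : Cz P = P) :
    ∀ β ∈ Lin P, ∀ y : Nz P, Complex.normSq ((β : Nz P → ℂ) y) = 1 := by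
  intro β hβ y
  have h1 : (β : Nz P → ℂ) 1 = 1 := hβ 1 (one_mem P)
  have hch : IsCharacter (Nz P) (β : Nz P → ℂ) := IsIrrCharacter.isCharacter β.2
  rw [Complex.normSq_eq_norm_sq, Cfsg.Agent.Lib.Helper6.IsCharacter.norm_eq_one_of_apply_one hch h1]
  norm_num

/-- **BRC-LINA** (c).  `∑_β β = ` the regular character of `N / P`. -/
theorem sum_Lin_mem (P : Subgroup G) (hP : Nat.card P = p) (hC : Cz P = P) :
    ∀ y : Nz P, (y : G) ∈ P → ∑ᶠ β ∈ Lin P, (β : Nz P → ℂ) y = (fI P : ℂ) := by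
  classical
  intro y hy
  rw [finsum_Lin P (fun β => (β : Nz P → ℂ) y)]
  have hfin : Finite (QP P →* ℂˣ) := Finite.of_equiv (Lin P) (linEquiv P).symm
  letI : Fintype (QP P →* ℂˣ) := Fintype.ofFinite _
  rw [finsum_eq_sum_of_fintype]
  have hq : (QuotientGroup.mk y : QP P) = 1 := (QuotientGroup.eq_one_iff y).mpr ((mem_NP P y).mpr hy)
  have : ∀ ψ : QP P →* ℂˣ, ((linOf P ψ : IrrCharacter (Nz P)) : Nz P → ℂ) y = 1 := by
    intro ψ
    rw [linOf_apply, hq, map_one, Units.val_one]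
  rw [Finset.sum_congr rfl (fun ψ _ => this ψ), Finset.sum_const, Finset.card_univ, nsmul_eq_mul, mul_one,
    ← Nat.card_eq_fintype_card, card_hom P hP hC]

/-- **BRC-LINA** (d). -/
theorem sum_Lin_not_mem (P : Subgroup G) (hP : Nat.card P = p) (hC : Cz P = P) :
    ∀ y : Nz P, (y : G) ∉ P → ∑ᶠ β ∈ Lin P, (β : Nz P → ℂ) y = 0 := by
  classical
  intro y hy
  rw [finsum_Lin P (fun β => (β : Nz P → ℂ) y)]
  have hfin : Finite (QP P →* ℂˣ) := Finite.of_equiv (Lin P) (linEquiv P).symm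
  letI : Fintype (QP P →* ℂˣ) := Fintype.ofFinite _
  rw [finsum_eq_sum_of_fintype]
  simp only [linOf_apply]
  -- a homomorphism separating `q := mk y` from `1`
  have hq : (QuotientGroup.mk y : QP P) ≠ 1 := by
    intro h
    exact hy ((mem_NP P y).mp ((QuotientGroup.eq_one_iff y).mp h))
  letI : CommGroup (QP P) := { (inferInstance : Group (QP P)) with mul_comm := QP_comm P hP hC }
  have hne : NeZero ((Monoid.exponent (QP P) : ℕ) : ℂ) :=
    ⟨by exact_mod_cast Monoid.exponent_ne_zero_of_finite⟩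
  obtain ⟨ψ₀, hψ₀⟩ := CommGroup.exists_apply_ne_one_of_hasEnoughRootsOfUnity (QP P) ℂ hq
  -- translate the sum by `ψ₀`
  have htrans : ∑ ψ : QP P →* ℂˣ, ((ψ (QuotientGroup.mk y) : ℂˣ) : ℂ)
      = ((ψ₀ (QuotientGroup.mk y) : ℂˣ) : ℂ) * ∑ ψ : QP P →* ℂˣ, ((ψ (QuotientGroup.mk y) : ℂˣ) : ℂ) := by
    rw [Finset.mul_sum]
    exact (Fintype.sum_equiv (Equiv.mulLeft ψ₀) _ _ (fun ψ => by
      show ((ψ₀ (QuotientGroup.mk y) : ℂˣ) : ℂ) * ((ψ (QuotientGroup.mk y) : ℂˣ) : ℂ)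
        = (((ψ₀ * ψ) (QuotientGroup.mk y) : ℂˣ) : ℂ)
      rw [MonoidHom.mul_apply, Units.val_mul])).symm
  have hne1 : ((ψ₀ (QuotientGroup.mk y) : ℂˣ) : ℂ) ≠ 1 := by
    intro h
    apply hψ₀
    exact Units.ext h
  have : (1 - ((ψ₀ (QuotientGroup.mk y) : ℂˣ) : ℂ)) * ∑ ψ : QP P →* ℂˣ, ((ψ (QuotientGroup.mk y) : ℂˣ) : ℂ) = 0 := by
    rw [sub_mul, one_mul, ← htrans, sub_self]
  rcases mul_eq_zero.mp this with h | h
  · exact absurd (sub_eq_zero.mp h).symm hne1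
  · exact h

end Cfsg.Agent.Lib.Helper10.BRCLINA
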