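import Mathlib
import Cfsg.Prelude.Def_BlockRank
import Cfsg.Prelude.Def_Perm
import Cfsg.Agent.Lib.Helper24.BRCDefs
import Cfsg.Agent.Lib.Lead.CharFS
import Cfsg.Agent.Lib.Helper10.BRCL0

/-!
# BRC-LINC (helper10): `Lin P` is closed under complex conjugation; a real non-trivial member forces `f` even
-/

set_option autoImplicit false

namespace Cfsg.Agent.Lib.Helper10.BRCLINC

open Cfsg Cfsg.Agent.Lib.Helper8.DOM Cfsg.Agent.Lib.Helper27.DO Cfsg.Agent.CharLib
open Cfsg.Agent.Lib.Helper6.BRH Cfsg.Agent.Lib.Helper24.BRC Cfsg.Agent.Lib.Helper10.BRCL0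
open scoped ComplexConjugate

universe u

variable {G : Type u} [Group G] [Finite G] {p : ℕ} [Fact p.Prime]

/-- **BRC-LINC** (a). -/
theorem Lin_conj (P : Subgroup G) :
    ∀ β ∈ Lin P, ∃ β' ∈ Lin P, ∀ y : Nz P, (β' : Nz P → ℂ) y = conj ((β : Nz P → ℂ) y) := by
  intro β hβ
  refine ⟨⟨fun y => conj ((β : Nz P → ℂ) y), IsIrrCharacter.conj' β.2⟩, ?_, fun y => rfl⟩
  intro x hx
  show conj ((β : Nz P → ℂ) x) = 1
  rw [hβ x hx, map_one]

/-- **BRC-LINC** (b).  A real non-trivial linear character of `N / P` has a kernel of index `2`. -/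
theorem Lin_even_of_real (P : Subgroup G) (hP : Nat.card P = p) (hC : Cz P = P)
    (hnorm : ∀ β ∈ Lin P, ∀ y : Nz P, Complex.normSq ((β : Nz P → ℂ) y) = 1) :
    ∀ β ∈ Lin P, β ≠ trivIrr ↥(Nz P) → (∀ y : Nz P, conj ((β : Nz P → ℂ) y) = (β : Nz P → ℂ) y) →
      Even (fI P) := by
  intro β hβ hne hreal
  obtain ⟨ψ, hψ⟩ := linOf_surjective P β hβ
  have hval : ∀ y : Nz P, ((ψ (QuotientGroup.mk y) : ℂˣ) : ℂ) = (β : Nz P → ℂ) y := by
    intro y
    rw [← hψ, linOf_apply]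
  -- the values are `±1`
  have hpm : ∀ y : Nz P, (β : Nz P → ℂ) y = 1 ∨ (β : Nz P → ℂ) y = -1 := by
    intro y
    have h1 : (β : Nz P → ℂ) y * conj ((β : Nz P → ℂ) y) = 1 := by
      rw [Complex.mul_conj, hnorm β hβ y, Complex.ofReal_one]
    rw [hreal y] at h1
    exact mul_self_eq_one_iff.mp h1
  -- some value is `-1`
  obtain ⟨y₀, hy₀⟩ : ∃ y₀ : Nz P, (β : Nz P → ℂ) y₀ = -1 := by
    by_contra hcon
    push Not at hcon
    apply hne
    apply Subtype.ext
    funext y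
    rcases hpm y with h | h
    · rw [h]; rfl
    · exact absurd h (hcon y)
  -- the order of `mk y₀` is even
  have hpow : ((ψ (QuotientGroup.mk y₀) : ℂˣ) : ℂ) ^ orderOf (QuotientGroup.mk y₀ : QP P) = 1 := by
    rw [← Units.val_pow_eq_pow_val, ← map_pow, pow_orderOf_eq_one, map_one, Units.val_one]
  rw [hval, hy₀] at hpow
  have hev : Even (orderOf (QuotientGroup.mk y₀ : QP P)) := by
    have hne1 : (-1 : ℂ) ≠ 1 := by norm_num
    exact (neg_one_pow_eq_one_iff_even hne1).mp hpow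
  have hdvd : orderOf (QuotientGroup.mk y₀ : QP P) ∣ Nat.card (QP P) := orderOf_dvd_natCard _
  rw [card_QP P hC] at hdvd
  exact hev.trans_dvd hdvd

end Cfsg.Agent.Lib.Helper10.BRCLINC
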