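import Mathlib
import Cfsg.Prelude.Def_BlockRank
import Cfsg.Prelude.Def_Perm
import Cfsg.Agent.Lib.Helper24.BRCDefs
import Cfsg.Agent.Lib.Lead.CharMain
import Cfsg.Agent.Lib.Helper10.BRCL0

/-!
# BRC-LINV (helper10): the irreducible characters of `N` outside `Lin P` vanish off `P`
-/

set_option autoImplicit false

namespace Cfsg.Agent.Lib.Helper10.BRCLINV

open Cfsg Cfsg.Agent.Lib.Helper8.DOM Cfsg.Agent.Lib.Helper27.DO Cfsg.Agent.CharLib
open Cfsg.Agent.Lib.Helper6.BRH Cfsg.Agent.Lib.Helper24.BRC Cfsg.Agent.Lib.Helper10.BRCL0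
open scoped ComplexConjugate

universe u

variable {G : Type u} [Group G] [Finite G] {p : ℕ} [Fact p.Prime]

/-- for `y ∈ N \ P` the centralizer `C_N(y)` embeds in `N / P` -/
theorem card_centralizer_le (P : Subgroup G) (hP : Nat.card P = p) (hC : Cz P = P) (y : Nz P)
    (hy : (y : G) ∉ P) : Nat.card (Subgroup.centralizer ({y} : Set (Nz P))) ≤ fI P := by
  rw [← card_QP P hC]
  apply Nat.card_le_card_of_injective
    (fun k : Subgroup.centralizer ({y} : Set (Nz P)) => (QuotientGroup.mk (k : Nz P) : QP P))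
  intro k k' h
  have h1 : (k : Nz P)⁻¹ * (k' : Nz P) ∈ NP P := QuotientGroup.eq.mp h
  rw [mem_NP] at h1
  by_contra hne
  -- `x := k⁻¹ k'` is a non-trivial element of `P` commuting with `y`
  have hx1 : (((k : Nz P)⁻¹ * (k' : Nz P) : Nz P) : G) ≠ 1 := by
    intro h2
    apply hne
    have h3 : (k : Nz P)⁻¹ * (k' : Nz P) = 1 := Subtype.ext h2
    exact Subtype.ext (inv_mul_eq_one.mp h3)
  have hcomm : Commute (y : Nz P) ((k : Nz P)⁻¹ * (k' : Nz P)) := by
    have hk := Subgroup.mem_centralizer_iff.mp k.2 y rfl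
    have hk' := Subgroup.mem_centralizer_iff.mp k'.2 y rfl
    have c1 : Commute (y : Nz P) (k : Nz P) := hk
    have c2 : Commute (y : Nz P) (k' : Nz P) := hk'
    exact c1.inv_right.mul_right c2
  have hcommG : Commute (y : G) (((k : Nz P)⁻¹ * (k' : Nz P) : Nz P) : G) := by
    have := congrArg (Subtype.val : Nz P → G) hcomm.eq
    exact this
  have := mem_Cz_of_commute P hP h1 hx1 hcommG
  rw [hC] at this
  exact hy this

/-- **BRC-LINV**. -/
theorem Lin_vanish (P : Subgroup G) (hP : Nat.card P = p) (hC : Cz P = P)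
    (hcard : Nat.card (Lin P) = fI P)
    (hnorm : ∀ β ∈ Lin P, ∀ y : Nz P, Complex.normSq ((β : Nz P → ℂ) y) = 1) :
    ∀ γ : IrrCharacter (Nz P), γ ∉ Lin P → ∀ y : Nz P, (y : G) ∉ P → (γ : Nz P → ℂ) y = 0 := by
  classical
  intro γ hγ y hy
  letI : Fintype (Nz P) := Fintype.ofFinite _
  letI : Fintype (IrrCharacter (Nz P)) := fintypeIrr (Nz P)
  -- column orthogonality at `y`
  have hcol := sum_irr_mul_conj y y
  have hind : classIndicator y y = 1 := by
    simp only [classIndicator, IsConj.refl, if_true]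
  rw [hind, one_mul] at hcol
  have hcolR : ∑ χ : IrrCharacter (Nz P), Complex.normSq ((χ : Nz P → ℂ) y)
      = (Nat.card (Subgroup.centralizer ({y} : Set (Nz P))) : ℝ) := by
    apply Complex.ofReal_injective
    rw [Complex.ofReal_sum]
    simp only [← Complex.mul_conj]
    rw [hcol]
    simp
  -- split
  have hsplit := Finset.sum_filter_add_sum_filter_not Finset.univ (fun χ : IrrCharacter (Nz P) => χ ∈ Lin P)
    (fun χ => Complex.normSq ((χ : Nz P → ℂ) y))
  have h1 : ∑ χ ∈ Finset.univ.filter (fun χ : IrrCharacter (Nz P) => χ ∈ Lin P),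
      Complex.normSq ((χ : Nz P → ℂ) y) = (fI P : ℝ) := by
    have : ∀ χ ∈ Finset.univ.filter (fun χ : IrrCharacter (Nz P) => χ ∈ Lin P),
        Complex.normSq ((χ : Nz P → ℂ) y) = 1 := by
      intro χ hχ
      exact hnorm χ (Finset.mem_filter.mp hχ).2 y
    rw [Finset.sum_congr rfl this, Finset.sum_const, nsmul_eq_mul, mul_one, ← hcard]
    congr 1
    rw [Nat.card_eq_fintype_card, Fintype.card_subtype]
  have hle : (Nat.card (Subgroup.centralizer ({y} : Set (Nz P))) : ℝ) ≤ (fI P : ℝ) := by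
    exact_mod_cast card_centralizer_le P hP hC y hy
  have h2 : ∑ χ ∈ Finset.univ.filter (fun χ : IrrCharacter (Nz P) => ¬ χ ∈ Lin P),
      Complex.normSq ((χ : Nz P → ℂ) y) ≤ 0 := by
    rw [hcolR, h1] at hsplit
    linarith
  have h3 : ∀ χ ∈ Finset.univ.filter (fun χ : IrrCharacter (Nz P) => ¬ χ ∈ Lin P),
      0 ≤ Complex.normSq ((χ : Nz P → ℂ) y) := fun χ _ => Complex.normSq_nonneg _
  have h4 := (Finset.sum_eq_zero_iff_of_nonneg h3).mp (le_antisymm h2 (Finset.sum_nonneg h3))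
  have h5 := h4 γ (Finset.mem_filter.mpr ⟨Finset.mem_univ γ, hγ⟩)
  exact Complex.normSq_eq_zero.mp h5

end Cfsg.Agent.Lib.Helper10.BRCLINV
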