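/-
helper10: S4503 PART H (helper6's market), leaf BRH-ROW `row_of_lam`:
a character equal to `-1` on the `p`-singular elements of `C = C_G(P)` contains every `lam u`, `u ≠ 0`.
Also exported: `mult_eq_classInner`, `mult_nat` (multiplicities in a restricted character are natural numbers).
-/
import Mathlib
import Cfsg.Prelude.Def_BlockRank
import Cfsg.Agent.Lib.Helper6.BRHDefs
import Cfsg.Agent.Lib.Lead.CharDecomp
import Cfsg.Agent.Lib.Lead.CharEquiv

set_option autoImplicit false

namespace Cfsg.Agent.Lib.Helper10.BRHROW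

open Cfsg Cfsg.Agent.Lib.Helper8.DOM Cfsg.Agent.Lib.Helper27.DO Cfsg.Agent.CharLib
open Cfsg.Agent.Lib.Helper6.BRH
open scoped ComplexConjugate

universe u

variable {G : Type u} [Group G] [Finite G] {p : ℕ} [Fact p.Prime]

/-- `mult` is `classInner` of the restriction. -/
theorem mult_eq_classInner (H : Subgroup G) [Fintype H] (χ : G → ℂ) (φ : H → ℂ) :
    mult H χ φ = classInner (fun h : H => χ (h : G)) φ := by
  unfold mult classInner
  rw [finsum_eq_sum_of_fintype]

/-- the multiplicity of an irreducible character of `H` in the restriction of a character of `G` is a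
natural number -/
theorem mult_nat (H : Subgroup G) {χ : G → ℂ} (hχ : IsCharacter G χ) (φ : IrrCharacter H) :
    ∃ n : ℕ, mult H χ (φ : H → ℂ) = (n : ℂ) := by
  classical
  letI : Fintype H := Fintype.ofFinite H
  rw [mult_eq_classInner]
  exact IsCharacter.classInner_nat (IsCharacter.restrict hχ H) (IsIrrCharacter.isCharacter φ.2)

/-- the sum form of `mult` -/
theorem mult_sum (H : Subgroup G) [Fintype H] (χ : G → ℂ) (φ : H → ℂ) :
    mult H χ φ = (Nat.card H : ℂ)⁻¹ * ∑ h : H, χ (h : G) * conj (φ h) := by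
  unfold mult
  rw [finsum_eq_sum_of_fintype]

/-- ROW : a character equal to `-1` on the `p`-singular elements of `C` contains every `lam u`, `u ≠ 0`. -/
theorem row_of_lam (P : Subgroup G) (lam : ZMod p → IrrCharacter (Cz P)) (hlam : LamData p P lam)
    (η : IrrCharacter G)
    (hη : ∀ c : G, c ∈ Cz P → p ∣ orderOf c → (η : G → ℂ) c = -1) (u : ZMod p) (hu : u ≠ 0) :
    ∃ m : ℕ, 1 ≤ m ∧ mult (Cz P) (η : G → ℂ) (lam u : Cz P → ℂ) = (m : ℂ) := by
  classical
  letI : Fintype (Cz P) := Fintype.ofFinite (Cz P)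
  obtain ⟨n0, hn0⟩ := mult_nat (Cz P) (IsIrrCharacter.isCharacter η.2) (lam 0)
  refine ⟨n0 + 1, by omega, ?_⟩
  have hcard : (Nat.card (Cz P) : ℂ) ≠ 0 := by
    exact_mod_cast Nat.card_pos.ne'
  -- the two orthogonality relations
  have h1 : ∑ h : Cz P, conj ((lam u : Cz P → ℂ) h) = 0 := by
    have h := classInner_irr' (lam u) (lam 0)
    rw [if_neg (fun h' => hu (hlam.inj h'))] at h
    unfold classInner at h
    have h2 : ∑ g : Cz P, (lam u : Cz P → ℂ) g * conj ((lam 0 : Cz P → ℂ) g) = 0 := by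
      rcases mul_eq_zero.mp h with h3 | h3
      · exact absurd (inv_eq_zero.mp h3) hcard
      · exact h3
    have h3 : ∑ g : Cz P, (lam u : Cz P → ℂ) g = 0 := by
      rw [← h2]
      apply Finset.sum_congr rfl
      intro g _
      rw [hlam.zero g, map_one, mul_one]
    rw [← map_sum, h3, map_zero]
  have h0 : ∑ h : Cz P, conj ((lam 0 : Cz P → ℂ) h) = (Nat.card (Cz P) : ℂ) := by
    have : ∀ h : Cz P, conj ((lam 0 : Cz P → ℂ) h) = 1 := by
      intro h
      rw [hlam.zero h, map_one]
    rw [Finset.sum_congr rfl (fun h _ => this h), Finset.sum_const, Finset.card_univ, nsmul_eq_mul,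
      mul_one, Nat.card_eq_fintype_card]
  -- termwise identity
  have hterm : ∀ h : Cz P, (η : G → ℂ) (h : G) * conj ((lam u : Cz P → ℂ) h) -
      (η : G → ℂ) (h : G) * conj ((lam 0 : Cz P → ℂ) h) =
      conj ((lam 0 : Cz P → ℂ) h) - conj ((lam u : Cz P → ℂ) h) := by
    intro h
    by_cases hh : p ∣ orderOf h
    · have hh' : p ∣ orderOf (h : G) := by rwa [Subgroup.orderOf_coe]
      rw [hη (h : G) h.2 hh']
      ring
    · rw [hlam.reg u h hh, hlam.reg 0 h hh]
      ring
  have hdiff : mult (Cz P) (η : G → ℂ) (lam u : Cz P → ℂ) -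
      mult (Cz P) (η : G → ℂ) (lam 0 : Cz P → ℂ) = 1 := by
    rw [mult_sum, mult_sum, ← mul_sub, ← Finset.sum_sub_distrib,
      Finset.sum_congr rfl (fun h _ => hterm h), Finset.sum_sub_distrib, h1, h0, sub_zero]
    exact inv_mul_cancel₀ hcard
  have : mult (Cz P) (η : G → ℂ) (lam u : Cz P → ℂ) =
      mult (Cz P) (η : G → ℂ) (lam 0 : Cz P → ℂ) + 1 := by
    rw [← hdiff]; ring
  rw [this, hn0]
  push_cast
  ring

end Cfsg.Agent.Lib.Helper10.BRHROW
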