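/-
helper10: S4503 PART H (helper6's market), leaf BRH-FROBA `mult_ge`:
every `lam u` occurs in `Λ|_C` (`Λ = ψ ψ̄'`) at least `|S|` times, when every `η ∈ S` is a constituent of `Λ`
containing `lam u`.
-/
import Mathlib
import Cfsg.Prelude.Def_BlockRank
import Cfsg.Agent.Lib.Helper6.BRHDefs
import Cfsg.Agent.Lib.Lead.CharDecomp
import Cfsg.Agent.Lib.Lead.CharEquiv
import Cfsg.Agent.Lib.Helper10.BRHROW

set_option autoImplicit false

namespace Cfsg.Agent.Lib.Helper10.BRHFROBA

open Cfsg Cfsg.Agent.Lib.Helper8.DOM Cfsg.Agent.Lib.Helper27.DO Cfsg.Agent.CharLib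
open Cfsg.Agent.Lib.Helper6.BRH Cfsg.Agent.Lib.Helper10.BRHROW
open scoped ComplexConjugate

universe u

variable {G : Type u} [Group G] [Finite G] {p : ℕ} [Fact p.Prime]

/-- `mult` of a finite combination -/
theorem mult_sum_smul (H : Subgroup G) {ι : Type*} [Fintype ι] (c : ι → ℕ) (f : ι → G → ℂ) (φ : H → ℂ) :
    mult H (∑ i, c i • f i) φ = ∑ i, (c i : ℂ) * mult H (f i) φ := by
  classical
  letI : Fintype H := Fintype.ofFinite H
  simp only [mult_sum]
  have h1 : ∀ h : H, (∑ i, c i • f i) (h : G) * conj (φ h) =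
      ∑ i, (c i : ℂ) * (f i (h : G) * conj (φ h)) := by
    intro h
    rw [Finset.sum_apply, Finset.sum_mul]
    apply Finset.sum_congr rfl
    intro i _
    rw [Pi.smul_apply, nsmul_eq_mul]
    ring
  rw [Finset.sum_congr rfl (fun h _ => h1 h), Finset.sum_comm, Finset.mul_sum]
  apply Finset.sum_congr rfl
  intro i _
  rw [← Finset.mul_sum]
  ring

/-- FROBA : every `lam u`, `u ≠ 0`, occurs in `Λ|_C` at least `|S|` times. -/
theorem mult_ge (P : Subgroup G) (lam : ZMod p → IrrCharacter (Cz P))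
    (ψ ψ' : IrrCharacter G) (mL : IrrCharacter G → ℕ)
    (hL : (fun g => (ψ : G → ℂ) g * conj ((ψ' : G → ℂ) g)) =
      ∑ᶠ η : IrrCharacter G, mL η • (η : G → ℂ))
    (S : Set (IrrCharacter G)) (hS : ∀ η ∈ S, mL η ≠ 0) (u : ZMod p)
    (hrow : ∀ η ∈ S, ∃ m : ℕ, 1 ≤ m ∧ mult (Cz P) (η : G → ℂ) (lam u : Cz P → ℂ) = (m : ℂ)) :
    ∃ m : ℕ, Nat.card S ≤ m ∧
      mult (Cz P) (fun g => (ψ : G → ℂ) g * conj ((ψ' : G → ℂ) g)) (lam u : Cz P → ℂ) = (m : ℂ) := by
  classical
  letI : Fintype (IrrCharacter G) := fintypeIrr G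
  choose n hn using fun η : IrrCharacter G =>
    mult_nat (Cz P) (IsIrrCharacter.isCharacter η.2) (lam u)
  refine ⟨∑ η : IrrCharacter G, mL η * n η, ?_, ?_⟩
  · -- the count
    have h1 : Nat.card S = (Finset.univ.filter (fun η : IrrCharacter G => η ∈ S)).card := by
      rw [Nat.card_eq_fintype_card, Fintype.card_subtype]
    rw [h1, Finset.card_eq_sum_ones]
    calc ∑ _η ∈ Finset.univ.filter (fun η : IrrCharacter G => η ∈ S), 1
        ≤ ∑ η ∈ Finset.univ.filter (fun η : IrrCharacter G => η ∈ S), mL η * n η := by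
          apply Finset.sum_le_sum
          intro η hη
          have hηS : η ∈ S := (Finset.mem_filter.mp hη).2
          obtain ⟨m', hm', hm'eq⟩ := hrow η hηS
          have h2 : n η = m' := by
            have := (hn η).symm.trans hm'eq
            exact_mod_cast this
          have h3 : 1 ≤ mL η := Nat.one_le_iff_ne_zero.mpr (hS η hηS)
          rw [h2]
          exact Nat.one_le_iff_ne_zero.mpr (Nat.mul_ne_zero (by omega) (by omega))
      _ ≤ ∑ η : IrrCharacter G, mL η * n η := by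
          apply Finset.sum_le_sum_of_subset
          exact Finset.filter_subset _ _
  · rw [hL, finsum_eq_sum_of_fintype, mult_sum_smul]
    push_cast
    apply Finset.sum_congr rfl
    intro η _
    rw [hn η]

end Cfsg.Agent.Lib.Helper10.BRHFROBA
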