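/-
helper10: S4503 PART H (helper6's market), leaf BRH-FROBB `sum_mult_eq`:
`∑_{u ≠ 0} ⟨Λ|_C, lam u⟩ = (p/|C|) ∑_{y ∈ C p-regular} |ψ(y)|² - ⟨ψ|_C, ψ'|_C⟩`, the last term a natural number
(`Λ = ψ ψ̄'`, `ψ' = ψ` on the `p`-regular elements).
-/
import Mathlib
import Cfsg.Prelude.Def_BlockRank
import Cfsg.Agent.Lib.Helper6.BRHDefs
import Cfsg.Agent.Lib.Lead.CharDecomp
import Cfsg.Agent.Lib.Lead.CharEquiv
import Cfsg.Agent.Lib.Helper10.BRHROW

set_option autoImplicit false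

namespace Cfsg.Agent.Lib.Helper10.BRHFROBB

open Cfsg Cfsg.Agent.Lib.Helper8.DOM Cfsg.Agent.Lib.Helper27.DO Cfsg.Agent.CharLib
open Cfsg.Agent.Lib.Helper6.BRH Cfsg.Agent.Lib.Helper10.BRHROW
open scoped ComplexConjugate

universe u

variable {G : Type u} [Group G] [Finite G] {p : ℕ} [Fact p.Prime]

/-- the real finsum over the `p`-regular elements of `C`, as a sum over `↥C` -/
theorem finsum_regular_eq (P : Subgroup G) [Fintype (Cz P)] (f : G → ℝ) :
    ∑ᶠ y ∈ {y : G | y ∈ Cz P ∧ ¬ p ∣ orderOf y}, f y =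
      ∑ h : Cz P, if p ∣ orderOf h then 0 else f (h : G) := by
  classical
  have himg : {y : G | y ∈ Cz P ∧ ¬ p ∣ orderOf y} =
      (Subtype.val : Cz P → G) '' {h : Cz P | ¬ p ∣ orderOf h} := by
    ext y
    constructor
    · rintro ⟨hy, hyo⟩
      refine ⟨⟨y, hy⟩, ?_, rfl⟩
      show ¬ p ∣ orderOf (⟨y, hy⟩ : Cz P)
      rw [← Subgroup.orderOf_coe]
      exact hyo
    · rintro ⟨h, hh, rfl⟩
      refine ⟨h.2, ?_⟩
      rw [Subgroup.orderOf_coe]
      exact hh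
  rw [himg, finsum_mem_image (Subtype.val_injective.injOn), finsum_mem_def,
    finsum_eq_sum_of_fintype]
  apply Finset.sum_congr rfl
  intro h _
  by_cases hh : p ∣ orderOf h
  · rw [if_pos hh, Set.indicator_of_notMem]
    simpa using hh
  · rw [if_neg hh, Set.indicator_of_mem]
    exact hh

/-- FROBB : `∑_{u ≠ 0} ⟨Λ|_C, lam u⟩ = (p/|C|) ∑_{y ∈ K} |ψ(y)|² - ⟨ψ|_C, ψ'|_C⟩`, the last term a natural number. -/
theorem sum_mult_eq (P : Subgroup G) (lam : ZMod p → IrrCharacter (Cz P)) (hlam : LamData p P lam)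
    (ψ ψ' : IrrCharacter G)
    (hreg : ∀ g : G, ¬ p ∣ orderOf g → (ψ' : G → ℂ) g = (ψ : G → ℂ) g) :
    ∃ n : ℕ, ∑ᶠ u ∈ {u : ZMod p | u ≠ 0},
        mult (Cz P) (fun g => (ψ : G → ℂ) g * conj ((ψ' : G → ℂ) g)) (lam u : Cz P → ℂ) =
      (((p : ℝ) * (Nat.card (Cz P) : ℝ)⁻¹ *
        ∑ᶠ y ∈ {y : G | y ∈ Cz P ∧ ¬ p ∣ orderOf y}, Complex.normSq ((ψ : G → ℂ) y) : ℝ) : ℂ) -
        (n : ℂ) := by
  classical
  letI : Fintype (Cz P) := Fintype.ofFinite (Cz P)
  haveI : NeZero p := ⟨(Fact.out : p.Prime).ne_zero⟩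
  set Λ : G → ℂ := fun g => (ψ : G → ℂ) g * conj ((ψ' : G → ℂ) g) with hΛ
  -- `n := ⟨ψ|_C, ψ'|_C⟩`
  obtain ⟨n, hn⟩ := IsCharacter.classInner_nat
    (IsCharacter.restrict (IsIrrCharacter.isCharacter ψ.2) (Cz P))
    (IsCharacter.restrict (IsIrrCharacter.isCharacter ψ'.2) (Cz P))
  refine ⟨n, ?_⟩
  -- the term `u = 0`
  have h0 : mult (Cz P) Λ (lam 0 : Cz P → ℂ) = (n : ℂ) := by
    rw [← hn, mult_sum]
    unfold classInner
    congr 1
    apply Finset.sum_congr rfl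
    intro h _
    rw [hlam.zero h, map_one, mul_one]
  -- the sum over all `u`
  have hall : ∑ u : ZMod p, mult (Cz P) Λ (lam u : Cz P → ℂ) =
      (p : ℂ) * (Nat.card (Cz P) : ℂ)⁻¹ *
        ∑ h : Cz P, if p ∣ orderOf h then 0 else ((Complex.normSq ((ψ : G → ℂ) (h : G)) : ℝ) : ℂ) := by
    simp only [mult_sum]
    rw [← Finset.mul_sum, Finset.sum_comm]
    have hterm : ∀ h : Cz P, ∑ u : ZMod p, Λ (h : G) * conj ((lam u : Cz P → ℂ) h) =
        (p : ℂ) * (if p ∣ orderOf h then 0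
          else ((Complex.normSq ((ψ : G → ℂ) (h : G)) : ℝ) : ℂ)) := by
      intro h
      rw [← Finset.mul_sum, ← map_sum]
      by_cases hh : p ∣ orderOf h
      · have := hlam.sing h hh
        rw [finsum_eq_sum_of_fintype] at this
        rw [this, if_pos hh, map_zero, mul_zero, mul_zero]
      · have h1 : ∑ u : ZMod p, (lam u : Cz P → ℂ) h = (p : ℂ) := by
          rw [Finset.sum_congr rfl (fun u _ => hlam.reg u h hh), Finset.sum_const, Finset.card_univ,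
            ZMod.card, nsmul_eq_mul, mul_one]
        have hh' : ¬ p ∣ orderOf (h : G) := by rwa [Subgroup.orderOf_coe]
        rw [h1, if_neg hh, map_natCast, hΛ]
        show (ψ : G → ℂ) (h : G) * conj ((ψ' : G → ℂ) (h : G)) * (p : ℂ) = _
        rw [hreg (h : G) hh', Complex.mul_conj]
        ring
    rw [Finset.sum_congr rfl (fun h _ => hterm h), ← Finset.mul_sum]
    ring
  -- split off `u = 0`
  have hsplit : ∑ᶠ u ∈ {u : ZMod p | u ≠ 0}, mult (Cz P) Λ (lam u : Cz P → ℂ) =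
      ∑ u : ZMod p, mult (Cz P) Λ (lam u : Cz P → ℂ) - mult (Cz P) Λ (lam 0 : Cz P → ℂ) := by
    have hset : {u : ZMod p | u ≠ 0} =
        ((Finset.univ.erase (0 : ZMod p) : Finset (ZMod p)) : Set (ZMod p)) := by
      ext u; simp
    rw [hset, finsum_mem_coe_finset,
      ← Finset.add_sum_erase Finset.univ _ (Finset.mem_univ (0 : ZMod p))]
    ring
  rw [hsplit, hall, h0, finsum_regular_eq P (fun y => Complex.normSq ((ψ : G → ℂ) y))]
  push_cast
  congr 2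
  apply Finset.sum_congr rfl
  intro h _
  split_ifs <;> simp

end Cfsg.Agent.Lib.Helper10.BRHFROBB
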