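import Mathlib

/-! Groups with a self-centralizing element `x` of prime order `p` (`C_G(x) = ⟨x⟩`):
`⟨x⟩` is a Sylow `p`-subgroup, fusion of its elements is controlled by the normalizer,
counting of classes of elements of order `p`, and the index of the commutator subgroup. -/

namespace Cfsg.Agent.Lib.Helper10
open Subgroup
open scoped commutatorElement

section selfcent
variable {G : Type*} [Group G] [Finite G] {p : ℕ} {x : G}

omit [Finite G] in
/-- A nonidentity element of `⟨x⟩` (`x` of prime order `p`) has order `p`. -/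
theorem scp_orderOf (hp : p.Prime) (hx : orderOf x = p) {y : G} (hy : y ∈ zpowers x) (hy1 : y ≠ 1) :
    orderOf y = p := by
  have h1 : orderOf y ∣ p := hx ▸ orderOf_dvd_of_mem_zpowers hy
  rcases (Nat.dvd_prime hp).mp h1 with h | h
  · exact absurd (orderOf_eq_one_iff.mp h) hy1
  · exact h

/-- A nonidentity element of `⟨x⟩` generates it. -/
theorem scp_zpowers_eq (hp : p.Prime) (hx : orderOf x = p) {y : G} (hy : y ∈ zpowers x) (hy1 : y ≠ 1) :
    zpowers y = zpowers x := by
  apply Subgroup.eq_of_le_of_card_ge ((zpowers_le).mpr hy)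
  rw [Nat.card_zpowers, Nat.card_zpowers, hx, scp_orderOf hp hx hy hy1]

theorem scp_centralizer_eq (hp : p.Prime) (hx : orderOf x = p)
    (hC : centralizer ({x} : Set G) = zpowers x) {y : G} (hy : y ∈ zpowers x) (hy1 : y ≠ 1) :
    centralizer ({y} : Set G) = zpowers x := by
  have hxy : x ∈ zpowers y := by
    rw [scp_zpowers_eq hp hx hy hy1]
    exact mem_zpowers x
  ext g
  constructor
  · intro hg
    rw [← hC, mem_centralizer_iff]
    intro h hh
    rw [Set.mem_singleton_iff] at hh
    subst hh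
    obtain ⟨k, hk⟩ := hxy
    have h1 : Commute y g := (mem_centralizer_iff.mp hg) y rfl
    rw [← hk]
    exact (h1.zpow_left k).eq
  · intro hg
    rw [mem_centralizer_iff]
    intro h hh
    rw [Set.mem_singleton_iff] at hh
    subst hh
    obtain ⟨k, rfl⟩ := hy
    obtain ⟨l, rfl⟩ := hg
    exact ((Commute.refl x).zpow_zpow k l).eq

omit [Finite G] in
theorem scp_ne_one (hp : p.Prime) (hx : orderOf x = p) : x ≠ 1 := by
  intro h
  rw [h, orderOf_one] at hx
  exact hp.one_lt.ne' hx.symm

/-- `⟨x⟩` is a Sylow `p`-subgroup. -/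
theorem scp_exists_sylow (hp : p.Prime) (hx : orderOf x = p)
    (hC : centralizer ({x} : Set G) = zpowers x) :
    ∃ P : Sylow p G, (P : Subgroup G) = zpowers x := by
  have := Fact.mk hp
  have hPp : IsPGroup p (zpowers x) :=
    IsPGroup.of_card (n := 1) (by rw [Nat.card_zpowers, hx, pow_one])
  obtain ⟨Q, hQ⟩ := hPp.exists_le_sylow
  refine ⟨Q, le_antisymm ?_ hQ⟩
  have hx1 : x ≠ 1 := scp_ne_one hp hx
  have : Nontrivial (Q : Subgroup G) :=
    ⟨⟨⟨x, hQ (mem_zpowers x)⟩, 1, fun h => hx1 (congrArg Subtype.val h)⟩⟩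
  have := Q.2.center_nontrivial
  obtain ⟨⟨z, hz⟩, hz1⟩ := exists_ne (1 : center (Q : Subgroup G))
  have hzG1 : (z : G) ≠ 1 := by
    intro h
    apply hz1
    apply Subtype.ext
    apply Subtype.ext
    exact h
  have hzx : (z : G) ∈ zpowers x := by
    rw [← hC, mem_centralizer_iff]
    intro h hh
    rw [Set.mem_singleton_iff] at hh
    subst hh
    have := (mem_center_iff.mp hz) ⟨h, hQ (mem_zpowers h)⟩
    exact congrArg Subtype.val this
  have hCz := scp_centralizer_eq hp hx hC hzx hzG1
  intro q hq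
  rw [← hCz, mem_centralizer_iff]
  intro h hh
  rw [Set.mem_singleton_iff] at hh
  subst hh
  have := (mem_center_iff.mp hz) ⟨q, hq⟩
  exact (congrArg Subtype.val this).symm

/-- Fusion in `⟨x⟩` is controlled by the normalizer. -/
theorem scp_mem_normalizer (hp : p.Prime) (hx : orderOf x = p) {y g : G} (hy : y ∈ zpowers x)
    (hy1 : y ≠ 1) (hy' : g * y * g⁻¹ ∈ zpowers x) : g ∈ normalizer (zpowers x : Set G) := by
  have hy'1 : g * y * g⁻¹ ≠ 1 := by
    intro h
    apply hy1
    have : y = g⁻¹ * (g * y * g⁻¹) * g := by group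
    rw [this, h]
    group
  have h1 := scp_zpowers_eq hp hx hy hy1
  have h2 := scp_zpowers_eq hp hx hy' hy'1
  rw [mem_normalizer_iff]
  intro h
  constructor
  · intro hh
    rw [← h1] at hh
    obtain ⟨k, rfl⟩ := hh
    rw [← h2, ← conj_zpow]
    exact zpow_mem (mem_zpowers _) k
  · intro hh
    rw [← h2] at hh
    obtain ⟨k, hk⟩ := hh
    simp only at hk
    rw [conj_zpow] at hk
    have : h = y ^ k := by
      have h3 : g⁻¹ * (g * y ^ k * g⁻¹) * g = g⁻¹ * (g * h * g⁻¹) * g := by rw [hk]
      have h4 : g⁻¹ * (g * y ^ k * g⁻¹) * g = y ^ k := by group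
      have h5 : g⁻¹ * (g * h * g⁻¹) * g = h := by group
      rw [h4, h5] at h3
      exact h3.symm
    rw [this, ← h1]
    exact zpow_mem (mem_zpowers _) k

/-- Every element of order `p` is conjugate into `⟨x⟩`. -/
theorem scp_exists_conj_mem (hp : p.Prime) (hx : orderOf x = p)
    (hC : centralizer ({x} : Set G) = zpowers x) {g : G} (hg : orderOf g = p) :
    ∃ a : G, a * g * a⁻¹ ∈ zpowers x := by
  have := Fact.mk hp
  obtain ⟨P, hP⟩ := scp_exists_sylow hp hx hC
  have hgp : IsPGroup p (zpowers g) :=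
    IsPGroup.of_card (n := 1) (by rw [Nat.card_zpowers, hg, pow_one])
  obtain ⟨Q, hQ⟩ := hgp.exists_le_sylow
  obtain ⟨a, ha⟩ := MulAction.exists_smul_eq G Q P
  refine ⟨a, ?_⟩
  rw [← hP, ← ha, Sylow.coe_subgroup_smul]
  have h1 : a * g * a⁻¹ = MulAut.conj a • g := rfl
  rw [h1]
  exact Subgroup.smul_mem_pointwise_smul g (MulAut.conj a) Q (hQ (mem_zpowers g))

omit [Finite G] in
theorem scp_card_diff (hx : orderOf x = p) :
    Nat.card ↥((zpowers x : Set G) \ {1}) = p - 1 := by
  rw [Nat.card_coe_set_eq, Set.ncard_sdiff_singleton_of_mem (one_mem _),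
    ← Nat.card_coe_set_eq]
  show Nat.card (zpowers x) - 1 = p - 1
  rw [Nat.card_zpowers, hx]

/-- The number `t` of classes of elements of order `p` times `e = |N(P) : P|` is at most `p - 1`. -/
theorem scp_card_classes_mul_le (hp : p.Prime) (hx : orderOf x = p)
    (hC : centralizer ({x} : Set G) = zpowers x) :
    Nat.card {C : ConjClasses G // ∃ g ∈ C.carrier, orderOf g = p} *
      (zpowers x).relIndex (normalizer (zpowers x : Set G)) ≤ p - 1 := by
  classical
  have hrep : ∀ ω : {C : ConjClasses G // ∃ g ∈ C.carrier, orderOf g = p},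
      ∃ y : G, y ∈ zpowers x ∧ y ≠ 1 ∧ ConjClasses.mk y = ω.1 := by
    rintro ⟨C, g, hg, hgo⟩
    obtain ⟨a, ha⟩ := scp_exists_conj_mem hp hx hC hgo
    refine ⟨a * g * a⁻¹, ha, ?_, ?_⟩
    · intro h
      have hg1 : g = 1 := by
        have : g = a⁻¹ * (a * g * a⁻¹) * a := by group
        rw [this, h]
        group
      rw [hg1, orderOf_one] at hgo
      exact hp.one_lt.ne' hgo.symm
    · show ConjClasses.mk (a * g * a⁻¹) = C
      rw [← ConjClasses.mem_carrier_iff_mk_eq.mp hg, ConjClasses.mk_eq_mk_iff_isConj, isConj_comm,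
        isConj_iff]
      exact ⟨a, rfl⟩
  choose rep hrep1 hrep2 hrep3 using hrep
  set N : Subgroup G := normalizer (zpowers x : Set G) with hN
  let Φ : {C : ConjClasses G // ∃ g ∈ C.carrier, orderOf g = p} × (↥N ⧸ (zpowers x).subgroupOf N) →
      ↥((zpowers x : Set G) \ {1}) := fun ωq =>
    ⟨(ωq.2.out : G) * rep ωq.1 * (ωq.2.out : G)⁻¹, by
      constructor
      · exact (mem_normalizer_iff.mp ωq.2.out.2 _).mp (hrep1 ωq.1)
      · intro h
        rw [Set.mem_singleton_iff] at h
        apply hrep2 ωq.1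
        have : rep ωq.1 = (ωq.2.out : G)⁻¹ * ((ωq.2.out : G) * rep ωq.1 * (ωq.2.out : G)⁻¹) *
            (ωq.2.out : G) := by group
        rw [this, h]
        group⟩
  have hΦ : Function.Injective Φ := by
    rintro ⟨ω, q⟩ ⟨ω', q'⟩ h
    have h1 : (q.out : G) * rep ω * (q.out : G)⁻¹ = (q'.out : G) * rep ω' * (q'.out : G)⁻¹ :=
      congrArg Subtype.val h
    have h2 : ω = ω' := by
      apply Subtype.ext
      rw [← hrep3 ω, ← hrep3 ω', ConjClasses.mk_eq_mk_iff_isConj, isConj_iff]
      refine ⟨(q'.out : G)⁻¹ * (q.out : G), ?_⟩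
      have : (q'.out : G)⁻¹ * (q.out : G) * rep ω * ((q'.out : G)⁻¹ * (q.out : G))⁻¹ =
          (q'.out : G)⁻¹ * ((q.out : G) * rep ω * (q.out : G)⁻¹) * (q'.out : G) := by group
      rw [this, h1]
      group
    subst h2
    have hcz := scp_centralizer_eq hp hx hC (hrep1 ω) (hrep2 ω)
    have h3 : (q'.out : G)⁻¹ * (q.out : G) ∈ centralizer ({rep ω} : Set G) := by
      rw [mem_centralizer_iff]
      intro h hh
      rw [Set.mem_singleton_iff] at hh
      subst hh
      have h4 : (q'.out : G)⁻¹ * ((q.out : G) * rep ω * (q.out : G)⁻¹) * (q'.out : G) = rep ω := by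
        rw [h1]
        group
      calc rep ω * ((q'.out : G)⁻¹ * (q.out : G))
          = ((q'.out : G)⁻¹ * ((q.out : G) * rep ω * (q.out : G)⁻¹) * (q'.out : G)) *
            ((q'.out : G)⁻¹ * (q.out : G)) := by rw [h4]
        _ = (q'.out : G)⁻¹ * (q.out : G) * rep ω := by group
    have h5 : q' = q := by
      rw [hcz] at h3
      rw [← QuotientGroup.out_eq' q', ← QuotientGroup.out_eq' q, QuotientGroup.eq, mem_subgroupOf]
      exact h3
    rw [h5]
  have h6 := Nat.card_le_card_of_injective Φ hΦ
  rw [Nat.card_prod, scp_card_diff hx] at h6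
  exact h6

/-- If `N(P) ≤ P` then distinct elements of `P \ {1}` are not conjugate: `p - 1 ≤ t`. -/
theorem scp_le_card_classes (hp : p.Prime) (hx : orderOf x = p)
    (hN : normalizer (zpowers x : Set G) ≤ zpowers x) :
    p - 1 ≤ Nat.card {C : ConjClasses G // ∃ g ∈ C.carrier, orderOf g = p} := by
  let Ψ : ↥((zpowers x : Set G) \ {1}) → {C : ConjClasses G // ∃ g ∈ C.carrier, orderOf g = p} :=
    fun y => ⟨ConjClasses.mk (y : G), (y : G), ConjClasses.mem_carrier_mk,
      scp_orderOf hp hx y.2.1 (fun h => y.2.2 (Set.mem_singleton_iff.mpr h))⟩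
  have hΨ : Function.Injective Ψ := by
    rintro ⟨y, hy, hy1⟩ ⟨y', hy', hy1'⟩ h
    have h1 : ConjClasses.mk y = ConjClasses.mk y' := congrArg Subtype.val h
    rw [ConjClasses.mk_eq_mk_iff_isConj, isConj_iff] at h1
    obtain ⟨g, hg⟩ := h1
    have hy1'' : y ≠ 1 := fun h => hy1 (Set.mem_singleton_iff.mpr h)
    have hgN : g ∈ normalizer (zpowers x : Set G) :=
      scp_mem_normalizer hp hx hy hy1'' (hg ▸ hy')
    obtain ⟨k, rfl⟩ := hN hgN
    obtain ⟨l, rfl⟩ := hy
    apply Subtype.ext
    show x ^ l = y'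
    rw [← hg]
    have : Commute (x ^ k) (x ^ l) := (Commute.refl x).zpow_zpow k l
    rw [this.eq]
    group
  have h1 := Nat.card_le_card_of_injective Ψ hΨ
  rw [scp_card_diff hx] at h1
  exact h1

/-- If `N(P) ≠ P` then `P ≤ G'` and, by the Frattini argument, `|G : G'|` divides `|N(P) : P|`. -/
theorem scp_index_commutator_dvd (hp : p.Prime) (hx : orderOf x = p)
    (hC : centralizer ({x} : Set G) = zpowers x)
    (hN : ¬ normalizer (zpowers x : Set G) ≤ zpowers x) :
    (commutator G).index ∣ (zpowers x).relIndex (normalizer (zpowers x : Set G)) := by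
  have := Fact.mk hp
  obtain ⟨P, hP⟩ := scp_exists_sylow hp hx hC
  obtain ⟨n, hnN, hnP⟩ := SetLike.not_le_iff_exists.mp hN
  have hc1 : n * x * n⁻¹ ∈ zpowers x := (mem_normalizer_iff.mp hnN x).mp (mem_zpowers x)
  have hcP : ⁅n, x⁆ ∈ zpowers x := by
    rw [commutatorElement_def]
    exact mul_mem hc1 (inv_mem (mem_zpowers x))
  have hcne : ⁅n, x⁆ ≠ 1 := by
    intro h
    rw [commutatorElement_eq_one_iff_commute] at h
    apply hnP
    rw [← hC, mem_centralizer_iff]
    intro y hy
    rw [Set.mem_singleton_iff] at hy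
    subst hy
    exact h.eq.symm
  have hPG' : zpowers x ≤ commutator G := by
    rw [← scp_zpowers_eq hp hx hcP hcne, zpowers_le, _root_.commutator_def]
    exact commutator_mem_commutator (mem_top n) (mem_top x)
  have hfr : normalizer ((P : Subgroup G) : Set G) ⊔ commutator G = ⊤ :=
    Sylow.normalizer_sup_eq_top' P (hP ▸ hPG')
  rw [hP] at hfr
  have h1 : (commutator G).index =
      (commutator G).relIndex (normalizer (zpowers x : Set G)) := by
    rw [← relIndex_top_right, ← hfr, relIndex_sup_right]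
  rw [h1]
  exact relIndex_dvd_of_le_left _ hPG'

/-- If `N(P) = P` then `G' ` is the normal `p`-complement and has index `p`. -/
theorem scp_index_commutator_eq (hp : p.Prime) (hx : orderOf x = p)
    (hC : centralizer ({x} : Set G) = zpowers x)
    (hN : normalizer (zpowers x : Set G) ≤ zpowers x) :
    (commutator G).index = p := by
  have := Fact.mk hp
  obtain ⟨P, hP⟩ := scp_exists_sylow hp hx hC
  have hcomm : ∀ a b : G, a ∈ zpowers x → b ∈ zpowers x → a * b = b * a := by
    rintro a b ⟨k, rfl⟩ ⟨l, rfl⟩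
    exact ((Commute.refl x).zpow_zpow k l).eq
  have hPN : normalizer ((P : Subgroup G) : Set G) ≤ centralizer ((P : Subgroup G) : Set G) := by
    rw [hP]
    intro g hg
    rw [mem_centralizer_iff]
    intro h hh
    exact hcomm h g hh (hN hg)
  have hcompl := MonoidHom.ker_transferSylow_isComplement' P hPN
  set f := MonoidHom.transferSylow P hPN with hf
  have h1 : commutator G ≤ f.ker := by
    rw [_root_.commutator_def, commutator_le]
    intro g₁ _ g₂ _
    rw [MonoidHom.mem_ker, map_commutatorElement, commutatorElement_eq_one_iff_commute]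
    have hPc : ∀ a b : (P : Subgroup G), Commute a b := by
      intro a b
      apply Subtype.ext
      exact hcomm a b (hP ▸ a.2) (hP ▸ b.2)
    exact hPc _ _
  have h2 : f.ker ≤ commutator G := by
    have hKn : f.ker.Normal := MonoidHom.normal_ker f
    have hdisj : f.ker ⊓ (P : Subgroup G) = ⊥ := hcompl.disjoint.eq_bot
    let φ : f.ker → f.ker := fun l => ⟨(l : G) * x * (l : G)⁻¹ * x⁻¹, by
      have : (l : G) * x * (l : G)⁻¹ * x⁻¹ = (l : G) * (x * (l : G)⁻¹ * x⁻¹) := by group
      rw [this]
      exact f.ker.mul_mem l.2 (hKn.conj_mem _ (f.ker.inv_mem l.2) x)⟩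
    have hφ : Function.Injective φ := by
      intro l m h
      have h3 : (l : G) * x * (l : G)⁻¹ * x⁻¹ = (m : G) * x * (m : G)⁻¹ * x⁻¹ :=
        congrArg Subtype.val h
      have h4 : (m : G)⁻¹ * (l : G) ∈ centralizer ({x} : Set G) := by
        rw [mem_centralizer_iff]
        intro y hy
        rw [Set.mem_singleton_iff] at hy
        subst hy
        have h5 : (l : G) * y * (l : G)⁻¹ = (m : G) * y * (m : G)⁻¹ := mul_right_cancel h3
        calc y * ((m : G)⁻¹ * (l : G))
            = (m : G)⁻¹ * ((m : G) * y * (m : G)⁻¹) * (l : G) := by group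
          _ = (m : G)⁻¹ * ((l : G) * y * (l : G)⁻¹) * (l : G) := by rw [h5]
          _ = (m : G)⁻¹ * (l : G) * y := by group
      rw [hC, ← hP] at h4
      have h6 : (m : G)⁻¹ * (l : G) ∈ f.ker ⊓ (P : Subgroup G) :=
        ⟨f.ker.mul_mem (f.ker.inv_mem m.2) l.2, h4⟩
      rw [hdisj, mem_bot] at h6
      apply Subtype.ext
      exact (inv_mul_eq_one.mp h6).symm
    have hφs : Function.Surjective φ := Finite.surjective_of_injective hφ
    intro k hk
    obtain ⟨l, hl⟩ := hφs ⟨k, hk⟩
    have h7 : k = ⁅(l : G), x⁆ := by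
      rw [commutatorElement_def]
      exact (congrArg Subtype.val hl).symm
    rw [h7, _root_.commutator_def]
    exact commutator_mem_commutator (mem_top _) (mem_top _)
  have h3 : commutator G = f.ker := le_antisymm h1 h2
  rw [h3, hcompl.symm.index_eq_card, hP, Nat.card_zpowers, hx]

/-- Brauer: `G` with a self-centralizing element of prime order `p`, `t` classes of elements of order `p`:
`|G : G'| * t ≤ p - 1` if `t ≠ p - 1`, and `|G : G'| = p` if `t = p - 1`. -/
theorem scp_commutator_index (hp : p.Prime) (hx : orderOf x = p)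
    (hC : centralizer ({x} : Set G) = zpowers x) (t : ℕ)
    (ht : Nat.card {C : ConjClasses G // ∃ g ∈ C.carrier, orderOf g = p} = t) :
    (t ≠ p - 1 → (commutator G).index * t ≤ p - 1) ∧ (t = p - 1 → (commutator G).index = p) := by
  have hA := scp_card_classes_mul_le hp hx hC
  rw [ht] at hA
  have he0 : (zpowers x).relIndex (normalizer (zpowers x : Set G)) ≠ 0 :=
    Subgroup.index_ne_zero_of_finite
  have hp1 : 1 ≤ p - 1 := by have := hp.two_le; omega
  constructor
  · intro htne
    have hN : ¬ normalizer (zpowers x : Set G) ≤ zpowers x := by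
      intro hN
      have h1 := scp_le_card_classes hp hx hN
      rw [ht] at h1
      have h2 : t ≤ p - 1 := by
        calc t = t * 1 := (mul_one t).symm
          _ ≤ t * (zpowers x).relIndex (normalizer (zpowers x : Set G)) :=
            Nat.mul_le_mul_left t (Nat.one_le_iff_ne_zero.mpr he0)
          _ ≤ p - 1 := hA
      exact htne (le_antisymm h2 h1)
    have hdvd := scp_index_commutator_dvd hp hx hC hN
    have hle := Nat.le_of_dvd (Nat.pos_of_ne_zero he0) hdvd
    calc (commutator G).index * t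
        ≤ (zpowers x).relIndex (normalizer (zpowers x : Set G)) * t := Nat.mul_le_mul_right t hle
      _ = t * (zpowers x).relIndex (normalizer (zpowers x : Set G)) := mul_comm _ _
      _ ≤ p - 1 := hA
  · intro hteq
    rw [hteq] at hA
    have he1 : (zpowers x).relIndex (normalizer (zpowers x : Set G)) = 1 := by
      have h1 : (zpowers x).relIndex (normalizer (zpowers x : Set G)) ≤ 1 := by
        by_contra h
        rw [not_le] at h
        have : (p - 1) * 2 ≤ (p - 1) * (zpowers x).relIndex (normalizer (zpowers x : Set G)) :=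
          Nat.mul_le_mul_left _ h
        omega
      have := Nat.one_le_iff_ne_zero.mpr he0
      omega
    exact scp_index_commutator_eq hp hx hC (relIndex_eq_one.mp he1)

end selfcent

end Cfsg.Agent.Lib.Helper10
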