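import Mathlib
import Cfsg.Prelude.Def_Solvable
import Cfsg.Agent.Lib.Helper12.Cores
import Cfsg.Agent.Lib.Helper24.TISylow
import Cfsg.Agent.Lib.Helper10.SelfCentP

/-! Groups with a self-centralizing element of prime order `p`, part 2: `O_{p'}(G) ≤ G'`,
`G'` is the normal closure of `⟨x⟩` when `N(⟨x⟩) ≠ ⟨x⟩`, and `G' / O_{p'}(G)` is simple. -/

namespace Cfsg.Agent.Lib.Helper10
open Subgroup
open scoped commutatorElement

section selfcent2
variable {G : Type*} [Group G] [Finite G] {p : ℕ} {x : G}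

/-- A normal `p'`-subgroup lies in `G'` (`x` acts on it without fixed points). -/
theorem scp_le_commutator_of_coprime (hx : orderOf x = p)
    (hC : centralizer ({x} : Set G) = zpowers x) (A : Subgroup G) (hA : A.Normal)
    (hAc : (Nat.card A).Coprime p) : A ≤ commutator G := by
  have hdisj : A ⊓ zpowers x = ⊥ :=
    (disjoint_of_coprime_natCard (by rw [Nat.card_zpowers, hx]; exact hAc)).eq_bot
  let φ : A → A := fun l => ⟨(l : G) * x * (l : G)⁻¹ * x⁻¹, by
    have : (l : G) * x * (l : G)⁻¹ * x⁻¹ = (l : G) * (x * (l : G)⁻¹ * x⁻¹) := by group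
    rw [this]
    exact A.mul_mem l.2 (hA.conj_mem _ (A.inv_mem l.2) x)⟩
  have hφ : Function.Injective φ := by
    intro l m h
    have h3 : (l : G) * x * (l : G)⁻¹ * x⁻¹ = (m : G) * x * (m : G)⁻¹ * x⁻¹ :=
      congrArg Subtype.val h
    have h4 : (m : G)⁻¹ * (l : G) ∈ centralizer ({x} : Set G) := by
      rw [mem_centralizer_iff]
      intro y hy
      rw [Set.mem_singleton_iff] at hy
      subst hy
      have h5 : (l : G) * y * (l : G)⁻¹ = (m : G) * y * (m : G)⁻¹ := mul_right_cancel h3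
      calc y * ((m : G)⁻¹ * (l : G))
          = (m : G)⁻¹ * ((m : G) * y * (m : G)⁻¹) * (l : G) := by group
        _ = (m : G)⁻¹ * ((l : G) * y * (l : G)⁻¹) * (l : G) := by rw [h5]
        _ = (m : G)⁻¹ * (l : G) * y := by group
    rw [hC] at h4
    have h6 : (m : G)⁻¹ * (l : G) ∈ A ⊓ zpowers x :=
      ⟨A.mul_mem (A.inv_mem m.2) l.2, h4⟩
    rw [hdisj, mem_bot] at h6
    apply Subtype.ext
    exact (inv_mul_eq_one.mp h6).symm
  have hφs : Function.Surjective φ := Finite.surjective_of_injective hφ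
  intro k hk
  obtain ⟨l, hl⟩ := hφs ⟨k, hk⟩
  have h7 : k = ⁅(l : G), x⁆ := by
    rw [commutatorElement_def]
    exact (congrArg Subtype.val hl).symm
  rw [h7, _root_.commutator_def]
  exact commutator_mem_commutator (mem_top _) (mem_top _)

/-- `O_{p'}(G) ≤ G'`. -/
theorem scp_pPrimeCore_le_commutator (hx : orderOf x = p)
    (hC : centralizer ({x} : Set G) = zpowers x) : Cfsg.pPrimeCore p G ≤ commutator G := by
  unfold Cfsg.pPrimeCore
  apply sSup_le
  rintro A ⟨hAn, hAc⟩
  exact scp_le_commutator_of_coprime hx hC A hAn hAc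

/-- If `N(P) ≠ P` then `P ≤ G'`. -/
theorem scp_zpowers_le_commutator (hp : p.Prime) (hx : orderOf x = p)
    (hC : centralizer ({x} : Set G) = zpowers x)
    (hN : ¬ normalizer (zpowers x : Set G) ≤ zpowers x) : zpowers x ≤ commutator G := by
  obtain ⟨n, hnN, hnP⟩ := SetLike.not_le_iff_exists.mp hN
  have hc1 : n * x * n⁻¹ ∈ zpowers x := (mem_normalizer_iff.mp hnN x).mp (mem_zpowers x)
  have hcP : ⁅n, x⁆ ∈ zpowers x := by
    rw [commutatorElement_def]
    exact mul_mem hc1 (inv_mem (mem_zpowers x))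
  have hcne : ⁅n, x⁆ ≠ 1 := by
    intro h
    rw [commutatorElement_eq_one_iff_commute] at h
    apply hnP
    rw [← hC, mem_centralizer_iff]
    intro y hy
    rw [Set.mem_singleton_iff] at hy
    subst hy
    exact h.eq.symm
  rw [← scp_zpowers_eq hp hx hcP hcne, zpowers_le, _root_.commutator_def]
  exact commutator_mem_commutator (mem_top n) (mem_top x)

omit [Finite G] in
/-- `N(P)' ≤ P`: commutators of elements of the normalizer centralize `x`. -/
theorem scp_commutator_mem (hC : centralizer ({x} : Set G) = zpowers x) {n₁ n₂ : G}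
    (h₁ : n₁ ∈ normalizer (zpowers x : Set G)) (h₂ : n₂ ∈ normalizer (zpowers x : Set G)) :
    ⁅n₁, n₂⁆ ∈ zpowers x := by
  obtain ⟨a, ha⟩ := (mem_normalizer_iff.mp h₁ x).mp (mem_zpowers x)
  obtain ⟨b, hb⟩ := (mem_normalizer_iff.mp h₂ x).mp (mem_zpowers x)
  simp only at ha hb
  have hu : (n₁ * n₂) * x * (n₁ * n₂)⁻¹ = x ^ (a * b) := by
    have : (n₁ * n₂) * x * (n₁ * n₂)⁻¹ = n₁ * (n₂ * x * n₂⁻¹) * n₁⁻¹ := by group
    rw [this, ← hb, ← conj_zpow, ← ha, ← zpow_mul]
  have hv : (n₂ * n₁) * x * (n₂ * n₁)⁻¹ = x ^ (a * b) := by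
    have : (n₂ * n₁) * x * (n₂ * n₁)⁻¹ = n₂ * (n₁ * x * n₁⁻¹) * n₂⁻¹ := by group
    rw [this, ← ha, ← conj_zpow, ← hb, ← zpow_mul, mul_comm]
  have hw : (n₂ * n₁)⁻¹ * (n₁ * n₂) ∈ zpowers x := by
    rw [← hC, mem_centralizer_iff]
    intro y hy
    rw [Set.mem_singleton_iff] at hy
    subst hy
    calc y * ((n₂ * n₁)⁻¹ * (n₁ * n₂))
        = (n₂ * n₁)⁻¹ * ((n₂ * n₁) * y * (n₂ * n₁)⁻¹) * (n₁ * n₂) := by group
      _ = (n₂ * n₁)⁻¹ * ((n₁ * n₂) * y * (n₁ * n₂)⁻¹) * (n₁ * n₂) := by rw [hv, hu]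
      _ = (n₂ * n₁)⁻¹ * (n₁ * n₂) * y := by group
  have hvN : n₂ * n₁ ∈ normalizer (zpowers x : Set G) := mul_mem h₂ h₁
  have h3 := (mem_normalizer_iff.mp hvN _).mp hw
  have h4 : (n₂ * n₁) * ((n₂ * n₁)⁻¹ * (n₁ * n₂)) * (n₂ * n₁)⁻¹ = ⁅n₁, n₂⁆ := by
    rw [commutatorElement_def]
    group
  rw [← h4]
  exact h3

/-- A normal subgroup containing `P` contains `G'` (Frattini argument and `N(P)' ≤ P`). -/
theorem scp_commutator_le_of_normal (hp : p.Prime) (hx : orderOf x = p)
    (hC : centralizer ({x} : Set G) = zpowers x) (D : Subgroup G) [hD : D.Normal]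
    (hPD : zpowers x ≤ D) : commutator G ≤ D := by
  have := Fact.mk hp
  obtain ⟨P, hP⟩ := scp_exists_sylow hp hx hC
  have hfr : normalizer ((P : Subgroup G) : Set G) ⊔ D = ⊤ :=
    Sylow.normalizer_sup_eq_top' P (hP ▸ hPD)
  rw [hP] at hfr
  have hg : ∀ g : G, ∃ n ∈ normalizer (zpowers x : Set G), ∃ d ∈ D, g = n * d := by
    intro g
    have h1 : g ∈ (↑(normalizer (zpowers x : Set G) ⊔ D) : Set G) := by
      rw [hfr]
      exact Set.mem_univ g
    rw [mul_normal] at h1
    obtain ⟨n, hn, d, hd, rfl⟩ := Set.mem_mul.mp h1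
    exact ⟨n, hn, d, hd, rfl⟩
  rw [_root_.commutator_def, commutator_le]
  intro g₁ _ g₂ _
  obtain ⟨n₁, hn₁, d₁, hd₁, rfl⟩ := hg g₁
  obtain ⟨n₂, hn₂, d₂, hd₂, rfl⟩ := hg g₂
  have h1 : ∀ (n d : G), d ∈ D → (QuotientGroup.mk' D) (n * d) = (QuotientGroup.mk' D) n := by
    intro n d hd
    have hd1 : (QuotientGroup.mk' D) d = 1 := (QuotientGroup.eq_one_iff d).mpr hd
    rw [map_mul, hd1, mul_one]
  have h2 : (QuotientGroup.mk' D) ⁅n₁ * d₁, n₂ * d₂⁆ = 1 := by
    rw [map_commutatorElement, h1 n₁ d₁ hd₁, h1 n₂ d₂ hd₂, ← map_commutatorElement]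
    exact (QuotientGroup.eq_one_iff _).mpr (hPD (scp_commutator_mem hC hn₁ hn₂))
  exact (QuotientGroup.eq_one_iff _).mp h2

/-- If `N(P) ≠ P`, a subgroup `M ≤ G'` normalized by `G'` with `p ∣ |M|` contains `G'`. -/
theorem scp_commutator_le_of_dvd (hp : p.Prime) (hx : orderOf x = p)
    (hC : centralizer ({x} : Set G) = zpowers x)
    (hN : ¬ normalizer (zpowers x : Set G) ≤ zpowers x) (M : Subgroup G)
    (hMn : ∀ h ∈ commutator G, ∀ m ∈ M, h * m * h⁻¹ ∈ M) (hdvd : p ∣ Nat.card M) :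
    commutator G ≤ M := by
  have := Fact.mk hp
  obtain ⟨P, hP⟩ := scp_exists_sylow hp hx hC
  have hPH := scp_zpowers_le_commutator hp hx hC hN
  have hfr : normalizer ((P : Subgroup G) : Set G) ⊔ commutator G = ⊤ :=
    Sylow.normalizer_sup_eq_top' P (hP ▸ hPH)
  rw [hP, sup_comm] at hfr
  have hg : ∀ g : G, ∃ h ∈ commutator G, ∃ n ∈ normalizer (zpowers x : Set G), g = h * n := by
    intro g
    have h1 : g ∈ (↑(commutator G ⊔ normalizer (zpowers x : Set G)) : Set G) := by
      rw [hfr]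
      exact Set.mem_univ g
    rw [normal_mul] at h1
    obtain ⟨h, hh, n, hn, rfl⟩ := Set.mem_mul.mp h1
    exact ⟨h, hh, n, hn, rfl⟩
  -- an element of order p in M
  obtain ⟨y, hy⟩ := exists_prime_orderOf_dvd_card' (G := M) p hdvd
  have hyG : orderOf (y : G) = p := by rw [Subgroup.orderOf_coe, hy]
  obtain ⟨a, ha⟩ := scp_exists_conj_mem hp hx hC hyG
  have hy1 : (y : G) ≠ 1 := by
    intro h
    rw [h, orderOf_one] at hyG
    exact hp.one_lt.ne' hyG.symm
  -- P ≤ M
  have hPM : zpowers x ≤ M := by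
    obtain ⟨h₀, hh₀, n₀, hn₀, hdec⟩ := hg a⁻¹
    have ha' : a = n₀⁻¹ * h₀⁻¹ := by
      rw [← inv_inv a, hdec]
      group
    have hz' : n₀ * (a * (y : G) * a⁻¹) * n₀⁻¹ ∈ zpowers x :=
      (mem_normalizer_iff.mp hn₀ _).mp ha
    have hz'eq : n₀ * (a * (y : G) * a⁻¹) * n₀⁻¹ = h₀⁻¹ * (y : G) * h₀⁻¹⁻¹ := by
      rw [ha']
      group
    have hz'M : n₀ * (a * (y : G) * a⁻¹) * n₀⁻¹ ∈ M := by
      rw [hz'eq]
      exact hMn _ (inv_mem hh₀) _ y.2
    have hz'1 : n₀ * (a * (y : G) * a⁻¹) * n₀⁻¹ ≠ 1 := by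
      rw [hz'eq]
      intro h
      apply hy1
      have : (y : G) = h₀ * (h₀⁻¹ * (y : G) * h₀⁻¹⁻¹) * h₀⁻¹ := by group
      rw [this, h]
      group
    rw [← scp_zpowers_eq hp hx hz' hz'1, zpowers_le]
    exact hz'M
  -- the normal closure of P lies in M
  have hDM : normalClosure (zpowers x : Set G) ≤ M := by
    unfold normalClosure
    rw [closure_le]
    intro c hc
    obtain ⟨b, hb, hbc⟩ := Group.mem_conjugatesOfSet_iff.mp hc
    obtain ⟨g, rfl⟩ := isConj_iff.mp hbc
    obtain ⟨h, hh, n, hn, rfl⟩ := hg g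
    have h1 : n * b * n⁻¹ ∈ zpowers x := (mem_normalizer_iff.mp hn _).mp hb
    have h2 : h * n * b * (h * n)⁻¹ = h * (n * b * n⁻¹) * h⁻¹ := by group
    show h * n * b * (h * n)⁻¹ ∈ M
    rw [h2]
    exact hMn h hh _ (hPM h1)
  exact (scp_commutator_le_of_normal hp hx hC (normalClosure (zpowers x : Set G))
    le_normalClosure).trans hDM

/-- `t ≠ p - 1` forces `N(P) ≠ P`. -/
theorem scp_not_le_of_ne (hp : p.Prime) (hx : orderOf x = p)
    (hC : centralizer ({x} : Set G) = zpowers x) (t : ℕ)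
    (ht : Nat.card {C : ConjClasses G // ∃ g ∈ C.carrier, orderOf g = p} = t) (htne : t ≠ p - 1) :
    ¬ normalizer (zpowers x : Set G) ≤ zpowers x := by
  have hA := scp_card_classes_mul_le hp hx hC
  rw [ht] at hA
  have he0 : (zpowers x).relIndex (normalizer (zpowers x : Set G)) ≠ 0 :=
    Subgroup.index_ne_zero_of_finite
  intro hN
  have h1 := scp_le_card_classes hp hx hN
  rw [ht] at h1
  have h2 : t ≤ p - 1 := by
    calc t = t * 1 := (mul_one t).symm
      _ ≤ t * (zpowers x).relIndex (normalizer (zpowers x : Set G)) :=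
        Nat.mul_le_mul_left t (Nat.one_le_iff_ne_zero.mpr he0)
      _ ≤ p - 1 := hA
  exact htne (le_antisymm h2 h1)

/-- `t = p - 1` forces `N(P) = P`. -/
theorem scp_le_of_eq (hp : p.Prime) (hx : orderOf x = p)
    (hC : centralizer ({x} : Set G) = zpowers x) (t : ℕ)
    (ht : Nat.card {C : ConjClasses G // ∃ g ∈ C.carrier, orderOf g = p} = t) (hteq : t = p - 1) :
    normalizer (zpowers x : Set G) ≤ zpowers x := by
  have hA := scp_card_classes_mul_le hp hx hC
  rw [ht, hteq] at hA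
  have he0 : (zpowers x).relIndex (normalizer (zpowers x : Set G)) ≠ 0 :=
    Subgroup.index_ne_zero_of_finite
  have hp1 : 1 ≤ p - 1 := by have := hp.two_le; omega
  have he1 : (zpowers x).relIndex (normalizer (zpowers x : Set G)) = 1 := by
    have h1 : (zpowers x).relIndex (normalizer (zpowers x : Set G)) ≤ 1 := by
      by_contra h
      rw [not_le] at h
      have : (p - 1) * 2 ≤ (p - 1) * (zpowers x).relIndex (normalizer (zpowers x : Set G)) :=
        Nat.mul_le_mul_left _ h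
      omega
    have := Nat.one_le_iff_ne_zero.mpr he0
    omega
  exact relIndex_eq_one.mp he1

/-- Brauer: `O_{p'}(G) ≤ G'`; `G'/O_{p'}(G)` is simple if `t ≠ p - 1`; `G' = O_{p'}(G)` if `t = p - 1`. -/
theorem scp_commutator_mod_core (hp : p.Prime) (hx : orderOf x = p)
    (hC : centralizer ({x} : Set G) = zpowers x) (t : ℕ)
    (ht : Nat.card {C : ConjClasses G // ∃ g ∈ C.carrier, orderOf g = p} = t) :
    Cfsg.pPrimeCore p G ≤ commutator G ∧
    (t ≠ p - 1 → ∀ h : ((Cfsg.pPrimeCore p G).subgroupOf (commutator G)).Normal,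
      IsSimpleGroup (↥(commutator G) ⧸ (Cfsg.pPrimeCore p G).subgroupOf (commutator G))) ∧
    (t = p - 1 → commutator G = Cfsg.pPrimeCore p G) := by
  have := Fact.mk hp
  have hpart1 := scp_pPrimeCore_le_commutator (G := G) hx hC
  refine ⟨hpart1, ?_, ?_⟩
  · intro htne _
    have hN := scp_not_le_of_ne hp hx hC t ht htne
    have hPH := scp_zpowers_le_commutator hp hx hC hN
    have hScop := Cfsg.Agent.Lib.Helper12.pPrimeCore_coprime (X := G) p
    have hxS : x ∉ Cfsg.pPrimeCore p G := by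
      intro hxS
      have h1 : orderOf x ∣ Nat.card (Cfsg.pPrimeCore p G) := Subgroup.orderOf_dvd_natCard _ hxS
      rw [hx] at h1
      have h2 := Nat.Coprime.eq_one_of_dvd hScop.symm h1
      exact hp.one_lt.ne' h2
    have hnontriv : Nontrivial (↥(commutator G) ⧸ (Cfsg.pPrimeCore p G).subgroupOf (commutator G)) := by
      rw [QuotientGroup.nontrivial_iff]
      intro htop
      have h1 : (⟨x, hPH (mem_zpowers x)⟩ : commutator G) ∈
          (Cfsg.pPrimeCore p G).subgroupOf (commutator G) := by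
        rw [htop]
        exact mem_top _
      exact hxS (mem_subgroupOf.mp h1)
    refine @IsSimpleGroup.mk _ _ hnontriv ?_
    intro Q hQ
    set M' : Subgroup (commutator G) :=
      Q.comap (QuotientGroup.mk' ((Cfsg.pPrimeCore p G).subgroupOf (commutator G))) with hM'
    have hM'n : M'.Normal := hQ.comap _
    set M : Subgroup G := M'.map (commutator G).subtype with hM
    have hMH : M ≤ commutator G := map_subtype_le M'
    have hMn : ∀ h ∈ commutator G, ∀ m ∈ M, h * m * h⁻¹ ∈ M := by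
      rintro h hh m ⟨m', hm', rfl⟩
      refine ⟨⟨h, hh⟩ * m' * ⟨h, hh⟩⁻¹, hM'n.conj_mem m' hm' ⟨h, hh⟩, ?_⟩
      simp
    have hcard : Nat.card M = Nat.card M' :=
      Subgroup.card_map_of_injective (commutator G).subtype_injective
    have hsurj := QuotientGroup.mk'_surjective ((Cfsg.pPrimeCore p G).subgroupOf (commutator G))
    rcases Nat.coprime_or_dvd_of_prime hp (Nat.card M) with hcop | hdvd
    · left
      have hsub : M.IsSubnormal :=
        Cfsg.Agent.Lib.Helper24.isSubnormal_of_le_of_normalized M (commutator G) inferInstance hMH hMn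
      have hMS : M ≤ Cfsg.pPrimeCore p G :=
        Cfsg.Agent.Lib.Helper24.subnormal_coprime_le_pPrimeCore p M hsub hcop.symm
      rw [eq_bot_iff]
      intro q hq
      obtain ⟨h', rfl⟩ := hsurj q
      have h1 : h' ∈ M' := hq
      have h2 : (h' : G) ∈ M := ⟨h', h1, rfl⟩
      rw [mem_bot]
      exact (QuotientGroup.eq_one_iff h').mpr (mem_subgroupOf.mpr (hMS h2))
    · right
      have hHM := scp_commutator_le_of_dvd hp hx hC hN M hMn hdvd
      rw [eq_top_iff]
      intro q _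
      obtain ⟨h', rfl⟩ := hsurj q
      obtain ⟨m', hm', hm'eq⟩ := hHM h'.2
      have h1 : m' = h' := Subtype.ext hm'eq
      rw [h1] at hm'
      exact hm'
  · intro hteq
    have hN := scp_le_of_eq hp hx hC t ht hteq
    have hidx := scp_index_commutator_eq hp hx hC hN
    obtain ⟨P, hP⟩ := scp_exists_sylow hp hx hC
    have hcardP : Nat.card (P : Subgroup G) = p := by rw [hP, Nat.card_zpowers, hx]
    have h1 := (commutator G).card_mul_index
    have h2 := (P : Subgroup G).card_mul_index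
    rw [hidx] at h1
    rw [hcardP] at h2
    have h3 : (P : Subgroup G).index = Nat.card (commutator G) := by
      have h4 : p * (P : Subgroup G).index = p * Nat.card (commutator G) := by
        rw [h2, ← h1, mul_comm]
      exact Nat.eq_of_mul_eq_mul_left hp.pos h4
    have h5 : ¬ p ∣ Nat.card (commutator G) := h3 ▸ P.not_dvd_index
    have h6 : (Nat.card (commutator G)).Coprime p :=
      ((Nat.Prime.coprime_iff_not_dvd hp).mpr h5).symm
    exact le_antisymm (Cfsg.Agent.Lib.Helper12.le_pPrimeCore p _ inferInstance h6) hpart1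

end selfcent2

end Cfsg.Agent.Lib.Helper10
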