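import Mathlib
import Cfsg.Prelude.Def_Solvable
import Cfsg.Agent.Lib.Helper10.SelfCentP2

/-! Groups with a self-centralizing element of prime order `p`, part 3: the number of subgroups of order `p`,
normal subgroups of that order, and the structure of `G'`, `G''` (Brauer). -/

namespace Cfsg.Agent.Lib.Helper10
open Subgroup
open scoped commutatorElement

section selfcent3
variable {G : Type*} [Group G] [Finite G] {p : ℕ} {x : G}

omit [Finite G] in
/-- Commutators modulo a normal subgroup. -/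
theorem commutator_mul_eq_of_normal (A : Subgroup G) [hA : A.Normal] {s₁ s₂ : G} (n₁ n₂ : G)
    (h₁ : s₁ ∈ A) (h₂ : s₂ ∈ A) : ∃ s ∈ A, ⁅s₁ * n₁, s₂ * n₂⁆ = ⁅n₁, n₂⁆ * s := by
  have h1 : ∀ (s n : G), s ∈ A → (QuotientGroup.mk' A) (s * n) = (QuotientGroup.mk' A) n := by
    intro s n hs
    have hs1 : (QuotientGroup.mk' A) s = 1 := (QuotientGroup.eq_one_iff s).mpr hs
    rw [map_mul, hs1, one_mul]
  have h2 : (QuotientGroup.mk' A) ⁅n₁, n₂⁆ = (QuotientGroup.mk' A) ⁅s₁ * n₁, s₂ * n₂⁆ := by
    rw [map_commutatorElement, map_commutatorElement, h1 s₁ n₁ h₁, h1 s₂ n₂ h₂]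
  refine ⟨⁅n₁, n₂⁆⁻¹ * ⁅s₁ * n₁, s₂ * n₂⁆, QuotientGroup.eq.mp h2, ?_⟩
  group

omit [Finite G] in
/-- A normal `p'`-subgroup meets `N(P)` trivially. -/
theorem scp_inf_normalizer_eq_bot (hx : orderOf x = p)
    (hC : centralizer ({x} : Set G) = zpowers x) (A : Subgroup G) (hA : A.Normal)
    (hAc : (Nat.card A).Coprime p) : A ⊓ normalizer (zpowers x : Set G) = ⊥ := by
  have hdisj : A ⊓ zpowers x = ⊥ :=
    (disjoint_of_coprime_natCard (by rw [Nat.card_zpowers, hx]; exact hAc)).eq_bot
  rw [eq_bot_iff]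
  rintro s ⟨hsA, hsN⟩
  have h1 : s * x * s⁻¹ ∈ zpowers x := (mem_normalizer_iff.mp hsN x).mp (mem_zpowers x)
  have h2 : s * x * s⁻¹ * x⁻¹ ∈ A ⊓ zpowers x := by
    refine mem_inf.mpr ⟨?_, ?_⟩
    · have : s * x * s⁻¹ * x⁻¹ = s * (x * s⁻¹ * x⁻¹) := by group
      rw [this]
      exact A.mul_mem hsA (hA.conj_mem _ (A.inv_mem hsA) x)
    · exact mul_mem h1 (inv_mem (mem_zpowers x))
  rw [hdisj, mem_bot] at h2
  have h3 : s ∈ centralizer ({x} : Set G) := by
    rw [mem_centralizer_iff]
    intro y hy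
    rw [Set.mem_singleton_iff] at hy
    subst hy
    have h4 : s * y * s⁻¹ = y := mul_inv_eq_one.mp h2
    calc y * s = (s * y * s⁻¹) * s := by rw [h4]
      _ = s * y := by group
  rw [hC] at h3
  have h4 : s ∈ A ⊓ zpowers x := ⟨hsA, h3⟩
  rw [hdisj] at h4
  exact h4

/-- The subgroups of order `p` are the Sylow `p`-subgroups; their number is `|G : N(P)|`. -/
theorem scp_card_subgroups (hp : p.Prime) (hx : orderOf x = p)
    (hC : centralizer ({x} : Set G) = zpowers x) :
    Nat.card {H : Subgroup G // Nat.card H = p} = (normalizer (zpowers x : Set G)).index := by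
  have := Fact.mk hp
  obtain ⟨P, hP⟩ := scp_exists_sylow hp hx hC
  have hcardP : Nat.card (P : Subgroup G) = p := by rw [hP, Nat.card_zpowers, hx]
  have hcardQ : ∀ Q : Sylow p G, Nat.card (Q : Subgroup G) = p := by
    intro Q
    rw [Sylow.card_eq_multiplicity, ← Sylow.card_eq_multiplicity P, hcardP]
  let f : Sylow p G → {H : Subgroup G // Nat.card H = p} := fun Q => ⟨Q, hcardQ Q⟩
  have hf : Function.Bijective f := by
    constructor
    · intro Q Q' h
      exact Sylow.ext (congrArg Subtype.val h)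
    · rintro ⟨H, hH⟩
      have hHp : IsPGroup p H := IsPGroup.of_card (n := 1) (by rw [hH, pow_one])
      obtain ⟨Q, hQ⟩ := hHp.exists_le_sylow
      refine ⟨Q, Subtype.ext ?_⟩
      exact (Subgroup.eq_of_le_of_card_ge hQ (by rw [hcardQ Q, hH])).symm
  rw [← Nat.card_congr (Equiv.ofBijective f hf), Sylow.card_eq_index_normalizer P]
  show (normalizer ((P : Subgroup G) : Set G)).index = _
  rw [hP]

/-- Case `N(P) = P`. -/
theorem scp_case_eq (hp : p.Prime) (hx : orderOf x = p)
    (hC : centralizer ({x} : Set G) = zpowers x)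
    (hN : normalizer (zpowers x : Set G) ≤ zpowers x) :
    Nat.card (commutator G) = (normalizer (zpowers x : Set G)).index ∧
      IsCyclic (G ⧸ commutator G) ∧ (commutator G).index = p := by
  have := Fact.mk hp
  have hidx := scp_index_commutator_eq hp hx hC hN
  have hNP : normalizer (zpowers x : Set G) = zpowers x := le_antisymm hN le_normalizer
  refine ⟨?_, ?_, hidx⟩
  · have h1 := (commutator G).card_mul_index
    have h2 := (zpowers x).card_mul_index
    rw [hidx] at h1
    rw [Nat.card_zpowers, hx] at h2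
    rw [hNP]
    have h4 : p * (zpowers x).index = p * Nat.card (commutator G) := by
      rw [h2, ← h1, mul_comm]
    exact (Nat.eq_of_mul_eq_mul_left hp.pos h4).symm
  · apply isCyclic_of_prime_card (p := p)
    rw [← Subgroup.index_eq_card, hidx]

/-- Every element of a normal `p'`-subgroup `A` is a commutator `⁅l, x⁆` with `l ∈ A`. -/
theorem scp_exists_commutator_eq (hx : orderOf x = p)
    (hC : centralizer ({x} : Set G) = zpowers x) (A : Subgroup G) (hA : A.Normal)
    (hAc : (Nat.card A).Coprime p) {k : G} (hk : k ∈ A) : ∃ l ∈ A, k = ⁅l, x⁆ := by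
  have hdisj : A ⊓ zpowers x = ⊥ :=
    (disjoint_of_coprime_natCard (by rw [Nat.card_zpowers, hx]; exact hAc)).eq_bot
  let φ : A → A := fun l => ⟨(l : G) * x * (l : G)⁻¹ * x⁻¹, by
    have : (l : G) * x * (l : G)⁻¹ * x⁻¹ = (l : G) * (x * (l : G)⁻¹ * x⁻¹) := by group
    rw [this]
    exact A.mul_mem l.2 (hA.conj_mem _ (A.inv_mem l.2) x)⟩
  have hφ : Function.Injective φ := by
    intro l m h
    have h3 : (l : G) * x * (l : G)⁻¹ * x⁻¹ = (m : G) * x * (m : G)⁻¹ * x⁻¹ :=
      congrArg Subtype.val h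
    have h4 : (m : G)⁻¹ * (l : G) ∈ centralizer ({x} : Set G) := by
      rw [mem_centralizer_iff]
      intro y hy
      rw [Set.mem_singleton_iff] at hy
      subst hy
      have h5 : (l : G) * y * (l : G)⁻¹ = (m : G) * y * (m : G)⁻¹ := mul_right_cancel h3
      calc y * ((m : G)⁻¹ * (l : G))
          = (m : G)⁻¹ * ((m : G) * y * (m : G)⁻¹) * (l : G) := by group
        _ = (m : G)⁻¹ * ((l : G) * y * (l : G)⁻¹) * (l : G) := by rw [h5]
        _ = (m : G)⁻¹ * (l : G) * y := by group
    rw [hC] at h4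
    have h6 : (m : G)⁻¹ * (l : G) ∈ A ⊓ zpowers x :=
      mem_inf.mpr ⟨A.mul_mem (A.inv_mem m.2) l.2, h4⟩
    rw [hdisj, mem_bot] at h6
    apply Subtype.ext
    exact (inv_mul_eq_one.mp h6).symm
  have hφs : Function.Surjective φ := Finite.surjective_of_injective hφ
  obtain ⟨l, hl⟩ := hφs ⟨k, hk⟩
  refine ⟨l, l.2, ?_⟩
  rw [commutatorElement_def]
  exact (congrArg Subtype.val hl).symm

/-- If `N(P) ≠ P` then `O_{p'}(G) ≤ G''`. -/
theorem scp_pPrimeCore_le_derived2 (hp : p.Prime) (hx : orderOf x = p)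
    (hC : centralizer ({x} : Set G) = zpowers x)
    (hN : ¬ normalizer (zpowers x : Set G) ≤ zpowers x) :
    Cfsg.pPrimeCore p G ≤ derivedSeries G 2 := by
  have hPH := scp_zpowers_le_commutator hp hx hC hN
  unfold Cfsg.pPrimeCore
  apply sSup_le
  rintro A ⟨hAn, hAc⟩ k hk
  obtain ⟨l, hl, rfl⟩ := scp_exists_commutator_eq hx hC A hAn hAc hk
  rw [derivedSeries_succ, derivedSeries_one]
  exact commutator_mem_commutator (scp_le_commutator_of_coprime hx hC A hAn hAc hl)
    (hPH (mem_zpowers x))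

/-- If `N(P) ≠ P` and `G'' ≠ G'` then `G'' = O_{p'}(G)` and `G' = O_{p'}(G) P`. -/
theorem scp_derived2_eq (hp : p.Prime) (hx : orderOf x = p)
    (hC : centralizer ({x} : Set G) = zpowers x)
    (hN : ¬ normalizer (zpowers x : Set G) ≤ zpowers x)
    (hne : derivedSeries G 2 ≠ derivedSeries G 1) :
    derivedSeries G 2 = Cfsg.pPrimeCore p G ∧ commutator G = Cfsg.pPrimeCore p G ⊔ zpowers x := by
  have hPH := scp_zpowers_le_commutator hp hx hC hN
  have hSH := scp_pPrimeCore_le_commutator (G := G) hx hC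
  have hle : derivedSeries G 2 ≤ commutator G := by
    rw [← derivedSeries_one]
    exact derivedSeries_antitone G (by norm_num)
  have hd2 : derivedSeries G 2 = ⁅commutator G, commutator G⁆ := by
    rw [derivedSeries_succ, derivedSeries_one]
  have hnd : ¬ p ∣ Nat.card (derivedSeries G 2) := by
    intro hdvd
    have h1 := scp_commutator_le_of_dvd hp hx hC hN (derivedSeries G 2)
      (fun h _ m hm => (inferInstance : (derivedSeries G 2).Normal).conj_mem m hm h) hdvd
    apply hne
    rw [derivedSeries_one]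
    exact le_antisymm hle h1
  have h2 : derivedSeries G 2 ≤ Cfsg.pPrimeCore p G :=
    Cfsg.Agent.Lib.Helper12.le_pPrimeCore p _ inferInstance
      ((Nat.Prime.coprime_iff_not_dvd hp).mpr hnd).symm
  have h3 : derivedSeries G 2 = Cfsg.pPrimeCore p G :=
    le_antisymm h2 (scp_pPrimeCore_le_derived2 hp hx hC hN)
  refine ⟨h3, ?_⟩
  have hMH : Cfsg.pPrimeCore p G ⊔ zpowers x ≤ commutator G := sup_le hSH hPH
  apply le_antisymm _ hMH
  apply scp_commutator_le_of_dvd hp hx hC hN
  · intro h hh m hm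
    have h4 : ⁅h, m⁆ ∈ derivedSeries G 2 := by
      rw [hd2]
      exact commutator_mem_commutator hh (hMH hm)
    rw [h3] at h4
    have h5 : h * m * h⁻¹ = ⁅h, m⁆ * m := by
      rw [commutatorElement_def]
      group
    rw [h5]
    exact mul_mem (le_sup_left (a := Cfsg.pPrimeCore p G) (b := zpowers x) h4) hm
  · have h4 : Nat.card (zpowers x) ∣ Nat.card ↥(Cfsg.pPrimeCore p G ⊔ zpowers x) :=
      Subgroup.card_dvd_of_le le_sup_right
    rwa [Nat.card_zpowers, hx] at h4

/-- If `G' = O_{p'}(G) P` then `|G'| = p |O_{p'}(G)|` and `|O_{p'}(G)| = |G : N(P)|`. -/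
theorem scp_card_of_commutator_eq (hp : p.Prime) (hx : orderOf x = p)
    (hC : centralizer ({x} : Set G) = zpowers x)
    (hG' : commutator G = Cfsg.pPrimeCore p G ⊔ zpowers x) :
    Nat.card (commutator G) = p * Nat.card (Cfsg.pPrimeCore p G) ∧
      Nat.card (Cfsg.pPrimeCore p G) = (normalizer (zpowers x : Set G)).index := by
  have := Fact.mk hp
  obtain ⟨P, hP⟩ := scp_exists_sylow hp hx hC
  have hScop := Cfsg.Agent.Lib.Helper12.pPrimeCore_coprime (X := G) p
  have hSn : (Cfsg.pPrimeCore p G).Normal := inferInstance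
  have hdisj : Cfsg.pPrimeCore p G ⊓ zpowers x = ⊥ :=
    (disjoint_of_coprime_natCard (by rw [Nat.card_zpowers, hx]; exact hScop)).eq_bot
  have hPH : zpowers x ≤ commutator G := hG' ▸ le_sup_right
  have hcard : Nat.card (commutator G) = p * Nat.card (Cfsg.pPrimeCore p G) := by
    have h1 : (Cfsg.pPrimeCore p G).relIndex (Cfsg.pPrimeCore p G ⊔ zpowers x) = p := by
      rw [relIndex_sup_left, ← inf_relIndex_right, hdisj, relIndex_bot_left, Nat.card_zpowers, hx]
    have h2 := relIndex_mul_relIndex (H := (⊥ : Subgroup G)) (K := Cfsg.pPrimeCore p G)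
      (L := Cfsg.pPrimeCore p G ⊔ zpowers x) bot_le le_sup_left
    rw [relIndex_bot_left, relIndex_bot_left, h1] at h2
    rw [hG', ← h2, mul_comm]
  refine ⟨hcard, ?_⟩
  -- N ∩ G' = P
  have hinf : commutator G ⊓ normalizer (zpowers x : Set G) = zpowers x := by
    apply le_antisymm
    · rintro n ⟨hnH, hnN⟩
      have h1 : n ∈ (↑(Cfsg.pPrimeCore p G ⊔ zpowers x) : Set G) := hG' ▸ hnH
      rw [normal_mul] at h1
      obtain ⟨s, hs, y, hy, rfl⟩ := Set.mem_mul.mp h1
      have hyN : y ∈ normalizer (zpowers x : Set G) := le_normalizer hy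
      have hsN : s ∈ normalizer (zpowers x : Set G) := by
        have h2 : s = (s * y) * y⁻¹ := by group
        rw [h2]
        exact mul_mem hnN (inv_mem hyN)
      have h3 : s ∈ Cfsg.pPrimeCore p G ⊓ normalizer (zpowers x : Set G) := mem_inf.mpr ⟨hs, hsN⟩
      rw [scp_inf_normalizer_eq_bot hx hC _ hSn hScop, mem_bot] at h3
      rw [h3, one_mul]
      exact hy
    · exact le_inf hPH le_normalizer
  have hfr : normalizer ((P : Subgroup G) : Set G) ⊔ commutator G = ⊤ :=
    Sylow.normalizer_sup_eq_top' P (hP ▸ hPH)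
  rw [hP] at hfr
  have hidx : (commutator G).index = (zpowers x).relIndex (normalizer (zpowers x : Set G)) := by
    rw [← relIndex_top_right, ← hfr, relIndex_sup_right, ← inf_relIndex_right, hinf]
  have h1 := (commutator G).card_mul_index
  have h2 := (normalizer (zpowers x : Set G)).card_mul_index
  have h3 := relIndex_mul_relIndex (H := (⊥ : Subgroup G)) (K := zpowers x)
      (L := normalizer (zpowers x : Set G)) bot_le le_normalizer
  rw [relIndex_bot_left, relIndex_bot_left, Nat.card_zpowers, hx] at h3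
  rw [hidx, hcard] at h1
  rw [← h3, ← h1] at h2
  have hpos : 0 < p * (zpowers x).relIndex (normalizer (zpowers x : Set G)) :=
    Nat.mul_pos hp.pos (Nat.pos_of_ne_zero Subgroup.index_ne_zero_of_finite)
  have h4 : p * (zpowers x).relIndex (normalizer (zpowers x : Set G)) *
      (normalizer (zpowers x : Set G)).index =
      p * (zpowers x).relIndex (normalizer (zpowers x : Set G)) *
        Nat.card (Cfsg.pPrimeCore p G) := by
    rw [h2]
    ring
  exact (Nat.eq_of_mul_eq_mul_left hpos h4).symm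

/-- If `N(P) ≠ P` and `G` has a normal subgroup of order `|G : N(P)|`, then `G'' ≠ G'`. -/
theorem scp_derived_ne_of_normal (hp : p.Prime) (hx : orderOf x = p)
    (hC : centralizer ({x} : Set G) = zpowers x)
    (hN : ¬ normalizer (zpowers x : Set G) ≤ zpowers x) (S : Subgroup G) (hS : S.Normal)
    (hcard : Nat.card S = (normalizer (zpowers x : Set G)).index) :
    derivedSeries G 2 ≠ derivedSeries G 1 := by
  have := Fact.mk hp
  obtain ⟨P, hP⟩ := scp_exists_sylow hp hx hC
  have hPH := scp_zpowers_le_commutator hp hx hC hN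
  have hScop : (Nat.card S).Coprime p := by
    have h1 : (normalizer (zpowers x : Set G)).index ∣ (zpowers x).index :=
      Subgroup.index_dvd_of_le le_normalizer
    have h2 : ¬ p ∣ (zpowers x).index := hP ▸ P.not_dvd_index
    rw [hcard]
    exact ((Nat.Prime.coprime_iff_not_dvd hp).mpr (fun h => h2 (h.trans h1))).symm
  have hSN := scp_inf_normalizer_eq_bot hx hC S hS hScop
  -- G = S N
  let f : S → Sylow p G := fun s => (s : G) • P
  have hf : Function.Injective f := by
    intro s s' h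
    have h1 : ((s' : G)⁻¹ * (s : G)) • P = P := by
      rw [mul_smul]
      show (s' : G)⁻¹ • ((s : G) • P) = P
      have h2 : (s : G) • P = (s' : G) • P := h
      rw [h2, inv_smul_smul]
    rw [Sylow.smul_eq_iff_mem_normalizer] at h1
    have h3 : (s' : G)⁻¹ * (s : G) ∈ S ⊓ normalizer (zpowers x : Set G) := by
      refine mem_inf.mpr ⟨S.mul_mem (S.inv_mem s'.2) s.2, ?_⟩
      have h4 : normalizer ((P : Subgroup G) : Set G) = normalizer (zpowers x : Set G) := by
        rw [hP]
      rw [← h4]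
      exact h1
    rw [hSN, mem_bot] at h3
    apply Subtype.ext
    exact (inv_mul_eq_one.mp h3).symm
  have hcards : Nat.card S = Nat.card (Sylow p G) := by
    rw [hcard, Sylow.card_eq_index_normalizer P]
    show _ = (normalizer ((P : Subgroup G) : Set G)).index
    rw [hP]
  have hfb : Function.Bijective f := (Nat.bijective_iff_injective_and_card f).mpr ⟨hf, hcards⟩
  have hg : ∀ g : G, ∃ s ∈ S, ∃ n ∈ normalizer (zpowers x : Set G), g = s * n := by
    intro g
    obtain ⟨s, hs⟩ := hfb.2 (g • P)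
    have h1 : ((s : G)⁻¹ * g) • P = P := by
      rw [mul_smul]
      show (s : G)⁻¹ • (g • P) = P
      have h2 : (s : G) • P = g • P := hs
      rw [← h2, inv_smul_smul]
    rw [Sylow.smul_eq_iff_mem_normalizer] at h1
    have h4 : normalizer ((P : Subgroup G) : Set G) = normalizer (zpowers x : Set G) := by
      rw [hP]
    refine ⟨s, s.2, (s : G)⁻¹ * g, h4 ▸ h1, ?_⟩
    group
  -- G' ≤ S P
  have hG' : commutator G ≤ S ⊔ zpowers x := by
    rw [_root_.commutator_def, commutator_le]
    intro g₁ _ g₂ _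
    obtain ⟨s₁, hs₁, n₁, hn₁, rfl⟩ := hg g₁
    obtain ⟨s₂, hs₂, n₂, hn₂, rfl⟩ := hg g₂
    obtain ⟨s, hs, heq⟩ := commutator_mul_eq_of_normal S n₁ n₂ hs₁ hs₂
    rw [heq]
    exact mul_mem (le_sup_right (a := S) (b := zpowers x) (scp_commutator_mem hC hn₁ hn₂))
      (le_sup_left (a := S) (b := zpowers x) hs)
  -- G'' ≤ S
  have hG'' : derivedSeries G 2 ≤ S := by
    rw [derivedSeries_succ, derivedSeries_one, commutator_le]
    intro a ha b hb
    have ha' : a ∈ (↑(S ⊔ zpowers x) : Set G) := hG' ha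
    have hb' : b ∈ (↑(S ⊔ zpowers x) : Set G) := hG' hb
    rw [normal_mul] at ha' hb'
    obtain ⟨s₁, hs₁, y₁, hy₁, rfl⟩ := Set.mem_mul.mp ha'
    obtain ⟨s₂, hs₂, y₂, hy₂, rfl⟩ := Set.mem_mul.mp hb'
    obtain ⟨s, hs, heq⟩ := commutator_mul_eq_of_normal S y₁ y₂ hs₁ hs₂
    rw [heq]
    have h1 : ⁅y₁, y₂⁆ = 1 := by
      rw [commutatorElement_eq_one_iff_commute]
      obtain ⟨k, rfl⟩ := hy₁
      obtain ⟨l, rfl⟩ := hy₂
      exact (Commute.refl x).zpow_zpow k l
    rw [h1, one_mul]
    exact hs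
  intro heq
  have hxS : x ∈ S := by
    apply hG''
    rw [heq, derivedSeries_one]
    exact hPH (mem_zpowers x)
  have h1 : orderOf x ∣ Nat.card S := Subgroup.orderOf_dvd_natCard _ hxS
  rw [hx] at h1
  exact hp.one_lt.ne' (Nat.Coprime.eq_one_of_dvd hScop.symm h1)

/-- Brauer: normal subgroups of order `1 + n p` (the number of subgroups of order `p`). -/
theorem scp_normal_subgroup_card (hp : p.Prime) (hx : orderOf x = p)
    (hC : centralizer ({x} : Set G) = zpowers x) (t : ℕ)
    (ht : Nat.card {C : ConjClasses G // ∃ g ∈ C.carrier, orderOf g = p} = t) (n : ℕ)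
    (hn : Nat.card {H : Subgroup G // Nat.card H = p} = 1 + n * p) :
    ((∃ S : Subgroup G, S.Normal ∧ Nat.card S = 1 + n * p) ↔
      (t = p - 1 ∨ (t < p - 1 ∧ derivedSeries G 2 ≠ derivedSeries G 1))) ∧
    (t = p - 1 → Nat.card (commutator G) = 1 + n * p ∧ IsCyclic (G ⧸ commutator G) ∧
      (commutator G).index = p) ∧
    (t < p - 1 → derivedSeries G 2 ≠ derivedSeries G 1 →
      Nat.card (derivedSeries G 2) = 1 + n * p ∧ Nat.card (commutator G) = p * (1 + n * p)) := by
  rw [scp_card_subgroups hp hx hC] at hn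
  have hpart2 : t = p - 1 → Nat.card (commutator G) = 1 + n * p ∧ IsCyclic (G ⧸ commutator G) ∧
      (commutator G).index = p := by
    intro hteq
    have h1 := scp_case_eq hp hx hC (scp_le_of_eq hp hx hC t ht hteq)
    rw [hn] at h1
    exact h1
  have hpart3 : t < p - 1 → derivedSeries G 2 ≠ derivedSeries G 1 →
      Nat.card (derivedSeries G 2) = 1 + n * p ∧ Nat.card (commutator G) = p * (1 + n * p) := by
    intro htlt hne
    have hN := scp_not_le_of_ne hp hx hC t ht htlt.ne
    obtain ⟨h1, h2⟩ := scp_derived2_eq hp hx hC hN hne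
    obtain ⟨h3, h4⟩ := scp_card_of_commutator_eq hp hx hC h2
    rw [hn] at h4
    rw [h1, h3, h4]
    exact ⟨rfl, rfl⟩
  refine ⟨⟨?_, ?_⟩, hpart2, hpart3⟩
  · rintro ⟨S, hS, hScard⟩
    by_cases hteq : t = p - 1
    · exact Or.inl hteq
    · right
      have hA := scp_card_classes_mul_le hp hx hC
      rw [ht] at hA
      have he0 : (zpowers x).relIndex (normalizer (zpowers x : Set G)) ≠ 0 :=
        Subgroup.index_ne_zero_of_finite
      have h2 : t ≤ p - 1 := by
        calc t = t * 1 := (mul_one t).symm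
          _ ≤ t * (zpowers x).relIndex (normalizer (zpowers x : Set G)) :=
            Nat.mul_le_mul_left t (Nat.one_le_iff_ne_zero.mpr he0)
          _ ≤ p - 1 := hA
      refine ⟨lt_of_le_of_ne h2 hteq, ?_⟩
      have hN := scp_not_le_of_ne hp hx hC t ht hteq
      exact scp_derived_ne_of_normal hp hx hC hN S hS (hScard.trans hn.symm)
  · rintro (hteq | ⟨htlt, hne⟩)
    · exact ⟨commutator G, inferInstance, (hpart2 hteq).1⟩
    · exact ⟨derivedSeries G 2, inferInstance, (hpart3 htlt hne).1⟩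

end selfcent3

end Cfsg.Agent.Lib.Helper10
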