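import Mathlib
import Cfsg.Prelude.Def_Solvable
import Cfsg.Agent.Lib.Helper10.SelfCentP3

/-!
# S4700 / S0996 leaf BRW-SCCORE (helper10): few Sylow `p`-subgroups force `O_{p'}(G) = 1`
(for a perfect group with a self-centralizing element of order `p`).
-/

set_option autoImplicit false

namespace Cfsg.Agent.Lib.Helper10.BRWSCCORE

open Cfsg Subgroup
open scoped commutatorElement

universe u

variable {G : Type u} [Group G] [Finite G]

/-- a fixed-point-free automorphism group of order `p`: `|H| ≡ 1 (mod p)` -/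
theorem card_modEq_one_of_fpf (p : ℕ) [Fact p.Prime] (z : G) (hz : orderOf z = p)
    (H : Subgroup G) (hHn : H.Normal) (hfix : ∀ h ∈ H, z * h * z⁻¹ = h → h = 1) :
    Nat.card H ≡ 1 [MOD p] := by
  classical
  let act : MulAction (zpowers z) H :=
    { smul := fun g h => ⟨(g : G) * h * (g : G)⁻¹, hHn.conj_mem h h.2 g⟩
      one_smul := by
        intro h
        apply Subtype.ext
        show ((1 : zpowers z) : G) * h * ((1 : zpowers z) : G)⁻¹ = h
        simp
      mul_smul := by
        intro a b h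
        apply Subtype.ext
        show ((a * b : zpowers z) : G) * h * ((a * b : zpowers z) : G)⁻¹
          = (a : G) * ((b : G) * h * (b : G)⁻¹) * (a : G)⁻¹
        rw [Subgroup.coe_mul]
        group }
  have hPG : IsPGroup p (zpowers z) := by
    apply IsPGroup.of_card (n := 1)
    rw [Nat.card_zpowers, hz, pow_one]
  have h1 := hPG.card_modEq_card_fixedPoints H
  have hfp : MulAction.fixedPoints (zpowers z) H = {1} := by
    ext h
    rw [MulAction.mem_fixedPoints, Set.mem_singleton_iff]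
    constructor
    · intro hh
      have h2 := hh ⟨z, mem_zpowers z⟩
      have h3 : z * (h : G) * z⁻¹ = h := congrArg Subtype.val h2
      exact Subtype.ext (hfix h h.2 h3)
    · rintro rfl g
      apply Subtype.ext
      show (g : G) * ((1 : H) : G) * (g : G)⁻¹ = ((1 : H) : G)
      simp
  rw [hfp] at h1
  simpa using h1

/-- SCCORE : few Sylow `p`-subgroups ⇒ `O_{p'}(G) = 1`. -/
theorem core_eq_bot_of_few_sylow (hperf : commutator G = ⊤) (p : ℕ) [Fact p.Prime] (z : G)
    (hz : orderOf z = p) (hC : Subgroup.centralizer ({z} : Set G) = Subgroup.zpowers z)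
    (hn : 2 * Nat.card (Sylow p G) < (p + 1) * (p + 2)) : pPrimeCore p G = ⊥ := by
  classical
  have hp : p.Prime := Fact.out
  by_contra hne
  -- notation
  obtain ⟨H, hHdef⟩ : ∃ H : Subgroup G, H = pPrimeCore p G := ⟨_, rfl⟩
  rw [← hHdef] at hne
  have hHn : H.Normal := by
    rw [hHdef]
    have := Cfsg.Agent.Lib.Helper12.pPrimeCore_characteristic (G := G) p
    infer_instance
  have hHc : (Nat.card H).Coprime p := by
    rw [hHdef]
    exact Cfsg.Agent.Lib.Helper12.pPrimeCore_coprime p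
  obtain ⟨N, hNdef⟩ : ∃ N : Subgroup G, N = normalizer (zpowers z : Set G) := ⟨_, rfl⟩
  have hHN : H ⊓ N = ⊥ := by
    rw [hNdef]
    exact Cfsg.Agent.Lib.Helper10.scp_inf_normalizer_eq_bot hz hC H hHn hHc
  have hPN : zpowers z ≤ N := by
    rw [hNdef]
    exact le_normalizer
  have hHP : H ⊓ zpowers z = ⊥ := by
    rw [eq_bot_iff, ← hHN]
    exact inf_le_inf_left H hPN
  -- `|H| ≡ 1 (mod p)`
  have hHmod : Nat.card H ≡ 1 [MOD p] := by
    apply card_modEq_one_of_fpf p z hz H hHn
    intro h hh hcomm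
    have hmem : h ∈ centralizer ({z} : Set G) := by
      rw [mem_centralizer_iff]
      intro y hy
      rw [Set.mem_singleton_iff] at hy
      rw [hy]
      calc z * h = z * h * z⁻¹ * z := by group
        _ = h * z := by rw [hcomm]
    rw [hC] at hmem
    have : h ∈ H ⊓ zpowers z := ⟨hh, hmem⟩
    rw [hHP] at this
    exact (mem_bot.mp this)
  have hHpos : 0 < Nat.card H := Nat.card_pos
  have hH1 : Nat.card H ≠ 1 := by
    intro h
    exact hne ((Subgroup.card_eq_one).mp h)
  have hHge : p + 1 ≤ Nat.card H := by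
    have h1 : p ∣ Nat.card H - 1 := (Nat.modEq_iff_dvd' hHpos).mp hHmod.symm
    have h2 : 0 < Nat.card H - 1 := by omega
    have h3 := Nat.le_of_dvd h2 h1
    omega
  -- the number of Sylow subgroups
  obtain ⟨P, hP⟩ := Cfsg.Agent.Lib.Helper10.scp_exists_sylow hp hz hC
  have hsyl : Nat.card (Sylow p G) = N.index := by
    have hNP : normalizer ((P : Subgroup G) : Set G) = N := by rw [hP, hNdef]
    rw [Sylow.card_eq_index_normalizer P]
    exact congrArg Subgroup.index hNP
  -- `|N ⊔ H : N| = |H|`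
  have hrel : N.relIndex (N ⊔ H) = Nat.card H := by
    have h1 : H.relIndex (N ⊔ H) = H.relIndex N := Subgroup.relIndex_sup_right N H
    have h2 : H.relIndex N = Nat.card N := by
      rw [← Subgroup.inf_relIndex_right, hHN, Subgroup.relIndex_bot_left]
    have h3 : Nat.card H * H.relIndex (N ⊔ H) = Nat.card (N ⊔ H : Subgroup G) := by
      rw [← Subgroup.relIndex_bot_left (H := H), ← Subgroup.relIndex_bot_left (H := N ⊔ H)]
      exact Subgroup.relIndex_mul_relIndex ⊥ H (N ⊔ H) bot_le le_sup_right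
    have h4 : Nat.card N * N.relIndex (N ⊔ H) = Nat.card (N ⊔ H : Subgroup G) := by
      rw [← Subgroup.relIndex_bot_left (H := N), ← Subgroup.relIndex_bot_left (H := N ⊔ H)]
      exact Subgroup.relIndex_mul_relIndex ⊥ N (N ⊔ H) bot_le le_sup_left
    rw [h1, h2] at h3
    have hNpos : 0 < Nat.card N := Nat.card_pos
    have : Nat.card N * N.relIndex (N ⊔ H) = Nat.card N * Nat.card H := by
      rw [h4, ← h3, mul_comm]
    exact Nat.eq_of_mul_eq_mul_left hNpos this
  have hidx : N.index = Nat.card H * (N ⊔ H).index := by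
    rw [← hrel]
    exact (Subgroup.relIndex_mul_index (le_sup_left : N ≤ N ⊔ H)).symm
  -- `N ⊔ H ≠ ⊤`
  have hNH : N ⊔ H ≠ ⊤ := by
    intro htop
    have hdec : ∀ g : G, ∃ s ∈ H, ∃ n ∈ N, g = s * n := by
      intro g
      have hg : g ∈ H ⊔ N := by rw [sup_comm, htop]; exact mem_top g
      have := hHn
      obtain ⟨s, hs, n, hn', hsn⟩ := (Subgroup.mem_sup_of_normal_left).mp hg
      exact ⟨s, hs, n, hn', hsn.symm⟩
    -- `G' ≤ H ⊔ ⟨z⟩`
    have hstep1 : commutator G ≤ H ⊔ zpowers z := by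
      rw [commutator_eq_closure, Subgroup.closure_le]
      rintro c ⟨g₁, g₂, rfl⟩
      obtain ⟨s₁, hs₁, n₁, hn₁, rfl⟩ := hdec g₁
      obtain ⟨s₂, hs₂, n₂, hn₂, rfl⟩ := hdec g₂
      have := hHn
      obtain ⟨s, hs, hcomm⟩ := Cfsg.Agent.Lib.Helper10.commutator_mul_eq_of_normal H n₁ n₂ hs₁ hs₂
      show ⁅s₁ * n₁, s₂ * n₂⁆ ∈ H ⊔ zpowers z
      rw [hcomm]
      rw [hNdef] at hn₁ hn₂
      exact mul_mem (Subgroup.mem_sup_right (Cfsg.Agent.Lib.Helper10.scp_commutator_mem hC hn₁ hn₂))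
        (Subgroup.mem_sup_left hs)
    rw [hperf, top_le_iff] at hstep1
    have hdec2 : ∀ g : G, ∃ s ∈ H, ∃ n ∈ zpowers z, g = s * n := by
      intro g
      have hg : g ∈ H ⊔ zpowers z := by rw [hstep1]; exact mem_top g
      have := hHn
      obtain ⟨s, hs, n, hn', hsn⟩ := (Subgroup.mem_sup_of_normal_left).mp hg
      exact ⟨s, hs, n, hn', hsn.symm⟩
    have hstep2 : commutator G ≤ H := by
      rw [commutator_eq_closure, Subgroup.closure_le]
      rintro c ⟨g₁, g₂, rfl⟩
      obtain ⟨s₁, hs₁, n₁, hn₁, rfl⟩ := hdec2 g₁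
      obtain ⟨s₂, hs₂, n₂, hn₂, rfl⟩ := hdec2 g₂
      have := hHn
      obtain ⟨s, hs, hcomm⟩ := Cfsg.Agent.Lib.Helper10.commutator_mul_eq_of_normal H n₁ n₂ hs₁ hs₂
      show ⁅s₁ * n₁, s₂ * n₂⁆ ∈ H
      rw [hcomm]
      have hc1 : ⁅n₁, n₂⁆ = 1 := by
        rw [commutatorElement_eq_one_iff_commute]
        obtain ⟨a, rfl⟩ := hn₁
        obtain ⟨b, rfl⟩ := hn₂
        exact (Commute.refl z).zpow_zpow a b
      rw [hc1, one_mul]
      exact hs
    rw [hperf, top_le_iff] at hstep2
    have hdvd : p ∣ Nat.card G := hz ▸ orderOf_dvd_natCard z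
    have hcard : Nat.card H = Nat.card G := by rw [hstep2, Subgroup.card_top]
    rw [hcard] at hHc
    exact hp.one_lt.ne' (hHc.symm.eq_one_of_dvd hdvd)
  -- `|G : N ⊔ H| ≡ 1 (mod p)` and `≠ 1`
  have hamod : (N ⊔ H).index ≡ 1 [MOD p] := by
    have h1 : Nat.card (Sylow p G) ≡ 1 [MOD p] := card_sylow_modEq_one p G
    rw [hsyl, hidx] at h1
    have h2 : Nat.card H * (N ⊔ H).index ≡ 1 * (N ⊔ H).index [MOD p] := Nat.ModEq.mul_right _ hHmod
    rw [one_mul] at h2
    exact h2.symm.trans h1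
  have hapos : 0 < (N ⊔ H).index := Nat.pos_of_ne_zero Subgroup.index_ne_zero_of_finite
  have ha1 : (N ⊔ H).index ≠ 1 := fun h => hNH (Subgroup.index_eq_one.mp h)
  have hage : p + 1 ≤ (N ⊔ H).index := by
    have h1 : p ∣ (N ⊔ H).index - 1 := (Nat.modEq_iff_dvd' hapos).mp hamod.symm
    have h2 : 0 < (N ⊔ H).index - 1 := by omega
    have h3 := Nat.le_of_dvd h2 h1
    omega
  rw [hsyl, hidx] at hn
  have : (p + 1) * (p + 1) ≤ Nat.card H * (N ⊔ H).index := Nat.mul_le_mul hHge hage
  nlinarith
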