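import Cfsg.Agent.Lib.Helper5.NDMax

/-!
helper10, S5825 conjunct (7): the irreducibility leaf **Irr**.

`p` singular, `e, e'` singular in `p^⊥` with `B(e,e') ≠ 0`; an additive subgroup `A` which is
invariant under all `egen e z` (`z ⊥ p, e`) and all `egen e' z` (`z ⊥ p, e'`) and contains a vector
off `F p`, contains `p^⊥`.  (No quotient: the maps are applied in the ambient space.)
-/

set_option autoImplicit false
set_option linter.unusedSectionVars false
set_option linter.unusedVariables false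
set_option linter.unusedSimpArgs false

namespace Cfsg.Agent.Lib.Helper10.C3O42

open Module QuadraticMap Matrix Cfsg.Agent.Lib.Helper25.CD Cfsg.Agent.Lib.Helper25.Spin
  Cfsg.Agent.Lib.Helper25.Fam Cfsg.Agent.Lib.Helper25.Siegel
  Cfsg.Agent.Lib.Helper25.PS Cfsg.Agent.Lib.Helper25.OGeom Cfsg.Agent.Lib.Helper15
  Cfsg.Agent.Lib.Helper5.TSMax Cfsg.Agent.Lib.Helper5.NSMax Cfsg.Agent.Lib.Helper5.PairMax
  Cfsg.Agent.Lib.Helper5.NDMax

variable {ι : Type} [Fintype ι] [DecidableEq ι] {F : Type*} [Field F] [Fintype F]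
  (Q : QuadraticForm F (ι → F))

/-- every scalar is a value of `Q` on `⟨p, e, e'⟩^⊥` -/
theorem exists_perp3_value (hQ : (polarBilin Q).Nondegenerate) (hcard : 7 ≤ Fintype.card ι)
    {p e e' : ι → F} (hp0 : p ≠ 0) (hp : Q p = 0) (he : Q e = 0) (he' : Q e' = 0)
    (hpe : polar Q p e = 0) (hpe' : polar Q p e' = 0) (hee' : polar Q e e' ≠ 0) (c : F) :
    ∃ b, polar Q p b = 0 ∧ polar Q e b = 0 ∧ polar Q e' b = 0 ∧ Q b = c := by
  obtain ⟨e'', he''⟩ : ∃ e'', e'' = (polar Q e e')⁻¹ • e' := ⟨_, rfl⟩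
  have hQe'' : Q e'' = 0 := by rw [he'', QuadraticMap.map_smul, he', smul_zero]
  have hee'' : polar Q e e'' = 1 := by
    rw [he'', polar_smul_right, smul_eq_mul, inv_mul_cancel₀ hee']
  have hN1 := perpPair_nd Q ⊤ (ndOn_top Q hQ) (e := e) (f := e'') Submodule.mem_top
    Submodule.mem_top he hQe'' hee''
  have hN1fr := perpPair_finrank Q ⊤ (e := e) (f := e'') Submodule.mem_top Submodule.mem_top he
    hQe'' hee''
  rw [finrank_top, Module.finrank_fintype_fun_eq_card] at hN1fr
  have hpN1 : p ∈ perpPair Q ⊤ e e'' := by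
    rw [mem_perpPair]
    refine ⟨Submodule.mem_top, by rw [polar_comm]; exact hpe, ?_⟩
    rw [he'', polar_smul_left, polar_comm Q e' p, hpe', smul_zero]
  obtain ⟨f, hfN1, hQf, hpf⟩ := exists_hyp_partner Q _ hN1 hpN1 hp0 hp
  have hN2 := perpPair_nd Q _ hN1 hpN1 hfN1 hp hQf hpf
  have hN2fr := perpPair_finrank Q _ hpN1 hfN1 hp hQf hpf
  obtain ⟨x, hxN2, hQx⟩ := universal Q hN2 (by omega) c
  rw [mem_perpPair, mem_perpPair] at hxN2
  obtain ⟨⟨-, hex, he''x⟩, hpx, -⟩ := hxN2
  refine ⟨x, hpx, hex, ?_, hQx⟩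
  rw [he'', polar_smul_left, smul_eq_mul] at he''x
  exact (mul_eq_zero.1 he''x).resolve_left (inv_ne_zero hee')

variable {Q}

/-- **Irr**, the case where `A` contains a vector not perpendicular to `e` -/
theorem irr_aux (hQ : (polarBilin Q).Nondegenerate) (hcard : 7 ≤ Fintype.card ι)
    (h2 : (2 : F) ≠ 0)
    {p e e' : ι → F} (hp0 : p ≠ 0) (hp : Q p = 0) (he : Q e = 0) (he' : Q e' = 0)
    (hpe : polar Q p e = 0) (hpe' : polar Q p e' = 0) (hee' : polar Q e e' ≠ 0)
    (A : AddSubgroup (ι → F))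
    (hinv : ∀ z, polar Q p z = 0 → polar Q e z = 0 → ∀ y ∈ A, egen Q e z y ∈ A)
    (hinv' : ∀ z, polar Q p z = 0 → polar Q e' z = 0 → ∀ y ∈ A, egen Q e' z y ∈ A)
    {y : ι → F} (hyA : y ∈ A) (hey : polar Q e y ≠ 0) :
    ∀ v, polar Q p v = 0 → v ∈ A := by
  have he'e : polar Q e' e ≠ 0 := by rw [polar_comm]; exact hee'
  -- (a) `F e ⊆ A`
  have ha : ∀ c : F, c • e ∈ A := by
    intro c
    obtain ⟨b, hpb, heb, -, hQb⟩ := exists_perp3_value Q hQ hcard hp0 hp he he' hpe hpe' hee'
      (-c / (2 * polar Q e y))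
    have h1 := hinv b hpb heb y hyA
    have h2' := hinv (-b) (by rw [polar_neg_right, hpb, neg_zero])
      (by rw [polar_neg_right, heb, neg_zero]) y hyA
    have h3 : egen Q e b y + egen Q e (-b) y - y - y ∈ A :=
      A.sub_mem (A.sub_mem (A.add_mem h1 h2') hyA) hyA
    have e1 : egen Q e b y + egen Q e (-b) y - y - y = c • e := by
      unfold egen
      rw [QuadraticMap.map_neg, hQb, polar_neg_left]
      have : -c / (2 * polar Q e y) * polar Q e y = -c / 2 := by
        field_simp
      rw [this]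
      have e2 : c = -(-c / 2) - (-c / 2) := by field_simp; ring
      nth_rewrite 3 [e2]
      module
    rw [e1] at h3
    exact h3
  -- (b) `Y ⊆ A`
  have hb : ∀ b, polar Q p b = 0 → polar Q e b = 0 → b ∈ A := by
    intro b hpb heb
    have h1 := hinv ((polar Q e y)⁻¹ • b) (by rw [polar_smul_right, hpb, smul_zero])
      (by rw [polar_smul_right, heb, smul_zero]) y hyA
    have h3 : egen Q e ((polar Q e y)⁻¹ • b) y - y +
        (polar Q ((polar Q e y)⁻¹ • b) y + Q ((polar Q e y)⁻¹ • b) * polar Q e y) • e ∈ A :=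
      A.add_mem (A.sub_mem h1 hyA) (ha _)
    have e1 : egen Q e ((polar Q e y)⁻¹ • b) y - y +
        (polar Q ((polar Q e y)⁻¹ • b) y + Q ((polar Q e y)⁻¹ • b) * polar Q e y) • e = b := by
      unfold egen
      have : polar Q e y • (polar Q e y)⁻¹ • b = b := by
        rw [smul_smul, mul_inv_cancel₀ hey, one_smul]
      rw [this]
      module
    rw [e1] at h3
    exact h3
  -- (c) `F e' ⊆ A`
  have hc : ∀ c : F, c • e' ∈ A := by
    intro c
    obtain ⟨b, hpb, heb, he'b, hQb⟩ := exists_perp3_value Q hQ hcard hp0 hp he he' hpe hpe' hee'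
      (c / polar Q e' e)
    have heA : e ∈ A := by
      have := ha 1
      rwa [one_smul] at this
    have h1 := hinv' b hpb he'b e heA
    have h3 : polar Q e' e • b - (egen Q e' b e - e) ∈ A :=
      A.sub_mem (hb _ (by rw [polar_smul_right, hpb, smul_zero])
        (by rw [polar_smul_right, heb, smul_zero])) (A.sub_mem h1 heA)
    have e1 : polar Q e' e • b - (egen Q e' b e - e) = c • e' := by
      unfold egen
      rw [hQb, polar_comm Q b e, heb, div_mul_cancel₀ _ he'e]
      module
    rw [e1] at h3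
    exact h3
  -- (d) decomposition
  intro v hv
  have hbv : v - (polar Q e' v / polar Q e e') • e - (polar Q e v / polar Q e e') • e' ∈ A := by
    apply hb
    · rw [polar_sub_right, polar_sub_right, polar_smul_right, polar_smul_right, hv, hpe, hpe']
      simp
    · rw [polar_sub_right, polar_sub_right, polar_smul_right, polar_smul_right, pself Q he]
      simp only [smul_eq_mul]
      rw [div_mul_cancel₀ _ hee']
      ring
  have := A.add_mem (A.add_mem hbv (ha (polar Q e' v / polar Q e e')))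
    (hc (polar Q e v / polar Q e e'))
  have e1 : v - (polar Q e' v / polar Q e e') • e - (polar Q e v / polar Q e e') • e' +
      (polar Q e' v / polar Q e e') • e + (polar Q e v / polar Q e e') • e' = v := by abel
  rw [e1] at this
  exact this

/-- **Irr** -/
theorem irr (hQ : (polarBilin Q).Nondegenerate) (hcard : 7 ≤ Fintype.card ι)
    (h2 : (2 : F) ≠ 0)
    {p e e' : ι → F} (hp0 : p ≠ 0) (hp : Q p = 0) (he : Q e = 0) (he' : Q e' = 0)
    (hpe : polar Q p e = 0) (hpe' : polar Q p e' = 0) (hee' : polar Q e e' ≠ 0)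
    (A : AddSubgroup (ι → F))
    (hinv : ∀ z, polar Q p z = 0 → polar Q e z = 0 → ∀ y ∈ A, egen Q e z y ∈ A)
    (hinv' : ∀ z, polar Q p z = 0 → polar Q e' z = 0 → ∀ y ∈ A, egen Q e' z y ∈ A)
    {y : ι → F} (hyA : y ∈ A) (hyp : y ∉ Submodule.span F {p}) :
    ∀ v, polar Q p v = 0 → v ∈ A := by
  have he'e : polar Q e' e ≠ 0 := by rw [polar_comm]; exact hee'
  by_cases h1 : polar Q e y = 0
  swap
  · exact irr_aux hQ hcard h2 hp0 hp he he' hpe hpe' hee' A hinv hinv' hyA h1
  by_cases h1' : polar Q e' y = 0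
  swap
  · exact irr_aux hQ hcard h2 hp0 hp he' he hpe' hpe he'e A hinv' hinv hyA h1'
  -- `y ⊥ e, e'`, `y ∉ F p`: move it by `egen e z` to a multiple of `e`
  have hyP : y ∉ Submodule.span F {p, e} := by
    intro hmem
    obtain ⟨a, b, hab⟩ := Submodule.mem_span_pair.1 hmem
    have hb0 : b = 0 := by
      have : polar Q e' y = b * polar Q e' e := by
        rw [← hab, polar_add_right, polar_smul_right, polar_smul_right, polar_comm Q e' p, hpe']
        simp
      rw [h1'] at this
      exact (mul_eq_zero.1 this.symm).resolve_right he'e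
    apply hyp
    rw [← hab, hb0, zero_smul, add_zero]
    exact Submodule.smul_mem _ _ (Submodule.mem_span_singleton_self p)
  obtain ⟨z, -, hz1, hz2⟩ := exists_dual_nd Q (ndOn_top Q hQ) (P := Submodule.span F {p, e})
    (y := y) Submodule.mem_top hyP
  have hzp : polar Q p z = 0 := by
    rw [polar_comm]
    exact hz1 p (Submodule.subset_span (by simp)) Submodule.mem_top
  have hze : polar Q e z = 0 := by
    rw [polar_comm]
    exact hz1 e (Submodule.subset_span (by simp)) Submodule.mem_top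
  have h3 : y - egen Q e z y ∈ A := A.sub_mem hyA (hinv z hzp hze y hyA)
  have e1 : y - egen Q e z y = e := by
    unfold egen
    rw [h1, hz2]
    module
  rw [e1] at h3
  exact irr_aux hQ hcard h2 hp0 hp he' he hpe' hpe he'e A hinv' hinv h3 he'e

end Cfsg.Agent.Lib.Helper10.C3O42
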