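import Cfsg.Agent.Lib.Helper10.C3O42ES
import Cfsg.Agent.Lib.Helper10.C3O42Irr

/-!
helper10, S5825 conjunct (7): the BACK END.  From the interface (LR) + (MV)
(an `E`-singular `p`, an element `m ∈ M` fixing `p` with `B(Jp, m Jp) ≠ 0`, and a long root element
`egen p y ∈ M`, `y ∉ F p`) to `M = Ω`.
-/

set_option autoImplicit false
set_option linter.unusedSectionVars false
set_option linter.unusedVariables false
set_option linter.unusedSimpArgs false

namespace Cfsg.Agent.Lib.Helper10.C3O42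

open Module QuadraticMap Matrix Cfsg.Agent.Lib.Helper25.CD Cfsg.Agent.Lib.Helper25.Spin
  Cfsg.Agent.Lib.Helper25.Fam Cfsg.Agent.Lib.Helper25.Siegel
  Cfsg.Agent.Lib.Helper25.PS Cfsg.Agent.Lib.Helper25.OGeom Cfsg.Agent.Lib.Helper15
  Cfsg.Agent.Lib.Helper5.TSMax Cfsg.Agent.Lib.Helper5.NSMax Cfsg.Agent.Lib.Helper5.PairMax
  Cfsg.Agent.Lib.Helper5.NDMax

variable {ι : Type} [Fintype ι] [DecidableEq ι] {F : Type*} [Field F] [Fintype F]
  {Q : QuadraticForm F (ι → F)} {J : Matrix ι ι F} {δ : F}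

theorem toOG_inv_apply_of_eq (e : ↥(Cfsg.isometryGroup F ⇑Q)) {z y : ι → F}
    (h : toOG Q e z = y) : toOG Q e⁻¹ y = z := by
  rw [← h, ← LinearEquiv.mul_apply, ← map_mul, inv_mul_cancel, map_one]
  rfl

theorem toOG_mul_inv_apply' (g : ↥(Cfsg.isometryGroup F ⇑Q)) (y : ι → F) :
    toOG Q g (toOG Q g⁻¹ y) = y := by
  rw [← LinearEquiv.mul_apply, ← map_mul, mul_inv_cancel, map_one]
  rfl

theorem egen_zero (u x : ι → F) : egen Q u 0 x = x := by
  unfold egen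
  simp

/-- the (single element) root module of the singular vector `p` relative to `M` -/
def rootA (M : Subgroup ↥(Cfsg.isometryGroup F ⇑Q)) (p : ι → F) (hp : Q p = 0) :
    AddSubgroup (ι → F) where
  carrier := {y | polar Q p y = 0 ∧ ∃ g ∈ M, ∀ x, toOG Q g x = egen Q p y x}
  zero_mem' := ⟨by simp, 1, M.one_mem, fun x => by rw [map_one, egen_zero]; rfl⟩
  add_mem' := by
    rintro y y' ⟨hy, g, hg, hgx⟩ ⟨hy', g', hg', hgx'⟩
    refine ⟨by rw [polar_add_right, hy, hy', add_zero], g * g', M.mul_mem hg hg', fun x => ?_⟩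
    rw [map_mul, LinearEquiv.mul_apply, hgx, hgx', egen_add Q hp hy hy']
  neg_mem' := by
    rintro y ⟨hy, g, hg, hgx⟩
    have hy' : polar Q p (-y) = 0 := by rw [polar_neg_right, hy, neg_zero]
    refine ⟨hy', g⁻¹, M.inv_mem hg, fun x => ?_⟩
    apply toOG_inv_apply_of_eq
    rw [hgx, egen_add Q hp hy hy', add_neg_cancel, egen_zero]

theorem mem_rootA {M : Subgroup ↥(Cfsg.isometryGroup F ⇑Q)} {p : ι → F} {hp : Q p = 0}
    {y : ι → F} :
    y ∈ rootA M p hp ↔ polar Q p y = 0 ∧ ∃ g ∈ M, ∀ x, toOG Q g x = egen Q p y x := Iff.rfl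

theorem smul_mem_rootA (M : Subgroup ↥(Cfsg.isometryGroup F ⇑Q)) {p : ι → F} (hp : Q p = 0)
    (c : F) : c • p ∈ rootA M p hp := by
  refine ⟨by rw [polar_smul_right, pself Q hp, smul_zero], 1, M.one_mem, fun x => ?_⟩
  rw [map_one]
  unfold egen
  rw [QuadraticMap.map_smul, hp, polar_smul_left]
  simp only [smul_eq_mul, mul_zero, zero_mul, zero_smul, sub_zero]
  show x = _
  module

/-- the root module is invariant under the stabiliser of `p` in `M` -/
theorem rootA_conj {M : Subgroup ↥(Cfsg.isometryGroup F ⇑Q)} {p : ι → F} {hp : Q p = 0}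
    {n : ↥(Cfsg.isometryGroup F ⇑Q)} (hn : n ∈ M) (hnp : toOG Q n p = p) {y : ι → F}
    (hy : y ∈ rootA M p hp) : toOG Q n y ∈ rootA M p hp := by
  obtain ⟨hpy, g, hg, hgx⟩ := hy
  refine ⟨?_, n * g * n⁻¹, M.mul_mem (M.mul_mem hn hg) (M.inv_mem hn), fun x => ?_⟩
  · have := polar_toOG Q n p y
    rw [hnp] at this
    rw [this, hpy]
  · rw [map_mul, map_mul, LinearEquiv.mul_apply, LinearEquiv.mul_apply, hgx,
      egen_map Q (toOG_mem_OG Q n), hnp, toOG_mul_inv_apply']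

/-- if `n ∈ M` fixes `p` and acts on `p^⊥` as `egen e z` up to multiples of `p`, then `egen e z`
preserves the root module -/
theorem rootA_of_mod {M : Subgroup ↥(Cfsg.isometryGroup F ⇑Q)} {p : ι → F} {hp : Q p = 0}
    {n : ↥(Cfsg.isometryGroup F ⇑Q)} (hn : n ∈ M) (hnp : toOG Q n p = p) {e z : ι → F}
    (hmod : ∀ x, polar Q p x = 0 → ∃ c : F, toOG Q n x = egen Q e z x - c • p) {y : ι → F}
    (hy : y ∈ rootA M p hp) : egen Q e z y ∈ rootA M p hp := by
  obtain ⟨c, hc⟩ := hmod y hy.1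
  have h1 := rootA_conj hn hnp hy
  have h2 := (rootA M p hp).add_mem h1 (smul_mem_rootA M hp c)
  rw [hc, sub_add_cancel] at h2
  exact h2

section main

variable (hQ : (polarBilin Q).Nondegenerate) (hcard : 7 ≤ Fintype.card ι) (h : JS Q J δ)
  {M : Subgroup ↥(Cfsg.isometryGroup F ⇑Q)}
  (hcm : ∀ g ∈ Cfsg.Omega F ⇑Q,
    ((g : GL ι F) : Matrix ι ι F) * J = J * ((g : GL ι F) : Matrix ι ι F) → g ∈ M)

include hQ hcard h hcm

/-- invariance of the root module under the root group `R_e`, `e = Jp` -/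
theorem rootA_inv_e {p : ι → F} (hp0 : p ≠ 0) (hp : ESing Q J p) {z : ι → F}
    (hpz : polar Q p z = 0) (hez : polar Q (J *ᵥ p) z = 0) {y : ι → F}
    (hy : y ∈ rootA M p hp.1) : egen Q (J *ᵥ p) z y ∈ rootA M p hp.1 := by
  obtain ⟨t, htM, ht⟩ := exists_es hQ hcard h hcm hp0 hp hpz hez
  refine rootA_of_mod htM ?_ (fun x hx =>
    ⟨polar Q (J *ᵥ z) x + polar Q z (J *ᵥ z) * polar Q (J *ᵥ p) x / 2, ?_⟩) hy
  · rw [ht, esMap_self h hp hpz hez]
  · rw [ht, esMap_perp h hx]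

/-- invariance of the root module under the root group `R_e'`, `e' = m (Jp)` -/
theorem rootA_inv_e' {p : ι → F} (hp0 : p ≠ 0) (hp : ESing Q J p)
    {m : ↥(Cfsg.isometryGroup F ⇑Q)} (hm : m ∈ M) (hmp : toOG Q m p = p) {z : ι → F}
    (hpz : polar Q p z = 0) (hez : polar Q (toOG Q m (J *ᵥ p)) z = 0) {y : ι → F}
    (hy : y ∈ rootA M p hp.1) : egen Q (toOG Q m (J *ᵥ p)) z y ∈ rootA M p hp.1 := by
  have hmp' : toOG Q m⁻¹ p = p := toOG_inv_apply_of_eq m hmp
  have hpz' : polar Q p (toOG Q m⁻¹ z) = 0 := by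
    have := polar_toOG Q m⁻¹ p z
    rw [hmp'] at this
    rw [this, hpz]
  have hez' : polar Q (J *ᵥ p) (toOG Q m⁻¹ z) = 0 := by
    have := polar_toOG Q m⁻¹ (toOG Q m (J *ᵥ p)) z
    rw [toOG_inv_apply_of_eq m rfl] at this
    rw [this, hez]
  obtain ⟨t, htM, ht⟩ := exists_es hQ hcard h hcm hp0 hp hpz' hez'
  refine rootA_of_mod (n := m * t * m⁻¹) (M.mul_mem (M.mul_mem hm htM) (M.inv_mem hm)) ?_
    (fun x hx => ⟨polar Q (J *ᵥ (toOG Q m⁻¹ z)) (toOG Q m⁻¹ x) +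
      polar Q (toOG Q m⁻¹ z) (J *ᵥ (toOG Q m⁻¹ z)) * polar Q (J *ᵥ p) (toOG Q m⁻¹ x) / 2, ?_⟩) hy
  · rw [map_mul, map_mul, LinearEquiv.mul_apply, LinearEquiv.mul_apply, hmp', ht,
      esMap_self h hp hpz' hez', hmp]
  · have hx' : polar Q p (toOG Q m⁻¹ x) = 0 := by
      have := polar_toOG Q m⁻¹ p x
      rw [hmp'] at this
      rw [this, hx]
    rw [map_mul, map_mul, LinearEquiv.mul_apply, LinearEquiv.mul_apply, ht, esMap_perp h hx',
      map_sub, map_smul, hmp, egen_map Q (toOG_mem_OG Q m), toOG_mul_inv_apply',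
      toOG_mul_inv_apply']

/-- **Good p** from (LR) + (MV) -/
theorem good_of_LR (h2 : (2 : F) ≠ 0) {p y : ι → F} (hp0 : p ≠ 0) (hp : ESing Q J p)
    {m : ↥(Cfsg.isometryGroup F ⇑Q)} (hm : m ∈ M) (hmp : toOG Q m p = p)
    (hee' : polar Q (J *ᵥ p) (toOG Q m (J *ᵥ p)) ≠ 0)
    (hpy : polar Q p y = 0) (hyp : y ∉ Submodule.span F {p})
    (hg : ∃ g ∈ M, ∀ x, toOG Q g x = egen Q p y x) :
    Good Q M (mk' Q p hp0 hp.1) := by
  have hall : ∀ v, polar Q p v = 0 → v ∈ rootA M p hp.1 := by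
    refine irr hQ hcard h2 hp0 hp.1 (hp.mulJ h).1 (by rw [Q_toOG]; exact (hp.mulJ h).1) hp.2 ?_ hee'
      (rootA M p hp.1) (fun z hpz hez y hy => rootA_inv_e hQ hcard h hcm hp0 hp hpz hez hy)
      (fun z hpz hez y hy => rootA_inv_e' hQ hcard h hcm hp0 hp hm hmp hpz hez hy)
      (y := y) ⟨hpy, hg⟩ hyp
    have := polar_toOG Q m p (J *ᵥ p)
    rw [hmp] at this
    rw [this, hp.2]
  refine good_of_all hp0 hp.1 (fun v hv c => ?_)
  exact (hall (c • v) (by rw [polar_smul_right, hv, smul_zero])).2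

omit hcard hcm in
/-- an `E`-singular vector `a` with `a ⊥ p`, `B(Jp, a) ≠ 0` -/
theorem exists_opp_esing {p : ι → F} (hp0 : p ≠ 0) (hp : ESing Q J p) :
    ∃ a, a ≠ 0 ∧ ESing Q J a ∧ polar Q p a = 0 ∧ polar Q (J *ᵥ p) a ≠ 0 := by
  have hpJ : p ∉ Submodule.span F {J *ᵥ p} := by
    intro hmem
    obtain ⟨c, hc⟩ := Submodule.mem_span_singleton.1 hmem
    have : (1 : F) • p + (-c) • J *ᵥ p = 0 := by rw [one_smul, neg_smul, hc, add_neg_cancel]
    exact one_ne_zero (h.comb_eq_zero hp0 this).1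
  obtain ⟨v, -, hv1, hvp⟩ := exists_dual_nd Q (ndOn_top Q hQ) (P := Submodule.span F {J *ᵥ p})
    (y := p) Submodule.mem_top hpJ
  have hvJp : polar Q v (J *ᵥ p) = 0 :=
    hv1 _ (Submodule.mem_span_singleton_self _) Submodule.mem_top
  have hδ := h.delta_ne
  have h2 := h.two
  obtain ⟨β, hβ⟩ : ∃ β, β = polar Q v (J *ᵥ v) / (2 * δ) := ⟨_, rfl⟩
  obtain ⟨u, hu⟩ : ∃ u, u = Q v • p + β • J *ᵥ p := ⟨_, rfl⟩
  have hES := hp.comb h (Q v) β
  rw [← hu] at hES
  have hJu : J *ᵥ u = (β * δ) • p + Q v • J *ᵥ p := by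
    rw [hu, Matrix.mulVec_add, Matrix.mulVec_smul, Matrix.mulVec_smul, h.sq, smul_smul, add_comm]
  have hpp : polar Q p p = 0 := pself Q hp.1
  have hJpp : polar Q (J *ᵥ p) p = 0 := by rw [polar_comm]; exact hp.2
  have hJpJp : polar Q (J *ᵥ p) (J *ᵥ p) = 0 := by rw [h.polar_JJ, hpp, mul_zero]
  have hvu : polar Q v u = Q v := by
    rw [hu, polar_add_right, polar_smul_right, polar_smul_right, hvp, hvJp]
    simp
  have hvJu : polar Q v (J *ᵥ u) = polar Q v (J *ᵥ v) / 2 := by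
    rw [hJu, polar_add_right, polar_smul_right, polar_smul_right, hvp, hvJp, hβ]
    simp only [smul_eq_mul, mul_one, mul_zero, add_zero]
    field_simp
  have huJv : polar Q u (J *ᵥ v) = polar Q v (J *ᵥ v) / 2 := by
    rw [← h.sa, polar_comm, hvJu]
  have hpu : polar Q p u = 0 := by
    rw [hu, polar_add_right, polar_smul_right, polar_smul_right, hpp, hp.2]
    simp
  have hJpu : polar Q (J *ᵥ p) u = 0 := by
    rw [hu, polar_add_right, polar_smul_right, polar_smul_right, hJpp, hJpJp]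
    simp
  have ha₀ : ESing Q J (v - u) := by
    refine ⟨?_, ?_⟩
    · rw [Q_sub', hES.1, hvu]
      ring
    · rw [Matrix.mulVec_sub, polar_sub_left, polar_sub_right, polar_sub_right, hvJu, huJv, hES.2]
      field_simp
      ring
  refine ⟨J *ᵥ (v - u), ?_, ha₀.mulJ h, ?_, ?_⟩
  · intro h0
    have := h.J_ne_zero (a := v - u)
    by_cases hvu0 : v - u = 0
    · have h1 : polar Q p (v - u) = 1 := by
        rw [polar_sub_right, hpu, sub_zero, polar_comm]; exact hvp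
      rw [hvu0] at h1
      simp at h1
    · exact this hvu0 h0
  · rw [← h.sa, polar_sub_right, hJpu, sub_zero, polar_comm, hvJp]
  · rw [h.polar_JJ, polar_sub_right, hpu, sub_zero, polar_comm, hvp, mul_one]
    exact hδ

omit hcm in
/-- every scalar is a value of `Q` on the `E`-perp of an `E`-singular vector -/
theorem exists_eperp_value {a : ι → F} (ha0 : a ≠ 0) (ha : ESing Q J a) (c : F) :
    ∃ z, polar Q a z = 0 ∧ polar Q (J *ᵥ a) z = 0 ∧ Q z = c := by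
  obtain ⟨f, -, hQf, haf⟩ := exists_hyp_partner Q ⊤ (ndOn_top Q hQ) (e := a) Submodule.mem_top ha0
    ha.1
  have hN1 := perpPair_nd Q ⊤ (ndOn_top Q hQ) (e := a) (f := f) Submodule.mem_top
    Submodule.mem_top ha.1 hQf haf
  have hN1fr := perpPair_finrank Q ⊤ (e := a) (f := f) Submodule.mem_top Submodule.mem_top ha.1
    hQf haf
  rw [finrank_top, Module.finrank_fintype_fun_eq_card] at hN1fr
  obtain ⟨e₂, he₂⟩ : ∃ e₂, e₂ = (-polar Q f (J *ᵥ a)) • a + (1 : F) • J *ᵥ a := ⟨_, rfl⟩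
  have hES := ha.comb h (-polar Q f (J *ᵥ a)) 1
  rw [← he₂] at hES
  have he₂0 : e₂ ≠ 0 := by
    intro h0
    rw [he₂] at h0
    exact one_ne_zero (h.comb_eq_zero ha0 h0).2
  have he₂N1 : e₂ ∈ perpPair Q ⊤ a f := by
    rw [mem_perpPair]
    refine ⟨Submodule.mem_top, ?_, ?_⟩
    · rw [he₂, polar_add_right, polar_smul_right, polar_smul_right, pself Q ha.1, ha.2]
      simp
    · rw [he₂, polar_add_right, polar_smul_right, polar_smul_right, polar_comm Q f a, haf]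
      simp
  obtain ⟨f₂, hf₂N1, hQf₂, he₂f₂⟩ := exists_hyp_partner Q _ hN1 he₂N1 he₂0 hES.1
  have hN2 := perpPair_nd Q _ hN1 he₂N1 hf₂N1 hES.1 hQf₂ he₂f₂
  have hN2fr := perpPair_finrank Q _ he₂N1 hf₂N1 hES.1 hQf₂ he₂f₂
  obtain ⟨z, hzN2, hQz⟩ := universal Q hN2 (by omega) c
  rw [mem_perpPair, mem_perpPair] at hzN2
  obtain ⟨⟨-, haz, -⟩, he₂z, -⟩ := hzN2
  refine ⟨z, haz, ?_, hQz⟩
  rw [he₂, polar_add_left, polar_smul_left, polar_smul_left, haz, one_smul, smul_zero,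
    zero_add] at he₂z
  exact he₂z

/-- an element of `M` moving `p` off `p^⊥` -/
theorem exists_second {p : ι → F} (hp0 : p ≠ 0) (hp : ESing Q J p) :
    ∃ t ∈ M, polar Q p (toOG Q t p) ≠ 0 := by
  obtain ⟨a, ha0, ha, hpa, hJpa⟩ := exists_opp_esing hQ h hp0 hp
  obtain ⟨z, haz, hJaz, hQz⟩ := exists_eperp_value hQ hcard h ha0 ha 1
  obtain ⟨t, htM, ht⟩ := exists_es hQ hcard h hcm ha0 ha haz hJaz
  refine ⟨t, htM, ?_⟩
  have hap : polar Q a p = 0 := by rw [polar_comm]; exact hpa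
  have hs : polar Q (J *ᵥ a) p = polar Q (J *ᵥ p) a := by rw [h.sa, polar_comm]
  rw [ht, esMap_perp h hap]
  unfold egen
  simp only [polar_add_right, polar_sub_right, polar_smul_right, smul_eq_mul, pself Q hp.1, hpa,
    hQz, mul_zero, sub_zero, zero_add]
  have e1 : polar Q p (J *ᵥ a) = polar Q (J *ᵥ p) a := by rw [polar_comm, hs]
  rw [e1, hs, polar_comm Q z p]
  intro h0
  apply hJpa
  have : polar Q (J *ᵥ p) a * polar Q (J *ᵥ p) a = 0 := by linear_combination -h0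
  exact mul_self_eq_zero.1 this

/-- **BACK END**: from (LR) + (MV) to `M = Ω` -/
theorem eq_omega_of_LR (hle : M ≤ Cfsg.Omega F ⇑Q) {p y : ι → F} (hp0 : p ≠ 0)
    (hp : ESing Q J p) {m : ↥(Cfsg.isometryGroup F ⇑Q)} (hm : m ∈ M) (hmp : toOG Q m p = p)
    (hee' : polar Q (J *ᵥ p) (toOG Q m (J *ᵥ p)) ≠ 0)
    (hpy : polar Q p y = 0) (hyp : y ∉ Submodule.span F {p})
    (hg : ∃ g ∈ M, ∀ x, toOG Q g x = egen Q p y x) : M = Cfsg.Omega F ⇑Q := by
  have hG := good_of_LR hQ hcard h hcm h.two hp0 hp hm hmp hee' hpy hyp hg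
  obtain ⟨t, htM, htp⟩ := exists_second hQ hcard h hcm hp0 hp
  have hG' := good_smul Q htM hG
  rw [smul_mk'] at hG'
  exact eq_omega_of_all_good Q hQ hcard M hle
    (all_good_of_opposite Q hQ (by omega) M hG hG' (by rw [ort_mk']; exact htp))

end main

end Cfsg.Agent.Lib.Helper10.C3O42
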