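import Mathlib
import Cfsg.Prelude.Def_GeometricClasses
import Cfsg.Agent.Lib.Helper25.C3O2Defs
import Cfsg.Agent.Lib.Helper10.C3O42Back

/-!
helper10, C3O2 market (planner helper25): the back-end leaves W1 `w1_of_minus`, OPP `opp`, END `endgame`,
PROPER `proper`, NMEM `conj_not_mem` (exact signatures of notes/C3O2_leaves.lean), ported from
Cfsg/Agent/Lib/Helper10/C3O42*.lean.
-/

set_option autoImplicit false
set_option linter.unusedSectionVars false
set_option linter.unusedVariables false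

namespace Cfsg.Agent.Lib.Helper10.C3O2Leaf
open Matrix Module QuadraticMap Cfsg Cfsg.Geo Cfsg.Agent.Lib.Helper25.OEFsa
  Cfsg.Agent.Lib.Helper25.CD Cfsg.Agent.Lib.Helper25.Siegel
  Cfsg.Agent.Lib.Helper5.NSMax Cfsg.Agent.Lib.Helper5.TSMax Cfsg.Agent.Lib.Helper25.AutO
  Cfsg.Agent.Lib.Helper25.C3O2

variable {F : Type*} [Field F] [Fintype F] {E : Type*} [Field E] [Algebra F E] [FiniteDimensional F E]
  {ι : Type} [Fintype ι] [DecidableEq ι]
  {ρ : E →ₐ[F] Matrix ι ι F} {Q : QuadraticForm F (ι → F)} {B : (ι → F) → (ι → F) → E} {QE : (ι → F) → E}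
  {κ : E} {δ : F}

/-! ### translation `Kap`, `Forms` ⇒ `JS`, `ESing` -/

theorem kap_nsq (hκ : Kap (F := F) κ δ) (h2 : (2 : F) ≠ 0) (r : F) : r ^ 2 ≠ δ := by
  intro hr
  have h1 : (κ - algebraMap F E r) * (κ + algebraMap F E r) = 0 := by
    have : (κ - algebraMap F E r) * (κ + algebraMap F E r) = κ * κ - algebraMap F E (r ^ 2) := by
      rw [map_pow]; ring
    rw [this, hκ.sq, hr, sub_self]
  obtain ⟨s, hs⟩ : ∃ s : F, κ = algebraMap F E s + algebraMap F E 0 * κ := by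
    rcases mul_eq_zero.1 h1 with h | h
    · exact ⟨r, by rw [map_zero, zero_mul, add_zero]; exact sub_eq_zero.1 h⟩
    · exact ⟨-r, by rw [map_zero, zero_mul, add_zero, map_neg]; exact eq_neg_of_add_eq_zero_left h⟩
  have h4 := hκ.tr0
  rw [hs, hκ.tr_ab] at h4
  have hs0 : s = 0 := (mul_eq_zero.1 h4).resolve_left h2
  apply hκ.ne
  rw [hs, hs0, map_zero, zero_mul, add_zero]

theorem js_of_kap (h : Forms ρ Q B QE) (hκ : Kap (F := F) κ δ) (h2 : (2 : F) ≠ 0) :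
    Cfsg.Agent.Lib.Helper10.C3O42.JS Q (ρ κ) δ :=
  ⟨h2, J_J hκ, kap_nsq hκ h2, h.ctx.sa κ⟩

theorem polar_self_J' (h : Forms ρ Q B QE) {p : ι → F} (hp : QE p = 0) (κ : E) :
    polar Q p (ρ κ *ᵥ p) = 0 := by
  rw [polar_J_right h, h.B_self, hp, mul_zero, mul_zero, map_zero]

theorem esing_of_QE (h : Forms ρ Q B QE) {p : ι → F} (hp : QE p = 0) (κ : E) :
    Cfsg.Agent.Lib.Helper10.C3O42.ESing Q (ρ κ) p :=
  ⟨Q_of_QE h hp, polar_self_J' h hp κ⟩

theorem QE_of_esing (h : Forms ρ Q B QE) (hκ : Kap (F := F) κ δ) (h2 : (2 : F) ≠ 0) {p : ι → F}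
    (hp : Cfsg.Agent.Lib.Helper10.C3O42.ESing Q (ρ κ) p) : QE p = 0 := by
  apply hκ.eq_zero_of_tr h2
  · rw [h.tr_QE]; exact hp.1
  · have h1 := polar_J_right h κ p p
    rw [hp.2, h.B_self] at h1
    have e : κ * (2 * QE p) = (2 : F) • (κ * QE p) := by
      rw [Algebra.smul_def, map_ofNat]; ring
    rw [e, map_smul, smul_eq_mul] at h1
    exact (mul_eq_zero.1 h1.symm).resolve_left h2

theorem comb_eq_rho' (ρ : E →ₐ[F] Matrix ι ι F) (κ : E) (a b : F) (y : ι → F) :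
    a • y + b • (ρ κ *ᵥ y) = ρ (algebraMap F E a + algebraMap F E b * κ) *ᵥ y := by
  rw [rho_add_mulVec, rho_mul_mulVec, Algebra.algebraMap_eq_smul_one, Algebra.algebraMap_eq_smul_one,
    map_smul, map_smul, map_one, Matrix.smul_mulVec, Matrix.smul_mulVec, Matrix.one_mulVec,
    Matrix.one_mulVec]

/-! ### W1 -/

/-- W1 [S-M]: minus type over `F` gives `E`-Witt index one. (Else `E x + E y` is a totally singular `F`-space of dimension 4:
`Q (ρ a x + ρ b y) = tr (a² QE x + b² QE y + a b B x y) = 0`.) -/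
theorem w1_of_minus (h : Forms ρ Q B QE) (hE : finrank F E = 2) (hcard : Fintype.card ι = 8)
    (hminus : ¬ Cfsg.Geo.IsPlusTypeOn (⇑Q) ⊤) : W1 ρ B QE := by
  intro x y hx0 hx hy hxy
  by_contra hcon
  push Not at hcon
  apply hminus
  let φ : E × E →ₗ[F] (ι → F) :=
    { toFun := fun ab => ρ ab.1 *ᵥ x + ρ ab.2 *ᵥ y
      map_add' := by
        intro a b
        simp only [Prod.fst_add, Prod.snd_add, map_add, Matrix.add_mulVec]
        abel
      map_smul' := by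
        intro c a
        simp only [Prod.smul_fst, Prod.smul_snd, map_smul, Matrix.smul_mulVec, smul_add,
          RingHom.id_apply] }
  have hφ : ∀ a b : E, φ (a, b) = ρ a *ᵥ x + ρ b *ᵥ y := fun a b => rfl
  have hinj : Function.Injective φ := by
    rw [← LinearMap.ker_eq_bot, LinearMap.ker_eq_bot']
    rintro ⟨a, b⟩ hab
    rw [hφ] at hab
    have hb : b = 0 := by
      by_contra hb
      apply hcon (-(b⁻¹ * a))
      have h1 : ρ b *ᵥ y = ρ (-a) *ᵥ x := by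
        rw [rho_neg_mulVec]; exact eq_neg_of_add_eq_zero_right hab
      have h3 := congrArg (fun v => ρ b⁻¹ *ᵥ v) h1
      simp only [← rho_mul_mulVec, inv_mul_cancel₀ hb, rho_one_mulVec] at h3
      rw [h3]
      congr 2
      ring
    subst hb
    rw [rho_zero_mulVec, add_zero] at hab
    rcases rho_mulVec_eq_zero hab with h0 | h0
    · rw [h0]; rfl
    · exact absurd h0 hx0
  refine ⟨LinearMap.range φ, le_top, ?_, ?_⟩
  · rintro _ ⟨⟨a, b⟩, rfl⟩
    rw [hφ]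
    show Q _ = 0
    rw [h.Q_eq, h.QE_add, h.QE_smul, h.QE_smul, h.B_smul_left, h.B_smul_right, hx, hy, hxy]
    simp
  · rw [LinearMap.finrank_range_of_inj hinj, finrank_top, Module.finrank_prod, hE,
      Module.finrank_fintype_fun_eq_card, hcard]

/-! ### OPP -/

/-- OPP [S-M]: an `E`-Siegel map moving `p` to an opposite point (`a` = partner of `p`, `b ⟂ a, J a` with `Q b ≠ 0` by GEO:
`f(p, T p) = - tr (QE b * B(a,p)²) = - Q b`). -/
theorem opp (h : Forms ρ Q B QE) (hκ : Kap κ δ) (h2 : (2 : F) ≠ 0) (hE : finrank F E = 2) (hcard : 7 ≤ Fintype.card ι)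
    {p : ι → F} (hp0 : p ≠ 0) (hp : QE p = 0) :
    ∃ a b : ι → F, QE a = 0 ∧ B a b = 0 ∧ polar Q p (esF h a b p) ≠ 0 := by
  have hJS := js_of_kap h hκ h2
  have hnd := h.ctx.nd
  obtain ⟨a, ha0, ha, hpa, hJpa⟩ :=
    Cfsg.Agent.Lib.Helper10.C3O42.exists_opp_esing hnd hJS hp0 (esing_of_QE h hp κ)
  obtain ⟨z, haz, hJaz, hQz⟩ :=
    Cfsg.Agent.Lib.Helper10.C3O42.exists_eperp_value hnd hcard hJS ha0 ha 1
  have hQEa : QE a = 0 := QE_of_esing h hκ h2 ha
  have hBaz : B a z = 0 := (B_eq_zero_iff h hκ h2 a z).2 ⟨haz, hJaz⟩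
  refine ⟨a, z, hQEa, hBaz, ?_⟩
  -- `B a p = b₀ κ`
  obtain ⟨s₀, b₀, hsb⟩ := hκ.span (B a p)
  have hs0 : s₀ = 0 := by
    have h1 := h.tr_B a p
    rw [hsb, hκ.tr_ab, polar_comm, hpa] at h1
    exact (mul_eq_zero.1 h1).resolve_left h2
  have hb0 : b₀ ≠ 0 := by
    intro hb0
    apply hJpa
    rw [polar_J h, h.B_symm, hsb, hs0, hb0, map_zero, zero_mul, add_zero, mul_zero, map_zero]
  have hBap : B a p = algebraMap F E b₀ * κ := by rw [hsb, hs0, map_zero, zero_add]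
  have hsq : B a p * B a p = algebraMap F E (b₀ * b₀ * δ) := by
    rw [hBap, map_mul, map_mul, ← hκ.sq]; ring
  rw [esF_apply, polar_sub_right, polar_sub_right, polar_add_right, polar_J_right h, polar_J_right h,
    polar_J_right h, polar_self, Q_of_QE h hp, h.B_symm p z, h.B_symm p a]
  have e1 : QE z * B a p * B a p = (b₀ * b₀ * δ) • QE z := by
    rw [mul_assoc, hsq, Algebra.smul_def, mul_comm]
  have e2 : B a p * B z p = B z p * B a p := mul_comm _ _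
  rw [e1, e2, map_smul, h.tr_QE, hQz]
  simp only [smul_zero, zero_add, sub_self, zero_sub, smul_eq_mul, mul_one, ne_eq, neg_eq_zero]
  exact mul_ne_zero (mul_ne_zero hb0 hb0) hκ.delta_ne

/-! ### END -/

/-- END [S-M]: two opposite singular points all of whose Siegel elements lie in `M`: `M = Ω`
(`Helper5.NDMax.good_of_all`, `TSMax.all_good_of_opposite`, `TSMax.eq_omega_of_all_good` for `M.map (Omega F Q).subtype`). -/
theorem endgame (hnd : (polarBilin Q).Nondegenerate) (hn : 7 ≤ Fintype.card ι) (M : Subgroup ↥(Cfsg.Omega F ⇑Q))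
    {u u' : ι → F} (hu : Q u = 0) (hu' : Q u' = 0) (huu' : polar Q u u' ≠ 0)
    (hall : ∀ y, polar Q u y = 0 → y ∈ AA M u hu) (hall' : ∀ y, polar Q u' y = 0 → y ∈ AA M u' hu') : M = ⊤ := by
  have hu0 : u ≠ 0 := by
    rintro rfl
    simp at huu'
  have hu'0 : u' ≠ 0 := by
    rintro rfl
    simp at huu'
  obtain ⟨M', hM'⟩ : ∃ M' : Subgroup ↥(Cfsg.isometryGroup F ⇑Q),
      M' = M.map (Cfsg.Omega F ⇑Q).subtype := ⟨_, rfl⟩
  have hgood : ∀ (w : ι → F) (hw0 : w ≠ 0) (hw : Q w = 0),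
      (∀ y, polar Q w y = 0 → y ∈ AA M w hw) →
      Cfsg.Agent.Lib.Helper5.TSMax.Good Q M' (Cfsg.Agent.Lib.Helper25.PS.mk' Q w hw0 hw) := by
    intro w hw0 hw hallw
    refine Cfsg.Agent.Lib.Helper5.NDMax.good_of_all hw0 hw (fun v hv c => ?_)
    obtain ⟨-, m, hm, hmx⟩ := hallw (c • v) (by rw [polar_smul_right, hv, smul_zero])
    exact ⟨m.1, by rw [hM']; exact ⟨m, hm, rfl⟩, fun x => hmx x⟩
  have hG := hgood u hu0 hu hall
  have hG' := hgood u' hu'0 hu' hall'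
  have hle : M' ≤ Cfsg.Omega F ⇑Q := by
    rw [hM']
    rintro _ ⟨m, -, rfl⟩
    exact m.2
  have htop := Cfsg.Agent.Lib.Helper5.TSMax.eq_omega_of_all_good Q hnd hn M' hle
    (Cfsg.Agent.Lib.Helper5.TSMax.all_good_of_opposite Q hnd (by omega) M' hG hG'
      (by rw [Cfsg.Agent.Lib.Helper25.PS.ort_mk']; exact huu'))
  rw [eq_top_iff]
  intro m _
  have : (m : ↥(Cfsg.isometryGroup F ⇑Q)) ∈ M' := by rw [htop]; exact m.2
  rw [hM'] at this
  obtain ⟨m', hm', hmm'⟩ := this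
  have : m' = m := Subtype.ext hmm'
  rw [← this]
  exact hm'

/-! ### PROPER and NMEM -/

theorem rho_kap_sq (hκ : Kap (F := F) κ δ) (ρ : E →ₐ[F] Matrix ι ι F) :
    ρ κ * ρ κ = δ • (1 : Matrix ι ι F) := by
  rw [← map_mul, hκ.sq, Algebra.algebraMap_eq_smul_one, map_smul, map_one]

theorem range_gen (hκ : Kap (F := F) κ δ) (ρ : E →ₐ[F] Matrix ι ι F) :
    ∀ a ∈ ρ.range, ∃ s t : F, a = s • (1 : Matrix ι ι F) + t • ρ κ := by
  rintro _ ⟨x, rfl⟩
  obtain ⟨s, t, rfl⟩ := hκ.span x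
  refine ⟨s, t, ?_⟩
  show ρ _ = _
  rw [map_add, map_mul, Algebra.algebraMap_eq_smul_one, Algebra.algebraMap_eq_smul_one, map_smul,
    map_smul, map_one, Matrix.smul_mul, Matrix.one_mul]

/-- PROPER [M]: `Ω` is not contained in the normaliser of `K`. -/
theorem proper (h : Forms ρ Q B QE) (hκ : Kap κ δ) (h2 : (2 : F) ≠ 0) (hE : finrank F E = 2)
    (hcard : 7 ≤ Fintype.card ι) :
    ∃ g : ↥(Cfsg.Omega F ⇑Q), ((g : ↥(Cfsg.isometryGroup F ⇑Q)) : GL ι F) ∉ subalgebraNormalizer ρ.range := by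
  have hJS := js_of_kap h hκ h2
  have hne : Nonempty ι := Fintype.card_pos_iff.mp (by omega)
  obtain ⟨g, hgΩ, hg⟩ := Cfsg.Agent.Lib.Helper10.C3O42.exists_not_nrm hJS h.ctx.nd hcard
  refine ⟨⟨g, hgΩ⟩, fun hmem => hg ?_⟩
  exact (Cfsg.Agent.Lib.Helper10.C3O42.mem_normalizer_iff h2 ρ.range ⟨κ, rfl⟩ (rho_kap_sq hκ ρ)
    (kap_nsq hκ h2) (range_gen hκ ρ) _).1 hmem

/-- NMEM [S-M]: an element conjugating `J = ρ κ` into `K` normalises `K = F[J]`. -/
theorem conj_not_mem (hκ : Kap κ δ) (hinj : Function.Injective ρ) (g : GL ι F)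
    (hg : g ∉ subalgebraNormalizer ρ.range) (k : E) :
    ((g⁻¹ : GL ι F) : Matrix ι ι F) * ρ κ * (g : Matrix ι ι F) ≠ ρ k := by
  intro hk
  apply hg
  have hgi : (g : Matrix ι ι F) * ((g⁻¹ : GL ι F) : Matrix ι ι F) = 1 := by
    rw [← Units.val_mul, mul_inv_cancel]; rfl
  have hig : ((g⁻¹ : GL ι F) : Matrix ι ι F) * (g : Matrix ι ι F) = 1 := by
    rw [← Units.val_mul, inv_mul_cancel]; rfl
  -- `k² = κ²`, so `k = ± κ`
  have hkk : ρ (k * k) = ρ (κ * κ) := by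
    rw [map_mul, ← hk, map_mul]
    calc ((g⁻¹ : GL ι F) : Matrix ι ι F) * ρ κ * (g : Matrix ι ι F) *
          (((g⁻¹ : GL ι F) : Matrix ι ι F) * ρ κ * (g : Matrix ι ι F))
        = ((g⁻¹ : GL ι F) : Matrix ι ι F) * (ρ κ * ((g : Matrix ι ι F) *
          ((g⁻¹ : GL ι F) : Matrix ι ι F)) * ρ κ) * (g : Matrix ι ι F) := by
          simp only [Matrix.mul_assoc]
      _ = ((g⁻¹ : GL ι F) : Matrix ι ι F) * (ρ κ * ρ κ) * (g : Matrix ι ι F) := by
          rw [hgi, Matrix.mul_one]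
      _ = ρ κ * ρ κ := by
          rw [rho_kap_sq hκ ρ, Matrix.mul_smul, Matrix.smul_mul, Matrix.mul_one, hig]
  have hkk' : (k - κ) * (k + κ) = 0 := by
    have := hinj hkk
    linear_combination this
  have hpm : ((g⁻¹ : GL ι F) : Matrix ι ι F) * ρ κ * (g : Matrix ι ι F) = ρ κ ∨
      ((g⁻¹ : GL ι F) : Matrix ι ι F) * ρ κ * (g : Matrix ι ι F) = -ρ κ := by
    rcases mul_eq_zero.1 hkk' with h0 | h0
    · left; rw [hk, sub_eq_zero.1 h0]
    · right; rw [hk, eq_neg_of_add_eq_zero_left h0, map_neg]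
  -- hence `g ρ κ g⁻¹ = ± ρ κ`
  have hpm' : (g : Matrix ι ι F) * ρ κ * ((g⁻¹ : GL ι F) : Matrix ι ι F) = ρ κ ∨
      (g : Matrix ι ι F) * ρ κ * ((g⁻¹ : GL ι F) : Matrix ι ι F) = -ρ κ := by
    have e : ∀ X : Matrix ι ι F, (g : Matrix ι ι F) *
        (((g⁻¹ : GL ι F) : Matrix ι ι F) * X * (g : Matrix ι ι F)) *
          ((g⁻¹ : GL ι F) : Matrix ι ι F) = X := by
      intro X
      calc (g : Matrix ι ι F) * (((g⁻¹ : GL ι F) : Matrix ι ι F) * X * (g : Matrix ι ι F)) *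
            ((g⁻¹ : GL ι F) : Matrix ι ι F)
          = ((g : Matrix ι ι F) * ((g⁻¹ : GL ι F) : Matrix ι ι F)) * X *
            ((g : Matrix ι ι F) * ((g⁻¹ : GL ι F) : Matrix ι ι F)) := by
            simp only [Matrix.mul_assoc]
        _ = X := by rw [hgi, Matrix.one_mul, Matrix.mul_one]
    rcases hpm with h0 | h0
    · left
      have := e (ρ κ)
      rw [h0] at this
      exact this
    · right
      have := e (ρ κ)
      rw [h0, Matrix.mul_neg, Matrix.neg_mul] at this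
      exact neg_eq_iff_eq_neg.1 this
  exact Cfsg.Agent.Lib.Helper10.C3O42.mem_normalizer_of_nrm ρ.range ⟨κ, rfl⟩ (range_gen hκ ρ) g hpm'

end Cfsg.Agent.Lib.Helper10.C3O2Leaf
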