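import Mathlib
import Cfsg.Prelude.Def_GeometricClasses
import Cfsg.Agent.Lib.Helper25.C3O2Defs
import Cfsg.Agent.Lib.Helper5.NDMax

/-!
helper10, C3O2 market (planner helper25), leaf IRR `irr` (exact signature of notes/C3O2_leaves.lean).
Characteristic free, `5 ≤ card ι`: the polarisation `b, b', b + b'` replaces the `±b` trick.
-/

set_option autoImplicit false
set_option linter.unusedSectionVars false
set_option linter.unusedVariables false

namespace Cfsg.Agent.Lib.Helper10.C3O2Leaf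
open Matrix Module QuadraticMap Cfsg Cfsg.Geo Cfsg.Agent.Lib.Helper25.OEFsa
  Cfsg.Agent.Lib.Helper25.CD Cfsg.Agent.Lib.Helper25.Siegel
  Cfsg.Agent.Lib.Helper5.NSMax Cfsg.Agent.Lib.Helper5.TSMax Cfsg.Agent.Lib.Helper25.AutO
  Cfsg.Agent.Lib.Helper25.C3O2

variable {F : Type*} [Field F] [Fintype F] {E : Type*} [Field E] [Algebra F E] [FiniteDimensional F E]
  {ι : Type} [Fintype ι] [DecidableEq ι]
  {ρ : E →ₐ[F] Matrix ι ι F} {Q : QuadraticForm F (ι → F)} {B : (ι → F) → (ι → F) → E} {QE : (ι → F) → E}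
  {κ : E} {δ : F}

open Cfsg.Agent.Lib.Helper15 Cfsg.Agent.Lib.Helper25.OGeom Cfsg.Agent.Lib.Helper5.NDMax in
/-- two vectors of `⟨p, e, e'⟩^⊥` which are not perpendicular -/
theorem exists_perp3_pair (hQ : (polarBilin Q).Nondegenerate) (hn : 5 ≤ Fintype.card ι)
    {p e e' : ι → F} (hp0 : p ≠ 0) (hp : Q p = 0) (he : Q e = 0) (he' : Q e' = 0)
    (hpe : polar Q p e = 0) (hpe' : polar Q p e' = 0) (hee' : polar Q e e' ≠ 0) :
    ∃ b b', polar Q p b = 0 ∧ polar Q e b = 0 ∧ polar Q e' b = 0 ∧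
      polar Q p b' = 0 ∧ polar Q e b' = 0 ∧ polar Q e' b' = 0 ∧ polar Q b b' ≠ 0 := by
  obtain ⟨e'', he''⟩ : ∃ e'', e'' = (polar Q e e')⁻¹ • e' := ⟨_, rfl⟩
  have hQe'' : Q e'' = 0 := by rw [he'', QuadraticMap.map_smul, he', smul_zero]
  have hee'' : polar Q e e'' = 1 := by
    rw [he'', polar_smul_right, smul_eq_mul, inv_mul_cancel₀ hee']
  have hN1 := perpPair_nd Q ⊤ (ndOn_top Q hQ) (e := e) (f := e'') Submodule.mem_top
    Submodule.mem_top he hQe'' hee''
  have hN1fr := perpPair_finrank Q ⊤ (e := e) (f := e'') Submodule.mem_top Submodule.mem_top he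
    hQe'' hee''
  rw [finrank_top, Module.finrank_fintype_fun_eq_card] at hN1fr
  have hpN1 : p ∈ perpPair Q ⊤ e e'' := by
    rw [mem_perpPair]
    refine ⟨Submodule.mem_top, by rw [polar_comm]; exact hpe, ?_⟩
    rw [he'', polar_smul_left, polar_comm Q e' p, hpe', smul_zero]
  obtain ⟨f, hfN1, hQf, hpf⟩ := exists_hyp_partner Q _ hN1 hpN1 hp0 hp
  have hN2 := perpPair_nd Q _ hN1 hpN1 hfN1 hp hQf hpf
  have hN2fr := perpPair_finrank Q _ hpN1 hfN1 hp hQf hpf
  have hpos : 0 < finrank F ↥(perpPair Q (perpPair Q ⊤ e e'') p f) := by omega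
  obtain ⟨⟨b, hbN2⟩, hb0⟩ := Module.finrank_pos_iff_exists_ne_zero.1 hpos
  have hb0' : b ≠ 0 := fun h0 => hb0 (Subtype.ext h0)
  obtain ⟨b', hb'N2, hbb'⟩ : ∃ b' ∈ perpPair Q (perpPair Q ⊤ e e'') p f, polar Q b b' ≠ 0 := by
    by_contra hcon
    push Not at hcon
    exact hb0' (hN2 b hbN2 hcon)
  have key : ∀ x ∈ perpPair Q (perpPair Q ⊤ e e'') p f,
      polar Q p x = 0 ∧ polar Q e x = 0 ∧ polar Q e' x = 0 := by
    intro x hx
    rw [mem_perpPair, mem_perpPair] at hx
    obtain ⟨⟨-, hex, he''x⟩, hpx, -⟩ := hx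
    refine ⟨hpx, hex, ?_⟩
    rw [he'', polar_smul_left, smul_eq_mul] at he''x
    exact (mul_eq_zero.1 he''x).resolve_left (inv_ne_zero hee')
  obtain ⟨h1, h2, h3⟩ := key b hbN2
  obtain ⟨h1', h2', h3'⟩ := key b' hb'N2
  exact ⟨b, b', h1, h2, h3, h1', h2', h3', hbb'⟩

/-- the case where `A` contains a vector not perpendicular to `e` -/
theorem irr_aux (hQ : (polarBilin Q).Nondegenerate) (hn : 5 ≤ Fintype.card ι)
    {p e e' : ι → F} (hp0 : p ≠ 0) (hp : Q p = 0) (he : Q e = 0) (he' : Q e' = 0)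
    (hpe : polar Q p e = 0) (hpe' : polar Q p e' = 0) (hee' : polar Q e e' ≠ 0)
    (A : AddSubgroup (ι → F))
    (hinv : ∀ z, polar Q p z = 0 → polar Q e z = 0 → ∀ y ∈ A, egen Q e z y ∈ A)
    (hinv' : ∀ z, polar Q p z = 0 → polar Q e' z = 0 → ∀ y ∈ A, egen Q e' z y ∈ A)
    {y : ι → F} (hyA : y ∈ A) (hey : polar Q e y ≠ 0) :
    ∀ v, polar Q p v = 0 → v ∈ A := by
  have he'e : polar Q e' e ≠ 0 := by rw [polar_comm]; exact hee'
  obtain ⟨b, b', hpb, heb, he'b, hpb', heb', he'b', hbb'⟩ :=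
    exists_perp3_pair hQ hn hp0 hp he he' hpe hpe' hee'
  have hQadd : ∀ l : F, Q (l • b + b') = l * l * Q b + Q b' + l * polar Q b b' := by
    intro l
    rw [Cfsg.Agent.Lib.Helper25.MaxTS.Q_add, QuadraticMap.map_smul, polar_smul_left]
    simp only [smul_eq_mul]
  -- (a) `F e ⊆ A`
  have ha : ∀ c : F, c • e ∈ A := by
    intro c
    obtain ⟨l, hl⟩ : ∃ l, l = -c / (polar Q e y * polar Q b b') := ⟨_, rfl⟩
    have hz1 : polar Q p (l • b) = 0 := by rw [polar_smul_right, hpb, smul_zero]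
    have hz2 : polar Q e (l • b) = 0 := by rw [polar_smul_right, heb, smul_zero]
    have h1 := hinv (l • b + b') (by rw [polar_add_right, hz1, hpb', add_zero])
      (by rw [polar_add_right, hz2, heb', add_zero]) y hyA
    have h2 := hinv (l • b) hz1 hz2 y hyA
    have h3 := hinv b' hpb' heb' y hyA
    have h4 : egen Q e (l • b + b') y - egen Q e (l • b) y - egen Q e b' y + y ∈ A :=
      A.add_mem (A.sub_mem (A.sub_mem h1 h2) h3) hyA
    have e1 : egen Q e (l • b + b') y - egen Q e (l • b) y - egen Q e b' y + y = c • e := by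
      unfold egen
      rw [hQadd, QuadraticMap.map_smul, polar_add_left, polar_smul_left]
      simp only [smul_eq_mul]
      have hc : c = -(l * polar Q b b' * polar Q e y) := by
        rw [hl]
        field_simp
      rw [hc]
      module
    rw [e1] at h4
    exact h4
  -- (b) `Y ⊆ A`
  have hb : ∀ b, polar Q p b = 0 → polar Q e b = 0 → b ∈ A := by
    intro b hpb heb
    have h1 := hinv ((polar Q e y)⁻¹ • b) (by rw [polar_smul_right, hpb, smul_zero])
      (by rw [polar_smul_right, heb, smul_zero]) y hyA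
    have h3 : egen Q e ((polar Q e y)⁻¹ • b) y - y +
        (polar Q ((polar Q e y)⁻¹ • b) y + Q ((polar Q e y)⁻¹ • b) * polar Q e y) • e ∈ A :=
      A.add_mem (A.sub_mem h1 hyA) (ha _)
    have e1 : egen Q e ((polar Q e y)⁻¹ • b) y - y +
        (polar Q ((polar Q e y)⁻¹ • b) y + Q ((polar Q e y)⁻¹ • b) * polar Q e y) • e = b := by
      unfold egen
      have : polar Q e y • (polar Q e y)⁻¹ • b = b := by
        rw [smul_smul, mul_inv_cancel₀ hey, one_smul]
      rw [this]
      module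
    rw [e1] at h3
    exact h3
  -- (c) `F e' ⊆ A`
  have hc : ∀ c : F, c • e' ∈ A := by
    intro c
    obtain ⟨l, hl⟩ : ∃ l, l = -c / (polar Q e' e * polar Q b b') := ⟨_, rfl⟩
    have heA : e ∈ A := by
      have := ha 1
      rwa [one_smul] at this
    have hz1 : polar Q p (l • b) = 0 := by rw [polar_smul_right, hpb, smul_zero]
    have hz2 : polar Q e' (l • b) = 0 := by rw [polar_smul_right, he'b, smul_zero]
    have h1 := hinv' (l • b + b') (by rw [polar_add_right, hz1, hpb', add_zero])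
      (by rw [polar_add_right, hz2, he'b', add_zero]) e heA
    have h2 := hinv' (l • b) hz1 hz2 e heA
    have h3 := hinv' b' hpb' he'b' e heA
    have h4 : egen Q e' (l • b + b') e - egen Q e' (l • b) e - egen Q e' b' e + e ∈ A :=
      A.add_mem (A.sub_mem (A.sub_mem h1 h2) h3) heA
    have e1 : egen Q e' (l • b + b') e - egen Q e' (l • b) e - egen Q e' b' e + e = c • e' := by
      unfold egen
      rw [hQadd, QuadraticMap.map_smul, polar_add_left, polar_smul_left]
      simp only [smul_eq_mul]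
      have hc : c = -(l * polar Q b b' * polar Q e' e) := by
        rw [hl]
        field_simp
      rw [hc]
      module
    rw [e1] at h4
    exact h4
  -- (d) decomposition
  intro v hv
  have hbv : v - (polar Q e' v / polar Q e e') • e - (polar Q e v / polar Q e e') • e' ∈ A := by
    apply hb
    · rw [polar_sub_right, polar_sub_right, polar_smul_right, polar_smul_right, hv, hpe, hpe']
      simp
    · rw [polar_sub_right, polar_sub_right, polar_smul_right, polar_smul_right,
        Cfsg.Agent.Lib.Helper5.TSMax.pself Q he]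
      simp only [smul_eq_mul]
      rw [div_mul_cancel₀ _ hee']
      ring
  have := A.add_mem (A.add_mem hbv (ha (polar Q e' v / polar Q e e')))
    (hc (polar Q e v / polar Q e e'))
  have e1 : v - (polar Q e' v / polar Q e e') • e - (polar Q e v / polar Q e e') • e' +
      (polar Q e' v / polar Q e e') • e + (polar Q e v / polar Q e e') • e' = v := by abel
  rw [e1] at this
  exact this

/-- IRR [M]: pure quadratic-space lemma (any finite field, `n ≥ 5`): an additive subgroup of `p^⊥` containing `F p`, invariant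
under the Siegel maps at two opposite singular points `e, e'` of `p^⊥`, and not contained in `F p`, is all of `p^⊥`. Plan §IRR. -/
theorem irr (hnd : (polarBilin Q).Nondegenerate) (hn : 5 ≤ Fintype.card ι) (A : AddSubgroup (ι → F))
    {p e e' : ι → F} (hp0 : p ≠ 0) (hp : Q p = 0) (he : Q e = 0) (he' : Q e' = 0) (hpe : polar Q p e = 0)
    (hpe' : polar Q p e' = 0) (hee' : polar Q e e' ≠ 0) (hAp : ∀ c : F, c • p ∈ A)
    (hAle : ∀ y ∈ A, polar Q p y = 0)
    (hinv : ∀ b, polar Q p b = 0 → polar Q e b = 0 → ∀ y ∈ A, egen Q e b y ∈ A)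
    (hinv' : ∀ b, polar Q p b = 0 → polar Q e' b = 0 → ∀ y ∈ A, egen Q e' b y ∈ A)
    (y0 : ι → F) (hy0 : y0 ∈ A) (hy0p : ∀ c : F, y0 ≠ c • p) : ∀ y, polar Q p y = 0 → y ∈ A := by
  have he'e : polar Q e' e ≠ 0 := by rw [polar_comm]; exact hee'
  by_cases h1 : polar Q e y0 = 0
  swap
  · exact irr_aux hnd hn hp0 hp he he' hpe hpe' hee' A hinv hinv' hy0 h1
  by_cases h1' : polar Q e' y0 = 0
  swap
  · exact irr_aux hnd hn hp0 hp he' he hpe' hpe he'e A hinv' hinv hy0 h1'
  have hyP : y0 ∉ Submodule.span F {p, e} := by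
    intro hmem
    obtain ⟨a, b, hab⟩ := Submodule.mem_span_pair.1 hmem
    have hb0 : b = 0 := by
      have : polar Q e' y0 = b * polar Q e' e := by
        rw [← hab, polar_add_right, polar_smul_right, polar_smul_right, polar_comm Q e' p, hpe']
        simp
      rw [h1'] at this
      exact (mul_eq_zero.1 this.symm).resolve_right he'e
    apply hy0p a
    rw [← hab, hb0, zero_smul, add_zero]
  obtain ⟨z, -, hz1, hz2⟩ := Cfsg.Agent.Lib.Helper5.NDMax.exists_dual_nd Q
    (Cfsg.Agent.Lib.Helper15.ndOn_top Q hnd) (P := Submodule.span F {p, e})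
    (y := y0) Submodule.mem_top hyP
  have hzp : polar Q p z = 0 := by
    rw [polar_comm]
    exact hz1 p (Submodule.subset_span (by simp)) Submodule.mem_top
  have hze : polar Q e z = 0 := by
    rw [polar_comm]
    exact hz1 e (Submodule.subset_span (by simp)) Submodule.mem_top
  have h3 : y0 - egen Q e z y0 ∈ A := A.sub_mem hy0 (hinv z hzp hze y0 hy0)
  have e1 : y0 - egen Q e z y0 = e := by
    unfold egen
    rw [h1, hz2]
    module
  rw [e1] at h3
  exact irr_aux hnd hn hp0 hp he' he hpe' hpe he'e A hinv' hinv h3 he'e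

end Cfsg.Agent.Lib.Helper10.C3O2Leaf
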