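import Mathlib
import Cfsg.Prelude.Def_GeometricClasses
import Cfsg.Agent.Lib.Helper25.C3O2Defs

/-!
helper10, C3O2 market (planner helper25): leaf KAP `exists_kappa` (exact signature of notes/C3O2_leaves.lean).
-/

set_option autoImplicit false
set_option linter.unusedSectionVars false
set_option linter.unusedVariables false

namespace Cfsg.Agent.Lib.Helper10.C3O2Leaf
open Matrix Module QuadraticMap Cfsg Cfsg.Geo Cfsg.Agent.Lib.Helper25.OEFsa
  Cfsg.Agent.Lib.Helper25.CD Cfsg.Agent.Lib.Helper25.Siegel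
  Cfsg.Agent.Lib.Helper5.NSMax Cfsg.Agent.Lib.Helper5.TSMax Cfsg.Agent.Lib.Helper25.AutO
  Cfsg.Agent.Lib.Helper25.C3O2

variable {F : Type*} [Field F] [Fintype F] {E : Type*} [Field E] [Algebra F E] [FiniteDimensional F E]
  {ι : Type} [Fintype ι] [DecidableEq ι]
  {ρ : E →ₐ[F] Matrix ι ι F} {Q : QuadraticForm F (ι → F)} {B : (ι → F) → (ι → F) → E} {QE : (ι → F) → E}
  {κ : E} {δ : F}

/-- KAP [S]: a trace-zero generator. (`E = F ⊕ F κ`: take any `x ∉ F`, `κ = x - tr(x)/2`; `κ² ∈ F` e.g. by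
`Algebra.trace_eq_matrix_trace` on the basis `1, κ`, or Cayley-Hamilton.) -/
theorem exists_kappa (h2 : (2 : F) ≠ 0) (hE : finrank F E = 2) : ∃ (κ : E) (δ : F), Kap (F := F) κ δ := by
  classical
  obtain ⟨x, hx⟩ : ∃ x : E, x ∉ Submodule.span F {(1 : E)} := by
    by_contra hcon
    push Not at hcon
    have htop : Submodule.span F {(1 : E)} = ⊤ := by
      rw [eq_top_iff]
      intro x _
      exact hcon x
    have h1 : finrank F (Submodule.span F {(1 : E)}) ≤ 1 := by
      have := finrank_span_le_card (R := F) ({(1 : E)} : Set E)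
      simpa using this
    rw [htop, finrank_top, hE] at h1
    omega
  have h1ne : (1 : E) ≠ 0 := one_ne_zero
  have hli : LinearIndependent F ![(1 : E), x] := by
    rw [LinearIndependent.pair_iff' h1ne]
    intro a ha
    apply hx
    rw [← ha]
    exact Submodule.smul_mem _ _ (Submodule.subset_span rfl)
  have hcard : Fintype.card (Fin 2) = finrank F E := by rw [hE]; rfl
  let b := basisOfLinearIndependentOfCardEqFinrank hli hcard
  have hb : ⇑b = ![(1 : E), x] := coe_basisOfLinearIndependentOfCardEqFinrank hli hcard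
  have hrep : ∀ a : E, ∃ s t : F, a = s • (1 : E) + t • x := by
    intro a
    refine ⟨b.repr a 0, b.repr a 1, ?_⟩
    have := b.sum_repr a
    rw [Fin.sum_univ_two, hb] at this
    simpa using this.symm
  obtain ⟨c0, c1, hxx⟩ := hrep (x * x)
  obtain ⟨k, hk⟩ : ∃ k : E, k = x - (c1 / 2) • (1 : E) := ⟨_, rfl⟩
  obtain ⟨d, hd⟩ : ∃ d : F, d = c0 + c1 ^ 2 / 4 := ⟨_, rfl⟩
  have h4 : (4 : F) ≠ 0 := by
    have : (4 : F) = 2 * 2 := by norm_num
    rw [this]
    exact mul_ne_zero h2 h2
  have hkk : k * k = d • (1 : E) := by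
    rw [hk, sub_mul, mul_sub, mul_sub, hxx, hd]
    simp only [smul_mul_assoc, mul_smul_comm, one_mul, mul_one, smul_smul, sub_smul, add_smul]
    have e1 : c1 / 2 * (c1 / 2) = c1 ^ 2 / 4 := by field_simp; ring
    have e2 : c1 = c1 / 2 + c1 / 2 := by field_simp; ring
    rw [e1]
    nth_rewrite 1 [e2]
    rw [add_smul]
    abel
  have hxk : x = k + (c1 / 2) • (1 : E) := by rw [hk]; abel
  have hknot : ∀ s : F, k ≠ s • (1 : E) := by
    intro s hs
    apply hx
    rw [hxk, hs, ← add_smul]
    exact Submodule.smul_mem _ _ (Submodule.subset_span rfl)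
  have hli' : LinearIndependent F ![(1 : E), k] := by
    rw [LinearIndependent.pair_iff' h1ne]
    intro a ha
    exact hknot a ha.symm
  let b' := basisOfLinearIndependentOfCardEqFinrank hli' hcard
  have hb' : ⇑b' = ![(1 : E), k] := coe_basisOfLinearIndependentOfCardEqFinrank hli' hcard
  have hb'0 : b' 0 = 1 := by rw [hb']; rfl
  have hb'1 : b' 1 = k := by rw [hb']; rfl
  have htr : Algebra.trace F E k = 0 := by
    rw [Algebra.trace_eq_matrix_trace b', Matrix.trace, Fin.sum_univ_two]
    simp only [Matrix.diag_apply, Algebra.leftMulMatrix_eq_repr_mul]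
    have e0 : k * b' 0 = b' 1 := by rw [hb'0, hb'1, mul_one]
    have e1 : k * b' 1 = d • b' 0 := by rw [hb'0, hb'1, hkk]
    rw [e0, e1, map_smul, b'.repr_self, b'.repr_self]
    simp
  have htr1 : Algebra.trace F E (1 : E) = 2 := by
    have := Algebra.trace_algebraMap (S := E) (1 : F)
    rw [map_one, hE] at this
    rw [this]
    simp
  refine ⟨k, d, ?_, htr, ?_, ?_, htr1⟩
  · intro h0
    apply hknot 0
    rw [h0, zero_smul]
  · rw [hkk, Algebra.algebraMap_eq_smul_one]
  · intro a
    obtain ⟨s, t, hst⟩ := hrep a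
    refine ⟨s + t * (c1 / 2), t, ?_⟩
    rw [hst, hxk, Algebra.algebraMap_eq_smul_one, Algebra.algebraMap_eq_smul_one, smul_mul_assoc,
      one_mul, smul_add, smul_smul, add_smul]
    abel

end Cfsg.Agent.Lib.Helper10.C3O2Leaf
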