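import Mathlib
import Cfsg.Prelude.Def_GeometricClasses
import Cfsg.Agent.Lib.Helper25.C3O2Defs
import Cfsg.Agent.Lib.Helper25.OEFsaH1
import Cfsg.Agent.Lib.Helper25.C3O2SK
import Cfsg.Agent.Lib.Helper25.C3O2Modp
import Cfsg.Agent.Lib.Helper25.C3O2S4B
import Cfsg.Agent.Lib.Helper9.C3O2MOVE
import Cfsg.Agent.Lib.Helper9.C3O2S4D
import Cfsg.Agent.Lib.Helper1.C3O2S4A
import Cfsg.Agent.Lib.Helper1.C3O2S4E
import Cfsg.Agent.Lib.Helper10.C3O2IRR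
import Cfsg.Agent.Lib.Helper10.C3O2Back
import Cfsg.Agent.Lib.Helper10.C3O2KAP

/-!
C3O2 (planner helper25): `O_4^-(q^2).2 < Ω_8^-(q)`, `q` odd (S5825 conjunct (7)) - the ASSEMBLY of
notes/C3O2_leaves.lean (helper25's text, verbatim) on the landed leaf modules
(helper25 SK MODP S4B, helper9 MOVE S4D, helper1 S4A S4E, helper6 S4C, helper22 tools, helper10 back end).
Hedge copy assembled by helper10.
-/

set_option autoImplicit false
set_option linter.unusedSectionVars false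
set_option linter.unusedVariables false

/-! ## ASSEMBLY (helper25) -/

namespace Cfsg.Agent.Lib.Helper10.C3O2Asm
open Matrix Module QuadraticMap Cfsg Cfsg.Geo Cfsg.Agent.Lib.Helper25.OEFsa
  Cfsg.Agent.Lib.Helper25.CD Cfsg.Agent.Lib.Helper25.Siegel
  Cfsg.Agent.Lib.Helper5.NSMax Cfsg.Agent.Lib.Helper5.TSMax Cfsg.Agent.Lib.Helper25.AutO
  Cfsg.Agent.Lib.Helper25.C3O2
open Cfsg.Agent.Lib.Helper25.C3O2Leaf (sk modp t_on_W)
open Cfsg.Agent.Lib.Helper9.C3O2Leaf (move h_exists)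
open Cfsg.Agent.Lib.Helper1.C3O2Leaf (t_modp z_exists)
open Cfsg.Agent.Lib.Helper10.C3O2Leaf (irr opp endgame proper conj_not_mem w1_of_minus exists_kappa)

variable {F : Type*} [Field F] [Fintype F] {E : Type*} [Field E] [Algebra F E] [FiniteDimensional F E]
  {ι : Type} [Fintype ι] [DecidableEq ι]
  {ρ : E →ₐ[F] Matrix ι ι F} {Q : QuadraticForm F (ι → F)} {B : (ι → F) → (ι → F) → E} {QE : (ι → F) → E}
  {κ : E} {δ : F}

theorem smulF_eq_rho (ρ : E →ₐ[F] Matrix ι ι F) (c : F) (y : ι → F) : c • y = ρ (algebraMap F E c) *ᵥ y := by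
  rw [Algebra.algebraMap_eq_smul_one, map_smul, map_one, Matrix.smul_mulVec, Matrix.one_mulVec]

theorem comb_eq_rho (ρ : E →ₐ[F] Matrix ι ι F) (κ : E) (a b : F) (y : ι → F) :
    a • y + b • (ρ κ *ᵥ y) = ρ (algebraMap F E a + algebraMap F E b * κ) *ᵥ y := by
  rw [rho_add_mulVec, rho_mul_mulVec, ← smulF_eq_rho, ← smulF_eq_rho]

theorem comb_ne_zero (hκ : Kap (F := F) κ δ) (h2 : (2 : F) ≠ 0) {a b : F} (hab : a ≠ 0 ∨ b ≠ 0) :
    algebraMap F E a + algebraMap F E b * κ ≠ 0 := by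
  intro h0
  have h1 := hκ.tr_ab a b
  have h3 := hκ.tr_kap_ab a b
  rw [h0, map_zero] at h1
  rw [h0, mul_zero, map_zero] at h3
  have ha : a = 0 := by
    rcases mul_eq_zero.1 h1.symm with h | h
    · exact absurd h h2
    · exact h
  have hb : b = 0 := by
    rcases mul_eq_zero.1 h3.symm with h | h
    · rcases mul_eq_zero.1 h with h' | h'
      · exact absurd h' h2
      · exact h'
    · exact absurd h hκ.delta_ne
  rcases hab with h | h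
  · exact h ha
  · exact h hb

theorem act_mulVec (g : ↥(Cfsg.Omega F ⇑Q)) (x : ι → F) :
    act Q g x = (((g : ↥(Cfsg.isometryGroup F ⇑Q)) : GL ι F) : Matrix ι ι F) *ᵥ x := rfl

theorem polar_self_J (h : Forms ρ Q B QE) {p : ι → F} (hp : QE p = 0) (κ : E) : polar Q p (ρ κ *ᵥ p) = 0 := by
  rw [polar_J_right h, h.B_self, hp, mul_zero, mul_zero, map_zero]

/-- (S1) -/
theorem s1 (h : Forms ρ Q B QE) (hκ : Kap κ δ) {M : Subgroup ↥(Cfsg.Omega F ⇑Q)} (C : Ctx h M)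
    (g₀ : ↥(Cfsg.Omega F ⇑Q)) (hg₀ : g₀ ∈ M)
    (hn : ∀ k : E, (((g₀ : ↥(Cfsg.isometryGroup F ⇑Q)) : GL ι F)⁻¹ : GL ι F).1 * ρ κ *
      (((g₀ : ↥(Cfsg.isometryGroup F ⇑Q)) : GL ι F) : Matrix ι ι F) ≠ ρ k) :
    ∃ g ∈ M, ∃ p : ι → F, p ≠ 0 ∧ QE p = 0 ∧ act Q g p = p ∧
      polar Q (act Q g (ρ κ *ᵥ p)) (ρ κ *ᵥ p) ≠ 0 := by
  have h2 := C.two
  have hcard7 : 7 ≤ Fintype.card ι := by rw [C.card]; norm_num
  obtain ⟨G, hG⟩ : ∃ G : GL ι F, G = ((g₀ : ↥(Cfsg.isometryGroup F ⇑Q)) : GL ι F) := ⟨_, rfl⟩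
  rw [← hG] at hn
  have hact : ∀ x, act Q g₀ x = (G : Matrix ι ι F) *ᵥ x := fun x => by rw [hG]; rfl
  obtain ⟨A, hA⟩ : ∃ A : Matrix ι ι F, A = (G⁻¹ : GL ι F).1 * ρ κ * (G : Matrix ι ι F) := ⟨_, rfl⟩
  have hGA : (G : Matrix ι ι F) * A = ρ κ * (G : Matrix ι ι F) := by
    rw [hA, ← mul_assoc, ← mul_assoc]
    have : (G : Matrix ι ι F) * (G⁻¹ : GL ι F).1 = 1 := by
      rw [← Units.val_mul, mul_inv_cancel, Units.val_one]
    rw [this, one_mul]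
  -- the point from SK
  obtain ⟨p₁, hp₁0, hp₁, hAp⟩ : ∃ p₁ : ι → F, p₁ ≠ 0 ∧ QE p₁ = 0 ∧ ∀ a : E, A *ᵥ p₁ ≠ ρ a *ᵥ p₁ := by
    by_contra hcon
    push Not at hcon
    obtain ⟨k, hk⟩ := sk h h2 C.rank hcard7 C.w1 A hcon
    exact hn k (hA ▸ hk)
  have hQp₁ : Q p₁ = 0 := Q_of_QE h hp₁
  obtain ⟨x, hx⟩ : ∃ x, x = act Q g₀ p₁ := ⟨_, rfl⟩
  obtain ⟨y, hy⟩ : ∃ y, y = act Q g₀ (ρ κ *ᵥ p₁) := ⟨_, rfl⟩
  have hQx : Q x = 0 := by rw [hx, Q_act, hQp₁]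
  have hQy : Q y = 0 := by rw [hy, Q_act, Q_J h hκ, hQp₁, mul_zero]
  have hxy : polar Q x y = 0 := by rw [hx, hy, polar_act, polar_self_J h hp₁]
  have hind : ∀ c : F, y ≠ c • x := by
    intro c hc
    rw [hx, hy, ← map_smul] at hc
    have h1 := (act Q g₀).injective hc
    have h3 : ρ (κ - algebraMap F E c) *ᵥ p₁ = 0 := by
      rw [sub_eq_add_neg, rho_add_mulVec, rho_neg_mulVec, ← smulF_eq_rho, h1]
      abel
    rcases rho_mulVec_eq_zero h3 with h4 | h4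
    · have h5 : κ = algebraMap F E c + algebraMap F E 0 * κ := by
        rw [map_zero, zero_mul, add_zero]
        exact sub_eq_zero.1 h4
      have h6 := hκ.tr0
      rw [h5, hκ.tr_ab] at h6
      have hc0 : c = 0 := by
        rcases mul_eq_zero.1 h6 with h7 | h7
        · exact absurd h7 h2
        · exact h7
      have h8 : κ = 0 := by
        rw [h5, hc0, map_zero, zero_mul, add_zero]
      exact hκ.ne h8
    · exact hp₁0 h4
  have hJ : ∀ a b : F, ρ κ *ᵥ x ≠ a • x + b • y := by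
    intro a b hab
    rw [hx, hy, ← map_smul, ← map_smul, ← map_add, hact, hact, Matrix.mulVec_mulVec, ← hGA,
      ← Matrix.mulVec_mulVec] at hab
    have h1 : A *ᵥ p₁ = a • p₁ + b • (ρ κ *ᵥ p₁) := by
      have := congrArg (fun w => (G⁻¹ : GL ι F).1 *ᵥ w) hab
      simp only [Matrix.mulVec_mulVec] at this
      have e : (G⁻¹ : GL ι F).1 * (G : Matrix ι ι F) = 1 := by
        rw [← Units.val_mul, inv_mul_cancel, Units.val_one]
      rw [← mul_assoc, e, one_mul, Matrix.one_mulVec] at this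
      exact this
    rw [comb_eq_rho] at h1
    exact hAp _ h1
  obtain ⟨α, β, a, b, hαβ, ha, hab, hfix, hne⟩ := move h hκ h2 C.rank hcard7 C.w1 x y hQx hQy hxy hind hJ
  obtain ⟨c, hc⟩ : ∃ c : E, c = algebraMap F E α + algebraMap F E β * κ := ⟨_, rfl⟩
  have hc0 : c ≠ 0 := hc ▸ comb_ne_zero hκ h2 hαβ
  obtain ⟨p, hpdef⟩ : ∃ p : ι → F, p = ρ c *ᵥ p₁ := ⟨_, rfl⟩
  have hp0 : p ≠ 0 := by
    intro h0
    rw [hpdef] at h0
    rcases rho_mulVec_eq_zero h0 with h4 | h4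
    · exact hc0 h4
    · exact hp₁0 h4
  have hp : QE p = 0 := by rw [hpdef, h.QE_smul, hp₁, mul_zero]
  have hp' : p = α • p₁ + β • (ρ κ *ᵥ p₁) := by rw [hpdef, hc, comb_eq_rho]
  have hg₀p : act Q g₀ p = α • x + β • y := by rw [hp', map_add, map_smul, map_smul, hx, hy]
  have hJp : ρ κ *ᵥ p = (β * δ) • p₁ + α • (ρ κ *ᵥ p₁) := by
    rw [hp', Matrix.mulVec_add, Matrix.mulVec_smul, Matrix.mulVec_smul, J_J hκ, smul_smul, add_comm]
  have hg₀Jp : act Q g₀ (ρ κ *ᵥ p) = (β * δ) • x + α • y := by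
    rw [hJp, map_add, map_smul, map_smul, hx, hy]
  refine ⟨g₀⁻¹ * ES h C.two a b ha hab * g₀, M.mul_mem (M.mul_mem (M.inv_mem hg₀) (C.es a b ha hab)) hg₀, p, hp0,
    hp, ?_, ?_⟩
  · rw [act_mul, act_mul, hg₀p, act_ES, hfix, ← hg₀p, act_inv_act]
  · rw [act_mul, act_mul, hg₀Jp, act_ES, polar_act_inv, hg₀Jp, polar_comm]
    exact hne

/-- the main theorem in `Ω`-language -/
theorem main (h : Forms ρ Q B QE) (hκ : Kap κ δ) {M : Subgroup ↥(Cfsg.Omega F ⇑Q)} (C : Ctx h M)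
    (g₀ : ↥(Cfsg.Omega F ⇑Q)) (hg₀ : g₀ ∈ M)
    (hn : ∀ k : E, (((g₀ : ↥(Cfsg.isometryGroup F ⇑Q)) : GL ι F)⁻¹ : GL ι F).1 * ρ κ *
      (((g₀ : ↥(Cfsg.isometryGroup F ⇑Q)) : GL ι F) : Matrix ι ι F) ≠ ρ k) : M = ⊤ := by
  have h2 := C.two
  have hnd := h.ctx.nd
  have hcard7 : 7 ≤ Fintype.card ι := by rw [C.card]; norm_num
  obtain ⟨g, hg, p, hp0, hp, hgp, hε⟩ := s1 h hκ C g₀ hg₀ hn
  have hQp : Q p = 0 := Q_of_QE h hp
  obtain ⟨e, he⟩ : ∃ e, e = ρ κ *ᵥ p := ⟨_, rfl⟩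
  obtain ⟨e', he'⟩ : ∃ e', e' = act Q g e := ⟨_, rfl⟩
  have hQe : Q e = 0 := by rw [he, Q_J h hκ, hQp, mul_zero]
  have hQe' : Q e' = 0 := by rw [he', Q_act, hQe]
  have hpe : polar Q p e = 0 := by rw [he]; exact polar_self_J h hp κ
  have hpe' : polar Q p e' = 0 := by
    rw [he']
    nth_rewrite 1 [← hgp]
    rw [polar_act, hpe]
  have hee' : polar Q e e' ≠ 0 := by
    rw [polar_comm, he', he]
    exact hε
  -- (S4) a long root element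
  obtain ⟨t, ht, b', htp, hpb, he'b, heb, hQb, htx⟩ := t_modp h hκ C hp0 hp g hg hgp hε
  obtain ⟨u₀, hη, hpu, hvu, hQu, htw⟩ := t_on_W h hκ h2 (p := p) (e' := act Q g (ρ κ *ᵥ p)) (b' := b') hp
    (by rw [Q_act, Q_J h hκ, hQp, mul_zero]) (by rw [← he, ← he']; exact hpe') hpb he'b heb hQb hε (act Q t) (Q_act Q t) htp
    htx
  obtain ⟨k, hk, hkp, hke, w, hw, hne⟩ := h_exists h hκ C hp0 hp t ht htp u₀ hη hpu hvu hQu htw
  obtain ⟨y0, hy0, hy0p⟩ := z_exists h hκ C hp0 hp k hk hkp hke w hw hne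
  -- (S3) invariance
  have hinv : ∀ b, polar Q p b = 0 → polar Q e b = 0 → ∀ y ∈ AA M p hQp, egen Q e b y ∈ AA M p hQp := by
    intro b hb1 hb2 y hy
    obtain ⟨w, hwdef⟩ : ∃ w : ι → F, w = (2 : F) • (ρ κ *ᵥ b) := ⟨_, rfl⟩
    have hBw : B p w = 0 := by
      rw [B_eq_zero_iff h hκ h2, hwdef, polar_smul_right, polar_smul_right, polar_J_J h hκ, hb1, mul_zero,
        polar_J_right h, ← polar_J h, ← he, hb2]
      simp
    have hJw : (2 * δ)⁻¹ • (ρ κ *ᵥ w) = b := by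
      rw [hwdef, Matrix.mulVec_smul, J_J hκ, smul_smul, smul_smul, mul_assoc,
        inv_mul_cancel₀ (mul_ne_zero h2 hκ.delta_ne), one_smul]
    have h1 := act_mem_AA hQp (C.es p w hp hBw) (by rw [act_ES, esF_self h hp hBw]) hy
    obtain ⟨c, hc⟩ := modp h hκ h2 hp hBw y hy.1
    rw [act_ES, hc, hJw, ← he] at h1
    have h3 := (AA M p hQp).sub_mem h1 (smul_mem_AA M hQp c)
    rwa [add_sub_cancel_right] at h3
  have hinv' : ∀ b, polar Q p b = 0 → polar Q e' b = 0 → ∀ y ∈ AA M p hQp, egen Q e' b y ∈ AA M p hQp := by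
    intro b hb1 hb2 y hy
    have hginv : act Q g⁻¹ p = p := by
      nth_rewrite 1 [← hgp]
      rw [act_inv_act]
    have h1 : act Q g⁻¹ y ∈ AA M p hQp := act_mem_AA hQp (M.inv_mem hg) hginv hy
    have hb1' : polar Q p (act Q g⁻¹ b) = 0 := by
      rw [polar_comm, polar_act_inv, hgp, polar_comm, hb1]
    have hb2' : polar Q e (act Q g⁻¹ b) = 0 := by
      rw [polar_comm, polar_act_inv, ← he', polar_comm, hb2]
    have h3 := hinv _ hb1' hb2' _ h1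
    have h4 := act_mem_AA hQp hg hgp h3
    rw [egen_conj Q (Q_act Q g), ← he', act_act_inv, act_act_inv] at h4
    exact h4
  have hall : ∀ y, polar Q p y = 0 → y ∈ AA M p hQp :=
    irr hnd (by omega) (AA M p hQp) hp0 hQp hQe hQe' hpe hpe' hee' (smul_mem_AA M hQp) (fun y hy => hy.1) hinv hinv'
      y0 hy0 hy0p
  -- (S5)
  obtain ⟨a, b, ha, hab, hopp⟩ := opp h hκ h2 C.rank hcard7 hp0 hp
  obtain ⟨T, hT⟩ : ∃ T, T = ES h C.two a b ha hab := ⟨_, rfl⟩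
  have hTM : T ∈ M := hT ▸ C.es a b ha hab
  obtain ⟨p', hp'⟩ : ∃ p', p' = act Q T p := ⟨_, rfl⟩
  have hQp' : Q p' = 0 := by rw [hp', Q_act, hQp]
  have hpp' : polar Q p p' ≠ 0 := by rw [hp', hT, act_ES]; exact hopp
  have hall' : ∀ y, polar Q p' y = 0 → y ∈ AA M p' hQp' := by
    intro y hy
    have h1 : polar Q p (act Q T⁻¹ y) = 0 := by rw [polar_comm, polar_act_inv, ← hp', polar_comm, hy]
    obtain ⟨_, m, hm, hmy⟩ := hall _ h1
    refine ⟨hy, T * m * T⁻¹, M.mul_mem (M.mul_mem hTM hm) (M.inv_mem hTM), fun x => ?_⟩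
    rw [conj_act_egen Q T m hmy, ← hp', act_act_inv]
  exact endgame hnd hcard7 M hQp hQp' hpp' hall hall'

end Cfsg.Agent.Lib.Helper10.C3O2Asm

/-! ## the statement in the frozen vocabulary -/

namespace Cfsg.Agent.Lib.Helper10.C3O2Asm
open Matrix Module QuadraticMap Cfsg Cfsg.Geo Cfsg.Agent.Lib.Helper25.OEFsa
  Cfsg.Agent.Lib.Helper25.CD Cfsg.Agent.Lib.Helper25.Siegel
  Cfsg.Agent.Lib.Helper5.NSMax Cfsg.Agent.Lib.Helper5.TSMax Cfsg.Agent.Lib.Helper25.AutO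
  Cfsg.Agent.Lib.Helper25.C3O2
open Cfsg.Agent.Lib.Helper25.C3O2Leaf (sk modp t_on_W)
open Cfsg.Agent.Lib.Helper9.C3O2Leaf (move h_exists)
open Cfsg.Agent.Lib.Helper1.C3O2Leaf (t_modp z_exists)
open Cfsg.Agent.Lib.Helper10.C3O2Leaf (irr opp endgame proper conj_not_mem w1_of_minus exists_kappa)

section wrap

universe u
variable {F : Type u} [Field F] [Fintype F] {ι : Type} [Fintype ι] [DecidableEq ι]

theorem two_ne_zero_of_odd_c3o (hodd : Odd (Fintype.card F)) : (2 : F) ≠ 0 := by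
  intro h
  have : CharP F 2 := CharTwo.of_one_ne_zero_of_two_eq_zero one_ne_zero h
  obtain ⟨k, -, hk⟩ := FiniteField.card F 2
  rw [hk] at hodd
  have hev : Even (2 ^ (k : ℕ)) := (Nat.even_pow.2 ⟨even_two, k.ne_zero⟩)
  exact (Nat.not_even_iff_odd.2 hodd) hev

theorem mem_normalizer_of_comm {E : Type*} [Field E] [Algebra F E] (ρ : E →ₐ[F] Matrix ι ι F) (g : GL ι F)
    (hcomm : ∀ a : E, (g : Matrix ι ι F) * ρ a = ρ a * (g : Matrix ι ι F)) : g ∈ subalgebraNormalizer ρ.range := by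
  have e1 : (g : Matrix ι ι F) * (g⁻¹ : GL ι F).1 = 1 := by rw [← Units.val_mul, mul_inv_cancel, Units.val_one]
  have e2 : (g⁻¹ : GL ι F).1 * (g : Matrix ι ι F) = 1 := by rw [← Units.val_mul, inv_mul_cancel, Units.val_one]
  intro k
  constructor
  · rintro ⟨a, rfl⟩
    refine ⟨a, ?_⟩
    show ρ a = (g : Matrix ι ι F) * ρ a * (g⁻¹ : GL ι F).1
    rw [hcomm, mul_assoc, e1, mul_one]
  · rintro ⟨a, ha⟩
    refine ⟨a, ?_⟩
    have h1 : k = (g⁻¹ : GL ι F).1 * ((g : Matrix ι ι F) * k * (g⁻¹ : GL ι F).1) * (g : Matrix ι ι F) := by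
      simp only [← mul_assoc]
      rw [e2, one_mul, mul_assoc, e2, mul_one]
    rw [h1, ← ha]
    show ρ a = (g⁻¹ : GL ι F).1 * ρ a * (g : Matrix ι ι F)
    rw [mul_assoc, ← hcomm, ← mul_assoc, e2, one_mul]

/-- **C3O2**: `O_4^-(q²).2 < Ω_8^-(q)`, `q` odd, generic index type of cardinality 8 -/
theorem c3_max8_gen (hcard : Fintype.card ι = 8) (Q : (ι → F) → F) (hQ : IsNondegenerateQuadraticForm Q)
    (hminus : ¬ IsPlusTypeOn Q ⊤) (hodd : Odd (Fintype.card F)) (K : Subalgebra F (Matrix ι ι F))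
    (hK : IsFieldSubalgebra 2 K) (hsa : IsSelfAdjointFor (polar Q) K) :
    IsMaximalIn (omegaGL Q) (subalgebraNormalizer K ⊓ omegaGL Q) := by
  classical
  have h2 : (2 : F) ≠ 0 := two_ne_zero_of_odd_c3o hodd
  obtain ⟨E, iE, iA, ρ, hinj, hrange, hfr⟩ := exists_model' 2 (by norm_num) K hK
  have hfd : FiniteDimensional F E := Module.finite_of_finrank_pos (by rw [hfr]; norm_num)
  subst hrange
  have hctx : FsaCtx ρ (qfOf hQ) := ⟨hinj, qfOf_nondeg hQ, fun a u v => hsa (ρ a) ⟨a, rfl⟩ u v⟩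
  obtain ⟨B, QE, hB, hQE⟩ := exists_forms hctx
  have h : Forms ρ (qfOf hQ) B QE := ⟨hctx, hB, hQE⟩
  obtain ⟨κ, δ, hκ⟩ := exists_kappa (F := F) (E := E) h2 hfr
  have hw1 : W1 ρ B QE := w1_of_minus h hfr hcard hminus
  have hcard7 : 7 ≤ Fintype.card ι := by rw [hcard]; norm_num
  obtain ⟨Q', hQ'⟩ : ∃ Q' : QuadraticForm F (ι → F), Q' = qfOf hQ := ⟨_, rfl⟩
  have hQQ' : Q = ⇑Q' := by rw [hQ']; rfl
  rw [← hQ'] at h hctx
  clear hQ'
  subst hQQ'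
  refine ⟨lt_of_le_of_ne inf_le_right ?_, ?_⟩
  · intro heq
    obtain ⟨g, hg⟩ := proper h hκ h2 hfr hcard7
    have h1 : ((g : ↥(Cfsg.isometryGroup F ⇑Q')) : GL ι F) ∈ omegaGL ⇑Q' := ⟨g.1, g.2, rfl⟩
    rw [← heq] at h1
    exact hg h1.1
  · intro M hHM hMΩ
    by_cases hMH : M = subalgebraNormalizer ρ.range ⊓ omegaGL ⇑Q'
    · exact Or.inl hMH
    right
    have hnle : ¬ M ≤ subalgebraNormalizer ρ.range ⊓ omegaGL ⇑Q' := fun hle => hMH (le_antisymm hle hHM)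
    obtain ⟨g₀', hg₀'M, hg₀'H⟩ := SetLike.not_le_iff_exists.1 hnle
    have hg₀'Ω := hMΩ hg₀'M
    have hg₀'n : g₀' ∉ subalgebraNormalizer ρ.range := fun hn => hg₀'H ⟨hn, hg₀'Ω⟩
    obtain ⟨gi, hgi, hgi'⟩ := hg₀'Ω
    obtain ⟨M', hM'⟩ : ∃ M' : Subgroup ↥(Cfsg.Omega F ⇑Q'),
        M' = M.comap ((Cfsg.isometryGroup F ⇑Q').subtype.comp (Cfsg.Omega F ⇑Q').subtype) := ⟨_, rfl⟩
    have hmemM' : ∀ ω : ↥(Cfsg.Omega F ⇑Q'),
        (∀ a : E, (((ω : ↥(Cfsg.isometryGroup F ⇑Q')) : GL ι F) : Matrix ι ι F) * ρ a =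
          ρ a * (((ω : ↥(Cfsg.isometryGroup F ⇑Q')) : GL ι F) : Matrix ι ι F)) → ω ∈ M' := by
      intro ω hω
      rw [hM']
      exact hHM ⟨mem_normalizer_of_comm ρ _ hω, ω.1, ω.2, rfl⟩
    have C : Ctx h M' :=
      { two := h2
        rank := hfr
        card := hcard
        w1 := hw1
        es := fun p w hp hw => hmemM' _ (fun a => by rw [ES_coe]; exact esMat_comm h p w a)
        rc := fun b c hb hc => hmemM' _ (fun a => RC_comm h b c hb hc a) }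
    have hg₀M' : (⟨gi, hgi⟩ : ↥(Cfsg.Omega F ⇑Q')) ∈ M' := by
      rw [hM']
      show ((Cfsg.isometryGroup F ⇑Q').subtype gi) ∈ M
      rw [hgi']
      exact hg₀'M
    have hn : ∀ k : E, ((((⟨gi, hgi⟩ : ↥(Cfsg.Omega F ⇑Q')) : ↥(Cfsg.isometryGroup F ⇑Q')) : GL ι F)⁻¹ :
        GL ι F).1 * ρ κ * ((((⟨gi, hgi⟩ : ↥(Cfsg.Omega F ⇑Q')) : ↥(Cfsg.isometryGroup F ⇑Q')) : GL ι F) :
          Matrix ι ι F) ≠ ρ k := by
      intro k
      have := conj_not_mem hκ hinj g₀' hg₀'n k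
      rw [← hgi'] at this
      exact this
    have htop := main h hκ C ⟨gi, hgi⟩ hg₀M' hn
    apply le_antisymm hMΩ
    rintro x ⟨ω, hω, rfl⟩
    have : (⟨ω, hω⟩ : ↥(Cfsg.Omega F ⇑Q')) ∈ M' := by rw [htop]; exact Subgroup.mem_top _
    rw [hM'] at this
    exact this

/-- **C3O2**: the target of S5825 conjunct (7) -/
theorem c3_max8 (Q : (Fin 8 → F) → F) (hQ : IsNondegenerateQuadraticForm Q)
    (hminus : ¬ IsPlusTypeOn Q ⊤) (hodd : Odd (Fintype.card F)) (K : Subalgebra F (Matrix (Fin 8) (Fin 8) F))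
    (hK : IsFieldSubalgebra 2 K) (hsa : IsSelfAdjointFor (polar Q) K) :
    IsMaximalIn (omegaGL Q) (subalgebraNormalizer K ⊓ omegaGL Q) :=
  c3_max8_gen (by simp) Q hQ hminus hodd K hK hsa

end wrap

end Cfsg.Agent.Lib.Helper10.C3O2Asm

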