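import Cfsg.Agent.Lib.Helper5.NDMax
import Cfsg.Agent.Lib.Helper25.OmegaNonMax
import Cfsg.Agent.Lib.Helper17.CWQuad

/-!
helper10, S5825 conjunct (7) (`O₄⁻(q²).2 < Ω₈⁻(q)`, `q` odd): the BRIDGE from the frozen hypotheses
(`IsFieldSubalgebra 2 K`, `IsSelfAdjointFor (polar Q) K`, minus type) to the working context
(`J` with `J² = δ` a nonsquare, self-adjoint, rank one) and back to `IsMaximalIn`.

`exists_gen_sq` is helper12's `OrC3.exists_gen` (copied to avoid its import closure).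
-/

set_option autoImplicit false
set_option linter.unusedSectionVars false
set_option linter.unusedVariables false
set_option linter.unusedSimpArgs false

namespace Cfsg.Agent.Lib.Helper10.C3O42

open Module QuadraticMap Matrix Cfsg.Agent.Lib.Helper25.CD Cfsg.Agent.Lib.Helper25.Spin
  Cfsg.Agent.Lib.Helper25.Fam Cfsg.Agent.Lib.Helper25.Siegel
  Cfsg.Agent.Lib.Helper25.PS Cfsg.Agent.Lib.Helper25.OGeom Cfsg.Agent.Lib.Helper15
  Cfsg.Agent.Lib.Helper5.TSMax Cfsg.Agent.Lib.Helper5.NSMax Cfsg.Agent.Lib.Helper5.PairMax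
  Cfsg.Agent.Lib.Helper5.NDMax

section gen

variable {F : Type*} [Field F] {ι : Type} [Fintype ι] [DecidableEq ι]

/-- a quadratic field subalgebra is generated by an element whose square is a nonsquare scalar
(helper12) -/
theorem exists_gen_sq (h2 : (2 : F) ≠ 0) (K : Subalgebra F (Matrix ι ι F))
    (hK : Cfsg.Geo.IsFieldSubalgebra 2 K) :
    ∃ (δ : F) (k : Matrix ι ι F), k ∈ K ∧ k * k = δ • (1 : Matrix ι ι F) ∧ (∀ r : F, r ^ 2 ≠ δ) ∧
      ∀ a ∈ K, ∃ s t : F, a = s • (1 : Matrix ι ι F) + t • k := by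
  classical
  have hfin : finrank F ↥K = 2 := hK.finrank_eq
  haveI : FiniteDimensional F ↥K := FiniteDimensional.of_finrank_pos (by rw [hfin]; norm_num)
  obtain ⟨x, hx⟩ : ∃ x : ↥K, x ∉ Submodule.span F {(1 : ↥K)} := by
    by_contra hcon
    push_neg at hcon
    have htop : Submodule.span F {(1 : ↥K)} = ⊤ := by
      rw [eq_top_iff]
      intro x _
      exact hcon x
    have h1 : finrank F (Submodule.span F {(1 : ↥K)}) ≤ 1 := by
      have := finrank_span_le_card (R := F) ({(1 : ↥K)} : Set ↥K)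
      simpa using this
    rw [htop, finrank_top, hfin] at h1
    omega
  have h1ne : (1 : ↥K) ≠ 0 := by
    intro h
    apply hx
    have : x = x * 1 := (mul_one x).symm
    rw [this, h, mul_zero]
    exact Submodule.zero_mem _
  have hli : LinearIndependent F ![(1 : ↥K), x] := by
    rw [LinearIndependent.pair_iff' h1ne]
    intro a ha
    apply hx
    rw [← ha]
    exact Submodule.smul_mem _ _ (Submodule.subset_span rfl)
  have hcard : Fintype.card (Fin 2) = finrank F ↥K := by rw [hfin]; rfl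
  let b := basisOfLinearIndependentOfCardEqFinrank hli hcard
  have hb : ⇑b = ![(1 : ↥K), x] := coe_basisOfLinearIndependentOfCardEqFinrank hli hcard
  have hrep : ∀ a : ↥K, ∃ s t : F, a = s • (1 : ↥K) + t • x := by
    intro a
    refine ⟨b.repr a 0, b.repr a 1, ?_⟩
    have := b.sum_repr a
    rw [Fin.sum_univ_two, hb] at this
    simpa using this.symm
  obtain ⟨c0, c1, hxx⟩ := hrep (x * x)
  obtain ⟨k, hk⟩ : ∃ k : ↥K, k = x - (c1 / 2) • (1 : ↥K) := ⟨_, rfl⟩
  obtain ⟨δ, hδ⟩ : ∃ δ : F, δ = c0 + c1 ^ 2 / 4 := ⟨_, rfl⟩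
  have h4 : (4 : F) ≠ 0 := by
    have : (4 : F) = 2 * 2 := by norm_num
    rw [this]
    exact mul_ne_zero h2 h2
  have hkk : k * k = δ • (1 : ↥K) := by
    rw [hk, sub_mul, mul_sub, mul_sub, hxx, hδ]
    simp only [smul_mul_assoc, mul_smul_comm, one_mul, mul_one, smul_smul, sub_smul, add_smul]
    have e1 : c1 / 2 * (c1 / 2) = c1 ^ 2 / 4 := by field_simp; ring
    have e2 : c1 = c1 / 2 + c1 / 2 := by field_simp; ring
    rw [e1]
    nth_rewrite 1 [e2]
    rw [add_smul]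
    abel
  have hxk : x = k + (c1 / 2) • (1 : ↥K) := by rw [hk]; abel
  have hknot : ∀ s : F, k ≠ s • (1 : ↥K) := by
    intro s hs
    apply hx
    rw [hxk, hs, ← add_smul]
    exact Submodule.smul_mem _ _ (Submodule.subset_span rfl)
  refine ⟨δ, (k : Matrix ι ι F), k.2, ?_, ?_, ?_⟩
  · have := congrArg (Subtype.val) hkk
    simpa using this
  · intro r hr
    have hprod : (k - r • (1 : ↥K)) * (k + r • (1 : ↥K)) = 0 := by
      rw [sub_mul, mul_add, mul_add, hkk, ← hr]
      simp only [smul_mul_assoc, mul_smul_comm, one_mul, mul_one, smul_smul]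
      rw [pow_two]
      abel
    have hne : k - r • (1 : ↥K) ≠ 0 := fun h => hknot r (sub_eq_zero.1 h)
    have hne' : ((k - r • (1 : ↥K) : ↥K) : Matrix ι ι F) ≠ 0 := fun h => hne (Subtype.ext h)
    obtain ⟨y, hy, hxy⟩ := hK.inv _ (k - r • (1 : ↥K)).2 hne'
    have hcomm := hK.comm _ (k - r • (1 : ↥K)).2 y hy
    have h3 : k + r • (1 : ↥K) = 0 := by
      have h4' : (⟨y, hy⟩ : ↥K) * ((k - r • (1 : ↥K)) * (k + r • (1 : ↥K))) = 0 := by
        rw [hprod, mul_zero]
      rw [← mul_assoc] at h4'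
      have h5 : (⟨y, hy⟩ : ↥K) * (k - r • (1 : ↥K)) = 1 := by
        apply Subtype.ext
        show y * ((k - r • (1 : ↥K) : ↥K) : Matrix ι ι F) = 1
        rw [← hcomm, hxy]
      rw [h5, one_mul] at h4'
      exact h4'
    apply hknot (-r)
    rw [neg_smul]
    exact eq_neg_of_add_eq_zero_left h3
  · intro a ha
    obtain ⟨s, t, hst⟩ := hrep ⟨a, ha⟩
    refine ⟨s + t * (c1 / 2), t, ?_⟩
    have := congrArg (Subtype.val) hst
    simp only at this
    rw [this, hxk]
    simp only [Subalgebra.coe_add, Subalgebra.coe_smul, Subalgebra.coe_one, smul_add, smul_smul,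
      add_smul]
    abel

/-- `g J g⁻¹ = ± J` -/
def NrmJ (J : Matrix ι ι F) (g : GL ι F) : Prop :=
  (g : Matrix ι ι F) * J * ((g⁻¹ : GL ι F) : Matrix ι ι F) = J ∨
    (g : Matrix ι ι F) * J * ((g⁻¹ : GL ι F) : Matrix ι ι F) = -J

theorem one_J_indep [Nonempty ι] {δ : F} {J : Matrix ι ι F} (hsq : J * J = δ • (1 : Matrix ι ι F))
    (hns : ∀ r : F, r ^ 2 ≠ δ) {a b : F} (h : a • (1 : Matrix ι ι F) + b • J = 0) :
    a = 0 ∧ b = 0 := by
  have h1ne : (1 : Matrix ι ι F) ≠ 0 := one_ne_zero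
  have hb : b = 0 := by
    by_contra hb
    have hJ : J = (-a / b) • (1 : Matrix ι ι F) := by
      have : b • J = (-a) • (1 : Matrix ι ι F) := by
        rw [neg_smul]
        exact eq_neg_of_add_eq_zero_right h
      rw [div_eq_inv_mul, mul_smul, ← this, smul_smul, inv_mul_cancel₀ hb, one_smul]
    have h3 : ((-a / b) ^ 2 - δ) • (1 : Matrix ι ι F) = 0 := by
      rw [sub_smul, ← hsq]
      subst hJ
      rw [smul_mul_smul_comm, Matrix.one_mul, pow_two, sub_self]
    rcases smul_eq_zero.1 h3 with h4 | h4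
    · exact hns _ (sub_eq_zero.1 h4)
    · exact h1ne h4
  refine ⟨?_, hb⟩
  rw [hb, zero_smul, add_zero] at h
  exact (smul_eq_zero.1 h).resolve_right h1ne

/-- `g J g⁻¹ = ± J` implies that `g` normalises `K = F[J]` -/
theorem mem_normalizer_of_nrm {J : Matrix ι ι F}
    (K : Subalgebra F (Matrix ι ι F)) (hJK : J ∈ K)
    (hgen : ∀ a ∈ K, ∃ s t : F, a = s • (1 : Matrix ι ι F) + t • J) (g : GL ι F)
    (hg : NrmJ J g) : g ∈ Cfsg.Geo.subalgebraNormalizer K := by
  have hgi : (g : Matrix ι ι F) * ((g⁻¹ : GL ι F) : Matrix ι ι F) = 1 := by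
    rw [← Units.val_mul, mul_inv_cancel]; rfl
  have hig : ((g⁻¹ : GL ι F) : Matrix ι ι F) * (g : Matrix ι ι F) = 1 := by
    rw [← Units.val_mul, inv_mul_cancel]; rfl
  have hmemK : ∀ s t : F, s • (1 : Matrix ι ι F) + t • J ∈ K := fun s t =>
    K.add_mem (K.smul_mem K.one_mem s) (K.smul_mem hJK t)
  intro k
  -- the inverse also normalises
  have hinv : ((g⁻¹ : GL ι F) : Matrix ι ι F) * J * (g : Matrix ι ι F) = J ∨
      ((g⁻¹ : GL ι F) : Matrix ι ι F) * J * (g : Matrix ι ι F) = -J := by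
    rcases hg with h | h
    · left
      calc ((g⁻¹ : GL ι F) : Matrix ι ι F) * J * (g : Matrix ι ι F)
          = ((g⁻¹ : GL ι F) : Matrix ι ι F) *
            ((g : Matrix ι ι F) * J * ((g⁻¹ : GL ι F) : Matrix ι ι F)) * (g : Matrix ι ι F) := by
            rw [h]
        _ = (((g⁻¹ : GL ι F) : Matrix ι ι F) * (g : Matrix ι ι F)) * J *
            (((g⁻¹ : GL ι F) : Matrix ι ι F) * (g : Matrix ι ι F)) := by
            simp only [Matrix.mul_assoc]
        _ = J := by rw [hig, Matrix.one_mul, Matrix.mul_one]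
    · right
      calc ((g⁻¹ : GL ι F) : Matrix ι ι F) * J * (g : Matrix ι ι F)
          = -(((g⁻¹ : GL ι F) : Matrix ι ι F) *
            ((g : Matrix ι ι F) * J * ((g⁻¹ : GL ι F) : Matrix ι ι F)) * (g : Matrix ι ι F)) := by
            rw [h, Matrix.mul_neg, Matrix.neg_mul, neg_neg]
        _ = -((((g⁻¹ : GL ι F) : Matrix ι ι F) * (g : Matrix ι ι F)) * J *
            (((g⁻¹ : GL ι F) : Matrix ι ι F) * (g : Matrix ι ι F))) := by
            simp only [Matrix.mul_assoc]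
        _ = -J := by rw [hig, Matrix.one_mul, Matrix.mul_one]
  constructor
  · intro hk
    obtain ⟨s, t, rfl⟩ := hgen k hk
    rw [Matrix.mul_add, Matrix.add_mul, Matrix.mul_smul, Matrix.smul_mul, Matrix.mul_one, hgi,
      Matrix.mul_smul, Matrix.smul_mul]
    rcases hg with h | h
    · rw [h]; exact hmemK s t
    · rw [h, smul_neg, ← neg_smul]; exact hmemK s (-t)
  · intro hk
    obtain ⟨s, t, hst⟩ := hgen _ hk
    have hk' : k = ((g⁻¹ : GL ι F) : Matrix ι ι F) * (s • (1 : Matrix ι ι F) + t • J) *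
        (g : Matrix ι ι F) := by
      rw [← hst]
      calc k = (((g⁻¹ : GL ι F) : Matrix ι ι F) * (g : Matrix ι ι F)) * k *
            (((g⁻¹ : GL ι F) : Matrix ι ι F) * (g : Matrix ι ι F)) := by
            rw [hig, Matrix.one_mul, Matrix.mul_one]
        _ = _ := by simp only [Matrix.mul_assoc]
    rw [hk', Matrix.mul_add, Matrix.add_mul, Matrix.mul_smul, Matrix.smul_mul, Matrix.mul_one, hig,
      Matrix.mul_smul, Matrix.smul_mul]
    rcases hinv with h | h
    · rw [h]; exact hmemK s t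
    · rw [h, smul_neg, ← neg_smul]; exact hmemK s (-t)

/-- the normaliser of `K = F[J]` consists of the `g` with `g J g⁻¹ = ± J` -/
theorem mem_normalizer_iff [Nonempty ι] (h2 : (2 : F) ≠ 0) {δ : F} {J : Matrix ι ι F}
    (K : Subalgebra F (Matrix ι ι F)) (hJK : J ∈ K) (hsq : J * J = δ • (1 : Matrix ι ι F))
    (hns : ∀ r : F, r ^ 2 ≠ δ)
    (hgen : ∀ a ∈ K, ∃ s t : F, a = s • (1 : Matrix ι ι F) + t • J) (g : GL ι F) :
    g ∈ Cfsg.Geo.subalgebraNormalizer K ↔ NrmJ J g := by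
  have hδ0 : δ ≠ 0 := by
    intro h
    exact hns 0 (by rw [h]; ring)
  have hgi : (g : Matrix ι ι F) * ((g⁻¹ : GL ι F) : Matrix ι ι F) = 1 := by
    rw [← Units.val_mul, mul_inv_cancel]; rfl
  have hig : ((g⁻¹ : GL ι F) : Matrix ι ι F) * (g : Matrix ι ι F) = 1 := by
    rw [← Units.val_mul, inv_mul_cancel]; rfl
  have hmemK : ∀ s t : F, s • (1 : Matrix ι ι F) + t • J ∈ K := fun s t =>
    K.add_mem (K.smul_mem K.one_mem s) (K.smul_mem hJK t)
  constructor
  · intro hg
    have h1 : (g : Matrix ι ι F) * J * ((g⁻¹ : GL ι F) : Matrix ι ι F) ∈ K := (hg J).1 hJK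
    obtain ⟨s, t, hst⟩ := hgen _ h1
    have hsq' : ((g : Matrix ι ι F) * J * ((g⁻¹ : GL ι F) : Matrix ι ι F)) *
        ((g : Matrix ι ι F) * J * ((g⁻¹ : GL ι F) : Matrix ι ι F)) = δ • (1 : Matrix ι ι F) := by
      have : ((g : Matrix ι ι F) * J * ((g⁻¹ : GL ι F) : Matrix ι ι F)) *
          ((g : Matrix ι ι F) * J * ((g⁻¹ : GL ι F) : Matrix ι ι F)) =
          (g : Matrix ι ι F) * (J * (((g⁻¹ : GL ι F) : Matrix ι ι F) * (g : Matrix ι ι F)) * J) *
            ((g⁻¹ : GL ι F) : Matrix ι ι F) := by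
        simp only [Matrix.mul_assoc]
      rw [this, hig, Matrix.mul_one, hsq, Matrix.mul_smul, Matrix.smul_mul, Matrix.mul_one, hgi]
    rw [hst] at hsq'
    have hexp : (s • (1 : Matrix ι ι F) + t • J) * (s • (1 : Matrix ι ι F) + t • J) =
        (s * s + t * t * δ) • (1 : Matrix ι ι F) + (2 * s * t) • J := by
      rw [add_mul, mul_add, mul_add, smul_mul_smul_comm, smul_mul_smul_comm, smul_mul_smul_comm,
        smul_mul_smul_comm, Matrix.one_mul, Matrix.one_mul, Matrix.mul_one, hsq, smul_smul]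
      module
    rw [hexp] at hsq'
    have h0 : (s * s + t * t * δ - δ) • (1 : Matrix ι ι F) + (2 * s * t) • J = 0 := by
      rw [sub_smul, sub_add_eq_add_sub, hsq', sub_self]
    obtain ⟨ha, hb⟩ := one_J_indep hsq hns h0
    rcases mul_eq_zero.1 hb with hb | ht
    · rcases mul_eq_zero.1 hb with hb | hs
      · exact absurd hb h2
      · -- s = 0, t² = 1
        rw [hs] at ha
        have ht2 : (t - 1) * (t + 1) = 0 := by
          have : (t * t - 1) * δ = 0 := by linear_combination ha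
          rcases mul_eq_zero.1 this with h | h
          · linear_combination h
          · exact absurd h hδ0
        rcases mul_eq_zero.1 ht2 with h | h
        · left
          rw [hst, hs, zero_smul, zero_add, sub_eq_zero.1 h, one_smul]
        · right
          rw [hst, hs, zero_smul, zero_add, eq_neg_of_add_eq_zero_left h, neg_smul, one_smul]
    · rw [ht] at ha
      exact absurd (show s ^ 2 = δ by linear_combination ha) (hns s)
  · exact mem_normalizer_of_nrm K hJK hgen g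

end gen

section ctx

variable {ι : Type} [Fintype ι] [DecidableEq ι] {F : Type*} [Field F] [Fintype F]
  (Q : QuadraticForm F (ι → F))

/-- `J` is a self-adjoint square root of the nonsquare `δ` -/
structure JS (J : Matrix ι ι F) (δ : F) : Prop where
  two : (2 : F) ≠ 0
  sq : ∀ x : ι → F, J *ᵥ (J *ᵥ x) = δ • x
  nsq : ∀ r : F, r ^ 2 ≠ δ
  sa : ∀ u v : ι → F, polar Q (J *ᵥ u) v = polar Q u (J *ᵥ v)

/-- `x` is singular for the `F[J]`-quadratic form -/
def ESing (J : Matrix ι ι F) (x : ι → F) : Prop := Q x = 0 ∧ polar Q x (J *ᵥ x) = 0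

/-- rank one: two perpendicular `E`-singular vectors lie on one `E`-line -/
def RankOne (J : Matrix ι ι F) : Prop :=
  ∀ x y : ι → F, x ≠ 0 → ESing Q J x → ESing Q J y → polar Q x y = 0 → polar Q x (J *ᵥ y) = 0 →
    ∃ a b : F, y = a • x + b • J *ᵥ x

variable {Q} {J : Matrix ι ι F} {δ : F}

theorem JS.delta_ne (h : JS Q J δ) : δ ≠ 0 := by
  intro h0
  exact h.nsq 0 (by rw [h0]; ring)

theorem JS.Q_J (h : JS Q J δ) (x : ι → F) : Q (J *ᵥ x) = δ * Q x := by
  have h1 : polar Q (J *ᵥ x) (J *ᵥ x) = δ * polar Q x x := by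
    rw [h.sa, h.sq, polar_smul_right, smul_eq_mul]
  rw [polar_self, polar_self, two_nsmul, two_nsmul] at h1
  have : 2 * (Q (J *ᵥ x) - δ * Q x) = 0 := by linear_combination h1
  rcases mul_eq_zero.1 this with h3 | h3
  · exact absurd h3 h.two
  · exact sub_eq_zero.1 h3

theorem JS.polar_JJ (h : JS Q J δ) (x y : ι → F) :
    polar Q (J *ᵥ x) (J *ᵥ y) = δ * polar Q x y := by
  rw [h.sa, h.sq, polar_smul_right, smul_eq_mul]

/-- `(a + bJ) x = 0` forces `a = b = 0` for `x ≠ 0` -/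
theorem JS.comb_eq_zero (h : JS Q J δ) {x : ι → F} (hx : x ≠ 0) {a b : F}
    (hab : a • x + b • J *ᵥ x = 0) : a = 0 ∧ b = 0 := by
  have h1 : a • (J *ᵥ x) + (b * δ) • x = 0 := by
    have := congrArg (fun v => J *ᵥ v) hab
    simp only [Matrix.mulVec_add, Matrix.mulVec_smul, h.sq, Matrix.mulVec_zero, smul_smul] at this
    exact this
  have h2 : (a * a - b * b * δ) • x = 0 := by
    have e : (a * a - b * b * δ) • x = a • (a • x + b • J *ᵥ x) - b • (a • (J *ᵥ x) + (b * δ) • x) := by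
      module
    rw [e, hab, h1, smul_zero, smul_zero, sub_zero]
  have h3 : a * a - b * b * δ = 0 := (smul_eq_zero.1 h2).resolve_right hx
  have hb : b = 0 := by
    by_contra hb
    apply h.nsq (a / b)
    field_simp
    linear_combination h3
  refine ⟨?_, hb⟩
  rw [hb] at h3
  have : a * a = 0 := by linear_combination h3
  exact mul_self_eq_zero.1 this

theorem ESing.mulJ (h : JS Q J δ) {x : ι → F} (hx : ESing Q J x) : ESing Q J (J *ᵥ x) := by
  refine ⟨?_, ?_⟩
  · rw [h.Q_J, hx.1, mul_zero]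
  · rw [h.polar_JJ, hx.2, mul_zero]

/-- the `E`-line of an `E`-singular vector is totally singular -/
theorem ESing.comb (h : JS Q J δ) {x : ι → F} (hx : ESing Q J x) (a b : F) :
    ESing Q J (a • x + b • J *ᵥ x) := by
  have hq : ∀ a b : F, Q (a • x + b • J *ᵥ x) = 0 := by
    intro a b
    rw [Cfsg.Agent.Lib.Helper25.MaxTS.Q_add, QuadraticMap.map_smul, QuadraticMap.map_smul, h.Q_J,
      hx.1, polar_smul_left, polar_smul_right, hx.2]
    simp
  refine ⟨hq a b, ?_⟩
  have e : J *ᵥ (a • x + b • J *ᵥ x) = (b * δ) • x + a • J *ᵥ x := by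
    rw [Matrix.mulVec_add, Matrix.mulVec_smul, Matrix.mulVec_smul, h.sq, smul_smul, add_comm]
  rw [e]
  have hp : polar Q (a • x + b • J *ᵥ x) ((b * δ) • x + a • J *ᵥ x) =
      Q ((a + b * δ) • x + (b + a) • J *ᵥ x) - Q (a • x + b • J *ᵥ x) -
        Q ((b * δ) • x + a • J *ᵥ x) := by
    unfold polar
    congr 2
    congr 1
    module
  rw [hp, hq, hq, hq]
  simp

/-- `x, Jx, y, Jy` are independent if `y` is off the `E`-line of `x ≠ 0` -/
theorem JS.indep4 (h : JS Q J δ) {x y : ι → F} (hx : x ≠ 0)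
    (hy : ¬ ∃ a b : F, y = a • x + b • J *ᵥ x) :
    LinearIndependent F ![x, J *ᵥ x, y, J *ᵥ y] := by
  rw [Fintype.linearIndependent_iff]
  intro g hg
  rw [Fin.sum_univ_four] at hg
  simp only [Matrix.cons_val_zero, Matrix.cons_val_one, Matrix.cons_val_two, Matrix.cons_val_three,
    Matrix.head_cons, Matrix.tail_cons] at hg
  obtain ⟨a, ha⟩ : ∃ a, a = g 0 := ⟨_, rfl⟩
  obtain ⟨b, hb⟩ : ∃ b, b = g 1 := ⟨_, rfl⟩
  obtain ⟨c, hc⟩ : ∃ c, c = g 2 := ⟨_, rfl⟩
  obtain ⟨d, hd⟩ : ∃ d, d = g 3 := ⟨_, rfl⟩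
  rw [← ha, ← hb, ← hc, ← hd] at hg
  have hg2 : a • J *ᵥ x + (b * δ) • x + c • J *ᵥ y + (d * δ) • y = 0 := by
    have := congrArg (fun v => J *ᵥ v) hg
    simp only [Matrix.mulVec_add, Matrix.mulVec_smul, h.sq, Matrix.mulVec_zero, smul_smul] at this
    exact this
  have hk : (c * a - d * b * δ) • x + (c * b - d * a) • J *ᵥ x + (c * c - d * d * δ) • y = 0 := by
    have e : (c * a - d * b * δ) • x + (c * b - d * a) • J *ᵥ x + (c * c - d * d * δ) • y =
        c • (a • x + b • J *ᵥ x + c • y + d • J *ᵥ y) -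
          d • (a • J *ᵥ x + (b * δ) • x + c • J *ᵥ y + (d * δ) • y) := by
      module
    rw [e, hg, hg2, smul_zero, smul_zero, sub_zero]
  have hN : c * c - d * d * δ = 0 := by
    by_contra hN
    apply hy
    refine ⟨-(c * c - d * d * δ)⁻¹ * (c * a - d * b * δ), -(c * c - d * d * δ)⁻¹ * (c * b - d * a), ?_⟩
    have e : (c * c - d * d * δ) • y = -((c * a - d * b * δ) • x + (c * b - d * a) • J *ᵥ x) :=
      eq_neg_of_add_eq_zero_right hk
    calc y = (c * c - d * d * δ)⁻¹ • ((c * c - d * d * δ) • y) := by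
          rw [smul_smul, inv_mul_cancel₀ hN, one_smul]
      _ = _ := by rw [e]; module
  have hd0 : d = 0 := by
    by_contra hd0
    apply h.nsq (c / d)
    field_simp
    linear_combination hN
  have hc0 : c = 0 := by
    rw [hd0] at hN
    have : c * c = 0 := by linear_combination hN
    exact mul_self_eq_zero.1 this
  rw [hc0, hd0, zero_smul, zero_smul, add_zero, add_zero] at hg
  obtain ⟨ha0, hb0⟩ := h.comb_eq_zero hx hg
  intro i
  fin_cases i
  · exact ha.symm.trans ha0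
  · exact hb.symm.trans hb0
  · exact hc.symm.trans hc0
  · exact hd.symm.trans hd0

/-- minus type on eight points forces `E`-Witt index one -/
theorem rankOne_of_minus (h : JS Q J δ) (hcard : Fintype.card ι = 8)
    (hminus : ¬ Cfsg.Geo.IsPlusTypeOn ⇑Q ⊤) : RankOne Q J := by
  intro x y hx0 hx hy hxy hxJy
  by_contra hcon
  apply hminus
  have hli := h.indep4 hx0 hcon
  refine ⟨Submodule.span F (Set.range ![x, J *ᵥ x, y, J *ᵥ y]), le_top, ?_, ?_⟩
  · intro u hu
    obtain ⟨c, rfl⟩ := (Submodule.mem_span_range_iff_exists_fun F).1 hu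
    rw [Fin.sum_univ_four]
    simp only [Matrix.cons_val_zero, Matrix.cons_val_one, Matrix.cons_val_two,
      Matrix.cons_val_three, Matrix.head_cons, Matrix.tail_cons]
    have hX := (hx.comb h (c 0) (c 1)).1
    have hY := (hy.comb h (c 2) (c 3)).1
    have hJxy : polar Q (J *ᵥ x) y = 0 := by rw [h.sa]; exact hxJy
    have hJJ : polar Q (J *ᵥ x) (J *ᵥ y) = 0 := by rw [h.polar_JJ, hxy, mul_zero]
    have e : c 0 • x + c 1 • J *ᵥ x + c 2 • y + c 3 • J *ᵥ y =
        (c 0 • x + c 1 • J *ᵥ x) + (c 2 • y + c 3 • J *ᵥ y) := by abel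
    rw [e]
    show Q _ = 0
    rw [Cfsg.Agent.Lib.Helper25.MaxTS.Q_add, hX, hY]
    simp only [polar_add_left, polar_add_right, polar_smul_left, polar_smul_right, hxy, hxJy, hJxy,
      hJJ]
    simp
  · rw [finrank_span_eq_card hli, finrank_top, Module.finrank_fintype_fun_eq_card, hcard]
    rfl

variable (Q) in
/-- Chevalley–Warning: there are `E`-singular vectors -/
theorem exists_esing (hcard : 5 ≤ Fintype.card ι) (J : Matrix ι ι F) :
    ∃ p : ι → F, p ≠ 0 ∧ ESing Q J p := by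
  obtain ⟨x, hx0, h1, h2⟩ := Cfsg.Agent.Lib.Helper17.CWQuad.exists_common_singular Q
    (LinearMap.BilinMap.toQuadraticMap ((polarBilin Q).compl₂ (Matrix.toLin' J))) hcard
  refine ⟨x, hx0, h1, ?_⟩
  simpa using h2

theorem NrmJ.comm {g : GL ι F} (hg : NrmJ J g) :
    (g : Matrix ι ι F) * J = J * (g : Matrix ι ι F) ∨
      (g : Matrix ι ι F) * J = -(J * (g : Matrix ι ι F)) := by
  have hig : ((g⁻¹ : GL ι F) : Matrix ι ι F) * (g : Matrix ι ι F) = 1 := by
    rw [← Units.val_mul, inv_mul_cancel]; rfl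
  have e : (g : Matrix ι ι F) * J =
      ((g : Matrix ι ι F) * J * ((g⁻¹ : GL ι F) : Matrix ι ι F)) * (g : Matrix ι ι F) := by
    rw [Matrix.mul_assoc, hig, Matrix.mul_one]
  rcases hg with h | h
  · left; rw [e, h]
  · right; rw [e, h, Matrix.neg_mul]

/-- a long root element at an `E`-singular point does not normalise `F[J]` -/
theorem exists_not_nrm (h : JS Q J δ) (hQ : (polarBilin Q).Nondegenerate)
    (hcard : 7 ≤ Fintype.card ι) :
    ∃ g ∈ Cfsg.Omega F ⇑Q, ¬ NrmJ J (g : GL ι F) := by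
  obtain ⟨p, hp0, hp⟩ := exists_esing Q (by omega) J
  have hpJ : p ∉ Submodule.span F {J *ᵥ p} := by
    intro hmem
    obtain ⟨c, hc⟩ := Submodule.mem_span_singleton.1 hmem
    have : (1 : F) • p + (-c) • J *ᵥ p = 0 := by rw [one_smul, neg_smul, hc, add_neg_cancel]
    exact one_ne_zero (h.comb_eq_zero hp0 this).1
  obtain ⟨b, -, hb1, hb2⟩ := exists_dual_nd Q (ndOn_top Q hQ) (P := Submodule.span F {J *ᵥ p})
    (y := p) Submodule.mem_top hpJ
  have hbJp : polar Q b (J *ᵥ p) = 0 := hb1 _ (Submodule.mem_span_singleton_self _) Submodule.mem_top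
  have hpb : polar Q p b = 1 := by rw [polar_comm]; exact hb2
  have hpy : polar Q p (J *ᵥ b) = 0 := by rw [← h.sa, polar_comm]; exact hbJp
  obtain ⟨g, hgΩ, hg⟩ := exists_egen Q hQ hcard hp0 hp.1 hpy
  refine ⟨g, hgΩ, fun hN => ?_⟩
  have hgp : toOG Q g p = p := by
    rw [hg]
    exact egen_fix Q (pself Q hp.1) (by rw [polar_comm]; exact hpy)
  have hgJp : toOG Q g (J *ᵥ p) = J *ᵥ p - polar Q (J *ᵥ b) (J *ᵥ p) • p := by
    rw [hg]
    unfold egen
    rw [hp.2]
    simp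
  have hgb : toOG Q g b = b + J *ᵥ b - (polar Q (J *ᵥ b) b + Q (J *ᵥ b)) • p := by
    rw [hg]
    unfold egen
    rw [hpb]
    module
  have hgJb : toOG Q g (J *ᵥ b) = J *ᵥ b - (2 * Q (J *ᵥ b)) • p := by
    rw [hg]
    unfold egen
    rw [hpy, polar_self, two_nsmul]
    module
  rcases hN.comm with hc | hc
  · -- commuting: evaluate at `b`
    have h1 : toOG Q g (J *ᵥ b) = J *ᵥ (toOG Q g b) := by
      rw [toOG_apply, toOG_apply, Matrix.mulVec_mulVec, hc, ← Matrix.mulVec_mulVec]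
    rw [hgJb, hgb, Matrix.mulVec_sub, Matrix.mulVec_add, Matrix.mulVec_smul, h.sq] at h1
    have h2 : δ • b = (-(2 * Q (J *ᵥ b))) • p + (polar Q (J *ᵥ b) b + Q (J *ᵥ b)) • J *ᵥ p := by
      linear_combination (norm := module) (-1 : F) • h1
    have h3 : polar Q p (δ • b) = 0 := by
      rw [h2, polar_add_right, polar_smul_right, polar_smul_right, pself Q hp.1, hp.2]
      simp
    rw [polar_smul_right, hpb, smul_eq_mul, mul_one] at h3
    exact h.delta_ne h3
  · -- anticommuting: evaluate at `p`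
    have h1 : toOG Q g (J *ᵥ p) = -(J *ᵥ (toOG Q g p)) := by
      rw [toOG_apply, toOG_apply, Matrix.mulVec_mulVec, hc, Matrix.neg_mulVec,
        ← Matrix.mulVec_mulVec]
    rw [hgJp, hgp] at h1
    have h2 : (-polar Q (J *ᵥ b) (J *ᵥ p)) • p + (2 : F) • J *ᵥ p = 0 := by
      linear_combination (norm := module) h1
    exact h.two (h.comb_eq_zero hp0 h2).2

/-- BRIDGE: the frozen shape of conjunct (7) of S5825 from the core theorem -/
theorem isMaximalIn_of_core (hQ : (polarBilin Q).Nondegenerate) (hcard : Fintype.card ι = 8)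
    (hminus : ¬ Cfsg.Geo.IsPlusTypeOn ⇑Q ⊤) (hodd : Odd (Fintype.card F))
    (core : ∀ (J : Matrix ι ι F) (δ : F), JS Q J δ → RankOne Q J →
      ∀ M : Subgroup ↥(Cfsg.isometryGroup F ⇑Q), M ≤ Cfsg.Omega F ⇑Q →
        (∀ g ∈ Cfsg.Omega F ⇑Q, ((g : GL ι F) : Matrix ι ι F) * J = J * ((g : GL ι F) : Matrix ι ι F) →
          g ∈ M) →
        (∃ g ∈ M, ¬ NrmJ J (g : GL ι F)) → M = Cfsg.Omega F ⇑Q)
    (K : Subalgebra F (Matrix ι ι F)) (hK : Cfsg.Geo.IsFieldSubalgebra 2 K)
    (hsa : Cfsg.Geo.IsSelfAdjointFor (QuadraticMap.polar ⇑Q) K) :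
    Cfsg.Geo.IsMaximalIn (Cfsg.Geo.omegaGL ⇑Q)
      (Cfsg.Geo.subalgebraNormalizer K ⊓ Cfsg.Geo.omegaGL ⇑Q) := by
  classical
  have h2 : (2 : F) ≠ 0 := by
    intro h2
    have hchar : ringChar F = 2 := by
      have : ringChar F ∣ 2 := (ringChar.spec F 2).1 (by exact_mod_cast h2)
      rcases (Nat.dvd_prime Nat.prime_two).1 this with h | h
      · exact absurd h (CharP.ringChar_ne_one)
      · exact h
    have := FiniteField.even_card_of_char_two hchar
    rcases hodd with ⟨k, hk⟩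
    omega
  have : Nonempty ι := Fintype.card_pos_iff.mp (by omega)
  obtain ⟨δ, J, hJK, hsq, hns, hgen⟩ := exists_gen_sq h2 K hK
  have hJS : JS Q J δ := by
    refine ⟨h2, fun x => ?_, hns, fun u v => hsa J hJK u v⟩
    rw [Matrix.mulVec_mulVec, hsq, Matrix.smul_mulVec, Matrix.one_mulVec]
  have hrk := rankOne_of_minus hJS hcard hminus
  obtain ⟨N, hN⟩ : ∃ N : Subgroup ↥(Cfsg.isometryGroup F ⇑Q),
      N = (Cfsg.Geo.subalgebraNormalizer K).comap (Cfsg.isometryGroup F ⇑Q).subtype := ⟨_, rfl⟩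
  have hmemN : ∀ g : ↥(Cfsg.isometryGroup F ⇑Q), g ∈ N ↔ NrmJ J (g : GL ι F) := by
    intro g
    rw [hN, Subgroup.mem_comap]
    exact mem_normalizer_iff h2 K hJK hsq hns hgen _
  have e1 : Cfsg.Geo.subalgebraNormalizer K ⊓ Cfsg.Geo.omegaGL ⇑Q =
      (N ⊓ Cfsg.Omega F ⇑Q).map (Cfsg.isometryGroup F ⇑Q).subtype := by
    ext x
    constructor
    · rintro ⟨hx1, g, hg, rfl⟩
      exact ⟨g, ⟨by rw [hN]; exact hx1, hg⟩, rfl⟩
    · rintro ⟨g, ⟨hg1, hg2⟩, rfl⟩
      exact ⟨by rw [hN] at hg1; exact hg1, g, hg2, rfl⟩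
  rw [e1]
  have hlt : N ⊓ Cfsg.Omega F ⇑Q < Cfsg.Omega F ⇑Q := by
    refine lt_of_le_of_ne inf_le_right ?_
    intro heq
    obtain ⟨g, hgΩ, hgN⟩ := exists_not_nrm hJS hQ (by omega)
    have : g ∈ N ⊓ Cfsg.Omega F ⇑Q := by rw [heq]; exact hgΩ
    exact hgN ((hmemN g).mp this.1)
  refine isMaximalIn_map _ (Subgroup.subtype_injective _) hlt ?_
  intro M h1 h2'
  by_cases hM : M = N ⊓ Cfsg.Omega F ⇑Q
  · exact Or.inl hM
  right
  obtain ⟨g, hgM, hgN⟩ : ∃ g ∈ M, g ∉ N := by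
    by_contra hcon
    push Not at hcon
    exact hM (le_antisymm (fun g hg => ⟨hcon g hg, h2' hg⟩) h1)
  refine core J δ hJS hrk M h2' (fun g hgΩ hcomm => ?_) ⟨g, hgM, fun h => hgN ((hmemN g).mpr h)⟩
  apply h1
  refine ⟨(hmemN g).mpr (Or.inl ?_), hgΩ⟩
  rw [hcomm, Matrix.mul_assoc, ← Units.val_mul, mul_inv_cancel, Units.val_one, Matrix.mul_one]

end ctx

end Cfsg.Agent.Lib.Helper10.C3O42
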