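import Cfsg.Agent.Lib.Helper10.C3O42Bridge

/-!
helper10, S5825 conjunct (7): the `E`-Siegel elements.

For an `E`-singular `a` and `z` with `B(a,z) = 0 = B(Ja,z)` the product
`egen a (Jz) ∘ egen (Ja) z ∘ egen a (κ • Ja)`, `κ = -B(Jz,z)/2`, is the `E`-linear Siegel
transformation `T_{a,w}`, `w = -Jz`; it lies in `Ω`, commutes with `J`, hence lies in every `M`
containing the centraliser of `J` in `Ω`.
-/

set_option autoImplicit false
set_option linter.unusedSectionVars false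
set_option linter.unusedVariables false
set_option linter.unusedSimpArgs false

namespace Cfsg.Agent.Lib.Helper10.C3O42

open Module QuadraticMap Matrix Cfsg.Agent.Lib.Helper25.CD Cfsg.Agent.Lib.Helper25.Spin
  Cfsg.Agent.Lib.Helper25.Fam Cfsg.Agent.Lib.Helper25.Siegel
  Cfsg.Agent.Lib.Helper25.PS Cfsg.Agent.Lib.Helper25.OGeom Cfsg.Agent.Lib.Helper15
  Cfsg.Agent.Lib.Helper5.TSMax Cfsg.Agent.Lib.Helper5.NSMax Cfsg.Agent.Lib.Helper5.PairMax
  Cfsg.Agent.Lib.Helper5.NDMax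

variable {ι : Type} [Fintype ι] [DecidableEq ι] {F : Type*} [Field F] [Fintype F]
  {Q : QuadraticForm F (ι → F)} {J : Matrix ι ι F} {δ : F}

/-- the `E`-Siegel map in `F`-coordinates -/
def esMap (Q : QuadraticForm F (ι → F)) (J : Matrix ι ι F) (δ : F) (a z v : ι → F) : ι → F :=
  v + polar Q (J *ᵥ a) v • z + polar Q a v • J *ᵥ z
    - (polar Q z v + Q z * polar Q (J *ᵥ a) v + polar Q z (J *ᵥ z) * polar Q a v / 2) • J *ᵥ a
    - (polar Q (J *ᵥ z) v + δ * Q z * polar Q a v + polar Q z (J *ᵥ z) * polar Q (J *ᵥ a) v / 2) • a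

/-- the product of three generalised Siegel maps is the `E`-Siegel map -/
theorem egen3_eq (h : JS Q J δ) {a z : ι → F} (ha : ESing Q J a) (haz : polar Q a z = 0)
    (hJaz : polar Q (J *ᵥ a) z = 0) (v : ι → F) :
    egen Q a (J *ᵥ z) (egen Q (J *ᵥ a) z (egen Q a ((-polar Q z (J *ᵥ z) / 2) • J *ᵥ a) v)) =
      esMap Q J δ a z v := by
  have haa : polar Q a a = 0 := pself Q ha.1
  have haJa : polar Q a (J *ᵥ a) = 0 := ha.2
  have hJaa : polar Q (J *ᵥ a) a = 0 := by rw [polar_comm]; exact haJa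
  have hJaJa : polar Q (J *ᵥ a) (J *ᵥ a) = 0 := by rw [h.polar_JJ, haa, mul_zero]
  have hza : polar Q z a = 0 := by rw [polar_comm]; exact haz
  have hzJa : polar Q z (J *ᵥ a) = 0 := by rw [polar_comm]; exact hJaz
  have haJz : polar Q a (J *ᵥ z) = 0 := by rw [← h.sa]; exact hJaz
  have hJza : polar Q (J *ᵥ z) a = 0 := by rw [polar_comm]; exact haJz
  have hJzJa : polar Q (J *ᵥ z) (J *ᵥ a) = 0 := by rw [h.polar_JJ, hza, mul_zero]
  have hJaJz : polar Q (J *ᵥ a) (J *ᵥ z) = 0 := by rw [polar_comm]; exact hJzJa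
  have hQJa : Q (J *ᵥ a) = 0 := by rw [h.Q_J, ha.1, mul_zero]
  have hQJz : Q (J *ᵥ z) = δ * Q z := h.Q_J z
  have hJzz : polar Q (J *ᵥ z) z = polar Q z (J *ᵥ z) := polar_comm _ _ _
  have h2 := h.two
  unfold egen esMap
  simp only [polar_add_right, polar_sub_right, polar_smul_right, polar_smul_left, smul_eq_mul,
    QuadraticMap.map_smul, haa, haJa, hJaa, hJaJa, hza, hzJa, haJz, hJza, hJzJa, hJaJz, hQJa, hQJz,
    hJzz, haz, hJaz, mul_zero, zero_mul, add_zero, sub_zero, zero_smul, smul_zero]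
  match_scalars <;> field_simp <;> ring

/-- the `E`-Siegel map commutes with `J` -/
theorem esMap_J (h : JS Q J δ) (a z v : ι → F) :
    esMap Q J δ a z (J *ᵥ v) = J *ᵥ esMap Q J δ a z v := by
  have e1 : ∀ x y, polar Q x (J *ᵥ (J *ᵥ y)) = δ * polar Q x y := by
    intro x y
    rw [h.sq, polar_smul_right, smul_eq_mul]
  have e2 : ∀ x y, polar Q (J *ᵥ x) (J *ᵥ y) = δ * polar Q x y := h.polar_JJ
  have e3 : polar Q a (J *ᵥ v) = polar Q (J *ᵥ a) v := (h.sa a v).symm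
  have e4 : polar Q z (J *ᵥ v) = polar Q (J *ᵥ z) v := (h.sa z v).symm
  unfold esMap
  simp only [Matrix.mulVec_add, Matrix.mulVec_sub, Matrix.mulVec_smul, h.sq, e2, e3, e4, smul_smul]
  match_scalars <;> ring

theorem JS.J_ne_zero (h : JS Q J δ) {a : ι → F} (ha0 : a ≠ 0) : J *ᵥ a ≠ 0 := by
  intro h0
  have := h.sq a
  rw [h0, Matrix.mulVec_zero] at this
  rcases smul_eq_zero.1 this.symm with h1 | h1
  · exact h.delta_ne h1
  · exact ha0 h1

/-- the `E`-Siegel elements lie in every subgroup containing the centraliser of `J` in `Ω` -/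
theorem exists_es (hQ : (polarBilin Q).Nondegenerate) (hcard : 7 ≤ Fintype.card ι)
    (h : JS Q J δ) {M : Subgroup ↥(Cfsg.isometryGroup F ⇑Q)}
    (hcm : ∀ g ∈ Cfsg.Omega F ⇑Q,
      ((g : GL ι F) : Matrix ι ι F) * J = J * ((g : GL ι F) : Matrix ι ι F) → g ∈ M)
    {a z : ι → F} (ha0 : a ≠ 0) (ha : ESing Q J a) (haz : polar Q a z = 0)
    (hJaz : polar Q (J *ᵥ a) z = 0) :
    ∃ t ∈ M, ∀ v, toOG Q t v = esMap Q J δ a z v := by
  have haJz : polar Q a (J *ᵥ z) = 0 := by rw [← h.sa]; exact hJaz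
  obtain ⟨g₁, hg₁Ω, hg₁⟩ := exists_egen Q hQ hcard ha0 ha.1 haJz
  obtain ⟨g₂, hg₂Ω, hg₂⟩ := exists_egen Q hQ hcard (h.J_ne_zero ha0) (ha.mulJ h).1 hJaz
  obtain ⟨g₃, hg₃Ω, hg₃⟩ := exists_egen Q hQ hcard ha0 ha.1
    (y := (-polar Q z (J *ᵥ z) / 2) • J *ᵥ a) (by rw [polar_smul_right, ha.2, smul_zero])
  have hform : ∀ v, toOG Q (g₁ * g₂ * g₃) v = esMap Q J δ a z v := by
    intro v
    rw [map_mul, map_mul, LinearEquiv.mul_apply, LinearEquiv.mul_apply, hg₃, hg₂, hg₁,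
      egen3_eq h ha haz hJaz]
  refine ⟨g₁ * g₂ * g₃, hcm _ ((Cfsg.Omega F ⇑Q).mul_mem ((Cfsg.Omega F ⇑Q).mul_mem hg₁Ω hg₂Ω)
    hg₃Ω) ?_, hform⟩
  apply Matrix.toLin'.injective
  apply LinearMap.ext
  intro v
  rw [Matrix.toLin'_apply, Matrix.toLin'_apply, ← Matrix.mulVec_mulVec, ← Matrix.mulVec_mulVec,
    ← toOG_apply, ← toOG_apply, hform, hform, esMap_J h]

/-- the `E`-Siegel map fixes `a` -/
theorem esMap_self (h : JS Q J δ) {a z : ι → F} (ha : ESing Q J a) (haz : polar Q a z = 0)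
    (hJaz : polar Q (J *ᵥ a) z = 0) : esMap Q J δ a z a = a := by
  have haa : polar Q a a = 0 := pself Q ha.1
  have hJaa : polar Q (J *ᵥ a) a = 0 := by rw [polar_comm]; exact ha.2
  have hza : polar Q z a = 0 := by rw [polar_comm]; exact haz
  have hJza : polar Q (J *ᵥ z) a = 0 := by rw [polar_comm, ← h.sa]; exact hJaz
  unfold esMap
  rw [haa, hJaa, hza, hJza]
  simp

/-- on `a^⊥` the `E`-Siegel map is `egen (Ja) z` up to a multiple of `a` -/
theorem esMap_perp (h : JS Q J δ) {a z x : ι → F} (hax : polar Q a x = 0) :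
    esMap Q J δ a z x = egen Q (J *ᵥ a) z x
      - (polar Q (J *ᵥ z) x + polar Q z (J *ᵥ z) * polar Q (J *ᵥ a) x / 2) • a := by
  unfold esMap egen
  rw [hax]
  simp only [mul_zero, zero_div, add_zero, zero_smul]
  module

end Cfsg.Agent.Lib.Helper10.C3O42
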