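import Mathlib
import Cfsg.Agent.Lib.Helper11.T23UDefs
import Cfsg.Agent.Lib.Helper23.UTG

/-!
S5801 conjunct (8), market "C4U" (notes/S5801_C4_leaves.lean), leaf **TRANS** `exists_K_map`:
`SU_2(q) ⊗ 1` is transitive on the isotropic fibres `x ⊗ B`.

Proof: `t := h(x₂, x)`.  If `t = 0` then `x₂ ∈ F x` (`x^⊥ = F x` in dimension two) and `k = 1`.
Otherwise take a skew `c₁ ≠ 0`, `μ := c₁ / t^q`, `w := x₂ - μ x` (isotropic), `k := kA q w (-c₁⁻¹)`:
`h(x₂, w) = c₁`, so `k (x₂ ⊗ y) = (x₂ - w) ⊗ y = μ x ⊗ y`.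
-/

set_option autoImplicit false
set_option linter.unusedSectionVars false
set_option linter.unusedVariables false

namespace Cfsg.Agent.Lib.Helper10.C4UTrans
open Matrix
open Cfsg.Agent.Lib.Helper25.Tens Cfsg.Agent.Lib.Helper25.TensLeaf
open Cfsg.Agent.Lib.Helper20.UT Cfsg.Agent.Lib.Helper11.T23U

variable {F : Type*} [Field F] [Fintype F] {q : ℕ}

/-- in dimension two, `x^⊥ = F x` for an isotropic `x ≠ 0` -/
theorem perp_two {x v : Fin 2 → F} (hx0 : x ≠ 0) (hx : hv q x x = 0) (hvx : hv q v x = 0) :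
    ∃ l : F, v = l • x := by
  simp only [hv, Fin.sum_univ_two] at hx hvx
  have h0 : x 0 ≠ 0 := by
    intro h0
    rw [h0, zero_mul, zero_add] at hx
    have h1 : x 1 = 0 := by
      rcases mul_eq_zero.mp hx with h | h
      · exact h
      · exact eq_zero_of_pow_eq_zero h
    apply hx0
    funext i
    fin_cases i
    · exact h0
    · exact h1
  have h0q : (x 0) ^ q ≠ 0 := pow_ne_zero _ h0
  have h1 : x 1 ≠ 0 := by
    intro h1
    rw [h1, zero_mul, add_zero] at hx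
    rcases mul_eq_zero.mp hx with h | h
    · exact h0 h
    · exact h0q h
  have h1q : (x 1) ^ q ≠ 0 := pow_ne_zero _ h1
  refine ⟨v 0 / x 0, ?_⟩
  funext i
  fin_cases i
  · simp only [Fin.zero_eta, Pi.smul_apply, smul_eq_mul]
    field_simp
  · simp only [Fin.mk_one, Pi.smul_apply, smul_eq_mul]
    have e : (v 1 - v 0 / x 0 * x 1) * (x 1) ^ q = 0 := by
      field_simp
      linear_combination (x 0) * hvx - (v 0) * hx
    rcases mul_eq_zero.mp e with h | h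
    · exact sub_eq_zero.mp h
    · exact absurd h h1q

/-- **TRANS** -/
theorem exists_K_map (hF : Fintype.card F = q ^ 2) {x x₂ : Fin 2 → F} (hx0 : x ≠ 0) (hx : hv q x x = 0)
    (hx20 : x₂ ≠ 0) (hx2 : hv q x₂ x₂ = 0) :
    ∃ k ∈ KG 2 3 F ⊓ GS 2 3 q F, ∀ y : Fin 3 → F, mv k (pt x₂ y) ∈ FibA (b := 3) x := by
  by_cases ht : hv q x₂ x = 0
  · obtain ⟨l, hl⟩ := perp_two hx0 hx ht
    refine ⟨1, Subgroup.one_mem _, ?_⟩
    intro y
    rw [mv_one, hl, pt_smul_left, ← pt_smul_right]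
    exact mem_FibA.mpr ⟨_, rfl⟩
  · obtain ⟨c₁, hc₁0, hc₁⟩ := Cfsg.Agent.Lib.Helper23.UTLeaf.exists_skew (q := q) hF
    set t : F := hv q x₂ x with htdef
    have htq : t ^ q ≠ 0 := pow_ne_zero _ ht
    have hxx2 : hv q x x₂ = t ^ q := by rw [htdef, hv_conj hF]
    have htqq : (t ^ q) ^ q = t := pow_q_pow_q' hF t
    set μ : F := c₁ / t ^ q with hμdef
    have hμq : μ ^ q = -c₁ / t := by rw [hμdef, div_pow, hc₁, htqq]
    have hw : hv q (x₂ - μ • x) (x₂ - μ • x) = 0 := by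
      rw [hv_sub_left, hv_sub_right hF, hv_sub_right hF, hv_smul_left, hv_smul_left, hv_smul_right,
        hv_smul_right, hx2, hx, hxx2, ← htdef, hμq, hμdef]
      field_simp
      ring
    have hx2w : hv q x₂ (x₂ - μ • x) = c₁ := by
      rw [hv_sub_right hF, hv_smul_right, hx2, ← htdef, hμq]
      field_simp
      ring
    have hcs : (-c₁⁻¹) ^ q = -(-c₁⁻¹) := by
      rw [neg_pow_q hF, inv_pow, hc₁, inv_neg, neg_neg]
    refine ⟨kA q (x₂ - μ • x) (-c₁⁻¹) hw, ⟨kA_mem_KG q _ _ hw,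
      Cfsg.Agent.Lib.Helper20.UTLeaf.kA_mem_GS hF _ hcs hw⟩, ?_⟩
    intro y
    rw [mv_kA_pt, hx2w]
    have e : x₂ + (-c₁⁻¹ * c₁) • (x₂ - μ • x) = μ • x := by
      rw [neg_mul, inv_mul_cancel₀ hc₁0, neg_one_smul]
      abel
    rw [e, pt_smul_left, ← pt_smul_right]
    exact mem_FibA.mpr ⟨_, rfl⟩

end Cfsg.Agent.Lib.Helper10.C4UTrans
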