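import Mathlib
import Cfsg.Agent.Lib.Helper10.CNGroup
import Cfsg.Agent.Lib.Helper1.Basic

/-!
# CN-groups: maximal nilpotent subgroups are conjugate or of coprime orders (helper10)
-/

set_option autoImplicit false

namespace Cfsg.Agent.Lib.Helper10

open Subgroup
open scoped Pointwise

universe u
variable {G : Type u} [Group G] [Finite G]

/-- every nilpotent subgroup lies in a maximal one -/
theorem exists_maxnilp_ge (K : Subgroup G) (hK : Group.IsNilpotent K) :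
    ∃ H : Subgroup G, K ≤ H ∧ Group.IsNilpotent H ∧
      ∀ L : Subgroup G, Group.IsNilpotent L → H ≤ L → L = H := by
  let S : Set (Subgroup G) := {L | K ≤ L ∧ Group.IsNilpotent L}
  have hSne : S.Nonempty := ⟨K, le_refl K, hK⟩
  obtain ⟨H, hHS, hHmax⟩ := (Set.toFinite S).exists_maximal hSne
  refine ⟨H, hHS.1, hHS.2, ?_⟩
  intro L hL hHL
  have hLS : L ∈ S := ⟨hHS.1.trans hHL, hL⟩
  exact le_antisymm (hHmax hLS hHL) hHL

/-- a maximal nilpotent subgroup of a CN-group is the centralizer of any non-identity central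
element of its Sylow `p`-subgroup -/
theorem cn_maxnilp_eq_centralizer
    (hCN : ∀ g : G, g ≠ 1 → Group.IsNilpotent (centralizer ({g} : Set G)))
    (H : Subgroup G) (hH : Group.IsNilpotent H)
    (hmax : ∀ L : Subgroup G, Group.IsNilpotent L → H ≤ L → L = H)
    {p : ℕ} [Fact p.Prime] {P : Subgroup G} (hP : IsNilpSylow p H P) (w : G) (hwP : w ∈ P)
    (hw1 : w ≠ 1) (hwc : ∀ y ∈ P, y * w = w * y) : centralizer {w} = H :=
  hmax _ (hCN w hw1) (hP.le_centralizer hH w hwP hwc)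

/-- the Sylow `p`-subgroup of a maximal nilpotent subgroup of a CN-group, if nontrivial, is a
Sylow `p`-subgroup of the whole group -/
theorem cn_exists_sylow_eq
    (hCN : ∀ g : G, g ≠ 1 → Group.IsNilpotent (centralizer ({g} : Set G)))
    (H : Subgroup G) (hH : Group.IsNilpotent H)
    (hmax : ∀ L : Subgroup G, Group.IsNilpotent L → H ≤ L → L = H)
    {p : ℕ} [Fact p.Prime] {P : Subgroup G} (hP : IsNilpSylow p H P) (hP1 : P ≠ ⊥) :
    ∃ Q : Sylow p G, (Q : Subgroup G) = P := by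
  obtain ⟨Q, hQ⟩ := IsPGroup.exists_le_sylow hP.2.1
  refine ⟨Q, le_antisymm ?_ hQ⟩
  exact cn_sylow_max hCN H hH hmax hP hP1 Q Q.2 hQ

/-- two maximal nilpotent subgroups of a CN-group whose orders are divisible by a common prime are
conjugate -/
theorem cn_maxnilp_conj_of_dvd
    (hCN : ∀ g : G, g ≠ 1 → Group.IsNilpotent (centralizer ({g} : Set G)))
    (H₁ H₂ : Subgroup G) (hH₁ : Group.IsNilpotent H₁) (hH₂ : Group.IsNilpotent H₂)
    (hmax₁ : ∀ L : Subgroup G, Group.IsNilpotent L → H₁ ≤ L → L = H₁)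
    (hmax₂ : ∀ L : Subgroup G, Group.IsNilpotent L → H₂ ≤ L → L = H₂)
    (p : ℕ) [Fact p.Prime] (hp₁ : p ∣ Nat.card H₁) (hp₂ : p ∣ Nat.card H₂) :
    ∃ g : G, H₂ = H₁.map (MulAut.conj g).toMonoidHom := by
  obtain ⟨P₁, hP₁⟩ := nilp_exists_sylow H₁ hH₁ p
  obtain ⟨P₂, hP₂⟩ := nilp_exists_sylow H₂ hH₂ p
  have hP₁ne : P₁ ≠ ⊥ := hP₁.ne_bot hp₁
  have hP₂ne : P₂ ≠ ⊥ := hP₂.ne_bot hp₂
  obtain ⟨Q₁, hQ₁⟩ := cn_exists_sylow_eq hCN H₁ hH₁ hmax₁ hP₁ hP₁ne
  obtain ⟨Q₂, hQ₂⟩ := cn_exists_sylow_eq hCN H₂ hH₂ hmax₂ hP₂ hP₂ne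
  obtain ⟨g, hg⟩ := MulAction.exists_smul_eq G Q₁ Q₂
  have hg' : MulAut.conj g • P₁ = P₂ := by
    have := congrArg (fun Q : Sylow p G => (Q : Subgroup G)) hg
    simp only [Sylow.coe_subgroup_smul] at this
    rw [hQ₁, hQ₂] at this
    exact this
  obtain ⟨z, hzP, hzc, hz1⟩ := exists_central_of_pgroup hP₁.2.1 hP₁ne
  -- the conjugate element
  have hzP₂ : g * z * g⁻¹ ∈ P₂ := by
    rw [← hg', Cfsg.Agent.Lib.Helper1.mem_conj_smul_iff]
    have : g⁻¹ * (g * z * g⁻¹) * g = z := by group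
    rw [this]
    exact hzP
  have hz1' : g * z * g⁻¹ ≠ 1 := by
    intro h
    apply hz1
    have : z = g⁻¹ * (g * z * g⁻¹) * g := by group
    rw [this, h]
    group
  have hzc' : ∀ y ∈ P₂, y * (g * z * g⁻¹) = (g * z * g⁻¹) * y := by
    intro y hy
    rw [← hg', Cfsg.Agent.Lib.Helper1.mem_conj_smul_iff] at hy
    have h1 := hzc _ hy
    calc y * (g * z * g⁻¹) = g * ((g⁻¹ * y * g) * z) * g⁻¹ := by group
      _ = g * (z * (g⁻¹ * y * g)) * g⁻¹ := by rw [h1]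
      _ = (g * z * g⁻¹) * y := by group
  have e₁ := cn_maxnilp_eq_centralizer hCN H₁ hH₁ hmax₁ hP₁ z hzP hz1 hzc
  have e₂ := cn_maxnilp_eq_centralizer hCN H₂ hH₂ hmax₂ hP₂ (g * z * g⁻¹) hzP₂ hz1' hzc'
  refine ⟨g, ?_⟩
  ext x
  rw [Cfsg.Agent.Lib.Helper1.mem_map_conj_iff, ← e₁, ← e₂, mem_centralizer_singleton_iff,
    mem_centralizer_singleton_iff]
  constructor
  · intro h
    calc (g⁻¹ * x * g) * z = g⁻¹ * (x * (g * z * g⁻¹)) * g := by group
      _ = g⁻¹ * ((g * z * g⁻¹) * x) * g := by rw [h]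
      _ = z * (g⁻¹ * x * g) := by group
  · intro h
    calc x * (g * z * g⁻¹) = g * ((g⁻¹ * x * g) * z) * g⁻¹ := by group
      _ = g * (z * (g⁻¹ * x * g)) * g⁻¹ := by rw [h]
      _ = (g * z * g⁻¹) * x := by group

/-- two maximal nilpotent subgroups of a CN-group are conjugate or of coprime orders -/
theorem cn_maxnilp_conj_or_coprime
    (hCN : ∀ g : G, g ≠ 1 → Group.IsNilpotent (centralizer ({g} : Set G)))
    (H₁ H₂ : Subgroup G) (hH₁ : Group.IsNilpotent H₁) (hH₂ : Group.IsNilpotent H₂)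
    (hmax₁ : ∀ L : Subgroup G, Group.IsNilpotent L → H₁ ≤ L → L = H₁)
    (hmax₂ : ∀ L : Subgroup G, Group.IsNilpotent L → H₂ ≤ L → L = H₂) :
    (∃ g : G, H₂ = H₁.map (MulAut.conj g).toMonoidHom) ∨
      (Nat.card H₁).Coprime (Nat.card H₂) := by
  by_cases hcop : (Nat.card H₁).Coprime (Nat.card H₂)
  · exact Or.inr hcop
  · left
    obtain ⟨p, hp, hp₁, hp₂⟩ := Nat.Prime.not_coprime_iff_dvd.mp hcop
    haveI : Fact p.Prime := ⟨hp⟩
    exact cn_maxnilp_conj_of_dvd hCN H₁ H₂ hH₁ hH₂ hmax₁ hmax₂ p hp₁ hp₂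

/-- a non-identity element of `p`-power order in a subgroup forces `p ∣ |H|` -/
theorem prime_dvd_card_of_mem {p : ℕ} (hp : p.Prime) (H : Subgroup G) (x : G) (hx : x ∈ H)
    (hx1 : x ≠ 1) (hxp : IsPGroup p (zpowers x)) : p ∣ Nat.card H := by
  obtain ⟨k, hk⟩ := hxp ⟨x, mem_zpowers x⟩
  have hk' : x ^ p ^ k = 1 := by
    have := congrArg Subtype.val hk
    simpa using this
  have h1 : orderOf x ∣ p ^ k := orderOf_dvd_of_pow_eq_one hk'
  obtain ⟨j, _, hj⟩ := (Nat.dvd_prime_pow hp).mp h1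
  have hj0 : j ≠ 0 := by
    intro h0
    rw [h0, pow_zero] at hj
    exact hx1 (orderOf_eq_one_iff.mp hj)
  have h2 : p ∣ orderOf x := by
    rw [hj]
    exact dvd_pow_self p hj0
  have h3 : orderOf x ∣ Nat.card H := by
    rw [← Subgroup.orderOf_mk x hx]
    exact orderOf_dvd_natCard _
  exact h2.trans h3

theorem cn_commuting_primes
    (hCN : ∀ g : G, g ≠ 1 → Group.IsNilpotent (centralizer ({g} : Set G)))
    (p q r : ℕ) (hp : p.Prime) (hq : q.Prime) (hr : r.Prime) (x y y' z : G) (hx1 : x ≠ 1)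
    (hy1 : y ≠ 1) (hy'1 : y' ≠ 1) (hz1 : z ≠ 1) (hxp : IsPGroup p (zpowers x))
    (hyq : IsPGroup q (zpowers y)) (hy'q : IsPGroup q (zpowers y')) (hzr : IsPGroup r (zpowers z))
    (hxy : x * y = y * x) (hyz : y' * z = z * y') :
    ∃ x' z' : G, x' ≠ 1 ∧ z' ≠ 1 ∧ IsPGroup p (zpowers x') ∧ IsPGroup r (zpowers z') ∧
      x' * z' = z' * x' := by
  haveI : Fact p.Prime := ⟨hp⟩
  haveI : Fact q.Prime := ⟨hq⟩
  haveI : Fact r.Prime := ⟨hr⟩
  -- maximal nilpotent subgroups containing the two commuting pairs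
  obtain ⟨H, hCH, hH, hmax⟩ := exists_maxnilp_ge (centralizer {x}) (hCN x hx1)
  obtain ⟨H', hCH', hH', hmax'⟩ := exists_maxnilp_ge (centralizer {y'}) (hCN y' hy'1)
  have hxH : x ∈ H := hCH (mem_centralizer_singleton_iff.mpr rfl)
  have hyH : y ∈ H := hCH (mem_centralizer_singleton_iff.mpr hxy.symm)
  have hy'H' : y' ∈ H' := hCH' (mem_centralizer_singleton_iff.mpr rfl)
  have hzH' : z ∈ H' := hCH' (mem_centralizer_singleton_iff.mpr hyz.symm)
  have hpH : p ∣ Nat.card H := prime_dvd_card_of_mem hp H x hxH hx1 hxp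
  have hqH : q ∣ Nat.card H := prime_dvd_card_of_mem hq H y hyH hy1 hyq
  have hqH' : q ∣ Nat.card H' := prime_dvd_card_of_mem hq H' y' hy'H' hy'1 hy'q
  have hrH' : r ∣ Nat.card H' := prime_dvd_card_of_mem hr H' z hzH' hz1 hzr
  obtain ⟨g, hg⟩ := cn_maxnilp_conj_of_dvd hCN H H' hH hH' hmax hmax' q hqH hqH'
  have hcard : Nat.card H' = Nat.card H := by
    rw [hg]
    exact Subgroup.card_map_of_injective (MulAut.conj g).injective
  have hrH : r ∣ Nat.card H := hcard ▸ hrH'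
  obtain ⟨a, ha⟩ := exists_prime_orderOf_dvd_card' (G := H) p hpH
  obtain ⟨b, hb⟩ := exists_prime_orderOf_dvd_card' (G := H) r hrH
  have ha' : orderOf (a : G) = p := by rw [Subgroup.orderOf_coe]; exact ha
  have hb' : orderOf (b : G) = r := by rw [Subgroup.orderOf_coe]; exact hb
  have hap : (a : G) ^ p ^ 1 = 1 := by rw [pow_one, ← ha', pow_orderOf_eq_one]
  have hbr : (b : G) ^ r ^ 1 = 1 := by rw [pow_one, ← hb', pow_orderOf_eq_one]
  have ha1 : (a : G) ≠ 1 := by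
    intro h
    rw [h, orderOf_one] at ha'
    exact hp.ne_one ha'.symm
  have hb1 : (b : G) ≠ 1 := by
    intro h
    rw [h, orderOf_one] at hb'
    exact hr.ne_one hb'.symm
  by_cases hpr : p = r
  · subst hpr
    exact ⟨a, a, ha1, ha1, isPGroup_zpowers_of_pow_eq_one _ 1 hap,
      isPGroup_zpowers_of_pow_eq_one _ 1 hap, rfl⟩
  · refine ⟨a, b, ha1, hb1, isPGroup_zpowers_of_pow_eq_one _ 1 hap,
      isPGroup_zpowers_of_pow_eq_one _ 1 hbr, ?_⟩
    apply nilp_commute_of_coprime H hH (q := p) a.2 b.2 1 hap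
    rw [hb']
    exact (Nat.coprime_primes hr hp).mpr (Ne.symm hpr)

end Cfsg.Agent.Lib.Helper10
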