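import Cfsg.Agent.Lib.Helper11.CTDefs2

/-! Curtis–Tits (helper11's plan), leaf TREE, part a (helper10): the root elements `y r t` of all roots along the
tree — everything that does not depend on the leaves R2A / TOR2, plus the `_of` forms (with the facts of those
leaves as explicit hypotheses) of `y_eq_conj`, `HS_conj_y`, `y_add`. -/

set_option autoImplicit false

namespace Cfsg.Agent.Lib.Helper10.CTTREEa

open Cfsg Cfsg.Lie Matrix
open Cfsg.Agent.Lib.Helper7
open Cfsg.Agent.Lib.Helper11.StPres
open Cfsg.Agent.Lib.Helper11.CT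

section
variable {D : ChevalleyDatum} (hD : D ∈ [chevD4, chevF4, chevE6, chevE7, chevE8])
variable {K : Type*} [Field K]

theorem y_of_phi2 (par dep : List ℕ) (r : ℕ) (h : Phi2 D r) (t : K) : y D K par dep r t = X D K r t := by
  unfold y
  cases dep.getD r 0 with
  | zero => rfl
  | succ f =>
    rw [yAux]
    exact if_pos h

theorem phi2_of_rs {r : ℕ} (h : (rsD D).phi2 r = true) : Phi2 D r := by
  unfold RS.phi2 at h
  rw [List.any_eq_true] at h
  obtain ⟨i, _, h⟩ := h
  rw [List.any_eq_true] at h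
  obtain ⟨j, _, h⟩ := h
  exact ⟨i, j, of_decide_eq_true h⟩

include hD in
theorem inRankTwoSub_simple (l j : ℕ) (hl : l < D.rank) (hj : j < D.rank) : D.InRankTwoSub l j (D.simple l) := by
  have hF := fundFacts_of_mem D (mem7 hD) l hl
  refine ⟨hF.hp, hl, hj, ?_⟩
  intro k hk hkl _
  rw [hF.corUnit k hk, if_neg hkl]

include hD in
theorem phi2_simple (l : ℕ) (hl : l < D.rank) : Phi2 D (D.simple l) := ⟨l, l, inRankTwoSub_simple hD l l hl hl⟩

include hD in
theorem phi2_neg_simple (l : ℕ) (hl : l < D.rank) : Phi2 D (D.neg (D.simple l)) :=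
  ⟨l, l, (r2Closed_of_mem D hD).neg l l _ (inRankTwoSub_simple hD l l hl hl)⟩

theorem θ_wordG (w : List (ℕ × K)) (hw : ∀ p ∈ w, Phi2 D p.1) :
    θ D hD K (wordG (X D K) w) = wordGL D (mem7 hD) K w := by
  induction w with
  | nil => simp [wordG, wordGL]
  | cons p w ih =>
    rw [wordG_cons, map_mul, θ_X D hD K p.1 (hw p (List.mem_cons_self ..)),
      ih (fun q hq => hw q (List.mem_cons_of_mem _ hq))]
    unfold wordGL
    rw [List.map_cons, List.prod_cons]

theorem θ_nn (k : ℕ) (hk : k < D.rank) (t : K) :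
    θ D hD K (nn D K k t) = wordGL D (mem7 hD) K (D.nWord (D.simple k) t) := by
  unfold nn
  apply θ_wordG
  intro p hp
  unfold ChevalleyDatum.nWord at hp
  simp only [List.mem_cons, List.not_mem_nil, or_false] at hp
  rcases hp with rfl | rfl | rfl
  · exact phi2_simple hD k hk
  · exact phi2_neg_simple hD k hk
  · exact phi2_simple hD k hk

variable (par dep : List ℕ) (htree : (rsD D).treeOK par dep = true)

include htree in
theorem tree_facts (r : ℕ) (hr : r < D.nroots) (h : ¬ Phi2 D r) :
    par.getD r 0 < D.rank ∧ dep.getD (D.reflectRoot (par.getD r 0) r) 0 + 1 = dep.getD r 0 := by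
  have ht := htree
  unfold RS.treeOK at ht
  rw [List.all_eq_true] at ht
  have h1 := ht r (List.mem_range.mpr hr)
  rw [Bool.or_eq_true] at h1
  rcases h1 with h1 | h1
  · exact absurd (phi2_of_rs h1) h
  · rw [Bool.and_eq_true, decide_eq_true_eq, beq_iff_eq] at h1
    obtain ⟨hk, hdep⟩ := h1
    have hk' : par.getD r 0 < D.rank := hk
    refine ⟨hk', ?_⟩
    have hrf : (rsD D).rf (par.getD r 0) r = D.reflectRoot (par.getD r 0) r := by
      show (if par.getD r 0 < D.rank ∧ r < D.nroots then D.reflectRoot (par.getD r 0) r else 0) = _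
      rw [if_pos ⟨hk', hr⟩]
    rw [hrf] at hdep
    exact hdep

include htree in
theorem y_step (r : ℕ) (hr : r < D.nroots) (h : ¬ Phi2 D r) (t : K) :
    par.getD r 0 < D.rank ∧ y D K par dep r t = nn D K (par.getD r 0) 1 *
      y D K par dep (D.reflectRoot (par.getD r 0) r)
        (((etaFn D (par.getD r 0) (D.reflectRoot (par.getD r 0) r) : ℤ) : K) * t) *
      (nn D K (par.getD r 0) 1)⁻¹ := by
  obtain ⟨hk, hdep⟩ := tree_facts par dep htree r hr h
  refine ⟨hk, ?_⟩
  unfold y
  rw [← hdep, yAux, if_neg h]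

include htree in
theorem θ_y (r : ℕ) (hr : r < D.nroots) (t : K) :
    θ D hD K (y D K par dep r t) = xGL D (mem7 hD) K r t := by
  induction hn : dep.getD r 0 using Nat.strong_induction_on generalizing r t with
  | _ n ih =>
    by_cases h : Phi2 D r
    · rw [y_of_phi2 par dep r h t, θ_X D hD K r h t]
    · obtain ⟨hk, hdep⟩ := tree_facts par dep htree r hr h
      obtain ⟨_, hy⟩ := y_step par dep htree r hr h t
      have hC := conjFacts_of_mem D (mem7 hD) (par.getD r 0) hk
      have hs : D.reflectRoot (par.getD r 0) r < D.nroots := hC.wlt r hr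
      rw [hy, map_mul, map_mul, map_inv, θ_nn hD _ hk,
        ih (dep.getD (D.reflectRoot (par.getD r 0) r) 0) (by omega) _ hs _ rfl,
        nGL_conj_xGL D (mem7 hD) K _ hk _ hs, hC.winv r hr, ← mul_assoc,
        eta_sq D (mem7 hD) K _ hk _ hs, one_mul]

end

end Cfsg.Agent.Lib.Helper10.CTTREEa
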