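import Cfsg.Agent.Lib.Helper10.CTTREEa

/-! Curtis–Tits (helper11's plan), leaf TREE, part b (helper10): the `_of` forms of `y_eq_conj`, `HS_conj_y`,
`y_add` (the facts of the leaves R2A / TOR2 are explicit hypotheses). -/

set_option autoImplicit false

namespace Cfsg.Agent.Lib.Helper10.CTTREEb

open Cfsg Cfsg.Lie Matrix
open Cfsg.Agent.Lib.Helper7
open Cfsg.Agent.Lib.Helper11.StPres
open Cfsg.Agent.Lib.Helper11.CT
open Cfsg.Agent.Lib.Helper10.CTTREEa

section
variable {D : ChevalleyDatum} (hD : D ∈ [chevD4, chevF4, chevE6, chevE7, chevE8])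
variable {K : Type*} [Field K]

/-- the statement of the leaf `X_eq_conj` (R2A) -/
def XEqConj (D : ChevalleyDatum) (K : Type*) [Field K] : Prop :=
  ∀ i j r : ℕ, D.InRankTwoSub i j r →
    ∃ L : List ℕ, (∀ l ∈ L, l = i ∨ l = j) ∧ ∃ l, (l = i ∨ l = j) ∧ ∃ c : K, c ≠ 0 ∧
      ∀ t : K, X D K r t = nW D K L * X D K (D.simple l) (c * t) * (nW D K L)⁻¹

/-- the statement of the leaf `hh_conj_X` (TOR2) -/
def HhConjX (D : ChevalleyDatum) (K : Type*) [Field K] : Prop :=
  ∀ (k : ℕ) (u : K), u ≠ 0 → ∀ i j r : ℕ, D.InRankTwoSub i j r → (k = i ∨ k = j) →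
    ∃ c : K, c ≠ 0 ∧ ∀ t : K, hh D K k u * X D K r t * (hh D K k u)⁻¹ = X D K r (c * t)

theorem nn_mem_NS (k : ℕ) (hk : k < D.rank) : nn D K k 1 ∈ NS D K :=
  Subgroup.subset_closure ⟨k, hk, 1, one_ne_zero, rfl⟩

theorem nW_mem_NS (L : List ℕ) (hL : ∀ l ∈ L, l < D.rank) : nW D K L ∈ NS D K := by
  induction L with
  | nil => rw [nW_nil]; exact Subgroup.one_mem _
  | cons k L ih =>
    rw [nW_cons]
    exact Subgroup.mul_mem _ (nn_mem_NS k (hL k (List.mem_cons_self ..)))
      (ih (fun l hl => hL l (List.mem_cons_of_mem _ hl)))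

include hD in
theorem inRankTwoSub_simple' (i j l : ℕ) (hi : i < D.rank) (hj : j < D.rank) (hl : l = i ∨ l = j) :
    D.InRankTwoSub i j (D.simple l) := by
  have hlr : l < D.rank := by rcases hl with rfl | rfl <;> assumption
  have hF := fundFacts_of_mem D (mem7 hD) l hlr
  refine ⟨hF.hp, hi, hj, ?_⟩
  intro k hk hki hkj
  rw [hF.corUnit k hk, if_neg]
  rcases hl with rfl | rfl
  · exact hki
  · exact hkj

include hD in
theorem eta_ne_zero (i : ℕ) (hi : i < D.rank) (s : ℕ) (hs : s < D.nroots) :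
    ((etaFn D i s : ℤ) : K) ≠ 0 := by
  intro h
  have := eta_sq D (mem7 hD) K i hi s hs
  rw [h, mul_zero] at this
  exact zero_ne_one this

variable (par dep : List ℕ) (htree : (rsD D).treeOK par dep = true)

include hD htree in
theorem y_eq_conj_of (hX : XEqConj D K) (r : ℕ) (hr : r < D.nroots) :
    ∃ g ∈ NS D K, ∃ l, l < D.rank ∧ ∃ c : K, c ≠ 0 ∧
      ∀ t : K, y D K par dep r t = g * X D K (D.simple l) (c * t) * g⁻¹ := by
  induction hn : dep.getD r 0 using Nat.strong_induction_on generalizing r with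
  | _ n ih =>
    by_cases h : Phi2 D r
    · obtain ⟨i, j, hij⟩ := h
      obtain ⟨L, hL, l, hl, c, hc, hXr⟩ := hX i j r hij
      refine ⟨nW D K L, nW_mem_NS L ?_, l, ?_, c, hc, ?_⟩
      · intro l' hl'
        rcases hL l' hl' with rfl | rfl
        · exact hij.2.1
        · exact hij.2.2.1
      · rcases hl with rfl | rfl
        · exact hij.2.1
        · exact hij.2.2.1
      · intro t
        rw [y_of_phi2 par dep r ⟨i, j, hij⟩ t, hXr t]
    · obtain ⟨hk, hdep⟩ := tree_facts par dep htree r hr h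
      have hC := conjFacts_of_mem D (mem7 hD) (par.getD r 0) hk
      have hs : D.reflectRoot (par.getD r 0) r < D.nroots := hC.wlt r hr
      obtain ⟨g, hg, l, hl, c, hc, hyg⟩ :=
        ih (dep.getD (D.reflectRoot (par.getD r 0) r) 0) (by omega) _ hs rfl
      refine ⟨nn D K (par.getD r 0) 1 * g, Subgroup.mul_mem _ (nn_mem_NS _ hk) hg, l, hl,
        c * ((etaFn D (par.getD r 0) (D.reflectRoot (par.getD r 0) r) : ℤ) : K),
        mul_ne_zero hc (eta_ne_zero hD _ hk _ hs), ?_⟩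
      intro t
      obtain ⟨_, hy⟩ := y_step par dep htree r hr h t
      rw [hy, hyg, mul_assoc c]
      group

include hD in
/-- every element of `H̄` acts on the fundamental root elements by scalars -/
theorem HS_conj_X_simple (hH : HhConjX D K) (h : D.CurtisTitsGroup K) (hh' : h ∈ HS D K) (l : ℕ)
    (hl : l < D.rank) :
    ∃ c : K, c ≠ 0 ∧ ∀ t : K, h * X D K (D.simple l) t * h⁻¹ = X D K (D.simple l) (c * t) := by
  unfold HS at hh'
  induction hh' using Subgroup.closure_induction with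
  | mem x hx =>
    obtain ⟨k, hk, u, hu, rfl⟩ := hx
    exact hH k u hu k l (D.simple l) (inRankTwoSub_simple' hD k l l hk hl (Or.inr rfl)) (Or.inl rfl)
  | one => exact ⟨1, one_ne_zero, fun t => by rw [one_mul, one_mul, inv_one, mul_one]⟩
  | mul a b _ _ iha ihb =>
    obtain ⟨ca, hca, ha⟩ := iha
    obtain ⟨cb, hcb, hb⟩ := ihb
    refine ⟨ca * cb, mul_ne_zero hca hcb, fun t => ?_⟩
    have : a * b * X D K (D.simple l) t * (a * b)⁻¹ = a * (b * X D K (D.simple l) t * b⁻¹) * a⁻¹ := by group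
    rw [this, hb, ha, mul_assoc]
  | inv a _ iha =>
    obtain ⟨ca, hca, ha⟩ := iha
    refine ⟨ca⁻¹, inv_ne_zero hca, fun t => ?_⟩
    have h1 := ha (ca⁻¹ * t)
    rw [← mul_assoc, mul_inv_cancel₀ hca, one_mul] at h1
    rw [← h1]
    group

include hD htree in
theorem HS_conj_y_of (hX : XEqConj D K) (hH : HhConjX D K)
    (hN : NS D K ≤ Subgroup.normalizer (HS D K : Set (D.CurtisTitsGroup K)))
    (h : D.CurtisTitsGroup K) (hh' : h ∈ HS D K) (r : ℕ) (hr : r < D.nroots) :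
    ∃ c : K, c ≠ 0 ∧ ∀ t : K, h * y D K par dep r t * h⁻¹ = y D K par dep r (c * t) := by
  obtain ⟨g, hg, l, hl, c0, hc0, hy⟩ := y_eq_conj_of hD par dep htree hX r hr
  have hgn : g⁻¹ ∈ Subgroup.normalizer (HS D K : Set (D.CurtisTitsGroup K)) :=
    Subgroup.inv_mem _ (hN hg)
  have hh2 : g⁻¹ * h * g ∈ HS D K := by
    have := (Subgroup.mem_normalizer_iff.mp hgn h).mp hh'
    rwa [inv_inv] at this
  obtain ⟨c, hc, hcX⟩ := HS_conj_X_simple hD hH _ hh2 l hl
  refine ⟨c, hc, fun t => ?_⟩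
  rw [hy, hy]
  have : h * (g * X D K (D.simple l) (c0 * t) * g⁻¹) * h⁻¹ =
      g * ((g⁻¹ * h * g) * X D K (D.simple l) (c0 * t) * (g⁻¹ * h * g)⁻¹) * g⁻¹ := by group
  have h2 : c * (c0 * t) = c0 * (c * t) := by ring
  rw [this, hcX, h2]

include hD htree in
theorem y_add_of (hX : XEqConj D K) (r : ℕ) (hr : r < D.nroots) (t u : K) :
    y D K par dep r t * y D K par dep r u = y D K par dep r (t + u) := by
  obtain ⟨g, _, l, hl, c, _, hy⟩ := y_eq_conj_of hD par dep htree hX r hr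
  rw [hy, hy, hy, mul_add, ← X_add (inRankTwoSub_simple hD l l hl hl)]
  group

end

end Cfsg.Agent.Lib.Helper10.CTTREEb
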