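/-
Degree bound for an irreducible character with a central section in the kernel (helper10).
-/
import Mathlib
import Cfsg.Prelude.Def_Characters
import Cfsg.Agent.Lib.Lead.CharInd
import Cfsg.Agent.Lib.Lead.Taketa
import Cfsg.Agent.Lib.Helper2.MGroup
import Cfsg.Agent.Lib.Helper24.Deflation
import Cfsg.Agent.Lib.Helper6.CliffordCorr
import Cfsg.Agent.Lib.Helper6.CharExtra

set_option autoImplicit false

namespace Cfsg.Agent.Lib.Helper10

open Cfsg Cfsg.Agent.CharLib
open scoped ComplexConjugate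

universe u

/-- If all commutators `[d, c]` (`d ∈ D`) lie in the kernel of the irreducible character `η`, then
`η(1)² |D| ≤ |K|`. -/
theorem irr_degree_sq_le_of_central {K : Type u} [Group K] [Fintype K] {η : K → ℂ}
    (hη : IsIrrCharacter K η) (D : Subgroup K)
    (h : ∀ d ∈ D, ∀ c : K, η (d * c * d⁻¹ * c⁻¹) = η 1) :
    ‖η 1‖ ^ 2 * (Nat.card D : ℝ) ≤ (Nat.card K : ℝ) := by
  classical
  have hinner := classInner_irr hη hη
  rw [if_pos rfl] at hinner
  obtain ⟨n, ρ, hirr, hρ⟩ := hη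
  have hη1 : η 1 = n := by rw [← hρ, Representation.char_one, Module.finrank_fin_fun]
  -- values on D have norm n
  have hD : ∀ d ∈ D, ‖η d‖ = n := by
    intro d hd
    have hcomm : ∀ c : K, ρ d ∘ₗ ρ c = ρ c ∘ₗ ρ d := by
      intro c
      have h1 : ρ (d * c * d⁻¹ * c⁻¹) = 1 := by
        apply Cfsg.Agent.Lib.Helper24.rep_eq_one_of_char_eq_finrank
        rw [hρ, h d hd c, hη1, Module.finrank_fin_fun]
      have h2 : d * c = (d * c * d⁻¹ * c⁻¹) * (c * d) := by group
      have h3 : ρ (d * c) = ρ (c * d) := by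
        rw [h2, map_mul, h1, one_mul]
      rw [map_mul, map_mul] at h3
      exact h3
    obtain ⟨a, ha⟩ := Cfsg.Agent.Lib.Helper24.exists_eq_smul_one_of_comm ρ (ρ d) hcomm
    obtain ⟨ι, hι, b, μ, -, h2, -, h4⟩ := exists_eigenbasis ρ d
    have hpos := Cfsg.Agent.Lib.Helper24.finrank_pos_of_isIrreducible ρ
    have hne : Nonempty ι := by
      rw [Module.finrank_eq_card_basis b] at hpos
      exact Fintype.card_pos_iff.mp hpos
    obtain ⟨i⟩ := hne
    have h5 : a • b i = μ i • b i := by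
      rw [← h2 i, ha]; simp
    have h6 : a = μ i := by
      have h7 : (a - μ i) • b i = 0 := by rw [sub_smul, h5, sub_self]
      rcases smul_eq_zero.mp h7 with h8 | h8
      · exact sub_eq_zero.mp h8
      · exact absurd h8 (b.ne_zero i)
    have h7 : η d = a * n := by
      rw [← hρ]
      unfold Representation.character
      rw [ha, map_smul, LinearMap.trace_one, Module.finrank_fin_fun, smul_eq_mul]
    rw [h7, norm_mul, h6, h4 i, one_mul]
    simp
  -- sum of squares
  have hsum : (∑ k : K, ‖η k‖ ^ 2 : ℝ) = Nat.card K := by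
    unfold classInner at hinner
    have hK : (Nat.card K : ℂ) ≠ 0 := by
      have : 0 < Nat.card K := Nat.card_pos
      exact_mod_cast this.ne'
    have h1 : ∑ g : K, η g * conj (η g) = Nat.card K := by
      field_simp at hinner
      exact hinner
    have h2 : ((∑ k : K, ‖η k‖ ^ 2 : ℝ) : ℂ) = (Nat.card K : ℂ) := by
      rw [← h1]
      push_cast
      apply Finset.sum_congr rfl
      intro k _
      rw [Complex.mul_conj, Complex.normSq_eq_norm_sq]
      push_cast
      rfl
    exact_mod_cast h2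
  have hle : ∑ d : D, ‖η d‖ ^ 2 ≤ ∑ k : K, ‖η k‖ ^ 2 := by
    calc ∑ d : D, ‖η d‖ ^ 2
        = ∑ k ∈ Finset.univ.map ⟨(Subtype.val : D → K), Subtype.val_injective⟩, ‖η k‖ ^ 2 := by
          rw [Finset.sum_map]; rfl
      _ ≤ ∑ k : K, ‖η k‖ ^ 2 :=
          Finset.sum_le_sum_of_subset_of_nonneg (Finset.subset_univ _) (fun _ _ _ => sq_nonneg _)
  have hconst : ∑ d : D, ‖η d‖ ^ 2 = (Nat.card D : ℝ) * (n : ℝ) ^ 2 := by
    rw [Finset.sum_congr rfl (fun d _ => by rw [hD d.1 d.2]), Finset.sum_const, Finset.card_univ,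
      nsmul_eq_mul, Nat.card_eq_fintype_card]
  rw [hη1]
  have : ‖(n : ℂ)‖ = n := by simp
  rw [this, ← hsum]
  linarith [hle, hconst]

/-- **Peterfalvi-type degree bound.** -/
theorem degree_bound_central_section {G : Type u} [Group G] [Finite G] (ψ : G → ℂ)
    (hψ : Cfsg.IsIrrCharacter G ψ) (B C D : Subgroup G) (hDC : D ≤ C)
    (hcent : ∀ d ∈ D, ∀ c ∈ C, d * c * d⁻¹ * c⁻¹ ∈ B) (hker : ∀ b ∈ B, ψ b = ψ 1) :
    ‖ψ 1‖ ^ 2 * (Nat.card C : ℝ) * (Nat.card D : ℝ) ≤ (Nat.card G : ℝ) ^ 2 := by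
  classical
  have : Fintype G := Fintype.ofFinite G
  have hψc : IsCharacter G ψ := IsIrrCharacter.isCharacter hψ
  set Φ : C → ℂ := fun c => ψ c with hΦdef
  have hΦ : IsCharacter C Φ := IsCharacter.restrict hψc C
  obtain ⟨N, hNpos, hN⟩ := IsIrrCharacter.apply_one_pos hψ
  have hΦne : Φ ≠ 0 := by
    intro h0
    have h1 := congrFun h0 1
    simp only [hΦdef, OneMemClass.coe_one, Pi.zero_apply] at h1
    rw [hN] at h1
    have : N = 0 := by exact_mod_cast h1
    omega
  obtain ⟨η, hη, hne⟩ := Cfsg.Agent.Lib.Helper6.IsCharacter.exists_constituent hΦ hΦne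
  -- Frobenius reciprocity
  have hfrob := frobenius_reciprocity C η (IsCharacter.isClassFunction hψc)
  have hne2 : classInner (indFun C η) ψ ≠ 0 := by
    rw [hfrob]
    change classInner η Φ ≠ 0
    intro h0
    apply hne
    rw [← Cfsg.Agent.CharLib.classInner_conj_symm, h0, map_zero]
  have hind : IsCharacter G (indFun C η) := IsCharacter.indFun C (IsIrrCharacter.isCharacter hη)
  have hsub := Cfsg.Agent.Lib.Helper6.IsCharacter.sub_constituent hind hψ hne2
  obtain ⟨m, hm⟩ := IsCharacter.apply_one hsub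
  obtain ⟨n, hnpos, hn⟩ := IsIrrCharacter.apply_one_pos hη
  rw [Pi.sub_apply, indFun_apply_one, hn, hN] at hm
  have hCpos : (0 : ℝ) < Nat.card C := by exact_mod_cast Nat.card_pos
  have hCne : (Nat.card C : ℂ) ≠ 0 := by
    have : 0 < Nat.card C := Nat.card_pos
    exact_mod_cast this.ne'
  -- N * |C| ≤ |G| * n
  have hdeg : (N : ℝ) * Nat.card C ≤ Nat.card G * n := by
    have h1 : (Nat.card G : ℂ) * n = ((N + m : ℕ) : ℂ) * Nat.card C := by
      push_cast
      field_simp at hm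
      linear_combination hm
    have h2 : Nat.card G * n = (N + m) * Nat.card C := by exact_mod_cast h1
    have h3 : N * Nat.card C ≤ Nat.card G * n := by
      rw [h2]; exact Nat.mul_le_mul_right _ (Nat.le_add_right _ _)
    exact_mod_cast h3
  -- kernel
  have hcentη : ∀ d ∈ D.subgroupOf C, ∀ c : C, η (d * c * d⁻¹ * c⁻¹) = η 1 := by
    intro d hd c
    apply Cfsg.Agent.Lib.Helper2.constituent_apply_eq hΦ hη hne
    simp only [hΦdef]
    have h1 := hcent d.1 (Subgroup.mem_subgroupOf.mp hd) c.1 c.2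
    have h2 := hker _ h1
    simpa using h2
  have hA := irr_degree_sq_le_of_central hη (D.subgroupOf C) hcentη
  have hcardD : Nat.card (D.subgroupOf C) = Nat.card D :=
    Nat.card_congr (Subgroup.subgroupOfEquivOfLe hDC).toEquiv
  rw [hcardD, hn] at hA
  have hnn : ‖(n : ℂ)‖ = n := by simp
  rw [hnn] at hA
  rw [hN]
  have hNN : ‖(N : ℂ)‖ = N := by simp
  rw [hNN]
  -- arithmetic
  have hDnn : (0 : ℝ) ≤ Nat.card D := Nat.cast_nonneg _
  have hsq : ((N : ℝ) * Nat.card C) ^ 2 ≤ ((Nat.card G : ℝ) * n) ^ 2 := by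
    apply pow_le_pow_left₀ _ hdeg
    positivity
  apply le_of_mul_le_mul_right _ hCpos
  calc (N : ℝ) ^ 2 * Nat.card C * Nat.card D * Nat.card C
      = ((N : ℝ) * Nat.card C) ^ 2 * Nat.card D := by ring
    _ ≤ ((Nat.card G : ℝ) * n) ^ 2 * Nat.card D := mul_le_mul_of_nonneg_right hsq hDnn
    _ = (Nat.card G : ℝ) ^ 2 * ((n : ℝ) ^ 2 * Nat.card D) := by ring
    _ ≤ (Nat.card G : ℝ) ^ 2 * Nat.card C := mul_le_mul_of_nonneg_left hA (sq_nonneg _)

end Cfsg.Agent.Lib.Helper10
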