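import Cfsg.Agent.Lib.Helper10.HSSimple

set_option autoImplicit false
set_option linter.style.haveILetI false
set_option linter.unusedSectionVars false

/-!
A simplicity criterion for a perfect primitive group of degree 100 whose point stabiliser acts
primitively on one of its orbits with a solvable two-point stabiliser; solvability of groups of
order `2 ^ k * 3`.
-/

namespace Cfsg.Agent.Lib.Helper10.ChainSimple

open MulAction Cfsg.Agent.Lib.Helper10.HSSimple

section regular

variable {H V : Type*} [Group H] [Finite H] [MulAction H V] [Fintype V] [FaithfulSMul H V]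

/-- a transitive faithful group of degree 100 with primitive-type condition has no regular normal
subgroup -/
theorem regular_normal_false (hV : Fintype.card V = 100) [IsPretransitive H V] (v₀ : V)
    (hinv : ∀ Δ : Set V, v₀ ∈ Δ → (∀ k ∈ stabilizer H v₀, ∀ x ∈ Δ, k • x ∈ Δ) →
      Δ.ncard ∣ 100 → Δ = {v₀} ∨ Δ = Set.univ)
    (N : Subgroup H) [N.Normal] (hbot : N ≠ ⊥)
    (hdisj : (stabilizer H v₀).subgroupOf N = ⊥) : False := by
  have htr := transitive_of_normal hV v₀ hinv N hbot
  have hcard : Nat.card N = 100 := by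
    rw [card_eq_of_transitive N v₀ htr, hdisj, Subgroup.card_bot, Nat.card_eq_fintype_card, hV]
  haveI : Fact (Nat.Prime 5) := ⟨by norm_num⟩
  obtain ⟨P⟩ : Nonempty (Sylow 5 ↥N) := inferInstance
  have h5 : 5 ∣ Nat.card ↥N := by rw [hcard]; norm_num
  have hPne : (P : Subgroup ↥N) ≠ ⊥ := P.ne_bot_of_dvd_card h5
  have hn1 : Nat.card (Sylow 5 ↥N) ≡ 1 [MOD 5] := card_sylow_modEq_one 5 ↥N
  have hn2 : Nat.card (Sylow 5 ↥N) ∣ (P : Subgroup ↥N).index := P.card_dvd_index
  have hn3 : (P : Subgroup ↥N).index ∣ 100 := by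
    rw [← hcard]; exact Subgroup.index_dvd_card _
  have hn4 : ¬ 5 ∣ (P : Subgroup ↥N).index := P.not_dvd_index
  have hn5 : (P : Subgroup ↥N).index ∣ 4 := by
    have hc : Nat.Coprime (P : Subgroup ↥N).index 25 := by
      have : Nat.Coprime (P : Subgroup ↥N).index 5 :=
        ((Nat.Prime.coprime_iff_not_dvd (by norm_num)).mpr hn4).symm
      exact Nat.Coprime.pow_right 2 this
    have h100 : (P : Subgroup ↥N).index ∣ 4 * 25 := by norm_num; exact hn3
    exact hc.dvd_of_dvd_mul_right h100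
  have hn6 : Nat.card (Sylow 5 ↥N) = 1 := by
    have h7 : Nat.card (Sylow 5 ↥N) ∣ 4 := hn2.trans hn5
    have h8 : Nat.card (Sylow 5 ↥N) ≤ 4 := Nat.le_of_dvd (by norm_num) h7
    have h9 := hn1
    unfold Nat.ModEq at h9
    interval_cases (Nat.card (Sylow 5 ↥N)) <;> simp_all
  haveI : Subsingleton (Sylow 5 ↥N) := (Nat.card_eq_one_iff_unique.mp hn6).1
  haveI hPn : (P : Subgroup ↥N).Normal := P.normal_of_subsingleton
  haveI hPc : (P : Subgroup ↥N).Characteristic := P.characteristic_of_normal hPn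
  let Q : Subgroup H := (P : Subgroup ↥N).map N.subtype
  haveI hQn : Q.Normal := ConjAct.normal_of_characteristic_of_normal
  have hQne : Q ≠ ⊥ := by
    intro hQ
    apply hPne
    exact (Subgroup.map_eq_bot_iff_of_injective _ N.subtype_injective).mp hQ
  have hQtr := transitive_of_normal hV v₀ hinv Q hQne
  have hQcard := card_eq_of_transitive Q v₀ hQtr
  have hQP : Nat.card Q = Nat.card (P : Subgroup ↥N) :=
    Subgroup.card_map_of_injective N.subtype_injective
  obtain ⟨k, hk⟩ := (P.isPGroup').exists_card_eq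
  rw [hQP, hk, Nat.card_eq_fintype_card, hV] at hQcard
  have h2 : 2 ∣ 5 ^ k := by rw [hQcard]; exact Dvd.dvd.mul_right (by norm_num) _
  have := (Nat.Prime.dvd_of_dvd_pow Nat.prime_two h2)
  omega

/-- a solvable perfect group is trivial -/
theorem subsingleton_of_perfect_solvable {Q : Type*} [Group Q] [Group.IsSolvable Q]
    (h : commutator Q = ⊤) : Subsingleton Q := by
  by_contra hns
  rw [not_subsingleton_iff_nontrivial] at hns
  have := Group.IsSolvable.commutator_lt_top_of_nontrivial Q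
  rw [h] at this
  exact lt_irrefl _ this

theorem isSimpleGroup_of_chain (hV : Fintype.card V = 100) [IsPretransitive H V] (v y : V)
    (Y : Set V)
    (hinv : ∀ Δ : Set V, v ∈ Δ → (∀ k ∈ stabilizer H v, ∀ x ∈ Δ, k • x ∈ Δ) →
      Δ.ncard ∣ 100 → Δ = {v} ∨ Δ = Set.univ)
    (hKtr : ∀ x ∈ Y, ∃ k ∈ stabilizer H v, k • y = x)
    (hKymax : ∀ L : Subgroup H, stabilizer H v ⊓ stabilizer H y ≤ L → L ≤ stabilizer H v →
      L = stabilizer H v ⊓ stabilizer H y ∨ L = stabilizer H v)
    (hcover : ∀ x : V, x = v ∨ x ∈ Y ∨ ∃ g : H, g • v ∈ Y ∧ ∃ x' ∈ Y, g • x' = x)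
    (hsolv : Group.IsSolvable ↥(stabilizer H v ⊓ stabilizer H y))
    (hperf : commutator H = ⊤) : IsSimpleGroup H := by
  haveI : Nontrivial V := by
    rw [← Fintype.one_lt_card_iff_nontrivial, hV]; norm_num
  haveI : Nontrivial H := by
    obtain ⟨x, x', hxx'⟩ := exists_pair_ne V
    obtain ⟨g, hg⟩ := exists_smul_eq H x x'
    refine ⟨g, 1, ?_⟩
    rintro rfl
    rw [one_smul] at hg
    exact hxx' hg
  refine ⟨fun N hN => ?_⟩
  haveI := hN
  by_contra hcon
  rw [not_or] at hcon
  obtain ⟨hbot, htop⟩ := hcon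
  have htr := transitive_of_normal hV v hinv N hbot
  -- the subgroup `(N ⊓ K) Ky`
  let L : Subgroup H :=
    { carrier := {g | ∃ n ∈ N ⊓ stabilizer H v, ∃ k ∈ stabilizer H v ⊓ stabilizer H y, g = n * k}
      one_mem' := ⟨1, one_mem _, 1, one_mem _, (mul_one 1).symm⟩
      mul_mem' := by
        rintro _ _ ⟨n₁, hn₁, k₁, hk₁, rfl⟩ ⟨n₂, hn₂, k₂, hk₂, rfl⟩
        refine ⟨n₁ * (k₁ * n₂ * k₁⁻¹), ?_, k₁ * k₂, mul_mem hk₁ hk₂, by group⟩
        have hk₁v : k₁ ∈ stabilizer H v := (Subgroup.mem_inf.mp hk₁).1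
        have hn₂' := Subgroup.mem_inf.mp hn₂
        refine Subgroup.mul_mem _ hn₁ (Subgroup.mem_inf.mpr ⟨hN.conj_mem n₂ hn₂'.1 k₁, ?_⟩)
        exact Subgroup.mul_mem _ (Subgroup.mul_mem _ hk₁v hn₂'.2) (Subgroup.inv_mem _ hk₁v)
      inv_mem' := by
        rintro _ ⟨n, hn, k, hk, rfl⟩
        have hkv : k ∈ stabilizer H v := (Subgroup.mem_inf.mp hk).1
        have hn' := Subgroup.mem_inf.mp hn
        refine ⟨k⁻¹ * n⁻¹ * k⁻¹⁻¹, ?_, k⁻¹, Subgroup.inv_mem _ hk, by group⟩
        refine Subgroup.mem_inf.mpr ⟨hN.conj_mem n⁻¹ (Subgroup.inv_mem _ hn'.1) k⁻¹, ?_⟩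
        exact Subgroup.mul_mem _ (Subgroup.mul_mem _ (Subgroup.inv_mem _ hkv)
          (Subgroup.inv_mem _ hn'.2)) (Subgroup.inv_mem _ (Subgroup.inv_mem _ hkv)) }
  have hKyL : stabilizer H v ⊓ stabilizer H y ≤ L :=
    fun k hk => ⟨1, one_mem _, k, hk, (one_mul k).symm⟩
  have hLK : L ≤ stabilizer H v := by
    rintro _ ⟨n, hn, k, hk, rfl⟩
    exact Subgroup.mul_mem _ (Subgroup.mem_inf.mp hn).2 (Subgroup.mem_inf.mp hk).1
  rcases hKymax L hKyL hLK with hL | hL
  · -- `N ⊓ K` fixes `y`, hence `Y` pointwise, hence everything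
    have h1 : ∀ n ∈ N ⊓ stabilizer H v, n • y = y := by
      intro n hn
      have : n ∈ L := ⟨n, hn, 1, one_mem _, (mul_one n).symm⟩
      rw [hL] at this
      exact mem_stabilizer_iff.mp (Subgroup.mem_inf.mp this).2
    have h2 : ∀ n ∈ N ⊓ stabilizer H v, ∀ x ∈ Y, n • x = x := by
      intro n hn x hx
      obtain ⟨k, hk, rfl⟩ := hKtr x hx
      have hn' := Subgroup.mem_inf.mp hn
      have h3 : k⁻¹ * n * k⁻¹⁻¹ ∈ N ⊓ stabilizer H v :=
        Subgroup.mem_inf.mpr ⟨hN.conj_mem n hn'.1 k⁻¹,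
          Subgroup.mul_mem _ (Subgroup.mul_mem _ (Subgroup.inv_mem _ hk) hn'.2)
            (Subgroup.inv_mem _ (Subgroup.inv_mem _ hk))⟩
      have h4 := h1 _ h3
      rw [inv_inv, mul_smul, mul_smul, inv_smul_eq_iff] at h4
      exact h4
    have h5 : ∀ n ∈ N ⊓ stabilizer H v, n = 1 := by
      intro n hn
      apply FaithfulSMul.eq_of_smul_eq_smul (α := V)
      intro x
      rw [one_smul]
      have hn' := Subgroup.mem_inf.mp hn
      rcases hcover x with rfl | hx | ⟨g, hgv, x', hx', rfl⟩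
      · exact mem_stabilizer_iff.mp hn'.2
      · exact h2 n hn x hx
      · have h6 : g⁻¹ * n * g⁻¹⁻¹ ∈ N ⊓ stabilizer H v := by
          refine Subgroup.mem_inf.mpr ⟨hN.conj_mem n hn'.1 g⁻¹, ?_⟩
          rw [mem_stabilizer_iff, inv_inv, mul_smul, mul_smul, h2 n hn _ hgv, inv_smul_smul]
        have h7 := h2 _ h6 x' hx'
        rw [inv_inv, mul_smul, mul_smul, inv_smul_eq_iff] at h7
        exact h7
    apply regular_normal_false hV v hinv N hbot
    rw [eq_bot_iff]
    intro n hn
    rw [Subgroup.mem_subgroupOf] at hn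
    rw [Subgroup.mem_bot]
    apply Subtype.ext
    exact h5 n.1 (Subgroup.mem_inf.mpr ⟨n.2, hn⟩)
  · -- `H = N Ky`, so `H ⧸ N` is solvable and perfect
    have h1 : ∀ g : H, ∃ n ∈ N, ∃ k ∈ stabilizer H v ⊓ stabilizer H y, g = n * k := by
      intro g
      obtain ⟨n₁, hn₁, h⟩ := htr (g • v)
      have h2 : n₁⁻¹ * g ∈ stabilizer H v := by
        rw [mem_stabilizer_iff, mul_smul, ← h, inv_smul_smul]
      rw [← hL] at h2
      obtain ⟨n₂, hn₂, k, hk, h3⟩ := h2
      refine ⟨n₁ * n₂, Subgroup.mul_mem _ hn₁ (Subgroup.mem_inf.mp hn₂).1, k, hk, ?_⟩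
      rw [mul_assoc, ← h3, mul_inv_cancel_left]
    have hsurj : Function.Surjective
        ((QuotientGroup.mk' N).comp (stabilizer H v ⊓ stabilizer H y).subtype) := by
      intro q
      obtain ⟨g, rfl⟩ := QuotientGroup.mk'_surjective N q
      obtain ⟨n, hn, k, hk, rfl⟩ := h1 g
      refine ⟨⟨k, hk⟩, ?_⟩
      show (QuotientGroup.mk' N) k = QuotientGroup.mk' N (n * k)
      rw [map_mul]
      have : (QuotientGroup.mk' N) n = 1 := (QuotientGroup.eq_one_iff n).mpr hn
      rw [this, one_mul]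
    haveI : Group.IsSolvable (H ⧸ N) := Group.isSolvable_of_surjective hsurj
    have hq : commutator (H ⧸ N) = ⊤ := by
      rw [commutator_def, ← Subgroup.map_top_of_surjective (QuotientGroup.mk' N)
        (QuotientGroup.mk'_surjective N), ← Subgroup.map_commutator, ← commutator_def, hperf]
    have hsub := subsingleton_of_perfect_solvable hq
    exact htop (QuotientGroup.subgroup_eq_top_of_subsingleton N hsub)

end regular

section solvable

/-- the symmetric group on three letters is solvable -/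
theorem isSolvable_perm_of_card_three {X : Type*} [Fintype X] [DecidableEq X]
    (hX : Fintype.card X = 3) : Group.IsSolvable (Equiv.Perm X) := by
  haveI : Nontrivial X := by
    rw [← Fintype.one_lt_card_iff_nontrivial, hX]; norm_num
  have h2 := two_mul_card_alternatingGroup (α := X)
  rw [Fintype.card_perm, hX] at h2
  have h3 : Nat.card ↥(alternatingGroup X) = 3 := by
    rw [Nat.card_eq_fintype_card]
    have : Nat.factorial 3 = 6 := rfl
    omega
  haveI : Fact (Nat.Prime 3) := ⟨by norm_num⟩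
  haveI : IsCyclic ↥(alternatingGroup X) := isCyclic_of_prime_card h3
  haveI : Group.IsSolvable ↥(alternatingGroup X) := by
    letI : CommGroup ↥(alternatingGroup X) := IsCyclic.commGroup
    exact Group.isSolvable_of_comm (fun a b => mul_comm a b)
  exact Group.isSolvable_of_ker_le_range (alternatingGroup X).subtype (Equiv.Perm.sign (α := X))
    (by
      intro x hx
      exact ⟨⟨x, hx⟩, rfl⟩)

/-- a finite group whose Sylow 2-subgroups have index 3 is solvable -/
theorem isSolvable_of_card {S : Type*} [Group S] [Finite S] (k : ℕ)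
    (hS : Nat.card S = 2 ^ k * 3) : Group.IsSolvable S := by
  classical
  haveI : Fact (Nat.Prime 2) := ⟨Nat.prime_two⟩
  obtain ⟨P⟩ : Nonempty (Sylow 2 S) := inferInstance
  -- the index of `P`
  have h1 := Subgroup.card_mul_index (P : Subgroup S)
  obtain ⟨m, hm⟩ := (P.isPGroup').exists_card_eq
  have h2 : ¬ 2 ∣ (P : Subgroup S).index := P.not_dvd_index
  have hidx : (P : Subgroup S).index = 3 := by
    rw [hm, hS] at h1
    have h3 : (P : Subgroup S).index ∣ 2 ^ k * 3 := Dvd.intro_left _ h1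
    have hc : Nat.Coprime (P : Subgroup S).index (2 ^ k) :=
      Nat.Coprime.pow_right k ((Nat.Prime.coprime_iff_not_dvd Nat.prime_two).mpr h2).symm
    have h4 : (P : Subgroup S).index ∣ 3 := hc.dvd_of_dvd_mul_left h3
    rcases (Nat.dvd_prime (by norm_num)).mp h4 with h5 | h5
    · exfalso
      rw [h5, mul_one] at h1
      have h6 : 3 ∣ 2 ^ m := by rw [h1]; exact Dvd.intro_left _ rfl
      have := Nat.Prime.dvd_of_dvd_pow (by norm_num : Nat.Prime 3) h6
      omega
    · exact h5
  -- the action on the cosets of `P`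
  haveI : Fintype (S ⧸ (P : Subgroup S)) := Fintype.ofFinite _
  have hcard : Fintype.card (S ⧸ (P : Subgroup S)) = 3 := by
    rw [← Nat.card_eq_fintype_card]
    exact hidx
  haveI := isSolvable_perm_of_card_three hcard
  haveI : Group.IsSolvable ↥(P : Subgroup S) := by
    haveI : Group.IsNilpotent ↥(P : Subgroup S) := (P.isPGroup').isNilpotent
    infer_instance
  refine Group.isSolvable_of_ker_le_range (P : Subgroup S).subtype
    (MulAction.toPermHom S (S ⧸ (P : Subgroup S))) ?_
  intro x hx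
  have h7 : x ∈ (P : Subgroup S).normalCore := by
    rw [Subgroup.normalCore_eq_ker]
    exact hx
  exact ⟨⟨x, Subgroup.normalCore_le _ h7⟩, rfl⟩

end solvable

end Cfsg.Agent.Lib.Helper10.ChainSimple
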