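import Mathlib
import Cfsg.Prelude.Def_Characters
import Cfsg.Prelude.Def_OddOrderChar
import Cfsg.Agent.Lib.Lead.CharMain
import Cfsg.Agent.Lib.Helper10.Coherence

/-! More tools for coherence arguments: linearity helpers, sign lemma for generalized characters of norm one. -/

namespace Cfsg.Agent.Lib.Helper10
open Cfsg Cfsg.Agent.CharLib
open scoped ComplexConjugate

section lin
variable {L : Type*} [Group L] [Fintype L] {G : Type*} [Group G] [Fintype G]

theorem isometry_lin2 {E : Set (L → ℂ)} {τ : (L → ℂ) → (G → ℂ)} (hτ : IsLinearIsometryOn E τ)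
    (hE : ∀ α ∈ E, ∀ n : ℤ, n • α ∈ E) {α β : L → ℂ} (hα : α ∈ E) (hβ : β ∈ E) (m n : ℤ) :
    τ (m • α + n • β) = m • τ α + n • τ β := by
  rw [hτ.1 _ (hE α hα m) _ (hE β hβ n), hτ.2.1 α hα, hτ.2.1 β hβ]

theorem isometry_lin3 {E : Set (L → ℂ)} {τ : (L → ℂ) → (G → ℂ)} (hτ : IsLinearIsometryOn E τ)
    (hE : ∀ α ∈ E, ∀ n : ℤ, n • α ∈ E) (hadd : ∀ α ∈ E, ∀ β ∈ E, α + β ∈ E)
    {α β γ : L → ℂ} (hα : α ∈ E) (hβ : β ∈ E) (hγ : γ ∈ E) (m n k : ℤ) :
    τ (m • α + n • β + k • γ) = m • τ α + n • τ β + k • τ γ := by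
  rw [hτ.1 _ (hadd _ (hE α hα m) _ (hE β hβ n)) _ (hE γ hγ k), isometry_lin2 hτ hE hα hβ,
    hτ.2.1 γ hγ]

theorem classInner_lin2 (m n p q : ℤ) (a b c d : G → ℂ) :
    classInner (m • a + n • b) (p • c + q • d) =
      (m : ℂ) * (p : ℂ) * classInner a c + (m : ℂ) * (q : ℂ) * classInner a d +
        (n : ℂ) * (p : ℂ) * classInner b c + (n : ℂ) * (q : ℂ) * classInner b d := by
  simp only [Cfsg.Agent.Lib.Helper10.classInner_add_left, Cfsg.Agent.Lib.Helper10.classInner_add_right,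
    classInner_zsmul_left, classInner_zsmul_right]
  ring

/-- Two generalized characters of norm one with nonzero inner product differ by a sign. -/
theorem eq_sign_smul_of_inner_ne_zero {u v : G → ℂ} (hu : IsGeneralizedCharacter G u)
    (hv : IsGeneralizedCharacter G v) (huu : classInner u u = 1) (hvv : classInner v v = 1)
    (hm : classInner u v ≠ 0) :
    ∃ ε : ℂ, (ε = 1 ∨ ε = -1) ∧ v = ε • u ∧ classInner u v = ε := by
  classical
  obtain ⟨ε₁, h1, hi1⟩ := genChar_norm_one hu huu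
  obtain ⟨ε₂, h2, hi2⟩ := genChar_norm_one hv hvv
  have h3 := classInner_irr hi1 hi2
  rw [Cfsg.Agent.Lib.Helper10.classInner_smul_left, Cfsg.Agent.Lib.Helper10.classInner_smul_right] at h3
  have hε₁ : ε₁ ≠ 0 := by rcases h1 with rfl | rfl <;> norm_num
  have hε₂ : conj ε₂ ≠ 0 := by rcases h2 with rfl | rfl <;> simp
  by_cases heq : ε₁ • u = ε₂ • v
  · have hv' : v = (ε₂ * ε₁) • u := by
      have h4 : ε₂ • (ε₂ • v) = v := by
        rw [smul_smul]
        rcases h2 with rfl | rfl <;> simp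
      rw [← h4, ← heq, smul_smul]
    refine ⟨ε₂ * ε₁, ?_, hv', ?_⟩
    · rcases h1 with rfl | rfl <;> rcases h2 with rfl | rfl <;> simp
    · rw [hv', Cfsg.Agent.Lib.Helper10.classInner_smul_right, huu, mul_one]
      rcases h1 with rfl | rfl <;> rcases h2 with rfl | rfl <;> simp
  · rw [if_neg heq] at h3
    exfalso
    rcases mul_eq_zero.mp h3 with h | h
    · exact hε₁ h
    · rcases mul_eq_zero.mp h with h | h
      · exact hε₂ h
      · exact hm h

theorem genChar_norm_one_apply_one_ne_zero {u : G → ℂ} (hu : IsGeneralizedCharacter G u)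
    (huu : classInner u u = 1) : u 1 ≠ 0 := by
  obtain ⟨ε, _, hi⟩ := genChar_norm_one hu huu
  intro h
  have := irr_one_ne_zero hi
  rw [Pi.smul_apply, h, smul_zero] at this
  exact this rfl

theorem finite_setOf_isIrrCharacter (L : Type*) [Group L] [Finite L] :
    Set.Finite {ξ : L → ℂ | IsIrrCharacter L ξ} := by
  have : Finite (IrrCharacter L) := inferInstance
  exact Set.finite_coe_iff.mp this

theorem zsmul_left_cancel_fun {X : Type*} {n : ℤ} (hn : n ≠ 0) {f g : X → ℂ} (h : n • f = n • g) :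
    f = g := by
  funext x
  have := congrFun h x
  simp only [Pi.smul_apply, zsmul_eq_mul] at this
  have hn' : (n : ℂ) ≠ 0 := by exact_mod_cast hn
  exact mul_left_cancel₀ hn' this

end lin

end Cfsg.Agent.Lib.Helper10
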