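import Mathlib
import Cfsg.Prelude.Def_Characters
import Cfsg.Prelude.Def_OddOrderChar
import Cfsg.Agent.Lib.Lead.CharMain
import Cfsg.Agent.Lib.Helper10.Coherence2

/-! Coherence tools III: orthogonal (not necessarily orthonormal) finite families with natural-number norms,
the weighted coefficient map, and the "half sum" lemma for coherence systems. -/

namespace Cfsg.Agent.Lib.Helper10
open Cfsg Cfsg.Agent.CharLib
open scoped ComplexConjugate

section weighted
variable {G : Type*} [Group G] [Fintype G]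

/-- Parseval for an orthogonal finite family with weights `w`. -/
theorem classInner_sum_smul_sum_smul_w {ι : Type*} [DecidableEq ι] (S : Finset ι) (g : ι → G → ℂ)
    (w : ι → ℂ)
    (hg : ∀ i ∈ S, ∀ j ∈ S, classInner (g i) (g j) = if i = j then w i else 0) (a b : ι → ℂ) :
    classInner (∑ i ∈ S, a i • g i) (∑ j ∈ S, b j • g j) = ∑ i ∈ S, a i * conj (b i) * w i := by
  rw [Cfsg.Agent.Lib.Helper10.classInner_sum_left]
  apply Finset.sum_congr rfl
  intro i hi
  rw [Cfsg.Agent.Lib.Helper10.classInner_sum_right]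
  have : ∀ j ∈ S, classInner (a i • g i) (b j • g j) =
      if i = j then a i * conj (b i) * w i else 0 := by
    intro j hj
    rw [Cfsg.Agent.Lib.Helper10.classInner_smul_left, Cfsg.Agent.Lib.Helper10.classInner_smul_right,
      hg i hi j hj]
    split_ifs with h
    · subst h; ring
    · ring
  rw [Finset.sum_congr rfl this, Finset.sum_ite_eq S i, if_pos hi]

theorem classInner_sum_smul_left_w {ι : Type*} [DecidableEq ι] (S : Finset ι) (g : ι → G → ℂ)
    (w : ι → ℂ)
    (hg : ∀ i ∈ S, ∀ j ∈ S, classInner (g i) (g j) = if i = j then w i else 0) (a : ι → ℂ)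
    {j : ι} (hj : j ∈ S) : classInner (∑ i ∈ S, a i • g i) (g j) = a j * w j := by
  rw [Cfsg.Agent.Lib.Helper10.classInner_sum_left]
  have : ∀ i ∈ S, classInner (a i • g i) (g j) = if j = i then a j * w j else 0 := by
    intro i hi
    rw [Cfsg.Agent.Lib.Helper10.classInner_smul_left, hg i hi j hj]
    split_ifs with h1 h2 h2
    · subst h1; ring
    · exact absurd h1.symm h2
    · exact absurd h2.symm h1
    · ring
  rw [Finset.sum_congr rfl this, Finset.sum_ite_eq S j, if_pos hj]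

end weighted

section wexpand
variable {L : Type*} [Group L] [Fintype L]

/-- Orthogonality of a finite set of functions with squared norms `w ξ`. -/
def OrthogOn (T : Finset (L → ℂ)) (w : (L → ℂ) → ℕ) : Prop :=
  ∀ ξ ∈ T, ∀ η ∈ T, classInner ξ η = if ξ = η then (w ξ : ℂ) else 0

open Classical in
theorem zspan_expand_w {T : Finset (L → ℂ)} {w : (L → ℂ) → ℕ} (hT : OrthogOn T w)
    (hw : ∀ ξ ∈ T, w ξ ≠ 0) {α : L → ℂ} (hα : α ∈ zspan (↑T : Set (L → ℂ))) :
    ∃ c : (L → ℂ) → ℤ, (∀ ξ ∈ T, classInner α ξ / (w ξ : ℂ) = c ξ) ∧ α = ∑ ξ ∈ T, c ξ • ξ := by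
  obtain ⟨c, hc⟩ := mem_zspan_finset.mp hα
  refine ⟨c, ?_, hc⟩
  intro ξ hξ
  have h1 : α = ∑ η ∈ T, ((c η : ℤ) : ℂ) • (fun x => x) η := by
    rw [hc]
    apply Finset.sum_congr rfl
    intro η _
    exact (Int.cast_smul_eq_zsmul ℂ (c η) η).symm
  have h2 : classInner α ξ = ((c ξ : ℤ) : ℂ) * (w ξ : ℂ) := by
    rw [h1]
    exact classInner_sum_smul_left_w T (fun x => x) (fun η => (w η : ℂ)) hT
      (fun η => ((c η : ℤ) : ℂ)) hξ
  have hwne : (w ξ : ℂ) ≠ 0 := by exact_mod_cast hw ξ hξ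
  rw [h2, mul_div_assoc, div_self hwne, mul_one]

end wexpand

section wMap
variable {L : Type*} [Group L] [Fintype L] {G : Type*} [Group G] [Fintype G]

/-- The weighted coefficient map `α ↦ ∑ ξ ∈ T, (⟨α, ξ⟩ / w ξ) • f ξ`. -/
noncomputable def wMap (T : Finset (L → ℂ)) (w : (L → ℂ) → ℕ) (f : (L → ℂ) → (G → ℂ))
    (α : L → ℂ) : G → ℂ :=
  ∑ ξ ∈ T, (classInner α ξ / (w ξ : ℂ)) • f ξ

theorem wMap_add (T : Finset (L → ℂ)) (w : (L → ℂ) → ℕ) (f : (L → ℂ) → (G → ℂ)) (α β : L → ℂ) :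
    wMap T w f (α + β) = wMap T w f α + wMap T w f β := by
  unfold wMap
  rw [← Finset.sum_add_distrib]
  apply Finset.sum_congr rfl
  intro ξ _
  rw [Cfsg.Agent.Lib.Helper10.classInner_add_left, add_div, add_smul]

theorem wMap_sub (T : Finset (L → ℂ)) (w : (L → ℂ) → ℕ) (f : (L → ℂ) → (G → ℂ)) (α β : L → ℂ) :
    wMap T w f (α - β) = wMap T w f α - wMap T w f β := by
  unfold wMap
  rw [← Finset.sum_sub_distrib]
  apply Finset.sum_congr rfl
  intro ξ _
  rw [Cfsg.Agent.Lib.Helper10.classInner_sub_left, sub_div, sub_smul]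

theorem wMap_zsmul (T : Finset (L → ℂ)) (w : (L → ℂ) → ℕ) (f : (L → ℂ) → (G → ℂ)) (n : ℤ)
    (α : L → ℂ) : wMap T w f (n • α) = n • wMap T w f α := by
  unfold wMap
  rw [Finset.smul_sum]
  apply Finset.sum_congr rfl
  intro ξ _
  rw [classInner_zsmul_left, mul_div_assoc, mul_smul, Int.cast_smul_eq_zsmul]

open Classical in
theorem wMap_apply_mem {T : Finset (L → ℂ)} {w : (L → ℂ) → ℕ} (hT : OrthogOn T w)
    (hw : ∀ ξ ∈ T, w ξ ≠ 0) (f : (L → ℂ) → (G → ℂ)) {ξ : L → ℂ} (hξ : ξ ∈ T) :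
    wMap T w f ξ = f ξ := by
  unfold wMap
  have : ∀ η ∈ T, (classInner ξ η / (w η : ℂ)) • f η = if ξ = η then f ξ else 0 := by
    intro η hη
    rw [hT ξ hξ η hη]
    split_ifs with h
    · subst h
      have hwne : (w ξ : ℂ) ≠ 0 := by exact_mod_cast hw ξ hξ
      rw [div_self hwne, one_smul]
    · rw [zero_div, zero_smul]
  rw [Finset.sum_congr rfl this, Finset.sum_ite_eq T ξ, if_pos hξ]

theorem wMap_congr {T : Finset (L → ℂ)} {w : (L → ℂ) → ℕ} {f g : (L → ℂ) → (G → ℂ)}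
    (h : ∀ ξ ∈ T, f ξ = g ξ) (α : L → ℂ) : wMap T w f α = wMap T w g α := by
  unfold wMap
  apply Finset.sum_congr rfl
  intro ξ hξ
  rw [h ξ hξ]

theorem wMap_insert [DecidableEq (L → ℂ)] {χ : L → ℂ} {T : Finset (L → ℂ)} (h : χ ∉ T)
    (w : (L → ℂ) → ℕ) (f : (L → ℂ) → (G → ℂ)) (α : L → ℂ) :
    wMap (insert χ T) w f α = (classInner α χ / (w χ : ℂ)) • f χ + wMap T w f α := by
  unfold wMap
  rw [Finset.sum_insert h]

open Classical in
/-- An orthogonal family of generalized characters with the same Gram matrix as the orthogonal finite set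
`T` gives a linear isometry on `zspan T`. -/
theorem wMap_isLinearIsometryOn {T : Finset (L → ℂ)} {w : (L → ℂ) → ℕ} (hT : OrthogOn T w)
    (hw : ∀ ξ ∈ T, w ξ ≠ 0) (f : (L → ℂ) → (G → ℂ))
    (hf : ∀ ξ ∈ T, ∀ η ∈ T, classInner (f ξ) (f η) = if ξ = η then (w ξ : ℂ) else 0)
    (hfg : ∀ ξ ∈ T, IsGeneralizedCharacter G (f ξ)) :
    IsLinearIsometryOn (zspan (↑T : Set (L → ℂ))) (wMap T w f) := by
  refine ⟨fun α _ β _ => wMap_add T w f α β, fun α _ n => wMap_zsmul T w f n α, ?_, ?_⟩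
  · intro α hα β hβ
    obtain ⟨c, hc1, hc2⟩ := zspan_expand_w hT hw hα
    obtain ⟨c', hc1', hc2'⟩ := zspan_expand_w hT hw hβ
    have h1 : classInner (wMap T w f α) (wMap T w f β) =
        ∑ ξ ∈ T, (classInner α ξ / (w ξ : ℂ)) * conj (classInner β ξ / (w ξ : ℂ)) * (w ξ : ℂ) := by
      unfold wMap
      exact classInner_sum_smul_sum_smul_w T f (fun ξ => (w ξ : ℂ)) hf _ _
    rw [h1]
    have hα' : α = ∑ ξ ∈ T, (classInner α ξ / (w ξ : ℂ)) • (fun x => x) ξ := by
      conv_lhs => rw [hc2]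
      apply Finset.sum_congr rfl
      intro ξ hξ
      rw [hc1 ξ hξ]
      exact (Int.cast_smul_eq_zsmul ℂ (c ξ) ξ).symm
    have hβ' : β = ∑ ξ ∈ T, (classInner β ξ / (w ξ : ℂ)) • (fun x => x) ξ := by
      conv_lhs => rw [hc2']
      apply Finset.sum_congr rfl
      intro ξ hξ
      rw [hc1' ξ hξ]
      exact (Int.cast_smul_eq_zsmul ℂ (c' ξ) ξ).symm
    conv_rhs => rw [hα', hβ']
    exact (classInner_sum_smul_sum_smul_w T (fun x => x) (fun ξ => (w ξ : ℂ)) hT _ _).symm
  · intro α hα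
    obtain ⟨c, hc1, _⟩ := zspan_expand_w hT hw hα
    unfold wMap
    apply genChar_sum
    intro ξ hξ
    rw [hc1 ξ hξ, Int.cast_smul_eq_zsmul]
    exact genChar_zsmul (hfg ξ hξ) (c ξ)

open Classical in
theorem isometry_eq_wMap {T : Finset (L → ℂ)} {w : (L → ℂ) → ℕ} (hT : OrthogOn T w)
    (hw : ∀ ξ ∈ T, w ξ ≠ 0) {τ₁ : (L → ℂ) → (G → ℂ)}
    (hτ₁ : IsLinearIsometryOn (zspan (↑T : Set (L → ℂ))) τ₁) {α : L → ℂ}
    (hα : α ∈ zspan (↑T : Set (L → ℂ))) : τ₁ α = wMap T w τ₁ α := by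
  obtain ⟨c, hc1, hc2⟩ := zspan_expand_w hT hw hα
  conv_lhs => rw [hc2]
  rw [isometry_map_sum_zsmul hτ₁ c T (Finset.Subset.refl T)]
  unfold wMap
  apply Finset.sum_congr rfl
  intro ξ hξ
  rw [hc1 ξ hξ, Int.cast_smul_eq_zsmul]

end wMap

section pythagoras
variable {G : Type*} [Group G] [Fintype G]

/-- Pythagoras for an orthogonal finite family with natural-number weights. -/
theorem classInner_self_eq_sum_add_w {ι : Type*} [DecidableEq ι] (S : Finset ι) (g : ι → G → ℂ)
    (w : ι → ℕ) (hw : ∀ i ∈ S, w i ≠ 0)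
    (hg : ∀ i ∈ S, ∀ j ∈ S, classInner (g i) (g j) = if i = j then (w i : ℂ) else 0) (B : G → ℂ) :
    classInner B B = ∑ i ∈ S, classInner B (g i) * conj (classInner B (g i)) / (w i : ℂ) +
      classInner (B - ∑ i ∈ S, (classInner B (g i) / (w i : ℂ)) • g i)
        (B - ∑ i ∈ S, (classInner B (g i) / (w i : ℂ)) • g i) := by
  set P : G → ℂ := ∑ i ∈ S, (classInner B (g i) / (w i : ℂ)) • g i with hP
  set W : G → ℂ := B - P with hW
  have hPg : ∀ j ∈ S, classInner P (g j) = classInner B (g j) := by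
    intro j hj
    rw [hP, classInner_sum_smul_left_w S g (fun i => (w i : ℂ)) hg _ hj]
    have hwne : (w j : ℂ) ≠ 0 := by exact_mod_cast hw j hj
    field_simp
  have hWg : ∀ j ∈ S, classInner W (g j) = 0 := by
    intro j hj
    rw [hW, Cfsg.Agent.Lib.Helper10.classInner_sub_left, hPg j hj, sub_self]
  have hWP : classInner W P = 0 := by
    rw [hP, Cfsg.Agent.Lib.Helper10.classInner_sum_right]
    apply Finset.sum_eq_zero
    intro i hi
    rw [Cfsg.Agent.Lib.Helper10.classInner_smul_right, hWg i hi, mul_zero]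
  have hPW : classInner P W = 0 := by
    rw [Cfsg.Agent.Lib.Helper10.classInner_conj_symm, hWP, map_zero]
  have hPP : classInner P P = ∑ i ∈ S, classInner B (g i) * conj (classInner B (g i)) / (w i : ℂ) := by
    rw [hP, classInner_sum_smul_sum_smul_w S g (fun i => (w i : ℂ)) hg]
    apply Finset.sum_congr rfl
    intro i hi
    have hwne : (w i : ℂ) ≠ 0 := by exact_mod_cast hw i hi
    rw [map_div₀, Complex.conj_natCast]
    field_simp
  have hB : B = W + P := by rw [hW]; abel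
  conv_lhs => rw [hB]
  rw [Cfsg.Agent.Lib.Helper10.classInner_add_left, Cfsg.Agent.Lib.Helper10.classInner_add_right,
    Cfsg.Agent.Lib.Helper10.classInner_add_right, hWP, hPW, hPP]
  ring

/-- Pythagoras for an orthonormal finite family. -/
theorem classInner_self_eq_sum_add {ι : Type*} [DecidableEq ι] (S : Finset ι) (g : ι → G → ℂ)
    (hg : ∀ i ∈ S, ∀ j ∈ S, classInner (g i) (g j) = if i = j then 1 else 0) (B : G → ℂ) :
    classInner B B = ∑ i ∈ S, classInner B (g i) * conj (classInner B (g i)) +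
      classInner (B - ∑ i ∈ S, classInner B (g i) • g i) (B - ∑ i ∈ S, classInner B (g i) • g i) := by
  have h := classInner_self_eq_sum_add_w S g (fun _ => 1) (fun _ _ => one_ne_zero)
    (by intro i hi j hj; rw [hg i hi j hj]; simp) B
  simpa using h

open Classical in
/-- If `u - v` is the sum of an orthonormal set `R` of generalized characters, `u ⊥ v` and
`‖u‖² = ‖v‖² = N`, then `u` lies in the span of `R`. -/
theorem half_sum_lemma (R : Finset (G → ℂ))
    (hR : ∀ α ∈ R, ∀ β ∈ R, classInner α β = if α = β then 1 else 0)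
    (hRg : ∀ α ∈ R, IsGeneralizedCharacter G α) {u v : G → ℂ} (hu : IsGeneralizedCharacter G u)
    (huv : u - v = ∑ α ∈ R, α) (N : ℕ) (huu : classInner u u = (N : ℂ))
    (hvv : classInner v v = (N : ℂ)) (huv0 : classInner u v = 0) :
    u = ∑ α ∈ R, classInner u α • α := by
  have ha : ∀ α : G → ℂ, ∃ a : ℤ, α ∈ R → classInner u α = a := by
    intro α
    by_cases hα : α ∈ R
    · obtain ⟨a, ha⟩ := genChar_inner_int hu (hRg α hα)
      exact ⟨a, fun _ => ha⟩
    · exact ⟨0, fun h => absurd h hα⟩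
  choose a ha using ha
  have hsumR : ∀ α ∈ R, classInner (∑ β ∈ R, β) α = 1 := by
    intro α hα
    have h1 : (∑ β ∈ R, β) = ∑ β ∈ R, (1 : ℂ) • (fun x => x) β := by simp
    rw [h1, classInner_sum_smul_left R (fun x => x) hR (fun _ => 1) hα]
  have hva : ∀ α ∈ R, classInner v α = (a α : ℂ) - 1 := by
    intro α hα
    have hv : v = u - ∑ β ∈ R, β := by rw [← huv]; abel
    rw [hv, Cfsg.Agent.Lib.Helper10.classInner_sub_left, ha α hα, hsumR α hα]
  have hvu : classInner v u = 0 := by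
    rw [Cfsg.Agent.Lib.Helper10.classInner_conj_symm, huv0, map_zero]
  have hcard : (R.card : ℂ) = 2 * (N : ℂ) := by
    have h1 : classInner (u - v) (u - v) = 2 * (N : ℂ) := by
      rw [Cfsg.Agent.Lib.Helper10.classInner_sub_left, Cfsg.Agent.Lib.Helper10.classInner_sub_right,
        Cfsg.Agent.Lib.Helper10.classInner_sub_right, huu, hvv, huv0, hvu]
      ring
    rw [huv] at h1
    have h2 : (∑ β ∈ R, β) = ∑ β ∈ R, (1 : ℂ) • (fun x => x) β := by simp
    rw [h2, classInner_sum_smul_sum_smul R (fun x => x) hR] at h1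
    simp at h1
    exact h1
  have hpu := classInner_self_eq_sum_add R (fun x => x) hR u
  have hpv := classInner_self_eq_sum_add R (fun x => x) hR v
  obtain ⟨ru, hru0, hru⟩ := classInner_self_nonneg (u - ∑ α ∈ R, classInner u α • α)
  obtain ⟨rv, hrv0, hrv⟩ := classInner_self_nonneg (v - ∑ α ∈ R, classInner v α • α)
  rw [huu, hru] at hpu
  rw [hvv, hrv] at hpv
  have hsu : ∑ α ∈ R, classInner u α * conj (classInner u α) = ((∑ α ∈ R, (a α : ℝ) ^ 2 : ℝ) : ℂ) := by
    push_cast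
    apply Finset.sum_congr rfl
    intro α hα
    rw [ha α hα, map_intCast]
    ring
  have hsv : ∑ α ∈ R, classInner v α * conj (classInner v α) =
      ((∑ α ∈ R, ((a α : ℝ) - 1) ^ 2 : ℝ) : ℂ) := by
    push_cast
    apply Finset.sum_congr rfl
    intro α hα
    rw [hva α hα, map_sub, map_intCast, map_one]
    ring
  rw [hsu] at hpu
  rw [hsv] at hpv
  have hpuR : (N : ℝ) = ∑ α ∈ R, (a α : ℝ) ^ 2 + ru := by exact_mod_cast hpu
  have hpvR : (N : ℝ) = ∑ α ∈ R, ((a α : ℝ) - 1) ^ 2 + rv := by exact_mod_cast hpv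
  have hcardR : (R.card : ℝ) = 2 * (N : ℝ) := by exact_mod_cast hcard
  have hge : ∀ α ∈ R, (1 : ℝ) ≤ (a α : ℝ) ^ 2 + ((a α : ℝ) - 1) ^ 2 := by
    intro α _
    have h3 : (1 : ℤ) ≤ a α ^ 2 + (a α - 1) ^ 2 := by
      rcases le_or_gt (a α) 0 with h | h
      · nlinarith
      · have : 1 ≤ a α := h
        nlinarith
    exact_mod_cast h3
  have hsumge : (R.card : ℝ) ≤ ∑ α ∈ R, ((a α : ℝ) ^ 2 + ((a α : ℝ) - 1) ^ 2) := by
    have := Finset.sum_le_sum hge
    simpa using this
  rw [Finset.sum_add_distrib] at hsumge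
  have hru_zero : ru = 0 := by linarith
  have hW : u - ∑ α ∈ R, classInner u α • α = 0 := by
    apply Cfsg.Agent.Lib.Helper10.classInner_self_eq_zero
    rw [hru, hru_zero]; simp
  exact sub_eq_zero.mp hW

end pythagoras

section misc
variable {G : Type*} [Group G]

theorem classInner_conjFun [Fintype G] (φ ψ : G → ℂ) :
    classInner (conjFun φ) (conjFun ψ) = classInner ψ φ := by
  unfold classInner conjFun
  congr 1
  apply Finset.sum_congr rfl
  intro g _
  rw [Complex.conj_conj, mul_comm]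

theorem conjFun_conjFun {X : Type*} (φ : X → ℂ) : conjFun (conjFun φ) = φ := by
  funext x
  simp [conjFun]

theorem char_eq_zero_of_apply_one_eq_zero [Finite G] {φ : G → ℂ} (hφ : IsCharacter G φ)
    (h : φ 1 = 0) : φ = 0 := by
  obtain ⟨n, ρ, rfl⟩ := hφ
  have h1 : ρ.character 1 = (Module.finrank ℂ (Fin n → ℂ) : ℂ) := by simp
  rw [h1] at h
  have h2 : Module.finrank ℂ (Fin n → ℂ) = 0 := by exact_mod_cast h
  funext g
  have h3 := norm_char_le ρ g
  rw [h2] at h3
  simp only [Nat.cast_zero] at h3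
  have : ‖ρ.character g‖ = 0 := le_antisymm h3 (norm_nonneg _)
  simpa using this

end misc

end Cfsg.Agent.Lib.Helper10
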