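import Mathlib
import Cfsg.Prelude.Def_Characters
import Cfsg.Prelude.Def_OddOrderChar
import Cfsg.Agent.Lib.Lead.CharMain
import Cfsg.Agent.Lib.Lead.CharEquiv
import Cfsg.Agent.Lib.Helper10.Coherence3

/-! Coherence tools IV: finiteness of orthogonal sets, sum-linearity of linear isometries on general domains,
the structure of `τ (φ - ψ)` in a coherence system with equal degrees, and coherence from a "base vector". -/

namespace Cfsg.Agent.Lib.Helper10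
open Cfsg Cfsg.Agent.CharLib
open scoped ComplexConjugate

section finite
variable {L : Type*} [Group L] [Fintype L]

/-- A set of nonzero pairwise orthogonal functions on a finite group is finite. -/
theorem finite_of_orthogonal {S : Set (L → ℂ)} (h0 : ∀ φ ∈ S, φ ≠ 0)
    (horth : ∀ χ ∈ S, ∀ φ ∈ S, χ ≠ φ → classInner χ φ = 0) : S.Finite := by
  classical
  have hli : LinearIndependent ℂ (Subtype.val : S → (L → ℂ)) := by
    rw [linearIndependent_iff']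
    intro s g hg i hi
    have h1 : classInner (∑ j ∈ s, g j • (j : L → ℂ)) (i : L → ℂ) =
        g i * classInner (i : L → ℂ) i := by
      rw [Cfsg.Agent.Lib.Helper10.classInner_sum_left, Finset.sum_eq_single i]
      · rw [Cfsg.Agent.Lib.Helper10.classInner_smul_left]
      · intro j _ hji
        rw [Cfsg.Agent.Lib.Helper10.classInner_smul_left,
          horth j j.2 i i.2 (fun h => hji (Subtype.ext h)), mul_zero]
      · intro h; exact absurd hi h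
    rw [hg, Cfsg.Agent.Lib.Helper10.classInner_zero_left] at h1
    have h2 : classInner (i : L → ℂ) i ≠ 0 :=
      fun h => h0 i i.2 (Cfsg.Agent.Lib.Helper10.classInner_self_eq_zero h)
    rcases mul_eq_zero.mp h1.symm with h | h
    · exact h
    · exact absurd h h2
  exact hli.set_finite_of_isNoetherian

end finite

section sumlin
variable {L : Type*} [Group L] [Fintype L] {G : Type*} [Group G] [Fintype G]

open Classical in
/-- Sum-linearity of a linear isometry on a domain closed under `0`, `+`, integer multiples. -/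
theorem isometry_map_sum_zsmul_gen {E : Set (L → ℂ)} {τ : (L → ℂ) → (G → ℂ)}
    (hτ : IsLinearIsometryOn E τ) (h0 : (0 : L → ℂ) ∈ E)
    (hadd : ∀ a ∈ E, ∀ b ∈ E, a + b ∈ E) (hsmul : ∀ a ∈ E, ∀ k : ℤ, k • a ∈ E)
    {ι : Type*} (T : Finset ι) (c : ι → ℤ) (x : ι → L → ℂ) (hx : ∀ i ∈ T, x i ∈ E) :
    (∑ i ∈ T, c i • x i) ∈ E ∧ τ (∑ i ∈ T, c i • x i) = ∑ i ∈ T, c i • τ (x i) := by
  induction T using Finset.induction_on with
  | empty =>
    simp only [Finset.sum_empty]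
    exact ⟨h0, isometry_map_zero hτ h0⟩
  | insert a T ha ih =>
    rw [Finset.sum_insert ha, Finset.sum_insert ha]
    have hxa : x a ∈ E := hx a (Finset.mem_insert_self a T)
    have hT : ∀ i ∈ T, x i ∈ E := fun i hi => hx i (Finset.mem_insert_of_mem hi)
    obtain ⟨ih1, ih2⟩ := ih hT
    have h1 : c a • x a ∈ E := hsmul _ hxa _
    refine ⟨hadd _ h1 _ ih1, ?_⟩
    rw [hτ.1 _ h1 _ ih1, hτ.2.1 _ hxa, ih2]

end sumlin

section ortho
variable {G : Type*} [Group G] [Fintype G]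

theorem classInner_sum_sum_eq_zero {ι κ : Type*} (T : Finset ι) (T' : Finset κ) (f : ι → G → ℂ)
    (f' : κ → G → ℂ) (h : ∀ i ∈ T, ∀ j ∈ T', classInner (f i) (f' j) = 0) :
    classInner (∑ i ∈ T, f i) (∑ j ∈ T', f' j) = 0 := by
  rw [Cfsg.Agent.Lib.Helper10.classInner_sum_left]
  apply Finset.sum_eq_zero
  intro i hi
  rw [Cfsg.Agent.Lib.Helper10.classInner_sum_right]
  apply Finset.sum_eq_zero
  intro j hj
  exact h i hi j hj

theorem classInner_sum_right_eq_zero {κ : Type*} (T' : Finset κ) (u : G → ℂ)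
    (f' : κ → G → ℂ) (h : ∀ j ∈ T', classInner u (f' j) = 0) :
    classInner u (∑ j ∈ T', f' j) = 0 := by
  rw [Cfsg.Agent.Lib.Helper10.classInner_sum_right]
  exact Finset.sum_eq_zero h

theorem classInner_sum_left_eq_zero {κ : Type*} (T' : Finset κ) (u : G → ℂ)
    (f' : κ → G → ℂ) (h : ∀ j ∈ T', classInner (f' j) u = 0) :
    classInner (∑ j ∈ T', f' j) u = 0 := by
  rw [Cfsg.Agent.Lib.Helper10.classInner_sum_left]
  exact Finset.sum_eq_zero h

end ortho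

section cohsys
variable {L : Type*} [Group L] [Fintype L] {G : Type*} [Group G] [Fintype G]
  {S : Set (L → ℂ)} {τ : (L → ℂ) → (G → ℂ)} {R : (L → ℂ) → Finset (G → ℂ)}

theorem cohsys_ne_zero (hS : IsCoherenceSystem S τ R) {φ : L → ℂ} (hφ : φ ∈ S) : φ ≠ 0 := by
  intro h
  apply hS.conj_ne φ hφ
  rw [h]
  funext x
  simp [conjFun]

theorem cohsys_conj_one (hS : IsCoherenceSystem S τ R) {φ : L → ℂ} (hφ : φ ∈ S) :
    conjFun φ 1 = φ 1 :=
  IsCharacter.conj_apply_one (hS.isCharacter φ hφ)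

omit [Fintype L] in
theorem cohsys_sub_mem {φ ψ : L → ℂ} (hφ : φ ∈ S) (hψ : ψ ∈ S)
    (h1 : φ 1 = ψ 1) : φ - ψ ∈ zspanOn S {1}ᶜ := by
  refine ⟨zspan_sub (subset_zspan hφ) (subset_zspan hψ), ?_⟩
  intro x hx
  have hx1 : x = 1 := by simpa using hx
  subst hx1
  rw [Pi.sub_apply, h1, sub_self]

theorem cohsys_sub_conj_mem (hS : IsCoherenceSystem S τ R) {φ : L → ℂ} (hφ : φ ∈ S) :
    φ - conjFun φ ∈ zspanOn S {1}ᶜ :=
  cohsys_sub_mem hφ (hS.conj_mem φ hφ) (cohsys_conj_one hS hφ).symm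

theorem cohsys_inner (hS : IsCoherenceSystem S τ R) {n : (L → ℂ) → ℕ}
    (hn : ∀ φ ∈ S, classInner φ φ = (n φ : ℂ)) {φ ψ : L → ℂ} (hφ : φ ∈ S) (hψ : ψ ∈ S) :
    classInner φ ψ = if φ = ψ then (n φ : ℂ) else 0 := by
  classical
  by_cases h : φ = ψ
  · rw [if_pos h, ← h, hn φ hφ]
  · rw [if_neg h, hS.orthogonal φ hφ ψ hψ h]

theorem cohsys_n_ne_zero (hS : IsCoherenceSystem S τ R) {n : (L → ℂ) → ℕ}
    (hn : ∀ φ ∈ S, classInner φ φ = (n φ : ℂ)) {φ : L → ℂ} (hφ : φ ∈ S) : n φ ≠ 0 := by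
  intro h0
  have h1 := hn φ hφ
  rw [h0] at h1
  simp only [Nat.cast_zero] at h1
  exact cohsys_ne_zero hS hφ (Cfsg.Agent.Lib.Helper10.classInner_self_eq_zero h1)

theorem cohsys_n_conj (hS : IsCoherenceSystem S τ R) {n : (L → ℂ) → ℕ}
    (hn : ∀ φ ∈ S, classInner φ φ = (n φ : ℂ)) {φ : L → ℂ} (hφ : φ ∈ S) :
    n (conjFun φ) = n φ := by
  have h1 := hn _ (hS.conj_mem φ hφ)
  rw [classInner_conjFun, hn φ hφ] at h1
  exact_mod_cast h1.symm

/-- `⟨α, ∑_{β ∈ R φ} β⟩ = 1` for `α ∈ R φ`. -/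
theorem cohsys_inner_sum_R (hS : IsCoherenceSystem S τ R) {φ : L → ℂ} (hφ : φ ∈ S)
    {α : G → ℂ} (hα : α ∈ R φ) : classInner α (∑ β ∈ R φ, β) = 1 := by
  classical
  rw [Cfsg.Agent.Lib.Helper10.classInner_sum_right, Finset.sum_eq_single α]
  · rw [hS.orthonormal φ hφ α hα α hα, if_pos rfl]
  · intro β hβ hne
    rw [hS.orthonormal φ hφ α hα β hβ, if_neg (fun h => hne h.symm)]
  · intro h; exact absurd hα h

theorem cohsys_card_R (hS : IsCoherenceSystem S τ R) {n : (L → ℂ) → ℕ}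
    (hn : ∀ φ ∈ S, classInner φ φ = (n φ : ℂ)) {φ : L → ℂ} (hφ : φ ∈ S) :
    (R φ).card = 2 * n φ := by
  classical
  have hφbar := hS.conj_mem φ hφ
  have hne : conjFun φ ≠ φ := hS.conj_ne φ hφ
  have h1 : classInner (τ (φ - conjFun φ)) (τ (φ - conjFun φ)) = 2 * (n φ : ℂ) := by
    rw [hS.isometry.2.2.1 _ (cohsys_sub_conj_mem hS hφ) _ (cohsys_sub_conj_mem hS hφ),
      Cfsg.Agent.Lib.Helper10.classInner_sub_left, Cfsg.Agent.Lib.Helper10.classInner_sub_right,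
      Cfsg.Agent.Lib.Helper10.classInner_sub_right, cohsys_inner hS hn hφ hφ,
      cohsys_inner hS hn hφ hφbar, cohsys_inner hS hn hφbar hφ, cohsys_inner hS hn hφbar hφbar,
      if_pos rfl, if_pos rfl, if_neg hne, if_neg (fun h => hne h.symm), cohsys_n_conj hS hn hφ]
    ring
  rw [hS.sum_eq φ hφ, Cfsg.Agent.Lib.Helper10.classInner_sum_left] at h1
  have h2 : ∑ α ∈ R φ, classInner α (∑ β ∈ R φ, β) = ((R φ).card : ℂ) := by
    rw [Finset.sum_congr rfl (fun α hα => cohsys_inner_sum_R hS hφ hα)]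
    simp
  rw [h2] at h1
  exact_mod_cast h1

open Classical in
/-- Structure of `τ (φ - ψ)` for `ψ ∉ {φ, conj φ}` of equal degree: it lies in the span of `R φ ∪ R ψ`, and its
`R φ`-part has squared norm `n φ`. -/
theorem cohsys_structure (hS : IsCoherenceSystem S τ R) {n : (L → ℂ) → ℕ}
    (hn : ∀ φ ∈ S, classInner φ φ = (n φ : ℂ)) {φ ψ : L → ℂ} (hφ : φ ∈ S) (hψ : ψ ∈ S)
    (h1 : ψ ≠ φ) (h2 : ψ ≠ conjFun φ) (hdeg : φ 1 = ψ 1) :
    τ (φ - ψ) = ∑ α ∈ R φ, classInner (τ (φ - ψ)) α • α + ∑ γ ∈ R ψ, classInner (τ (φ - ψ)) γ • γ ∧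
    classInner (∑ α ∈ R φ, classInner (τ (φ - ψ)) α • α) (∑ α ∈ R φ, classInner (τ (φ - ψ)) α • α) =
      (n φ : ℂ) := by
  have hφbar := hS.conj_mem φ hφ
  have hψbar := hS.conj_mem ψ hψ
  have hφne : conjFun φ ≠ φ := hS.conj_ne φ hφ
  have hψne : conjFun ψ ≠ ψ := hS.conj_ne ψ hψ
  have h2' : φ ≠ conjFun ψ := by
    intro h
    apply h2
    rw [h, conjFun_conjFun]
  have hE : φ - ψ ∈ zspanOn S {1}ᶜ := cohsys_sub_mem hφ hψ hdeg
  have hτ := hS.isometry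
  set B : G → ℂ := τ (φ - ψ) with hB
  have hBg : IsGeneralizedCharacter G B := hτ.2.2.2 _ hE
  have hRφψ : ∀ α ∈ R φ, ∀ γ ∈ R ψ, classInner α γ = 0 := by
    apply hS.disjoint ψ hψ φ hφ
    · rw [cohsys_inner hS hn hφ hψ, if_neg (fun h => h1 h.symm)]
    · rw [cohsys_inner hS hn hφ hψbar, if_neg h2']
  have hRψφ : ∀ γ ∈ R ψ, ∀ α ∈ R φ, classInner γ α = 0 := by
    intro γ hγ α hα
    rw [Cfsg.Agent.Lib.Helper10.classInner_conj_symm, hRφψ α hα γ hγ, map_zero]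
  have hdisj : Disjoint (R φ) (R ψ) := by
    rw [Finset.disjoint_left]
    intro α hα hα'
    have h3 := hRφψ α hα α hα'
    rw [hS.orthonormal φ hφ α hα α hα, if_pos rfl] at h3
    exact one_ne_zero h3
  have hT : ∀ α ∈ R φ ∪ R ψ, ∀ β ∈ R φ ∪ R ψ, classInner α β = if α = β then 1 else 0 := by
    intro α hα β hβ
    rcases Finset.mem_union.mp hα with hα | hα <;> rcases Finset.mem_union.mp hβ with hβ | hβ
    · exact hS.orthonormal φ hφ α hα β hβ
    · rw [hRφψ α hα β hβ, if_neg]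
      intro h
      exact Finset.disjoint_left.mp hdisj hα (h ▸ hβ)
    · rw [hRψφ α hα β hβ, if_neg]
      intro h
      exact Finset.disjoint_left.mp hdisj hβ (h ▸ hα)
    · exact hS.orthonormal ψ hψ α hα β hβ
  -- integer coefficients
  have ha : ∀ α : G → ℂ, ∃ a : ℤ, α ∈ R φ ∪ R ψ → classInner B α = a := by
    intro α
    by_cases hα : α ∈ R φ ∪ R ψ
    · have hg : IsGeneralizedCharacter G α := by
        rcases Finset.mem_union.mp hα with h | h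
        · exact hS.virtual φ hφ α h
        · exact hS.virtual ψ hψ α h
      obtain ⟨a, ha⟩ := genChar_inner_int hBg hg
      exact ⟨a, fun _ => ha⟩
    · exact ⟨0, fun h => absurd h hα⟩
  choose a ha using ha
  have haφ : ∀ α ∈ R φ, classInner B α = a α := fun α hα => ha α (Finset.mem_union_left _ hα)
  have haψ : ∀ α ∈ R ψ, classInner B α = a α := fun α hα => ha α (Finset.mem_union_right _ hα)
  -- the two sums
  have hsumφ : ∑ α ∈ R φ, (a α : ℂ) = (n φ : ℂ) := by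
    have h3 : classInner B (τ (φ - conjFun φ)) = (n φ : ℂ) := by
      rw [hB, hτ.2.2.1 _ hE _ (cohsys_sub_conj_mem hS hφ),
        Cfsg.Agent.Lib.Helper10.classInner_sub_left, Cfsg.Agent.Lib.Helper10.classInner_sub_right,
        Cfsg.Agent.Lib.Helper10.classInner_sub_right, cohsys_inner hS hn hφ hφ,
        cohsys_inner hS hn hφ hφbar, cohsys_inner hS hn hψ hφ, cohsys_inner hS hn hψ hφbar,
        if_pos rfl, if_neg (fun h => hφne h.symm), if_neg h1, if_neg h2]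
      ring
    rw [hS.sum_eq φ hφ, Cfsg.Agent.Lib.Helper10.classInner_sum_right] at h3
    rw [← h3]
    exact Finset.sum_congr rfl (fun α hα => (haφ α hα).symm)
  have hsumψ : ∑ α ∈ R ψ, (a α : ℂ) = -(n ψ : ℂ) := by
    have h3 : classInner B (τ (ψ - conjFun ψ)) = -(n ψ : ℂ) := by
      rw [hB, hτ.2.2.1 _ hE _ (cohsys_sub_conj_mem hS hψ),
        Cfsg.Agent.Lib.Helper10.classInner_sub_left, Cfsg.Agent.Lib.Helper10.classInner_sub_right,
        Cfsg.Agent.Lib.Helper10.classInner_sub_right, cohsys_inner hS hn hφ hψ,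
        cohsys_inner hS hn hφ hψbar, cohsys_inner hS hn hψ hψ, cohsys_inner hS hn hψ hψbar,
        if_neg (fun h => h1 h.symm), if_neg h2', if_pos rfl, if_neg (fun h => hψne h.symm)]
      ring
    rw [hS.sum_eq ψ hψ, Cfsg.Agent.Lib.Helper10.classInner_sum_right] at h3
    rw [← h3]
    exact Finset.sum_congr rfl (fun α hα => (haψ α hα).symm)
  have hBB : classInner B B = (n φ : ℂ) + (n ψ : ℂ) := by
    rw [hB, hτ.2.2.1 _ hE _ hE,
      Cfsg.Agent.Lib.Helper10.classInner_sub_left, Cfsg.Agent.Lib.Helper10.classInner_sub_right,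
      Cfsg.Agent.Lib.Helper10.classInner_sub_right, cohsys_inner hS hn hφ hφ,
      cohsys_inner hS hn hφ hψ, cohsys_inner hS hn hψ hφ, cohsys_inner hS hn hψ hψ,
      if_pos rfl, if_pos rfl, if_neg h1, if_neg (fun h => h1 h.symm)]
    ring
  -- Pythagoras
  set W : G → ℂ := B - ∑ α ∈ R φ ∪ R ψ, classInner B α • α with hW
  have hp : classInner B B = ∑ α ∈ R φ ∪ R ψ, classInner B α * conj (classInner B α) + classInner W W :=
    classInner_self_eq_sum_add (R φ ∪ R ψ) (fun x => x) hT B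
  obtain ⟨r, hr0, hr⟩ := classInner_self_nonneg W
  have hsq : ∀ T' : Finset (G → ℂ), T' ⊆ R φ ∪ R ψ →
      ∑ α ∈ T', classInner B α * conj (classInner B α) = ((∑ α ∈ T', (a α : ℝ) ^ 2 : ℝ) : ℂ) := by
    intro T' hT'
    push_cast
    apply Finset.sum_congr rfl
    intro α hα
    rw [ha α (hT' hα), map_intCast]
    ring
  rw [Finset.sum_union hdisj, hsq _ Finset.subset_union_left, hsq _ Finset.subset_union_right, hBB,
    hr] at hp
  have hpR : (n φ : ℝ) + (n ψ : ℝ) = ∑ α ∈ R φ, (a α : ℝ) ^ 2 + ∑ α ∈ R ψ, (a α : ℝ) ^ 2 + r := by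
    exact_mod_cast hp
  have hsumφR : ∑ α ∈ R φ, (a α : ℝ) = (n φ : ℝ) := by
    have h3 : ((∑ α ∈ R φ, (a α : ℝ) : ℝ) : ℂ) = ((n φ : ℝ) : ℂ) := by
      push_cast
      exact hsumφ
    exact_mod_cast h3
  have hsumψR : ∑ α ∈ R ψ, (a α : ℝ) = -(n ψ : ℝ) := by
    have h3 : ((∑ α ∈ R ψ, (a α : ℝ) : ℝ) : ℂ) = ((-(n ψ : ℝ) : ℝ) : ℂ) := by
      push_cast
      exact hsumψ
    exact_mod_cast h3
  have hge1 : ∀ α : G → ℂ, (a α : ℝ) ≤ (a α : ℝ) ^ 2 := by
    intro α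
    have h3 : a α ≤ a α ^ 2 := by
      rcases le_or_gt (a α) 0 with h | h
      · nlinarith
      · have : 1 ≤ a α := h
        nlinarith
    exact_mod_cast h3
  have hge2 : ∀ α : G → ℂ, -(a α : ℝ) ≤ (a α : ℝ) ^ 2 := by
    intro α
    have h3 : -a α ≤ a α ^ 2 := by
      rcases le_or_gt 0 (a α) with h | h
      · nlinarith
      · have : a α ≤ -1 := by omega
        nlinarith
    exact_mod_cast h3
  have hgeφ : (n φ : ℝ) ≤ ∑ α ∈ R φ, (a α : ℝ) ^ 2 := by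
    rw [← hsumφR]
    exact Finset.sum_le_sum (fun α _ => hge1 α)
  have hgeψ : (n ψ : ℝ) ≤ ∑ α ∈ R ψ, (a α : ℝ) ^ 2 := by
    have h3 : (n ψ : ℝ) = ∑ α ∈ R ψ, -(a α : ℝ) := by
      rw [Finset.sum_neg_distrib, hsumψR, neg_neg]
    rw [h3]
    exact Finset.sum_le_sum (fun α _ => hge2 α)
  have hr_zero : r = 0 := by linarith
  have heqφ : ∑ α ∈ R φ, (a α : ℝ) ^ 2 = (n φ : ℝ) := by linarith
  have hW0 : W = 0 := by
    apply Cfsg.Agent.Lib.Helper10.classInner_self_eq_zero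
    rw [hr, hr_zero]
    simp
  constructor
  · have h3 : B = ∑ α ∈ R φ ∪ R ψ, classInner B α • α := sub_eq_zero.mp hW0
    rw [Finset.sum_union hdisj] at h3
    exact h3
  · have h3 : (∑ α ∈ R φ, classInner B α • α) = ∑ α ∈ R φ, classInner B α • (fun x => x) α := rfl
    rw [h3, classInner_sum_smul_sum_smul (R φ) (fun x => x) (hS.orthonormal φ hφ), 
      hsq _ Finset.subset_union_left, heqφ]
    simp

open Classical in
/-- Coherence from a "base vector": a virtual character `X₀` of norm `n χ₀` with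
`⟨X₀, τ (χ₀ - ψ)⟩ = n χ₀` for all `ψ ∈ S`, `ψ ≠ χ₀`, when all degrees in `S` agree. -/
theorem cohsys_coherent_of_base (hS : IsCoherenceSystem S τ R) {n : (L → ℂ) → ℕ}
    (hn : ∀ φ ∈ S, classInner φ φ = (n φ : ℂ))
    (hdeg : ∀ φ ∈ S, ∀ ψ ∈ S, φ 1 = ψ 1)
    {χ₀ : L → ℂ} (hχ₀ : χ₀ ∈ S) {X₀ : G → ℂ} (hX₀g : IsGeneralizedCharacter G X₀)
    (hX₀n : classInner X₀ X₀ = (n χ₀ : ℂ))
    (hX₀ : ∀ ψ ∈ S, ψ ≠ χ₀ → classInner X₀ (τ (χ₀ - ψ)) = (n χ₀ : ℂ)) :
    IsCoherent S {1}ᶜ τ := by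
  have hfin : S.Finite := finite_of_orthogonal (fun φ hφ => cohsys_ne_zero hS hφ) hS.orthogonal
  set SF : Finset (L → ℂ) := hfin.toFinset with hSF
  have hSFc : (↑SF : Set (L → ℂ)) = S := hfin.coe_toFinset
  have hmem : ∀ φ, φ ∈ SF ↔ φ ∈ S := fun φ => hfin.mem_toFinset
  have hτ := hS.isometry
  have hE0 : (0 : L → ℂ) ∈ zspanOn S {1}ᶜ := zspanOn_zero _ _
  have hτ0 : τ 0 = 0 := isometry_map_zero hτ hE0
  refine ⟨⟨χ₀ - conjFun χ₀, cohsys_sub_conj_mem hS hχ₀, ?_⟩, ?_⟩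
  · intro h
    exact hS.conj_ne χ₀ hχ₀ (sub_eq_zero.mp h).symm
  set f : (L → ℂ) → (G → ℂ) := fun φ => X₀ - τ (χ₀ - φ) with hf
  have hOrth : OrthogOn SF n :=
    fun φ hφ ψ hψ => cohsys_inner hS hn ((hmem φ).mp hφ) ((hmem ψ).mp hψ)
  have hw : ∀ φ ∈ SF, n φ ≠ 0 := fun φ hφ => cohsys_n_ne_zero hS hn ((hmem φ).mp hφ)
  have hEsub : ∀ φ ∈ S, χ₀ - φ ∈ zspanOn S {1}ᶜ :=
    fun φ hφ => cohsys_sub_mem hχ₀ hφ (hdeg χ₀ hχ₀ φ hφ)
  have hg : ∀ ψ ∈ S, classInner X₀ (τ (χ₀ - ψ)) = if ψ = χ₀ then 0 else (n χ₀ : ℂ) := by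
    intro ψ hψ
    by_cases h : ψ = χ₀
    · rw [if_pos h, h, sub_self, hτ0, Cfsg.Agent.Lib.Helper10.classInner_zero_right]
    · rw [if_neg h, hX₀ ψ hψ h]
  have hg' : ∀ ψ ∈ S, classInner (τ (χ₀ - ψ)) X₀ = if ψ = χ₀ then 0 else (n χ₀ : ℂ) := by
    intro ψ hψ
    rw [Cfsg.Agent.Lib.Helper10.classInner_conj_symm, hg ψ hψ]
    split_ifs <;> simp
  have hfGram : ∀ φ ∈ SF, ∀ ψ ∈ SF, classInner (f φ) (f ψ) = if φ = ψ then (n φ : ℂ) else 0 := by
    intro φ hφ' ψ hψ'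
    have hφ := (hmem φ).mp hφ'
    have hψ := (hmem ψ).mp hψ'
    show classInner (X₀ - τ (χ₀ - φ)) (X₀ - τ (χ₀ - ψ)) = _
    rw [Cfsg.Agent.Lib.Helper10.classInner_sub_left, Cfsg.Agent.Lib.Helper10.classInner_sub_right,
      Cfsg.Agent.Lib.Helper10.classInner_sub_right, hX₀n, hg ψ hψ, hg' φ hφ,
      hτ.2.2.1 _ (hEsub φ hφ) _ (hEsub ψ hψ), Cfsg.Agent.Lib.Helper10.classInner_sub_left,
      Cfsg.Agent.Lib.Helper10.classInner_sub_right, Cfsg.Agent.Lib.Helper10.classInner_sub_right,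
      cohsys_inner hS hn hχ₀ hχ₀, cohsys_inner hS hn hχ₀ hψ, cohsys_inner hS hn hφ hχ₀,
      cohsys_inner hS hn hφ hψ, if_pos rfl]
    by_cases h1 : φ = χ₀
    · subst h1
      by_cases h2 : ψ = φ
      · subst h2
        simp
      · simp [h2, Ne.symm h2]
    · by_cases h2 : ψ = χ₀
      · subst h2
        simp [h1]
      · by_cases h3 : φ = ψ
        · subst h3
          simp [h1, Ne.symm h1]
        · simp [h1, h2, h3, Ne.symm h2]
  have hfg : ∀ φ ∈ SF, IsGeneralizedCharacter G (f φ) :=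
    fun φ hφ => genChar_sub hX₀g (hτ.2.2.2 _ (hEsub φ ((hmem φ).mp hφ)))
  have hτ₁' : IsLinearIsometryOn (zspan (↑SF : Set (L → ℂ))) (wMap SF n f) :=
    wMap_isLinearIsometryOn hOrth hw f hfGram hfg
  have hτ₁ : IsLinearIsometryOn (zspan S) (wMap SF n f) := by
    rw [← hSFc]
    exact hτ₁'
  refine ⟨wMap SF n f, hτ₁, ?_⟩
  intro θ hθ
  have hθs : θ ∈ zspan (↑SF : Set (L → ℂ)) := by
    rw [hSFc]
    exact hθ.1
  have hθ1 : θ 1 = 0 := hθ.2 1 (by simp)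
  obtain ⟨c, hc⟩ := mem_zspan_finset.mp hθs
  have hd0 : χ₀ 1 ≠ 0 := fun h =>
    cohsys_ne_zero hS hχ₀ (char_eq_zero_of_apply_one_eq_zero (hS.isCharacter χ₀ hχ₀) h)
  have hsumc : ∑ ξ ∈ SF, c ξ = 0 := by
    have h1 : θ 1 = (∑ ξ ∈ SF, (c ξ : ℂ)) * χ₀ 1 := by
      rw [hc, Finset.sum_apply, Finset.sum_mul]
      apply Finset.sum_congr rfl
      intro ξ hξ
      rw [Pi.smul_apply, hdeg ξ ((hmem ξ).mp hξ) χ₀ hχ₀, zsmul_eq_mul]
    rw [hθ1] at h1
    have h2 : (∑ ξ ∈ SF, (c ξ : ℂ)) = 0 := by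
      rcases mul_eq_zero.mp h1.symm with h | h
      · exact h
      · exact absurd h hd0
    exact_mod_cast h2
  have h1 : wMap SF n f θ = ∑ ξ ∈ SF, c ξ • f ξ := by
    conv_lhs => rw [hc]
    rw [isometry_map_sum_zsmul hτ₁' c SF (Finset.Subset.refl SF)]
    apply Finset.sum_congr rfl
    intro ξ hξ
    rw [wMap_apply_mem hOrth hw f hξ]
  have h2 := (isometry_map_sum_zsmul_gen hτ hE0 (fun a ha b hb => zspanOn_add ha hb)
    (fun a ha k => zspanOn_zsmul ha k) SF c (fun ξ => χ₀ - ξ)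
    (fun ξ hξ => hEsub ξ ((hmem ξ).mp hξ))).2
  have h3 : ∑ ξ ∈ SF, c ξ • (χ₀ - ξ) = (-1 : ℤ) • θ := by
    conv_rhs => rw [hc]
    simp only [smul_sub, Finset.sum_sub_distrib, ← Finset.sum_smul, hsumc, zero_smul, zero_sub,
      neg_smul, one_smul]
  rw [h3, hτ.2.1 θ hθ (-1)] at h2
  rw [h1]
  show ∑ ξ ∈ SF, c ξ • (X₀ - τ (χ₀ - ξ)) = τ θ
  simp only [smul_sub, Finset.sum_sub_distrib, ← Finset.sum_smul, hsumc, zero_smul, zero_sub]
  rw [← h2]
  simp

theorem cohsys_R_orth (hS : IsCoherenceSystem S τ R) {φ χ : L → ℂ} (hφ : φ ∈ S) (hχ : χ ∈ S)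
    (h1 : φ ≠ χ) (h2 : φ ≠ conjFun χ) : ∀ α ∈ R φ, ∀ β ∈ R χ, classInner α β = 0 :=
  hS.disjoint χ hχ φ hφ (hS.orthogonal φ hφ χ hχ h1) (hS.orthogonal φ hφ _ (hS.conj_mem χ hχ) h2)

open Classical in
theorem cohsys_inner_sub_sub (hS : IsCoherenceSystem S τ R) {n : (L → ℂ) → ℕ}
    (hn : ∀ φ ∈ S, classInner φ φ = (n φ : ℂ)) {a b c d : L → ℂ} (ha : a ∈ S) (hb : b ∈ S)
    (hc : c ∈ S) (hd : d ∈ S) :
    classInner (a - b) (c - d) = ((if a = c then (n a : ℂ) else 0) - (if a = d then (n a : ℂ) else 0)) -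
      ((if b = c then (n b : ℂ) else 0) - (if b = d then (n b : ℂ) else 0)) := by
  rw [Cfsg.Agent.Lib.Helper10.classInner_sub_left, Cfsg.Agent.Lib.Helper10.classInner_sub_right,
    Cfsg.Agent.Lib.Helper10.classInner_sub_right, cohsys_inner hS hn ha hc, cohsys_inner hS hn ha hd,
    cohsys_inner hS hn hb hc, cohsys_inner hS hn hb hd]

open Classical in
theorem cohsys_inner_tau_sub_sub (hS : IsCoherenceSystem S τ R) {n : (L → ℂ) → ℕ}
    (hn : ∀ φ ∈ S, classInner φ φ = (n φ : ℂ)) {a b c d : L → ℂ} (ha : a ∈ S) (hb : b ∈ S)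
    (hc : c ∈ S) (hd : d ∈ S) (hab : a 1 = b 1) (hcd : c 1 = d 1) :
    classInner (τ (a - b)) (τ (c - d)) =
      ((if a = c then (n a : ℂ) else 0) - (if a = d then (n a : ℂ) else 0)) -
      ((if b = c then (n b : ℂ) else 0) - (if b = d then (n b : ℂ) else 0)) := by
  rw [hS.isometry.2.2.1 _ (cohsys_sub_mem ha hb hab) _ (cohsys_sub_mem hc hd hcd),
    cohsys_inner_sub_sub hS hn ha hb hc hd]

open Classical in
/-- A coherence system all of whose members have the same degree is coherent. -/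
theorem cohsys_coherent_of_constant_degree (hS : IsCoherenceSystem S τ R)
    (hdeg : ∀ φ ∈ S, ∀ ψ ∈ S, φ 1 = ψ 1) : IsCoherent S {1}ᶜ τ := by
  have hn' : ∀ φ : L → ℂ, ∃ k : ℕ, φ ∈ S → classInner φ φ = (k : ℂ) := by
    intro φ
    by_cases hφ : φ ∈ S
    · obtain ⟨k, hk⟩ := IsCharacter.classInner_nat (hS.isCharacter φ hφ) (hS.isCharacter φ hφ)
      exact ⟨k, fun _ => hk⟩
    · exact ⟨0, fun h => absurd h hφ⟩
  choose n hn using hn'
  obtain ⟨χ₀, hχ₀⟩ := hS.nonempty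
  have hχ₀bar := hS.conj_mem χ₀ hχ₀
  have hχ₀ne := hS.conj_ne χ₀ hχ₀
  have hτ := hS.isometry
  by_cases hcase : ∃ ψ₀ ∈ S, ψ₀ ≠ χ₀ ∧ ψ₀ ≠ conjFun χ₀
  · -- there is a third member
    obtain ⟨ψ₀, hψ₀, hψ₀1, hψ₀2⟩ := hcase
    have hψ₀bar := hS.conj_mem ψ₀ hψ₀
    have hψ₀ne := hS.conj_ne ψ₀ hψ₀
    have hd₀ : χ₀ 1 = ψ₀ 1 := hdeg χ₀ hχ₀ ψ₀ hψ₀
    obtain ⟨hdec, hnorm⟩ := cohsys_structure hS hn hχ₀ hψ₀ hψ₀1 hψ₀2 hd₀
    have hE₀ : χ₀ - ψ₀ ∈ zspanOn S {1}ᶜ := cohsys_sub_mem hχ₀ hψ₀ hd₀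
    set B₀ : G → ℂ := τ (χ₀ - ψ₀) with hB₀
    set X₀ : G → ℂ := ∑ α ∈ R χ₀, classInner B₀ α • α with hX₀
    set Y₀ : G → ℂ := ∑ γ ∈ R ψ₀, classInner B₀ γ • γ with hY₀
    have hB₀g : IsGeneralizedCharacter G B₀ := hτ.2.2.2 _ hE₀
    have hX₀g : IsGeneralizedCharacter G X₀ := by
      apply genChar_sum
      intro α hα
      obtain ⟨a, ha⟩ := genChar_inner_int hB₀g (hS.virtual χ₀ hχ₀ α hα)
      rw [ha, Int.cast_smul_eq_zsmul]
      exact genChar_zsmul (hS.virtual χ₀ hχ₀ α hα) a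
    have hχ₀ψ₀bar : χ₀ ≠ conjFun ψ₀ := by
      intro h
      apply hψ₀2
      rw [h, conjFun_conjFun]
    -- orthogonality of `X₀` and `Y₀` to the other `R`'s
    have hX₀orth : ∀ ψ ∈ S, ψ ≠ χ₀ → ψ ≠ conjFun χ₀ → ∀ γ ∈ R ψ, classInner X₀ γ = 0 := by
      intro ψ hψ h1 h2 γ hγ
      rw [hX₀]
      apply classInner_sum_left_eq_zero
      intro α hα
      rw [Cfsg.Agent.Lib.Helper10.classInner_smul_left,
        Cfsg.Agent.Lib.Helper10.classInner_conj_symm α γ, cohsys_R_orth hS hψ hχ₀ h1 h2 γ hγ α hα,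
        map_zero, mul_zero]
    have hY₀orth : ∀ χ ∈ S, χ ≠ ψ₀ → χ ≠ conjFun ψ₀ → ∀ α ∈ R χ, classInner Y₀ α = 0 := by
      intro χ hχ h1 h2 α hα
      rw [hY₀]
      apply classInner_sum_left_eq_zero
      intro γ hγ
      rw [Cfsg.Agent.Lib.Helper10.classInner_smul_left,
        Cfsg.Agent.Lib.Helper10.classInner_conj_symm γ α, cohsys_R_orth hS hχ hψ₀ h1 h2 α hα γ hγ,
        map_zero, mul_zero]
    have hX₀Y₀ : classInner X₀ Y₀ = 0 := by
      rw [hY₀]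
      apply classInner_sum_right_eq_zero
      intro γ hγ
      rw [Cfsg.Agent.Lib.Helper10.classInner_smul_right, hX₀orth ψ₀ hψ₀ hψ₀1 hψ₀2 γ hγ, mul_zero]
    have hX₀B₀ : classInner X₀ B₀ = (n χ₀ : ℂ) := by
      rw [hdec, Cfsg.Agent.Lib.Helper10.classInner_add_right, hnorm, hX₀Y₀, add_zero]
    have hXeq : X₀ = B₀ - Y₀ := by
      rw [hdec]
      abel
    apply cohsys_coherent_of_base hS hn hdeg hχ₀ hX₀g hnorm
    intro ψ hψ hψne
    have hψbar := hS.conj_mem ψ hψ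
    have hdψ : χ₀ 1 = ψ 1 := hdeg χ₀ hχ₀ ψ hψ
    by_cases hc1 : ψ = conjFun χ₀
    · -- ψ = conj χ₀
      rw [hc1, hS.sum_eq χ₀ hχ₀, hXeq, Cfsg.Agent.Lib.Helper10.classInner_sub_left]
      have h1 : classInner B₀ (∑ α ∈ R χ₀, α) = (n χ₀ : ℂ) := by
        rw [← hS.sum_eq χ₀ hχ₀, hB₀,
          cohsys_inner_tau_sub_sub hS hn hχ₀ hψ₀ hχ₀ hχ₀bar hd₀ (cohsys_conj_one hS hχ₀).symm,
          if_pos rfl, if_neg (fun h => hχ₀ne h.symm), if_neg hψ₀1, if_neg hψ₀2]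
        ring
      have h2 : classInner Y₀ (∑ α ∈ R χ₀, α) = 0 := by
        apply classInner_sum_right_eq_zero
        intro α hα
        exact hY₀orth χ₀ hχ₀ (fun h => hψ₀1 h.symm) hχ₀ψ₀bar α hα
      rw [h1, h2, sub_zero]
    · by_cases hc2 : ψ = ψ₀
      · rw [hc2]
        exact hX₀B₀
      · by_cases hc3 : ψ = conjFun ψ₀
        · -- ψ = conj ψ₀
          have h1 : χ₀ - ψ = (χ₀ - ψ₀) + (ψ₀ - conjFun ψ₀) := by
            rw [hc3]
            abel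
          rw [h1, hτ.1 _ hE₀ _ (cohsys_sub_conj_mem hS hψ₀),
            Cfsg.Agent.Lib.Helper10.classInner_add_right, hS.sum_eq ψ₀ hψ₀]
          have h2 : classInner X₀ (∑ γ ∈ R ψ₀, γ) = 0 := by
            apply classInner_sum_right_eq_zero
            intro γ hγ
            exact hX₀orth ψ₀ hψ₀ hψ₀1 hψ₀2 γ hγ
          rw [h2, add_zero]
          exact hX₀B₀
        · -- general ψ
          obtain ⟨hdecψ, -⟩ := cohsys_structure hS hn hχ₀ hψ hψne hc1 hdψ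
          rw [hXeq, Cfsg.Agent.Lib.Helper10.classInner_sub_left]
          have h1 : classInner B₀ (τ (χ₀ - ψ)) = (n χ₀ : ℂ) := by
            rw [hB₀, cohsys_inner_tau_sub_sub hS hn hχ₀ hψ₀ hχ₀ hψ hd₀ hdψ,
              if_pos rfl, if_neg (fun h => hψne h.symm), if_neg hψ₀1, if_neg (fun h => hc2 h.symm)]
            ring
          have hψψ₀bar : ψ₀ ≠ conjFun ψ := by
            intro h
            apply hc3
            rw [h, conjFun_conjFun]
          have h2 : classInner Y₀ (τ (χ₀ - ψ)) = 0 := by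
            rw [hdecψ, Cfsg.Agent.Lib.Helper10.classInner_add_right]
            have h3 : classInner Y₀ (∑ α ∈ R χ₀, classInner (τ (χ₀ - ψ)) α • α) = 0 := by
              apply classInner_sum_right_eq_zero
              intro α hα
              rw [Cfsg.Agent.Lib.Helper10.classInner_smul_right,
                hY₀orth χ₀ hχ₀ (fun h => hψ₀1 h.symm) hχ₀ψ₀bar α hα, mul_zero]
            have h4 : classInner Y₀ (∑ γ ∈ R ψ, classInner (τ (χ₀ - ψ)) γ • γ) = 0 := by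
              apply classInner_sum_right_eq_zero
              intro γ hγ
              rw [Cfsg.Agent.Lib.Helper10.classInner_smul_right,
                hY₀orth ψ hψ hc2 hc3 γ hγ, mul_zero]
            rw [h3, h4, add_zero]
          rw [h1, h2, sub_zero]
  · -- `S = {χ₀, conj χ₀}`
    have hall : ∀ ψ ∈ S, ψ ≠ χ₀ → ψ = conjFun χ₀ := by
      intro ψ hψ h1
      by_contra h2
      exact hcase ⟨ψ, hψ, h1, h2⟩
    have hcard := cohsys_card_R hS hn hχ₀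
    have hle : n χ₀ ≤ (R χ₀).card := by omega
    obtain ⟨I, hI, hIcard⟩ := Finset.exists_subset_card_eq hle
    have hX₀g : IsGeneralizedCharacter G (∑ α ∈ I, α) :=
      genChar_sum I (fun α hα => hS.virtual χ₀ hχ₀ α (hI hα))
    have hX₀n : classInner (∑ α ∈ I, α) (∑ α ∈ I, α) = (n χ₀ : ℂ) := by
      rw [Cfsg.Agent.Lib.Helper10.classInner_sum_left]
      have h1 : ∀ α ∈ I, classInner α (∑ β ∈ I, β) = 1 := by
        intro α hα
        rw [Cfsg.Agent.Lib.Helper10.classInner_sum_right, Finset.sum_eq_single α]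
        · rw [hS.orthonormal χ₀ hχ₀ α (hI hα) α (hI hα), if_pos rfl]
        · intro β hβ hne
          rw [hS.orthonormal χ₀ hχ₀ α (hI hα) β (hI hβ), if_neg (fun h => hne h.symm)]
        · intro h; exact absurd hα h
      rw [Finset.sum_congr rfl h1]
      simp [hIcard]
    apply cohsys_coherent_of_base hS hn hdeg hχ₀ hX₀g hX₀n
    intro ψ hψ hψne
    rw [hall ψ hψ hψne, hS.sum_eq χ₀ hχ₀, Cfsg.Agent.Lib.Helper10.classInner_sum_left,
      Finset.sum_congr rfl (fun α hα => cohsys_inner_sum_R hS hχ₀ (hI hα))]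
    simp [hIcard]

end cohsys

end Cfsg.Agent.Lib.Helper10
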