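import Mathlib
import Cfsg.Prelude.Def_OddOrderLocal
import Cfsg.Prelude.Def_Characters
import Cfsg.Agent.Lib.Helper10.IndFun

/-! The TI-subset `W \ (W₁ ∪ W₂)` of a self-normalizing cyclic subgroup `W = W₁ ⊔ W₂`
(`Cfsg.IsSelfNormalizingCyclic`) and induction from it. -/

namespace Cfsg.Agent.Lib.Helper10
open Cfsg

/-- An element normalizing a cyclic subgroup `W` normalizes each of its subgroups. -/
theorem conj_mem_of_isCyclic {G : Type*} [Group G] (W : Subgroup G) [hc : IsCyclic W] (y : G)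
    (hy : ∀ u ∈ W, y * u * y⁻¹ ∈ W) (K : Subgroup G) (hK : K ≤ W) :
    ∀ u ∈ K, y * u * y⁻¹ ∈ K := by
  obtain ⟨c, hc⟩ := hc.exists_generator
  obtain ⟨k, hk⟩ := Subgroup.mem_zpowers_iff.mp (hc ⟨y * c * y⁻¹, hy c c.2⟩)
  have hk' : (c : G) ^ k = y * c * y⁻¹ := by
    have := congrArg Subtype.val hk
    simpa using this
  intro u hu
  obtain ⟨m, hm⟩ := Subgroup.mem_zpowers_iff.mp (hc ⟨u, hK hu⟩)
  have hm' : (c : G) ^ m = u := by
    have := congrArg Subtype.val hm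
    simpa using this
  have : y * u * y⁻¹ = u ^ k := by
    rw [← hm', ← zpow_mul, mul_comm, zpow_mul, hk', conj_zpow]
  rw [this]
  exact K.zpow_mem hu k

/-- The TI property of `W \ (W₁ ∪ W₂)`. -/
theorem mem_of_conj_mem_cyclicTI {G : Type*} [Group G] (W₁ W₂ : Subgroup G)
    (hW : IsSelfNormalizingCyclic W₁ W₂) (w x : G) (hw : w ∈ W₁ ⊔ W₂) (hw₁ : w ∉ W₁) (hw₂ : w ∉ W₂)
    (hc : x⁻¹ * w * x ∈ W₁ ⊔ W₂) (hc₁ : x⁻¹ * w * x ∉ W₁) (hc₂ : x⁻¹ * w * x ∉ W₂) :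
    x ∈ W₁ ⊔ W₂ := by
  obtain ⟨-, -, hdisj, hcomm, hcyc, hnorm⟩ := hW
  have hcent : ∀ v ∈ W₁ ⊔ W₂, v ∉ W₁ → v ∉ W₂ → ∀ g : G, g ∈ W₁ ⊔ W₂ ↔ g * v * g⁻¹ = v := by
    intro v hv hv1 hv2 g
    have h := hnorm {v} (by
      intro z hz
      rw [Set.mem_singleton_iff] at hz
      subst hz
      exact ⟨hv, fun h => h.elim hv1 hv2⟩) ⟨v, rfl⟩
    rw [← h, Subgroup.mem_set_normalizer_iff]
    constructor
    · intro hg
      exact (hg v).mp rfl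
    · intro hg n
      simp only [Set.mem_singleton_iff]
      constructor
      · rintro rfl; exact hg
      · intro hn
        have : n = g⁻¹ * v * g := by rw [← hn]; group
        rw [this]
        have : g⁻¹ * v * g = g⁻¹ * (g * v * g⁻¹) * g := by rw [hg]
        rw [this]; group
  have hxW : ∀ u ∈ W₁ ⊔ W₂, x⁻¹ * u * x⁻¹⁻¹ ∈ W₁ ⊔ W₂ := by
    intro u hu
    have h1 := (hcent w hw hw₁ hw₂ u).mp hu
    rw [hcent (x⁻¹ * w * x) hc hc₁ hc₂]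
    have : x⁻¹ * u * x⁻¹⁻¹ * (x⁻¹ * w * x) * (x⁻¹ * u * x⁻¹⁻¹)⁻¹ = x⁻¹ * (u * w * u⁻¹) * x := by group
    rw [this, h1]
  have hxW' : ∀ u ∈ W₁ ⊔ W₂, x * u * x⁻¹ ∈ W₁ ⊔ W₂ := by
    intro u hu
    have h1 := (hcent (x⁻¹ * w * x) hc hc₁ hc₂ u).mp hu
    rw [hcent w hw hw₁ hw₂]
    have : x * u * x⁻¹ * w * (x * u * x⁻¹)⁻¹ = x * (u * (x⁻¹ * w * x) * u⁻¹) * x⁻¹ := by group
    rw [this, h1]; group
  have hK := conj_mem_of_isCyclic (W₁ ⊔ W₂) x hxW'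
  have hK' := conj_mem_of_isCyclic (W₁ ⊔ W₂) x⁻¹ hxW
  have hback : ∀ n : G, n = x⁻¹ * (x * n * x⁻¹) * x⁻¹⁻¹ := by intro n; group
  rw [← hnorm (↑(W₁ ⊔ W₂) \ (↑W₁ ∪ ↑W₂)) (subset_refl _) ⟨w, hw, fun h => h.elim hw₁ hw₂⟩,
    Subgroup.mem_set_normalizer_iff]
  intro n
  constructor
  · rintro ⟨hn, hn'⟩
    refine ⟨hxW' n hn, ?_⟩
    rintro (h | h)
    · apply hn'; left
      have := hK' W₁ le_sup_left _ h
      rw [← hback] at this
      exact this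
    · apply hn'; right
      have := hK' W₂ le_sup_right _ h
      rw [← hback] at this
      exact this
  · rintro ⟨hn, hn'⟩
    refine ⟨?_, ?_⟩
    · have := hxW _ hn
      rw [← hback] at this
      exact this
    · rintro (h | h)
      · exact hn' (Or.inl (hK W₁ le_sup_left n h))
      · exact hn' (Or.inr (hK W₂ le_sup_right n h))

/-- Induction from the TI-subset: a function on `W` supported off `W₁ ∪ W₂` induces to a function
agreeing with it off `W₁ ∪ W₂`. -/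
theorem indFun_apply_of_cyclicTI {G : Type*} [Group G] [Fintype G] (W₁ W₂ : Subgroup G)
    (hW : IsSelfNormalizingCyclic W₁ W₂) (α : ↥(W₁ ⊔ W₂) → ℂ)
    (hα : ∀ w : ↥(W₁ ⊔ W₂), ((w : G) ∈ W₁ ∨ (w : G) ∈ W₂) → α w = 0)
    (w : ↥(W₁ ⊔ W₂)) (hw₁ : (w : G) ∉ W₁) (hw₂ : (w : G) ∉ W₂) :
    indFun (W₁ ⊔ W₂) α w = α w := by
  classical
  have hWc : ∀ a b : ↥(W₁ ⊔ W₂), a * b = b * a :=
    fun a b => hW.2.2.2.2.1.isMulCommutative.is_comm.comm a b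
  have hW0 : (Nat.card ↥(W₁ ⊔ W₂) : ℂ) ≠ 0 := Nat.cast_ne_zero.mpr Nat.card_pos.ne'
  have key : ∀ x : G, extendByZero (W₁ ⊔ W₂) α (x⁻¹ * w * x) = if x ∈ W₁ ⊔ W₂ then α w else 0 := by
    intro x
    by_cases hx : x ∈ W₁ ⊔ W₂
    · rw [if_pos hx]
      have h1 := congrArg Subtype.val (hWc ⟨x, hx⟩ w)
      simp only [Subgroup.coe_mul] at h1
      have h2 : x⁻¹ * w * x = w := by rw [mul_assoc, ← h1]; group
      rw [h2, extendByZero_apply_coe]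
    · rw [if_neg hx]
      by_cases hc : x⁻¹ * w * x ∈ W₁ ⊔ W₂
      · rw [extendByZero_apply_mem _ _ hc]
        by_cases h12 : x⁻¹ * (w : G) * x ∈ W₁ ∨ x⁻¹ * (w : G) * x ∈ W₂
        · exact hα ⟨_, hc⟩ h12
        · push_neg at h12
          exact absurd (mem_of_conj_mem_cyclicTI W₁ W₂ hW w x w.2 hw₁ hw₂ hc h12.1 h12.2) hx
      · rw [extendByZero_apply_not_mem _ _ hc]
  unfold indFun
  simp_rw [key]
  rw [Finset.sum_ite, Finset.sum_const_zero, add_zero, Finset.sum_const, nsmul_eq_mul]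
  have hcard : (Finset.univ.filter (fun x : G => x ∈ W₁ ⊔ W₂)).card = Nat.card ↥(W₁ ⊔ W₂) := by
    rw [Nat.card_eq_fintype_card, Fintype.card_subtype]
  rw [hcard]
  field_simp

end Cfsg.Agent.Lib.Helper10
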