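import Cfsg.Agent.Lib.Helper10.CyclicTIGalois2
import Cfsg.Agent.Lib.Helper10.AdditiveMatrix
import Cfsg.Agent.S1506

set_option autoImplicit false

namespace Cfsg.Agent.Lib.Helper10

open Cfsg
open scoped ComplexConjugate

section card
variable {G : Type*} [Group G] [Finite G]

theorem card_sup_of_isCyclic (W₁ W₂ : Subgroup G) (hdisj : W₁ ⊓ W₂ = ⊥)
    (hcomm : ∀ a ∈ W₁, ∀ b ∈ W₂, a * b = b * a) (hcyc : IsCyclic ↥(W₁ ⊔ W₂)) :
    Nat.card ↥(W₁ ⊔ W₂) = Nat.card W₁ * Nat.card W₂ := by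
  have hcop := coprime_card_of_isCyclic_sup W₁ W₂ hdisj hcomm hcyc
  have h1 : Nat.card W₁ ∣ Nat.card ↥(W₁ ⊔ W₂) := Subgroup.card_dvd_of_le le_sup_left
  have h2 : Nat.card W₂ ∣ Nat.card ↥(W₁ ⊔ W₂) := Subgroup.card_dvd_of_le le_sup_right
  have h3 : Nat.card W₁ * Nat.card W₂ ∣ Nat.card ↥(W₁ ⊔ W₂) := hcop.mul_dvd_of_dvd_of_dvd h1 h2
  have h4 : Nat.card ↥(W₁ ⊔ W₂) ≤ Nat.card W₁ * Nat.card W₂ := by
    rw [← Nat.card_prod]
    let f : W₁ × W₂ → ↥(W₁ ⊔ W₂) := fun p =>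
      ⟨(p.1 : G) * p.2, Subgroup.mul_mem _ ((le_sup_left : W₁ ≤ W₁ ⊔ W₂) p.1.2)
        ((le_sup_right : W₂ ≤ W₁ ⊔ W₂) p.2.2)⟩
    apply Nat.card_le_card_of_surjective f
    rintro ⟨x, hx⟩
    obtain ⟨a', ha', b', hb', rfl⟩ := exists_mul_of_mem_sup_of_commute W₁ W₂ hcomm hx
    exact ⟨(⟨a', ha'⟩, ⟨b', hb'⟩), rfl⟩
  exact le_antisymm h4 (Nat.le_of_dvd Nat.card_pos h3)

/-- the number of linear characters of a finite commutative group `W` trivial on `K` is the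
index of `K` -/
theorem card_linChar_trivOn {W : Type*} [Group W] [Finite W] (hcomm : ∀ a b : W, a * b = b * a)
    (K : Subgroup W) :
    Nat.card {φ : W →* ℂˣ // ∀ y ∈ K, φ y = 1} = K.index := by
  letI : CommGroup W := { (inferInstance : Group W) with mul_comm := hcomm }
  have : NeZero ((Monoid.exponent W : ℕ) : ℂ) :=
    ⟨Nat.cast_ne_zero.mpr Monoid.exponent_ne_zero_of_finite⟩
  have h1 := CommGroup.card_domRestrictHom_ker (G := W) ℂ K
  have h2 : Nat.card {φ : W →* ℂˣ // ∀ y ∈ K, φ y = 1}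
      = Nat.card ↥(MonoidHom.domRestrictHom K ℂˣ).ker := by
    apply Nat.card_congr
    apply Equiv.subtypeEquivRight
    intro φ
    rw [MonoidHom.mem_ker, MonoidHom.domRestrictHom_apply, MonoidHom.domRestrict_eq_one_iff]
  rw [h2, h1]
  rfl

end card

section main
variable {G : Type*} [Group G] [Fintype G] (W₁ W₂ : Subgroup G)
  (χ : (↥(W₁ ⊔ W₂) →* ℂˣ) → (G → ℂ))

open Classical in
theorem cyclicTI_few (hW : IsSelfNormalizingCyclic W₁ W₂) (hodd : Odd (Nat.card ↥(W₁ ⊔ W₂)))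
    (hχ : IsCyclicTIFamily W₁ W₂ χ) (hlt : Nat.card W₁ < Nat.card W₂) (θ : G → ℂ)
    (hθ : IsClassFunction G θ)
    (hθV : ∀ w : ↥(W₁ ⊔ W₂), (w : G) ∉ W₁ → (w : G) ∉ W₂ → θ w = 0)
    (hfew : Nat.card {ω : ↥(W₁ ⊔ W₂) →* ℂˣ // classInner θ (χ ω) ≠ 0} < 2 * Nat.card W₁) :
    (∀ ω, classInner θ (χ ω) = 0) ∨
    (∃ (ψ₀ : ↥(W₁ ⊔ W₂) →* ℂˣ) (a : ℂ), ∀ ω, classInner θ (χ ω) =
      if (∀ w : ↥(W₁ ⊔ W₂), (w : G) ∈ W₂ → (ω * ψ₀⁻¹) w = 1) then a else 0) ∨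
    (∃ (φ₀ : ↥(W₁ ⊔ W₂) →* ℂˣ) (a : ℂ), ∀ ω, classInner θ (χ ω) =
      if (∀ w : ↥(W₁ ⊔ W₂), (w : G) ∈ W₁ → (ω * φ₀⁻¹) w = 1) then a else 0) := by
  have hW' := hW
  obtain ⟨hW₁ne, hW₂ne, hdisj, hcomm, hcyc, _⟩ := hW
  have hWc : ∀ a b : ↥(W₁ ⊔ W₂), a * b = b * a :=
    fun a b => hcyc.isMulCommutative.is_comm.comm a b
  have hcardW := card_sup_of_isCyclic W₁ W₂ hdisj hcomm hcyc
  have hn1pos : 0 < Nat.card W₁ := Nat.card_pos
  have hn2pos : 0 < Nat.card W₂ := Nat.card_pos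
  haveI : Fintype (↥(W₁ ⊔ W₂) →* ℂˣ) := Fintype.ofFinite _
  -- the index types
  let P := {φ : ↥(W₁ ⊔ W₂) →* ℂˣ // ∀ w : ↥(W₁ ⊔ W₂), (w : G) ∈ W₂ → φ w = 1}
  let Q := {ψ : ↥(W₁ ⊔ W₂) →* ℂˣ // ∀ w : ↥(W₁ ⊔ W₂), (w : G) ∈ W₁ → ψ w = 1}
  -- cardinalities
  have hcardP : Fintype.card P = Nat.card W₁ := by
    rw [← Nat.card_eq_fintype_card]
    have h1 := card_linChar_trivOn hWc (W₂.subgroupOf (W₁ ⊔ W₂))
    have h2 : Nat.card P = Nat.card {φ : ↥(W₁ ⊔ W₂) →* ℂˣ // ∀ y ∈ W₂.subgroupOf (W₁ ⊔ W₂), φ y = 1} :=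
      Nat.card_congr (Equiv.subtypeEquivRight (fun φ => Iff.rfl))
    rw [h2, h1]
    have h3 := Subgroup.card_mul_index (W₂.subgroupOf (W₁ ⊔ W₂))
    have h4 : Nat.card ↥(W₂.subgroupOf (W₁ ⊔ W₂)) = Nat.card W₂ :=
      Nat.card_congr (Subgroup.subgroupOfEquivOfLe le_sup_right).toEquiv
    rw [h4, hcardW, mul_comm (Nat.card W₁)] at h3
    exact Nat.eq_of_mul_eq_mul_left hn2pos h3
  have hcardQ : Fintype.card Q = Nat.card W₂ := by
    rw [← Nat.card_eq_fintype_card]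
    have h1 := card_linChar_trivOn hWc (W₁.subgroupOf (W₁ ⊔ W₂))
    have h2 : Nat.card Q = Nat.card {φ : ↥(W₁ ⊔ W₂) →* ℂˣ // ∀ y ∈ W₁.subgroupOf (W₁ ⊔ W₂), φ y = 1} :=
      Nat.card_congr (Equiv.subtypeEquivRight (fun φ => Iff.rfl))
    rw [h2, h1]
    have h3 := Subgroup.card_mul_index (W₁.subgroupOf (W₁ ⊔ W₂))
    have h4 : Nat.card ↥(W₁.subgroupOf (W₁ ⊔ W₂)) = Nat.card W₁ :=
      Nat.card_congr (Subgroup.subgroupOfEquivOfLe le_sup_left).toEquiv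
    rw [h4, hcardW] at h3
    exact Nat.eq_of_mul_eq_mul_left hn1pos h3
  have hoddmul : Odd (Nat.card W₁ * Nat.card W₂) := by rw [← hcardW]; exact hodd
  have hodd1 : Odd (Fintype.card P) := by rw [hcardP]; exact (Nat.odd_mul.mp hoddmul).1
  have hodd2 : Odd (Fintype.card Q) := by rw [hcardQ]; exact (Nat.odd_mul.mp hoddmul).2
  -- the product equivalence
  let e : P × Q ≃ (↥(W₁ ⊔ W₂) →* ℂˣ) := Equiv.ofBijective (fun x => x.1.1 * x.2.1) (by
    constructor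
    · rintro ⟨⟨φ, hφ⟩, ⟨ψ, hψ⟩⟩ ⟨⟨φ', hφ'⟩, ⟨ψ', hψ'⟩⟩ h
      obtain ⟨h1, h2⟩ := linChar_mul_inj W₁ W₂ φ φ' ψ ψ' hφ hφ' hψ hψ' h
      subst h1 h2
      rfl
    · intro ω
      obtain ⟨φ, ψ, hφ, hψ, rfl⟩ := exists_linChar_decomp W₁ W₂ hdisj hcomm hcyc ω
      exact ⟨(⟨φ, hφ⟩, ⟨ψ, hψ⟩), rfl⟩)
  have he : ∀ x : P × Q, e x = x.1.1 * x.2.1 := fun x => rfl
  -- the matrix
  let M : P → Q → ℂ := fun φ ψ => classInner θ (χ (φ.1 * ψ.1))
  have hrel : ∀ i i' j j', M i j + M i' j' = M i j' + M i' j := by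
    intro i i' j j'
    exact Cfsg.Agent.S1506.result W₁ W₂ hW' χ hχ θ hθ hθV i.1 i'.1 j.1 j'.1
      (fun w hw => ⟨i.2 w hw, i'.2 w hw⟩) (fun w hw => ⟨j.2 w hw, j'.2 w hw⟩)
  have hfew' : (Finset.univ.filter (fun x : P × Q => M x.1 x.2 ≠ 0)).card
      < 2 * Fintype.card P := by
    rw [hcardP]
    have h1 : Nat.card {ω : ↥(W₁ ⊔ W₂) →* ℂˣ // classInner θ (χ ω) ≠ 0}
        = Nat.card {x : P × Q // M x.1 x.2 ≠ 0} :=
      (Nat.card_congr (Equiv.subtypeEquiv e (fun x => Iff.rfl))).symm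
    rw [h1, Nat.card_eq_fintype_card, Fintype.card_subtype] at hfew
    exact hfew
  have hpq : Fintype.card P < Fintype.card Q := by rw [hcardP, hcardQ]; exact hlt
  rcases additive_matrix_few_nonzero M hrel hodd1 hodd2 hpq hfew' with h0 | ⟨j₀, a, hcol⟩ |
    ⟨i₀, a, hrow⟩
  · left
    intro ω
    obtain ⟨x, rfl⟩ := e.surjective ω
    exact h0 x.1 x.2
  · right; left
    refine ⟨j₀.1, a, ?_⟩
    intro ω
    obtain ⟨⟨φ, ψ⟩, rfl⟩ := e.surjective ω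
    have hM : classInner θ (χ (e (φ, ψ))) = if ψ = j₀ then a else 0 := hcol φ ψ
    rw [hM]
    by_cases hψ : ψ = j₀
    · rw [if_pos hψ, if_pos]
      intro w hw
      rw [he, hψ]
      simp only [MonoidHom.mul_apply, MonoidHom.inv_apply]
      rw [φ.2 w hw, one_mul, mul_inv_cancel]
    · rw [if_neg hψ, if_neg]
      intro hcon
      apply hψ
      apply Subtype.ext
      have h1 : ψ.1 * j₀.1⁻¹ = 1 := by
        apply linChar_eq_one_of_sup
        · intro w hw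
          simp only [MonoidHom.mul_apply, MonoidHom.inv_apply]
          rw [ψ.2 w hw, j₀.2 w hw, one_mul, inv_one]
        · intro w hw
          have := hcon w hw
          rw [he] at this
          simp only [MonoidHom.mul_apply, MonoidHom.inv_apply] at this
          rw [φ.2 w hw, one_mul] at this
          simp only [MonoidHom.mul_apply, MonoidHom.inv_apply]
          exact this
      exact mul_inv_eq_one.mp h1
  · right; right
    refine ⟨i₀.1, a, ?_⟩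
    intro ω
    obtain ⟨⟨φ, ψ⟩, rfl⟩ := e.surjective ω
    have hM : classInner θ (χ (e (φ, ψ))) = if φ = i₀ then a else 0 := hrow φ ψ
    rw [hM]
    by_cases hφ : φ = i₀
    · rw [if_pos hφ, if_pos]
      intro w hw
      rw [he, hφ]
      simp only [MonoidHom.mul_apply, MonoidHom.inv_apply]
      rw [ψ.2 w hw, mul_one, mul_inv_cancel]
    · rw [if_neg hφ, if_neg]
      intro hcon
      apply hφ
      apply Subtype.ext
      have h1 : φ.1 * i₀.1⁻¹ = 1 := by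
        apply linChar_eq_one_of_sup
        · intro w hw
          have := hcon w hw
          rw [he] at this
          simp only [MonoidHom.mul_apply, MonoidHom.inv_apply] at this
          rw [ψ.2 w hw, mul_one] at this
          simp only [MonoidHom.mul_apply, MonoidHom.inv_apply]
          exact this
        · intro w hw
          simp only [MonoidHom.mul_apply, MonoidHom.inv_apply]
          rw [φ.2 w hw, i₀.2 w hw, one_mul, inv_one]
      exact mul_inv_eq_one.mp h1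

end main

end Cfsg.Agent.Lib.Helper10
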