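import Cfsg.Agent.Lib.Helper10.CyclicTIGalois

set_option autoImplicit false

namespace Cfsg.Agent.Lib.Helper10

open Cfsg
open scoped ComplexConjugate

section coprime
variable {G : Type*} [Group G] [Finite G]

/-- in a cyclic group `W₁ ⊔ W₂` with `W₁ ⊓ W₂ = ⊥` and commuting factors, the orders are coprime -/
theorem coprime_card_of_isCyclic_sup (W₁ W₂ : Subgroup G) (hdisj : W₁ ⊓ W₂ = ⊥)
    (hcomm : ∀ a ∈ W₁, ∀ b ∈ W₂, a * b = b * a) (hcyc : IsCyclic ↥(W₁ ⊔ W₂)) :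
    (Nat.card W₁).Coprime (Nat.card W₂) := by
  set n1 := Nat.card W₁ with hn1
  set n2 := Nat.card W₂ with hn2
  have hn1pos : 0 < n1 := Nat.card_pos
  have hn2pos : 0 < n2 := Nat.card_pos
  have hlpos : 0 < Nat.lcm n1 n2 := Nat.lcm_pos hn1pos hn2pos
  -- every element is killed by the lcm
  have hexp : ∀ w : ↥(W₁ ⊔ W₂), w ^ Nat.lcm n1 n2 = 1 := by
    intro w
    obtain ⟨a, ha, b, hb, hw⟩ := exists_mul_of_mem_sup_of_commute W₁ W₂ hcomm w.2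
    apply Subtype.ext
    rw [Subgroup.coe_pow, hw, (show Commute a b from hcomm a ha b hb).mul_pow]
    have h1 : a ^ Nat.lcm n1 n2 = 1 := by
      obtain ⟨c, hc⟩ := Nat.dvd_lcm_left n1 n2
      have : (⟨a, ha⟩ : W₁) ^ n1 = 1 := pow_card_eq_one'
      have h' : a ^ n1 = 1 := by simpa using congrArg Subtype.val this
      rw [hc, pow_mul, h', one_pow]
    have h2 : b ^ Nat.lcm n1 n2 = 1 := by
      obtain ⟨c, hc⟩ := Nat.dvd_lcm_right n1 n2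
      have : (⟨b, hb⟩ : W₂) ^ n2 = 1 := pow_card_eq_one'
      have h' : b ^ n2 = 1 := by simpa using congrArg Subtype.val this
      rw [hc, pow_mul, h', one_pow]
    rw [h1, h2, mul_one]
    rfl
  have hdvd : Nat.card ↥(W₁ ⊔ W₂) ∣ Nat.lcm n1 n2 := by
    rw [← IsCyclic.exponent_eq_card]
    exact Monoid.exponent_dvd_of_forall_pow_eq_one hexp
  have hle : Nat.card ↥(W₁ ⊔ W₂) ≤ Nat.lcm n1 n2 := Nat.le_of_dvd hlpos hdvd
  -- injection W₁ × W₂ → W₁ ⊔ W₂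
  have hge : n1 * n2 ≤ Nat.card ↥(W₁ ⊔ W₂) := by
    rw [hn1, hn2, ← Nat.card_prod]
    let f : W₁ × W₂ → ↥(W₁ ⊔ W₂) := fun p =>
      ⟨(p.1 : G) * p.2, Subgroup.mul_mem _ ((le_sup_left : W₁ ≤ W₁ ⊔ W₂) p.1.2)
        ((le_sup_right : W₂ ≤ W₁ ⊔ W₂) p.2.2)⟩
    apply Nat.card_le_card_of_injective f
    intro p q hpq
    have h := congrArg Subtype.val hpq
    exact Subgroup.mul_injective_of_disjoint (disjoint_iff.mpr hdisj) h
  have hgl : Nat.gcd n1 n2 * Nat.lcm n1 n2 = n1 * n2 := Nat.gcd_mul_lcm n1 n2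
  have hg1 : Nat.gcd n1 n2 ≤ 1 := by
    by_contra hcon
    push Not at hcon
    have : 2 * Nat.lcm n1 n2 ≤ Nat.gcd n1 n2 * Nat.lcm n1 n2 := Nat.mul_le_mul_right _ hcon
    omega
  have hgpos : 0 < Nat.gcd n1 n2 := Nat.gcd_pos_of_pos_left _ hn1pos
  show Nat.gcd n1 n2 = 1
  omega

end coprime

section concrete
variable {G : Type*} [Group G] [Fintype G] (W₁ W₂ : Subgroup G)

/-- decomposition of a linear character of `W₁ ⊔ W₂` -/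
theorem exists_linChar_decomp (hdisj : W₁ ⊓ W₂ = ⊥)
    (hcomm : ∀ a ∈ W₁, ∀ b ∈ W₂, a * b = b * a) (hcyc : IsCyclic ↥(W₁ ⊔ W₂))
    (ω : ↥(W₁ ⊔ W₂) →* ℂˣ) :
    ∃ φ ψ : ↥(W₁ ⊔ W₂) →* ℂˣ, (∀ w : ↥(W₁ ⊔ W₂), (w : G) ∈ W₂ → φ w = 1) ∧
      (∀ w : ↥(W₁ ⊔ W₂), (w : G) ∈ W₁ → ψ w = 1) ∧ ω = φ * ψ := by
  have hcop := coprime_card_of_isCyclic_sup W₁ W₂ hdisj hcomm hcyc
  obtain ⟨e, he1, he2⟩ := Nat.chineseRemainder hcop 1 0
  refine ⟨ω ^ e, ω * (ω ^ e)⁻¹, ?_, ?_, ?_⟩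
  · intro w hw
    rw [MonoidHom.pow_apply, ← map_pow]
    have : w ^ e = 1 := by
      apply Subtype.ext
      rw [Subgroup.coe_pow]
      have h1 : (⟨(w : G), hw⟩ : W₂) ^ Nat.card W₂ = 1 := pow_card_eq_one'
      have h' : (w : G) ^ Nat.card W₂ = 1 := by
        have h2 := congrArg Subtype.val h1
        rwa [Subgroup.coe_pow] at h2
      have hd : Nat.card W₂ ∣ e := (Nat.modEq_zero_iff_dvd).mp he2
      obtain ⟨c, hc⟩ := hd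
      rw [hc, pow_mul, h', one_pow]
      rfl
    rw [this, map_one]
  · intro w hw
    rw [MonoidHom.mul_apply, MonoidHom.inv_apply, MonoidHom.pow_apply, ← map_pow]
    have : w ^ e = w := by
      apply Subtype.ext
      rw [Subgroup.coe_pow]
      have h1 : (⟨(w : G), hw⟩ : W₁) ^ Nat.card W₁ = 1 := pow_card_eq_one'
      have h' : (w : G) ^ Nat.card W₁ = 1 := by
        have h2 := congrArg Subtype.val h1
        rwa [Subgroup.coe_pow] at h2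
      have hord : orderOf (w : G) ∣ Nat.card W₁ := orderOf_dvd_of_pow_eq_one h'
      have := pow_eq_pow_iff_modEq.mpr (he1.of_dvd hord)
      rwa [pow_one] at this
    rw [this, mul_inv_cancel]
  · ext w
    simp

/-- existence of a nontrivial character trivial on `K₁`, detecting a given element outside -/
theorem exists_linChar_trivOn {W : Type*} [Group W] [Finite W] (hcomm : ∀ a b : W, a * b = b * a)
    (K : Subgroup W) (x : W) (hx : x ∉ K) :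
    ∃ φ₀ : W →* ℂˣ, (∀ y ∈ K, φ₀ y = 1) ∧ φ₀ x ≠ 1 := by
  letI : CommGroup W := { (inferInstance : Group W) with mul_comm := hcomm }
  have : NeZero ((Monoid.exponent W : ℕ) : ℂ) :=
    ⟨Nat.cast_ne_zero.mpr Monoid.exponent_ne_zero_of_finite⟩
  have h := (CommGroup.forall_monoidHom_apply_eq_one_iff (G := W) (M := ℂ) K x).not.mpr hx
  push Not at h
  exact h

/-- two distinct nontrivial characters trivial on `A`, when `B ≠ ⊥`, `A ⊓ B = ⊥`, odd order -/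
theorem exists_two_linChar (A B : Subgroup G) (hAB : A ⊓ B = ⊥) (hB : B ≠ ⊥)
    (hBW : B ≤ W₁ ⊔ W₂) (hcyc : IsCyclic ↥(W₁ ⊔ W₂)) (hodd : Odd (Nat.card ↥(W₁ ⊔ W₂))) :
    ∃ ψ ψ' : ↥(W₁ ⊔ W₂) →* ℂˣ, (∀ w : ↥(W₁ ⊔ W₂), (w : G) ∈ A → ψ w = 1) ∧
      (∀ w : ↥(W₁ ⊔ W₂), (w : G) ∈ A → ψ' w = 1) ∧ ψ ≠ 1 ∧ ψ' ≠ 1 ∧ ψ ≠ ψ' := by
  obtain ⟨y, hy1⟩ := (Subgroup.ne_bot_iff_exists_ne_one.mp hB)
  have hyB' : (y : G) ∈ B := y.2
  have hy1' : (y : G) ≠ 1 := fun h => hy1 (Subtype.ext h)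
  have hyA : (y : G) ∉ A := by
    intro h
    have : (y : G) ∈ A ⊓ B := ⟨h, hyB'⟩
    rw [hAB, Subgroup.mem_bot] at this
    exact hy1' this
  have hWc : ∀ a b : ↥(W₁ ⊔ W₂), a * b = b * a :=
    fun a b => hcyc.isMulCommutative.is_comm.comm a b
  obtain ⟨ψ, hψA, hψy⟩ := exists_linChar_trivOn hWc (A.subgroupOf (W₁ ⊔ W₂))
    ⟨(y : G), hBW hyB'⟩ (by rw [Subgroup.mem_subgroupOf]; exact hyA)
  have hψ1 : ψ ≠ 1 := by
    intro h
    apply hψy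
    rw [h]
    rfl
  have h2 : (2 : ℕ).Coprime (Nat.card ↥(W₁ ⊔ W₂)) := Nat.coprime_two_left.mpr hodd
  refine ⟨ψ, ψ ^ 2, ?_, ?_, hψ1, ?_, ?_⟩
  · intro w hw
    exact hψA w (by rw [Subgroup.mem_subgroupOf]; exact hw)
  · intro w hw
    rw [MonoidHom.pow_apply, hψA w (by rw [Subgroup.mem_subgroupOf]; exact hw), one_pow]
  · intro h
    exact hψ1 (linChar_eq_one_of_pow_eq_one h2 h)
  · intro h
    apply hψ1
    ext w
    have hw := DFunLike.congr_fun h w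
    rw [MonoidHom.pow_apply, pow_two] at hw
    have h3 : ψ w * 1 = ψ w * ψ w := by rw [mul_one]; exact hw
    rw [MonoidHom.one_apply, ← mul_left_cancel h3]

variable (χ : (↥(W₁ ⊔ W₂) →* ℂˣ) → (G → ℂ))

/-- the twisted induction identity -/
theorem twisted_identity (hχ : IsCyclicTIFamily W₁ W₂ χ) (k : ℕ) (hk : k.Coprime (Nat.card G))
    (φ ψ : ↥(W₁ ⊔ W₂) →* ℂˣ) (hφ1 : φ ≠ 1) (hψ1 : ψ ≠ 1)
    (hφ : ∀ w : ↥(W₁ ⊔ W₂), (w : G) ∈ W₂ → φ w = 1)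
    (hψ : ∀ w : ↥(W₁ ⊔ W₂), (w : G) ∈ W₁ → ψ w = 1) :
    powTwist k (χ φ) + powTwist k (χ ψ) - powTwist k (χ (φ * ψ))
      = χ (φ ^ k) + χ (ψ ^ k) - χ (φ ^ k * ψ ^ k) := by
  have hkW : k.Coprime (Nat.card ↥(W₁ ⊔ W₂)) :=
    hk.coprime_dvd_right (Subgroup.card_subgroup_dvd_card _)
  have h1 := hχ.induced_eq φ ψ hφ1 hψ1 hφ hψ
  have hφk1 : φ ^ k ≠ 1 := fun h => hφ1 (linChar_eq_one_of_pow_eq_one hkW h)
  have hψk1 : ψ ^ k ≠ 1 := fun h => hψ1 (linChar_eq_one_of_pow_eq_one hkW h)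
  have hφk : ∀ w : ↥(W₁ ⊔ W₂), (w : G) ∈ W₂ → (φ ^ k) w = 1 := by
    intro w hw
    rw [MonoidHom.pow_apply, hφ w hw, one_pow]
  have hψk : ∀ w : ↥(W₁ ⊔ W₂), (w : G) ∈ W₁ → (ψ ^ k) w = 1 := by
    intro w hw
    rw [MonoidHom.pow_apply, hψ w hw, one_pow]
  have h2 := hχ.induced_eq (φ ^ k) (ψ ^ k) hφk1 hψk1 hφk hψk
  have h3 := congrArg (powTwist k) h1
  rw [powTwist_indFun _ _ k hk] at h3
  have h4 : (fun w : ↥(W₁ ⊔ W₂) => 1 - ((φ (w ^ k) : ℂˣ) : ℂ) - ((ψ (w ^ k) : ℂˣ) : ℂ)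
      + ((φ (w ^ k) : ℂˣ) : ℂ) * ((ψ (w ^ k) : ℂˣ) : ℂ))
      = fun w => 1 - (((φ ^ k) w : ℂˣ) : ℂ) - (((ψ ^ k) w : ℂˣ) : ℂ)
      + (((φ ^ k) w : ℂˣ) : ℂ) * (((ψ ^ k) w : ℂˣ) : ℂ) := by
    funext w
    rw [MonoidHom.pow_apply, MonoidHom.pow_apply, map_pow, map_pow]
  rw [h4, h2] at h3
  funext g
  have h5 := congrFun h3 g
  simp only [powTwist_apply] at h5
  simp only [Pi.add_apply, Pi.sub_apply, powTwist_apply]
  linear_combination h5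

/-- Galois equivariance of a cyclic TI family -/
theorem powTwist_cyclicTI (hW : IsSelfNormalizingCyclic W₁ W₂)
    (hodd : Odd (Nat.card ↥(W₁ ⊔ W₂))) (hχ : IsCyclicTIFamily W₁ W₂ χ)
    (k : ℕ) (hk : k.Coprime (Nat.card G)) (ω : ↥(W₁ ⊔ W₂) →* ℂˣ) :
    powTwist k (χ ω) = χ (ω ^ k) := by
  classical
  obtain ⟨hW₁ne, hW₂ne, hdisj, hcomm, hcyc, _⟩ := hW
  have hkW : k.Coprime (Nat.card ↥(W₁ ⊔ W₂)) :=
    hk.coprime_dvd_right (Subgroup.card_subgroup_dvd_card _)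
  set P : Set (↥(W₁ ⊔ W₂) →* ℂˣ) := {φ | ∀ w : ↥(W₁ ⊔ W₂), (w : G) ∈ W₂ → φ w = 1} with hP
  set Q : Set (↥(W₁ ⊔ W₂) →* ℂˣ) := {ψ | ∀ w : ↥(W₁ ⊔ W₂), (w : G) ∈ W₁ → ψ w = 1} with hQ
  have hsigned := hχ.irr_or_neg
  have hTsigned : ∀ ω, IsIrrCharacter G (powTwist k (χ ω)) ∨ IsIrrCharacter G (-powTwist k (χ ω)) :=
    fun ω => signedIrr_powTwist k hk (hsigned ω)
  have horth : ∀ ω ω', ω ≠ ω' → classInner (χ ω) (χ ω') = 0 := by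
    intro ω ω' h
    rw [hχ.orthonormal, if_neg h]
  have hnorm : ∀ ω, classInner (χ ω) (χ ω) = 1 := by
    intro ω
    rw [hχ.orthonormal, if_pos rfl]
  have hTinner : ∀ ω ω', classInner (powTwist k (χ ω)) (powTwist k (χ ω'))
      = classInner (χ ω) (χ ω') := fun ω ω' => classInner_powTwist k hk _ _
  have hκinj : Function.Injective (fun ω : ↥(W₁ ⊔ W₂) →* ℂˣ => ω ^ k) :=
    fun ω ω' h => linChar_pow_injective hkW h
  have hP1 : (1 : ↥(W₁ ⊔ W₂) →* ℂˣ) ∈ P := fun _ _ => rfl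
  have hQ1 : (1 : ↥(W₁ ⊔ W₂) →* ℂˣ) ∈ Q := fun _ _ => rfl
  have hPκ : ∀ a ∈ P, a ^ k ∈ P := by
    intro a ha w hw
    rw [MonoidHom.pow_apply, ha w hw, one_pow]
  have hQκ : ∀ a ∈ Q, a ^ k ∈ Q := by
    intro a ha w hw
    rw [MonoidHom.pow_apply, ha w hw, one_pow]
  have hPQ : ∀ a ∈ P, ∀ a' ∈ P, ∀ b ∈ Q, ∀ b' ∈ Q, a * b = a' * b' → a = a' ∧ b = b' :=
    fun a ha a' ha' b hb b' hb' h => linChar_mul_inj W₁ W₂ a a' b b' ha ha' hb hb' h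
  have hQP : ∀ a ∈ Q, ∀ a' ∈ Q, ∀ b ∈ P, ∀ b' ∈ P, a * b = a' * b' → a = a' ∧ b = b' := by
    intro a ha a' ha' b hb b' hb' h
    have := linChar_mul_inj W₁ W₂ b b' a a' hb hb' ha ha' (by rw [mul_comm b a, mul_comm b' a', h])
    exact ⟨this.2, this.1⟩
  have hE : ∀ a ∈ P, a ≠ 1 → ∀ b ∈ Q, b ≠ 1 →
      powTwist k (χ a) + powTwist k (χ b) - powTwist k (χ (a * b))
        = χ (a ^ k) + χ (b ^ k) - χ (a ^ k * b ^ k) :=
    fun a ha ha1 b hb hb1 => twisted_identity W₁ W₂ χ hχ k hk a b ha1 hb1 ha hb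
  have hE' : ∀ a ∈ Q, a ≠ 1 → ∀ b ∈ P, b ≠ 1 →
      powTwist k (χ a) + powTwist k (χ b) - powTwist k (χ (a * b))
        = χ (a ^ k) + χ (b ^ k) - χ (a ^ k * b ^ k) := by
    intro a ha ha1 b hb hb1
    have := hE b hb hb1 a ha ha1
    rw [mul_comm a b, mul_comm (a ^ k) (b ^ k), add_comm (powTwist k (χ a)),
      add_comm (χ (a ^ k))]
    exact this
  have h1pow : (1 : ↥(W₁ ⊔ W₂) →* ℂˣ) ^ k = 1 := by
    ext w; simp
  -- two nontrivial characters on each side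
  obtain ⟨ψ₁, ψ₂, hψ₁Q, hψ₂Q, hψ₁1, hψ₂1, hψ₁₂⟩ :=
    exists_two_linChar W₁ W₂ W₁ W₂ hdisj hW₂ne le_sup_right hcyc hodd
  obtain ⟨φ₁, φ₂, hφ₁P, hφ₂P, hφ₁1, hφ₂1, hφ₁₂⟩ :=
    exists_two_linChar W₁ W₂ W₂ W₁ (by rw [inf_comm]; exact hdisj) hW₁ne le_sup_left hcyc hodd
  have keyP : ∀ a ∈ P, a ≠ 1 → powTwist k (χ a) = χ (a ^ k) := by
    intro a ha ha1
    exact twist_eq_of_identities χ (powTwist k) (fun ω => ω ^ k) hsigned hTsigned horth hTinner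
      hnorm hκinj h1pow P Q hP1 hQ1 hPκ hQκ hPQ hE a ha ha1 ψ₁ ψ₂ hψ₁Q hψ₂Q hψ₁1 hψ₂1 hψ₁₂
  have keyQ : ∀ b ∈ Q, b ≠ 1 → powTwist k (χ b) = χ (b ^ k) := by
    intro b hb hb1
    exact twist_eq_of_identities χ (powTwist k) (fun ω => ω ^ k) hsigned hTsigned horth hTinner
      hnorm hκinj h1pow Q P hQ1 hP1 hQκ hPκ hQP hE' b hb hb1 φ₁ φ₂ hφ₁P hφ₂P hφ₁1 hφ₂1 hφ₁₂
  obtain ⟨φ, ψ, hφ, hψ, rfl⟩ := exists_linChar_decomp W₁ W₂ hdisj hcomm hcyc ω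
  have hmulpow : (φ * ψ) ^ k = φ ^ k * ψ ^ k := by
    ext w
    rw [MonoidHom.pow_apply, MonoidHom.mul_apply, MonoidHom.mul_apply, MonoidHom.pow_apply,
      MonoidHom.pow_apply, mul_pow]
  have h1mul : ∀ η : ↥(W₁ ⊔ W₂) →* ℂˣ, (1 : ↥(W₁ ⊔ W₂) →* ℂˣ) * η = η := by
    intro η; ext w; simp
  have hmul1 : ∀ η : ↥(W₁ ⊔ W₂) →* ℂˣ, η * (1 : ↥(W₁ ⊔ W₂) →* ℂˣ) = η := by
    intro η; ext w; simp
  by_cases hφ1 : φ = 1
  · by_cases hψ1 : ψ = 1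
    · rw [hφ1, hψ1, h1mul, h1pow, hχ.map_one]
      rfl
    · rw [hφ1, h1mul]
      exact keyQ ψ hψ hψ1
  · by_cases hψ1 : ψ = 1
    · rw [hψ1, hmul1]
      exact keyP φ hφ hφ1
    · have h1 := hE φ hφ hφ1 ψ hψ hψ1
      rw [keyP φ hφ hφ1, keyQ ψ hψ hψ1] at h1
      rw [hmulpow]
      have h2 : powTwist k (χ (φ * ψ)) = χ (φ ^ k) + χ (ψ ^ k)
          - (χ (φ ^ k) + χ (ψ ^ k) - χ (φ ^ k * ψ ^ k)) := by
        rw [← h1]; abel
      rw [h2]; abel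

/-- values of a cyclic TI family at elements of order coprime to the order of the index are
integers -/
theorem cyclicTI_int (hW : IsSelfNormalizingCyclic W₁ W₂)
    (hodd : Odd (Nat.card ↥(W₁ ⊔ W₂))) (hχ : IsCyclicTIFamily W₁ W₂ χ)
    (ω : ↥(W₁ ⊔ W₂) →* ℂˣ) (g : G) (hg : Nat.Coprime (orderOf g) (orderOf ω)) :
    ∃ n : ℤ, χ ω g = n := by
  have hNpos : 0 < Nat.card G := Nat.card_pos
  have hinv : ∀ m : ℕ, m.Coprime (Nat.card G) → χ ω (g ^ m) = χ ω g := by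
    intro m hm
    have ha : orderOf g ∣ Nat.card G := orderOf_dvd_natCard g
    have hb : orderOf ω ∣ Nat.card G :=
      (orderOf_linChar_dvd ω).trans (Subgroup.card_subgroup_dvd_card _)
    obtain ⟨k, hk, hkm, hk1⟩ := exists_coprime_crt hNpos ha hb hg hm
    have h1 : g ^ m = g ^ k := pow_eq_pow_iff_modEq.mpr hkm.symm
    have h2 : ω ^ k = ω := by
      ext w
      rw [MonoidHom.pow_apply]
      have ho : (ω w) ^ orderOf ω = 1 := by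
        have := DFunLike.congr_fun (pow_orderOf_eq_one ω) w
        rwa [MonoidHom.pow_apply] at this
      have hd : orderOf (ω w) ∣ orderOf ω := orderOf_dvd_of_pow_eq_one ho
      have := pow_eq_pow_iff_modEq.mpr (hk1.of_dvd hd)
      rw [pow_one] at this
      rw [this]
    have h3 := congrFun (powTwist_cyclicTI W₁ W₂ χ hW hodd hχ k hk ω) g
    rw [powTwist_apply, h2] at h3
    rw [h1, h3]
  rcases hχ.irr_or_neg ω with h | h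
  · exact irr_int_of_forall_pow_eq h g hinv
  · have hinv' : ∀ m : ℕ, m.Coprime (Nat.card G) → (-χ ω) (g ^ m) = (-χ ω) g := by
      intro m hm
      simp only [Pi.neg_apply, hinv m hm]
    obtain ⟨n, hn⟩ := irr_int_of_forall_pow_eq h g hinv'
    refine ⟨-n, ?_⟩
    rw [Pi.neg_apply] at hn
    rw [Int.cast_neg, ← hn, neg_neg]

end concrete

end Cfsg.Agent.Lib.Helper10
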