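/-
helper10: DEFECT-ONE CLUSTER, Part O, leaves GRAM `gram_main` and ORTH `orth_main`
(`notes/S4442_O_leaves.lean`, exact names + binders), by ROUTE I (TI-induction):
wrappers of `Helper10.DOGRAMof.gram_main_of` / `orth_main_of` over the cited leaves
LOC1 (helper23), LOC2 (helper22), CONJ (helper16), MULT (helper29), OFF (helper2).
-/
import Mathlib
import Cfsg.Prelude.Def_BlockRank
import Cfsg.Agent.Lib.Helper27.DODefs
import Cfsg.Agent.Lib.Helper27.BlkAlgDefs2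
import Cfsg.Agent.Lib.Helper10.DOGRAMof
import Cfsg.Agent.Lib.Helper23.DOLOC1
import Cfsg.Agent.Lib.Helper22.DOLOC2
import Cfsg.Agent.Lib.Helper16.DOCONJ
import Cfsg.Agent.Lib.Helper29.DOMULT
import Cfsg.Agent.Lib.Helper2.DOOFFX

set_option autoImplicit false

namespace Cfsg.Agent.Lib.Helper10.DOGRAM

open Cfsg Cfsg.Agent.Lib.Helper8.DOM Cfsg.Agent.Lib.Helper27.DO Cfsg.Agent.Lib.Helper27.BlkAlg
open scoped ComplexConjugate

universe u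

section gs

variable {G : Type u} [Group G] [Finite G] {p : ℕ} [Fact p.Prime] {M : Ideal AlgInt}
  {P : Subgroup G} {B : Set (IrrCharacter G)} {θ : IrrCharacter (Cz P)} {T : Subgroup G} {x0 : G}

/-- the cited leaves, bundled -/
theorem leaves (c : Ctx p M P B θ T x0) : Cfsg.Agent.Lib.Helper10.DOGRAMof.Leaves p M P B θ x0 where
  loc1 := Cfsg.Agent.Lib.Helper23.DOLOC1.exists_unique_hasIdx P c.hP x0 c.gen
  hL := (Cfsg.Agent.Lib.Helper22.DOLOC2.block_of_pTriv c.hM P c.hP c.hSyl x0 c.gen θ c.hθP).1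
  hL2 := (Cfsg.Agent.Lib.Helper22.DOLOC2.block_of_pTriv c.hM P c.hP c.hSyl x0 c.gen θ c.hθP).2.1
  hL3 := (Cfsg.Agent.Lib.Helper22.DOLOC2.block_of_pTriv c.hM P c.hP c.hSyl x0 c.gen θ c.hθP).2.2
  hirr := Cfsg.Agent.Lib.Helper16.DOCONJ.isIrrCharacter_conjC P
  hidx := fun n u hu φ i h => Cfsg.Agent.Lib.Helper16.DOCONJ.hasIdx_conjC P x0 c.gen n u hu φ i h
  hptriv := Cfsg.Agent.Lib.Helper16.DOCONJ.pTriv_conjC P
  hblk := fun n φ φ' h => Cfsg.Agent.Lib.Helper16.DOCONJ.mem_blockOf_conjC P n φ φ' h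
  hcast := Cfsg.Agent.Lib.Helper29.DOMULT.muZ_cast c.hM P c.hP c.hSyl x0 c.gen θ c.hθP
  hoff := fun χ hχ i => Cfsg.Agent.Lib.Helper2.DOOFFX.muZ_off c χ hχ i

/-- GRAM : the Gram matrix of the integer columns. -/
theorem gram_main (c : Ctx p M P B θ T x0) (E : Subgroup (ZMod p)ˣ)
    (hE : ∀ u : (ZMod p)ˣ, u ∈ E ↔ ∃ n ∈ T, n * x0 * n⁻¹ = x0 ^ (u : ZMod p).val)
    (hcard : Nat.card E = (Cz P).relIndex T) (i j : (ZMod p)ˣ) :
    (i * j⁻¹ ∈ E → ∑ᶠ χ ∈ B, (muZ p M P θ x0 χ i - muZ p M P θ x0 χ 0) *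
      (muZ p M P θ x0 χ j - muZ p M P θ x0 χ 0) = (Nat.card E : ℤ) + 1) ∧
    (i * j⁻¹ ∉ E → ∑ᶠ χ ∈ B, (muZ p M P θ x0 χ i - muZ p M P θ x0 χ 0) *
      (muZ p M P θ x0 χ j - muZ p M P θ x0 χ 0) = (Nat.card E : ℤ)) :=
  Cfsg.Agent.Lib.Helper10.DOGRAMof.gram_main_of c (leaves c) E hE hcard i j

/-- ORTH : the integer columns are orthogonal to the `p`-regular columns. -/
theorem orth_main (c : Ctx p M P B θ T x0) (i : (ZMod p)ˣ) (g : G) (hg : ¬ p ∣ orderOf g) :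
    ∑ᶠ χ ∈ B, ((muZ p M P θ x0 χ i - muZ p M P θ x0 χ 0 : ℤ) : ℂ) * (χ : G → ℂ) g = 0 :=
  Cfsg.Agent.Lib.Helper10.DOGRAMof.orth_main_of c (leaves c) i g hg

end gs

end Cfsg.Agent.Lib.Helper10.DOGRAM
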