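/-
helper10: DEFECT-ONE CLUSTER, Part M, leaf FINAL (`notes/S4442_M_leaves.lean`):
`card_conjClasses_le_sum_blockRank`  (the interface with Part O).

Assembly of WEDD + COUNT + DEFZERO + BLK and helper18's block idempotent lemmas, in `_of` form
(the four leaves as hypotheses); the exact wrapper is `Cfsg.Agent.Lib.Helper10.DOMFINAL`.
-/
import Mathlib
import Cfsg.Prelude.Def_BlockRank
import Cfsg.Agent.Lib.Helper8.DOMDefs
import Cfsg.Agent.Lib.Helper27.BlkAlgDefs2
import Cfsg.Agent.Lib.Helper27.BlkAlgL3
import Cfsg.Agent.Lib.Helper19.BlkAlgB1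
import Cfsg.Agent.Lib.Helper18.BlkAlgB3

set_option autoImplicit false

namespace Cfsg.Agent.Lib.Helper10.DOMFINALof

open Cfsg Cfsg.Agent.Lib.Helper8.DOM Cfsg.Agent.Lib.Helper27.BlkAlg

universe u v w

/-- a central idempotent of a full matrix ring over a field is `0` or `1` -/
theorem central_idem_matrix {F : Type*} [Field F] {n : Type*} [Fintype n] [DecidableEq n]
    (c : Matrix n n F) (hc : c * c = c) (hcomm : ∀ x, c * x = x * c) : c = 0 ∨ c = 1 := by
  obtain ⟨r, rfl⟩ := Matrix.mem_range_scalar_iff_commute_single'.mpr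
    (fun i j => (hcomm (Matrix.single i j 1)).symm)
  rcases isEmpty_or_nonempty n with hn | hn
  · left; ext i; exact (hn.false i).elim
  · have h2 : Matrix.scalar n (r * r) = Matrix.scalar n r := by
      rw [map_mul]; exact hc
    have h3 : r * r = r := Matrix.scalar_inj.mp h2
    have h4 : r * (r - 1) = 0 := by rw [mul_sub, h3, mul_one, sub_self]
    rcases mul_eq_zero.mp h4 with h | h
    · left; rw [h, map_zero]
    · right; rw [sub_eq_zero.mp h, map_one]

section col

variable {F : Type u} [Field F] {G : Type v} [Group G] {l : ℕ} {d : Fin l → ℕ}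

/-- the algebra map of the group algebra to the endomorphisms of the `i`-th column module -/
noncomputable def colHom
    (π : MonoidAlgebra F G →ₐ[F] (Π i : Fin l, Matrix (Fin (d i)) (Fin (d i)) F)) (i : Fin l) :
    MonoidAlgebra F G →ₐ[F] Module.End F (Fin (d i) → F) :=
  (Matrix.toLinAlgEquiv' : Matrix (Fin (d i)) (Fin (d i)) F ≃ₐ[F] _).toAlgHom.comp
    ((Pi.evalAlgHom F (fun i => Matrix (Fin (d i)) (Fin (d i)) F) i).comp π)

theorem colHom_apply
    (π : MonoidAlgebra F G →ₐ[F] (Π i : Fin l, Matrix (Fin (d i)) (Fin (d i)) F)) (i : Fin l)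
    (x : MonoidAlgebra F G) (v : Fin (d i) → F) :
    colHom π i x v = (π x i).mulVec v := rfl

/-- the representation of `G` on the `i`-th column module -/
noncomputable def colRep
    (π : MonoidAlgebra F G →ₐ[F] (Π i : Fin l, Matrix (Fin (d i)) (Fin (d i)) F)) (i : Fin l) :
    Representation F G (Fin (d i) → F) :=
  (MonoidAlgebra.lift F (Module.End F (Fin (d i) → F)) G).symm (colHom π i)

theorem colRep_apply
    (π : MonoidAlgebra F G →ₐ[F] (Π i : Fin l, Matrix (Fin (d i)) (Fin (d i)) F)) (i : Fin l)
    (g : G) (v : Fin (d i) → F) :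
    colRep π i g v = (π (MonoidAlgebra.of F G g) i).mulVec v := by
  unfold colRep
  rw [MonoidAlgebra.lift_symm_apply, colHom_apply, MonoidAlgebra.of_apply]

theorem colRep_asAlgebraHom
    (π : MonoidAlgebra F G →ₐ[F] (Π i : Fin l, Matrix (Fin (d i)) (Fin (d i)) F)) (i : Fin l) :
    (colRep π i).asAlgebraHom = colHom π i := by
  unfold colRep Representation.asAlgebraHom
  exact Equiv.apply_symm_apply _ _

end col

section final

variable (M : Ideal AlgInt) [M.IsMaximal] {G : Type v} [Group G] [Fintype G]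
variable [Fintype (IrrCharacter G)] {p : ℕ} [Fact p.Prime]

/-- a component of the image of a block idempotent is `0` or `1` -/
theorem pi_ebar_eq_one (hM : IsPModular p M) {B : Set (IrrCharacter G)} (hB : IsPBlock M B)
    {l : ℕ} {d : Fin l → ℕ}
    (π : MonoidAlgebra (ResField M) G →ₐ[ResField M]
      (Π i : Fin l, Matrix (Fin (d i)) (Fin (d i)) (ResField M)))
    (hπ : Function.Surjective π) (i : Fin l) (hi : π (ebar M B) i ≠ 0) :
    π (ebar M B) i = 1 := by
  classical
  have hidem : π (ebar M B) i * π (ebar M B) i = π (ebar M B) i := by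
    rw [← Pi.mul_apply, ← map_mul, Cfsg.Agent.Lib.Helper18.BlkAlgB3.ebar_mul_self M hM hB]
  have hcomm : ∀ x, π (ebar M B) i * x = x * π (ebar M B) i := by
    intro x
    obtain ⟨z, hz⟩ := hπ (Pi.single i x)
    have h1 : (π z) i = x := by rw [hz, Pi.single_eq_same]
    rw [← h1, ← Pi.mul_apply, ← Pi.mul_apply, ← map_mul, ← map_mul,
      Cfsg.Agent.Lib.Helper18.BlkAlgB3.ebar_comm M B z]
  rcases central_idem_matrix _ hidem hcomm with h | h
  · exact absurd h hi
  · exact h

/-- FINAL in `_of` form: WEDD, COUNT, DEFZERO, BLK as hypotheses (at the universes used) -/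
theorem card_conjClasses_le_sum_blockRank_of (hM : IsPModular p M) (P : Subgroup G)
    (hwedd : ∃ (l : ℕ) (d : Fin l → ℕ) (_ : ∀ i, NeZero (d i))
      (π : MonoidAlgebra (ResField M) G →ₐ[ResField M]
        (Π i : Fin l, Matrix (Fin (d i)) (Fin (d i)) (ResField M))),
      Function.Surjective π ∧
      ∀ (V : Type v) [AddCommGroup V] [Module (ResField M) V]
        (ρ : Representation (ResField M) G V), ρ.IsIrreducible →
        ∃ i, ∃ e : V ≃ₗ[ResField M] (Fin (d i) → ResField M),
          ∀ g v, e (ρ g v) = (π (MonoidAlgebra.of (ResField M) G g) i).mulVec (e v))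
    (hcnt : ∀ (l : ℕ) (d : Fin l → ℕ)
      (ρ : ∀ i, Representation (ResField M) G (Fin (d i) → ResField M)),
      (∀ (V : Type v) [AddCommGroup V] [Module (ResField M) V]
        (σ : Representation (ResField M) G V), σ.IsIrreducible →
        ∃ i, ∃ e : V ≃ₗ[ResField M] (Fin (d i) → ResField M),
          ∀ g x, e (σ g x) = ρ i g (e x)) →
      Nat.card (ConjClasses ((Nz P) ⧸ P.subgroupOf (Nz P))) ≤
        Nat.card {i : Fin l // StableFix (ρ i) P})
    (hdz : ∀ {B : Set (IrrCharacter G)}, IsPBlock M B → blockDefect p B = 0 →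
      ∀ (n : ℕ) (ρ : Representation (ResField M) G (Fin n → ResField M)),
        ρ.asAlgebraHom (ebar M B) = 1 → fixed ρ P ≤ LinearMap.range (nrm ρ P))
    (hblk : ∀ {B : Set (IrrCharacter G)}, IsPBlock M B →
      ∀ (l : ℕ) (d : Fin l → ℕ) [∀ i, NeZero (d i)]
        (π : MonoidAlgebra (ResField M) G →ₐ[ResField M]
          (Π i : Fin l, Matrix (Fin (d i)) (Fin (d i)) (ResField M))),
        Function.Surjective π →
        Nat.card {i : Fin l // π (ebar M B) i ≠ 0} ≤ blockRank p B) :
    Nat.card (ConjClasses ((Nz P) ⧸ P.subgroupOf (Nz P))) ≤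
      ∑ B ∈ blocks M G, if 0 < blockDefect p B then blockRank p B else 0 := by
  classical
  obtain ⟨l, d, hne, π, hπ, hW⟩ := hwedd
  haveI := hne
  have hcount := hcnt l d (colRep π)
    (by
      intro V _ _ σ hσ
      obtain ⟨i, e, he⟩ := hW V σ hσ
      refine ⟨i, e, ?_⟩
      intro g x
      rw [he, colRep_apply])
  refine hcount.trans ?_
  rw [Nat.card_eq_fintype_card, Fintype.card_subtype]
  -- the factors belonging to a block
  set T : Set (IrrCharacter G) → Finset (Fin l) :=
    fun B => Finset.univ.filter (fun i => π (ebar M B) i ≠ 0) with hT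
  have hsub : (Finset.univ.filter (fun i => StableFix (colRep π i) P)) ⊆
      ((blocks M G).filter (fun B => 0 < blockDefect p B)).biUnion T := by
    intro i hi
    rw [Finset.mem_filter] at hi
    have hsum : ∑ B ∈ blocks M G, π (ebar M B) i = 1 := by
      rw [← Finset.sum_apply, ← map_sum, Cfsg.Agent.Lib.Helper18.BlkAlgB3.sum_ebar M hM, map_one,
        Pi.one_apply]
    haveI : Nonempty (Fin (d i)) := ⟨⟨0, Nat.pos_of_ne_zero (NeZero.ne (d i))⟩⟩
    have hne1 : ∑ B ∈ blocks M G, π (ebar M B) i ≠ 0 := by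
      rw [hsum]; exact one_ne_zero
    obtain ⟨B, hBmem, hBne⟩ := Finset.exists_ne_zero_of_sum_ne_zero hne1
    have hB : IsPBlock M B := (mem_blocks M B).mp hBmem
    have hone := pi_ebar_eq_one M hM hB π hπ i hBne
    rw [Finset.mem_biUnion]
    refine ⟨B, ?_, ?_⟩
    · rw [Finset.mem_filter]
      refine ⟨hBmem, Nat.pos_of_ne_zero ?_⟩
      intro hd
      have hρ : (colRep π i).asAlgebraHom (ebar M B) = 1 := by
        rw [colRep_asAlgebraHom]
        apply LinearMap.ext
        intro v
        rw [colHom_apply, hone, Matrix.one_mulVec]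
        rfl
      exact hi.2 (hdz hB hd (d i) (colRep π i) hρ)
    · rw [hT, Finset.mem_filter]
      exact ⟨Finset.mem_univ _, hBne⟩
  calc (Finset.univ.filter (fun i => StableFix (colRep π i) P)).card
      ≤ (((blocks M G).filter (fun B => 0 < blockDefect p B)).biUnion T).card :=
        Finset.card_le_card hsub
    _ ≤ ∑ B ∈ (blocks M G).filter (fun B => 0 < blockDefect p B), (T B).card :=
        Finset.card_biUnion_le
    _ ≤ ∑ B ∈ (blocks M G).filter (fun B => 0 < blockDefect p B), blockRank p B := by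
        apply Finset.sum_le_sum
        intro B hB
        rw [Finset.mem_filter] at hB
        have hB' : IsPBlock M B := (mem_blocks M B).mp hB.1
        have := hblk hB' l d π hπ
        rw [Nat.card_eq_fintype_card, Fintype.card_subtype] at this
        exact this
    _ = ∑ B ∈ blocks M G, if 0 < blockDefect p B then blockRank p B else 0 :=
        Finset.sum_filter _ _

end final

end Cfsg.Agent.Lib.Helper10.DOMFINALof
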