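import Mathlib
import Cfsg.Agent.Lib.Helper13.PSL2
import Cfsg.Agent.Lib.Helper12.DWAPSL
import Cfsg.Agent.Lib.Helper12.DWAFIX
import Cfsg.Agent.Lib.Helper12.DWAREG3
import Cfsg.Agent.Lib.Helper5.DWAREC

/-!
# DW-A (S3616 market DW): the spine of part A

`L ≃* PSL₂(p)` acting faithfully and 2-transitively on `p + 1` points: the point `a` fixed by a Sylow
`p`-subgroup `Q`, `|L_a| = p (p - 1) / 2`, `L_a` normalizes `Q`, and for `p ≡ 3 (mod 4)` a point `b`
and a dihedral subgroup `D` of order `p - 1` of the setwise stabilizer of `{a, b}`, semiregular on the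
other points.
-/

set_option autoImplicit false

open MulAction

namespace Cfsg.Agent.Lib.Helper10.DWA

/-- the abstract form: `L` a group (not a subgroup) -/
theorem DWA_abs {L Ω : Type*} [Group L] [Finite L] [MulAction L Ω] [FaithfulSMul L Ω] [Fintype Ω]
    [DecidableEq Ω] (p : ℕ) (hp : p.Prime) (hp2 : p ≠ 2) (hΩ : Fintype.card Ω = p + 1)
    (e : L ≃* Matrix.ProjectiveSpecialLinearGroup (Fin 2) (ZMod p))
    (hLt : IsMultiplyPretransitive L Ω 2) :
    ∃ (a : Ω) (Q : Subgroup L),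
      2 * Nat.card ↥(stabilizer L a) = p * (p - 1) ∧
      Q ≤ stabilizer L a ∧ Nat.card Q = p ∧
      (∀ m ∈ stabilizer L a, ∀ q ∈ Q, m * q * m⁻¹ ∈ Q) ∧
      (p % 4 = 3 → ∃ (b : Ω) (D : Subgroup L), a ≠ b ∧
        Nonempty (↥D ≃* DihedralGroup ((p - 1) / 2)) ∧
        (∀ d ∈ D, (d • a = a ∧ d • b = b) ∨ (d • a = b ∧ d • b = a)) ∧
        (∀ ω : Ω, ω ≠ a → ω ≠ b → ∀ d ∈ D, d • ω = ω → d = 1)) := by
  classical
  have hfact : Fact p.Prime := ⟨hp⟩
  have hp3 : 3 ≤ p := by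
    have := hp.two_le
    omega
  have hΩ' : Nat.card Ω = p + 1 := by rw [Nat.card_eq_fintype_card, hΩ]
  have htr : IsPretransitive L Ω := isPretransitive_of_is_two_pretransitive
  -- the order of `L`
  have h2ne : (2 : ZMod p) ≠ 0 := by
    intro h
    have h' : ((2 : ℕ) : ZMod p) = 0 := by exact_mod_cast h
    rw [ZMod.natCast_eq_zero_iff] at h'
    have := Nat.le_of_dvd (by norm_num) h'
    omega
  have hLcard : 2 * Nat.card L = p * (p ^ 2 - 1) := by
    have h1 := Cfsg.Agent.Lib.Helper13.card_PSL2_mul_two (F := ZMod p) h2ne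
    rw [ZMod.card] at h1
    rw [Nat.card_congr e.toEquiv, mul_comm]
    exact h1
  -- the matrix data, transported to `L`
  obtain ⟨U, B, T, w, hU, hUB, hB, hTB, hTcyc, hT, hwB, hww, hwT⟩ :=
    Cfsg.Agent.Lib.Helper12.DWAPSL.DWAPSL p hp2
  set es : Matrix.ProjectiveSpecialLinearGroup (Fin 2) (ZMod p) →* L := e.symm.toMonoidHom with hes
  have hesinj : Function.Injective es := e.symm.injective
  set U' : Subgroup L := U.map es with hU'def
  set B' : Subgroup L := B.map es with hB'def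
  set T' : Subgroup L := T.map es with hT'def
  set w' : L := es w with hw'def
  have hU' : Nat.card U' = p := by rw [hU'def, Subgroup.card_map_of_injective hesinj, hU]
  have hB' : 2 * Nat.card B' = p * (p - 1) := by
    rw [hB'def, Subgroup.card_map_of_injective hesinj, hB]
  have hT' : 2 * Nat.card T' = p - 1 := by
    rw [hT'def, Subgroup.card_map_of_injective hesinj, hT]
  have hUB' : ∀ b ∈ B', ∀ u ∈ U', b * u * b⁻¹ ∈ U' := by
    rintro _ ⟨b, hb, rfl⟩ _ ⟨u, hu, rfl⟩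
    exact ⟨b * u * b⁻¹, hUB b hb u hu, by simp⟩
  have hTB' : T' ≤ B' := Subgroup.map_mono hTB
  have hTcyc' : IsCyclic ↥T' := by
    have : IsCyclic ↥T := hTcyc
    exact isCyclic_of_surjective (T.equivMapOfInjective es hesinj).toMonoidHom
      (T.equivMapOfInjective es hesinj).surjective
  have hw'B : w' ∉ B' := by
    rintro ⟨b, hb, hbw⟩
    exact hwB (hesinj hbw ▸ hb)
  have hw'w' : w' * w' = 1 := by rw [hw'def, ← map_mul, hww, map_one]
  have hw'T : ∀ t ∈ T', w' * t * w'⁻¹ = t⁻¹ := by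
    rintro _ ⟨t, ht, rfl⟩
    rw [hw'def, ← map_inv, ← map_mul, ← map_mul, hwT t ht, map_inv]
  have hw'inv : w'⁻¹ = w' := inv_eq_of_mul_eq_one_left hw'w'
  -- the fixed point
  obtain ⟨a, hstab, hfix⟩ :=
    Cfsg.Agent.Lib.Helper12.DWAFIX.DWAFIX p hp hΩ' htr hLcard U' B' hU' hUB' hB'
  refine ⟨a, U', ?_, ?_, hU', ?_, ?_⟩
  · rw [hstab]; exact hB'
  · intro u hu
    rw [mem_stabilizer_iff]
    exact (hfix a).mpr rfl u hu
  · intro m hm
    rw [hstab] at hm
    exact hUB' m hm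
  intro hp4
  -- the second point
  have hba : w' • a ≠ a := by
    intro h
    apply hw'B
    rw [← hstab, mem_stabilizer_iff]
    exact h
  have hwb : w' • (w' • a) = a := by rw [smul_smul, hw'w', one_smul]
  have hn0 : (p - 1) / 2 ≠ 0 := by omega
  have hTcard : Nat.card T' = (p - 1) / 2 := by omega
  have hw'T' : w' ∉ T' := fun h => hw'B (hTB' h)
  obtain ⟨D, hTD, hwD, hDform, hDiso⟩ :=
    Cfsg.Agent.Lib.Helper5.DWAREC.DWAREC hn0 T' hTcyc' hTcard w' hw'T' hw'w' hw'T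
  -- elements of `T'` fix `a` and `b`
  have hTa : ∀ t ∈ T', t • a = a := by
    intro t ht
    have : t ∈ stabilizer L a := by rw [hstab]; exact hTB' ht
    exact mem_stabilizer_iff.mp this
  have hcomm : ∀ t ∈ T', t * w' = w' * t⁻¹ := by
    intro t ht
    have h := hw'T t ht
    -- w' * t * w'⁻¹ = t⁻¹
    have h1 : w' * t⁻¹ = w' * (w' * t * w'⁻¹) := by rw [h]
    rw [h1, hw'inv, ← mul_assoc, ← mul_assoc, hw'w', one_mul]
  have hTb : ∀ t ∈ T', t • (w' • a) = w' • a := by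
    intro t ht
    rw [smul_smul, hcomm t ht, mul_smul, hTa t⁻¹ (T'.inv_mem ht)]
  refine ⟨w' • a, D, fun h => hba h.symm, hDiso, ?_, ?_⟩
  · intro d hd
    rcases hDform d hd with ht | ⟨t, ht, rfl⟩
    · left; exact ⟨hTa d ht, hTb d ht⟩
    · right
      refine ⟨?_, ?_⟩
      · rw [mul_smul, hTa t ht]
      · rw [mul_smul, hTb t ht, hwb]
  · intro ω hωa hωb d hd hdω
    rcases hDform d hd with ht | ⟨t, ht, rfl⟩
    · have hdB : d ∈ B' := hTB' ht
      exact Cfsg.Agent.Lib.Helper12.DWAREG3.DWAREG3 p hp hΩ' U' hU' a hfix d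
        (fun u hu => hUB' d hdB u hu) (w' • a) ω hba hωa (Ne.symm hωb) (hTb d ht) hdω
    · exfalso
      set d := w' * t with hd'
      have hdd : d * d = 1 := by
        have h1 : w' * t = t⁻¹ * w' := by
          have := hcomm t⁻¹ (T'.inv_mem ht)
          rw [inv_inv] at this
          exact this.symm
        rw [hd']
        calc w' * t * (w' * t) = t⁻¹ * w' * (w' * t) := by rw [h1]
          _ = t⁻¹ * (w' * w') * t := by group
          _ = 1 := by rw [hw'w', mul_one, inv_mul_cancel]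
      have hd1 : d ≠ 1 := by
        intro h
        have : d • a = w' • a := by rw [hd', mul_smul, hTa t ht]
        rw [h, one_smul] at this
        exact hba this.symm
      have hord : orderOf d = 2 := orderOf_eq_prime (by rw [sq]; exact hdd) hd1
      have hdvd : orderOf d ∣ Nat.card ↥(stabilizer L ω) :=
        Subgroup.orderOf_dvd_natCard _ (mem_stabilizer_iff.mpr hdω)
      -- the order of the stabilizer of `ω` is odd
      have hidx : (stabilizer L ω).index = p + 1 := by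
        rw [index_stabilizer_of_transitive, hΩ']
      have hcm := Subgroup.card_mul_index (stabilizer L ω)
      rw [hidx] at hcm
      have hsq : p ^ 2 - 1 = (p + 1) * (p - 1) := by
        have := Nat.sq_sub_sq p 1
        simpa using this
      have hstabω : 2 * Nat.card ↥(stabilizer L ω) = p * (p - 1) := by
        have h1 : 2 * Nat.card ↥(stabilizer L ω) * (p + 1) = p * (p - 1) * (p + 1) := by
          calc 2 * Nat.card ↥(stabilizer L ω) * (p + 1)
              = 2 * (Nat.card ↥(stabilizer L ω) * (p + 1)) := by ring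
            _ = 2 * Nat.card L := by rw [hcm]
            _ = p * (p ^ 2 - 1) := hLcard
            _ = p * (p - 1) * (p + 1) := by rw [hsq]; ring
        exact Nat.eq_of_mul_eq_mul_right (by omega) h1
      obtain ⟨k, hk⟩ : ∃ k, p = 4 * k + 3 := ⟨p / 4, by omega⟩
      have hpm : p - 1 = 2 * (2 * k + 1) := by omega
      rw [hpm, hk] at hstabω
      have hodd : Nat.card ↥(stabilizer L ω) = (4 * k + 3) * (2 * k + 1) := by
        have : 2 * ((4 * k + 3) * (2 * k + 1)) = (4 * k + 3) * (2 * (2 * k + 1)) := by ring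
        omega
      rw [hord, hodd] at hdvd
      have h2 : ¬ 2 ∣ (4 * k + 3) * (2 * k + 1) := by
        rw [Nat.Prime.dvd_mul Nat.prime_two]
        omega
      exact h2 hdvd

/-- **DW-A** (spine of part A: from APSL, AFIX, AREG3, AREC and
`Cfsg.Agent.Lib.Helper13.card_PSL2_mul_two`). -/
theorem DWA {X Ω : Type*} [Group X] [Finite X] [MulAction X Ω] [FaithfulSMul X Ω] [Fintype Ω]
    [DecidableEq Ω] (p : ℕ) (hp : p.Prime) (hp2 : p ≠ 2) (hΩ : Fintype.card Ω = p + 1)
    (L : Subgroup X)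
    (hL : Nonempty (↥L ≃* Matrix.ProjectiveSpecialLinearGroup (Fin 2) (ZMod p)))
    (hLt : IsMultiplyPretransitive ↥L Ω 2) :
    ∃ (a : Ω) (Q : Subgroup X),
      2 * Nat.card ↥(L ⊓ stabilizer X a) = p * (p - 1) ∧
      Q ≤ L ⊓ stabilizer X a ∧ Nat.card Q = p ∧
      (∀ m ∈ L ⊓ stabilizer X a, ∀ q ∈ Q, m * q * m⁻¹ ∈ Q) ∧
      (p % 4 = 3 → ∃ (b : Ω) (D : Subgroup X), a ≠ b ∧ D ≤ L ∧
        Nonempty (↥D ≃* DihedralGroup ((p - 1) / 2)) ∧
        (∀ d ∈ D, (d • a = a ∧ d • b = b) ∨ (d • a = b ∧ d • b = a)) ∧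
        (∀ ω : Ω, ω ≠ a → ω ≠ b → ∀ d ∈ D, d • ω = ω → d = 1)) := by
  classical
  obtain ⟨e⟩ := hL
  have hfaithL : FaithfulSMul ↥L Ω :=
    ⟨fun {g h} hgh => Subtype.ext (FaithfulSMul.eq_of_smul_eq_smul (α := Ω) hgh)⟩
  obtain ⟨a, Q, hS, hQS, hQ, hnorm, hD⟩ := DWA_abs p hp hp2 hΩ e hLt
  have hmap : (stabilizer ↥L a).map L.subtype = L ⊓ stabilizer X a := by
    ext x
    rw [Subgroup.mem_map, Subgroup.mem_inf, mem_stabilizer_iff]
    constructor
    · rintro ⟨g, hg, rfl⟩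
      exact ⟨g.2, mem_stabilizer_iff.mp hg⟩
    · rintro ⟨hxL, hxa⟩
      exact ⟨⟨x, hxL⟩, mem_stabilizer_iff.mpr hxa, rfl⟩
  refine ⟨a, Q.map L.subtype, ?_, ?_, ?_, ?_, ?_⟩
  · rw [← hmap, Subgroup.card_map_of_injective L.subtype_injective]
    exact hS
  · rw [← hmap]
    exact Subgroup.map_mono hQS
  · rw [Subgroup.card_map_of_injective L.subtype_injective]
    exact hQ
  · rw [← hmap]
    rintro _ ⟨m, hm, rfl⟩ _ ⟨q, hq, rfl⟩
    exact ⟨m * q * m⁻¹, hnorm m hm q hq, by simp⟩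
  · intro hp4
    obtain ⟨b, D, hab, ⟨φ⟩, hDab, hDreg⟩ := hD hp4
    refine ⟨b, D.map L.subtype, hab, ?_, ⟨?_⟩, ?_, ?_⟩
    · rintro _ ⟨d, _, rfl⟩
      exact d.2
    · exact (D.equivMapOfInjective L.subtype L.subtype_injective).symm.trans φ
    · rintro _ ⟨d, hd, rfl⟩
      exact hDab d hd
    · rintro ω hωa hωb _ ⟨d, hd, rfl⟩ hdω
      have := hDreg ω hωa hωb d hd hdω
      rw [this]
      rfl

end Cfsg.Agent.Lib.Helper10.DWA
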