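import Mathlib
import Cfsg.Agent.Lib.Helper23.PDCOORD
import Cfsg.Agent.Lib.Helper27.PDAFF
import Cfsg.Agent.Lib.Helper5.DWBZOL

/-!
# DW-BNORM (S3616 market DW)

A faithful transitive group of even permutations of prime degree `p` that has a subgroup `M` with
`2 |M| = p (p - 1)` normalizing a subgroup of order `p` has `2 |N_G(P)| = p (p - 1)`.
-/

set_option autoImplicit false

open MulAction

namespace Cfsg.Agent.Lib.Helper10.DWBNORM

/-- **DW-BNORM**. -/
theorem DWBNORM {G Ω : Type*} [Group G] [Finite G] [MulAction G Ω] [FaithfulSMul G Ω] [Fintype Ω]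
    [DecidableEq Ω] (p : ℕ) (hp : p.Prime) (hp2 : p ≠ 2) (hΩ : Fintype.card Ω = p)
    (htrans : IsPretransitive G Ω)
    (heven : ∀ g : G, Equiv.Perm.sign (MulAction.toPerm g : Equiv.Perm Ω) = 1)
    (M Q : Subgroup G) (hM : 2 * Nat.card M = p * (p - 1)) (hQ : Nat.card Q = p)
    (hQM : ∀ m ∈ M, ∀ q ∈ Q, m * q * m⁻¹ ∈ Q) (P : Sylow p G) :
    2 * Nat.card ↥(Subgroup.normalizer ((P : Subgroup G) : Set G)) = p * (p - 1) := by
  classical
  have hfact : Fact p.Prime := ⟨hp⟩
  obtain ⟨a₀⟩ : Nonempty Ω := Fintype.card_pos_iff.mp (by rw [hΩ]; exact hp.pos)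
  have hinj : Function.Injective (MulAction.toPermHom G Ω) := MulAction.toPerm_injective
  have hGdvd : Nat.card G ∣ p.factorial := by
    have := Subgroup.card_dvd_of_injective (MulAction.toPermHom G Ω) hinj
    rwa [Nat.card_eq_fintype_card (α := Equiv.Perm Ω), Fintype.card_perm, hΩ] at this
  have hpG : p ∣ Nat.card G := by
    have hidx : (stabilizer G a₀).index = p := by
      rw [index_stabilizer_of_transitive, Nat.card_eq_fintype_card, hΩ]
    rw [← hidx]
    exact Subgroup.index_dvd_card _
  have hfac : (Nat.card G).factorization p = 1 := by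
    have hpos : Nat.card G ≠ 0 := Nat.card_pos.ne'
    have h1 : 1 ≤ (Nat.card G).factorization p :=
      (hp.dvd_iff_one_le_factorization hpos).mp hpG
    have h2 : ¬ 2 ≤ (Nat.card G).factorization p := by
      intro h
      have := (hp.pow_dvd_iff_le_factorization hpos).mpr h
      apply Cfsg.Agent.Lib.Helper23.PDCOORD.not_sq_dvd_factorial' hp
      rw [← sq]
      exact dvd_trans this hGdvd
    omega
  -- the Sylow subgroup containing `Q` is `Q`
  have hQp : IsPGroup p Q := IsPGroup.of_card (n := 1) (by rw [hQ, pow_one])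
  obtain ⟨P₀, hQP₀⟩ := hQp.exists_le_sylow
  have hP₀card : Nat.card P₀ = p := by rw [Sylow.card_eq_multiplicity, hfac, pow_one]
  have hQeq : Q = (P₀ : Subgroup G) :=
    Subgroup.eq_of_le_of_card_ge hQP₀ (by rw [hQ]; exact hP₀card.le)
  -- the two normalizers have the same order
  have hNcard : Nat.card ↥(Subgroup.normalizer ((P : Subgroup G) : Set G)) =
      Nat.card ↥(Subgroup.normalizer ((P₀ : Subgroup G) : Set G)) := by
    have h1 : Nat.card (Sylow p G) =
        (Subgroup.normalizer ((P : Subgroup G) : Set G)).index := P.card_eq_index_normalizer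
    have h2 : Nat.card (Sylow p G) =
        (Subgroup.normalizer ((P₀ : Subgroup G) : Set G)).index := P₀.card_eq_index_normalizer
    have h3 := Subgroup.card_mul_index (Subgroup.normalizer ((P : Subgroup G) : Set G))
    have h4 := Subgroup.card_mul_index (Subgroup.normalizer ((P₀ : Subgroup G) : Set G))
    rw [← h1] at h3
    rw [← h2] at h4
    have hpos : 0 < Nat.card (Sylow p G) := Nat.card_pos
    exact Nat.eq_of_mul_eq_mul_right hpos (h3.trans h4.symm)
  rw [hNcard]
  -- coordinates
  obtain ⟨x, e, hxP, hPgen, hx⟩ := Cfsg.Agent.Lib.Helper23.PDCOORD.PDCOORD hΩ htrans P₀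
  have hNaff : ∀ n ∈ Subgroup.normalizer ((P₀ : Subgroup G) : Set G),
      ∃ u b : ZMod p, ∀ j : ZMod p, n • e j = e (u * j + b) :=
    fun n hn => Cfsg.Agent.Lib.Helper27.PDAFF.PDAFF x e hx P₀ hxP hPgen n hn
  -- `M` normalizes `P₀`
  have hMN : M ≤ Subgroup.normalizer ((P₀ : Subgroup G) : Set G) := by
    intro m hm
    rw [Subgroup.mem_normalizer_iff]
    intro h
    rw [← hQeq]
    constructor
    · intro hh
      exact hQM m hm h hh
    · intro hh
      have := hQM m⁻¹ (M.inv_mem hm) _ hh
      simpa [mul_assoc] using this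
  set N₀ : Subgroup G := Subgroup.normalizer ((P₀ : Subgroup G) : Set G) with hN₀
  -- the affine coordinates of an element of `N₀`
  have hu0 : ∀ n ∈ N₀, ∀ u b : ZMod p, (∀ j : ZMod p, n • e j = e (u * j + b)) → u ≠ 0 := by
    intro n hn u b hub hu
    have h0 := hub 0
    have h1 := hub 1
    rw [hu] at h0 h1
    simp only [zero_mul, zero_add] at h0 h1
    have := smul_left_cancel n (h0.trans h1.symm)
    exact zero_ne_one (e.injective this)
  choose! fu fb hfub using hNaff
  let f : ↥N₀ → (ZMod p)ˣ × ZMod p := fun n =>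
    (Units.mk0 (fu n) (hu0 n n.2 _ _ (hfub n n.2)), fb n)
  have hf : Function.Injective f := by
    intro n n' hnn'
    have h1 : fu n = fu n' := by
      have := congrArg (fun t => ((t.1 : (ZMod p)ˣ) : ZMod p)) hnn'
      simpa [f] using this
    have h2 : fb n = fb n' := by
      have := congrArg (fun t => t.2) hnn'
      simpa [f] using this
    apply Subtype.ext
    apply FaithfulSMul.eq_of_smul_eq_smul (α := Ω)
    intro ω
    obtain ⟨j, rfl⟩ := e.surjective ω
    rw [hfub n n.2 j, hfub n' n'.2 j, h1, h2]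
  have hcardT : Nat.card ((ZMod p)ˣ × ZMod p) = (p - 1) * p := by
    rw [Nat.card_prod, Nat.card_eq_fintype_card, Nat.card_eq_fintype_card, ZMod.card_units,
      ZMod.card]
  have hle : Nat.card ↥N₀ ≤ (p - 1) * p := by
    rw [← hcardT]
    exact Nat.card_le_card_of_injective f hf
  have hdvd : Nat.card M ∣ Nat.card ↥N₀ := Subgroup.card_dvd_of_le hMN
  obtain ⟨t, ht⟩ := hdvd
  have hMpos : 0 < Nat.card M := Nat.card_pos
  have hN₀pos : 0 < Nat.card ↥N₀ := Nat.card_pos
  have ht12 : t = 1 ∨ t = 2 := by
    have h1 : t ≠ 0 := by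
      rintro rfl
      rw [mul_zero] at ht
      omega
    have h2 : t ≤ 2 := by
      by_contra hcon
      push Not at hcon
      have : Nat.card M * 3 ≤ Nat.card M * t := Nat.mul_le_mul_left _ hcon
      have h3 : (p - 1) * p = p * (p - 1) := Nat.mul_comm _ _
      omega
    omega
  rcases ht12 with rfl | rfl
  · rw [ht, mul_one]
    exact hM
  · -- the normalizer is the full affine group: it contains an odd permutation
    exfalso
    have hcardN : Nat.card ((ZMod p)ˣ × ZMod p) ≤ Nat.card ↥N₀ := by
      rw [hcardT, ht]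
      have h3 : (p - 1) * p = p * (p - 1) := Nat.mul_comm _ _
      omega
    have hbij := hf.bijective_of_nat_card_le hcardN
    obtain ⟨g, hg⟩ := IsCyclic.exists_generator (α := (ZMod p)ˣ)
    obtain ⟨n, hn⟩ := hbij.surjective (g, 0)
    have hnu : fu n = (g : ZMod p) := by
      have := congrArg (fun t => ((t.1 : (ZMod p)ˣ) : ZMod p)) hn
      simpa [f] using this
    have hnb : fb n = 0 := by
      have := congrArg (fun t => t.2) hn
      simpa [f] using this
    have hact : ∀ j : ZMod p, (n : G) • e j = e ((g : ZMod p) * j) := by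
      intro j
      rw [hfub n n.2 j, hnu, hnb, add_zero]
    let σ : Equiv.Perm (ZMod p) :=
      (e.symm.symm.trans (MulAction.toPerm (n : G) : Equiv.Perm Ω)).trans e.symm
    have hσ : ∀ j : ZMod p, σ j = (g : ZMod p) * j := by
      intro j
      change e.symm ((n : G) • e j) = _
      rw [hact j, Equiv.symm_apply_apply]
    have hsign := Cfsg.Agent.Lib.Helper5.DWBZOL.DWBZOL p hp2 g hg σ hσ
    have hsign' : Equiv.Perm.sign σ = Equiv.Perm.sign (MulAction.toPerm (n : G) : Equiv.Perm Ω) :=
      Equiv.Perm.sign_symm_trans_trans _ e.symm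
    rw [hsign', heven] at hsign
    exact absurd hsign (by decide)

end Cfsg.Agent.Lib.Helper10.DWBNORM
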