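import Mathlib
import Cfsg.Agent.Lib.Helper14.TW676

/-!
# DW-C (S3616 market DW): `p ≡ 1 (mod 4)` - triple transitivity from S0676 (via helper14's `TW676`)
-/

set_option autoImplicit false

open MulAction

namespace Cfsg.Agent.Lib.Helper10.DWC

/-- **DW-C** (`p ≡ 1 (mod 4)`, from `Cfsg.Agent.S0676.result`). -/
theorem DWC {G Ω : Type*} [Group G] [Finite G] [MulAction G Ω] [FaithfulSMul G Ω] [Finite Ω]
    (p : ℕ) (hp : p.Prime) (hΩ : Nat.card Ω = p) (htrans : IsPretransitive G Ω)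
    (hins : ¬ Group.IsSolvable G) (P : Sylow p G)
    (hN : 2 * Nat.card ↥(Subgroup.normalizer ((P : Subgroup G) : Set G)) = p * (p - 1))
    (hp1 : p % 4 = 1) : IsMultiplyPretransitive G Ω 3 := by
  classical
  have : Fact p.Prime := ⟨hp⟩
  have : Fintype Ω := Fintype.ofFinite Ω
  have hΩ' : Fintype.card Ω = p := by rw [← Nat.card_eq_fintype_card]; exact hΩ
  refine Cfsg.Agent.Lib.Helper14.TW676.TW676 hΩ' htrans hins P ?_
  set N := Nat.card ↥(Subgroup.normalizer ((P : Subgroup G) : Set G)) with hNdef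
  obtain ⟨k, hk⟩ : ∃ k, p = 4 * k + 1 := ⟨p / 4, by omega⟩
  have h1 : p - 1 = 4 * k := by omega
  have h2 : N = p * (2 * k) := by
    have h3 : 2 * N = 2 * (p * (2 * k)) := by rw [hN, h1]; ring
    omega
  rw [h2]
  exact ⟨p * k, by ring⟩

end Cfsg.Agent.Lib.Helper10.DWC
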