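import Mathlib

/-!
# Vocabulary for market "DW" (S3616)

* `DWDefs.Few3 X a` : pointwise form of "the stabilizer in `X` of three distinct points `a, b, c` has at
  most two orbits on the remaining points": it is transitive on every invariant set of points that
  misses `a`, `b`, `c` and a fourth point.
-/

set_option autoImplicit false

namespace Cfsg.Agent.Lib.Helper10.DWDefs

/-- the stabilizer of three distinct points `a, b, c` is transitive on every invariant set of points
that misses `a`, `b`, `c` and a fourth point -/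
def Few3 (X : Type*) {Ω : Type*} [Group X] [MulAction X Ω] (a : Ω) : Prop :=
  ∀ b c : Ω, b ≠ a → c ≠ a → b ≠ c → ∀ S : Set Ω,
    (∀ g : X, g • a = a → g • b = b → g • c = c → ∀ y ∈ S, g • y ∈ S) →
    a ∉ S → b ∉ S → c ∉ S → (∃ z : Ω, z ∉ S ∧ z ≠ a ∧ z ≠ b ∧ z ≠ c) →
    ∀ y ∈ S, ∀ y' ∈ S, ∃ g : X, g • a = a ∧ g • b = b ∧ g • c = c ∧ g • y = y'

end Cfsg.Agent.Lib.Helper10.DWDefs
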