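import Mathlib
import Cfsg.Agent.Lib.Helper10.DWDefs
import Cfsg.Agent.Lib.Helper10.DWC
import Cfsg.Agent.Lib.Helper10.DWBNORM
import Cfsg.Agent.Lib.Helper1.PRAsm
import Cfsg.Agent.Lib.Helper22.PRWIRE
import Cfsg.Agent.Lib.Helper1.PRORB
import Cfsg.Agent.Lib.Helper2.DWBIG
import Cfsg.Agent.Lib.Helper5.DWD4T
import Cfsg.Agent.Lib.Helper6.DWBOf
import Cfsg.Agent.Lib.Helper6.DWMAINOf
import Cfsg.Agent.Lib.Helper27.DWBFAITH
import Cfsg.Agent.Lib.Helper27.DWBSOL
import Cfsg.Agent.Lib.Helper27.DWFEW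
import Cfsg.Agent.Lib.Helper27.DWZPRIM

/-!
# S3616, market "DW": the assembly

`main_of` = the statement of S3616 from (i) the conclusion of DW-A (the `PSL₂(p)` data: the point `a`,
the Sylow `p`-subgroup `Q` of `L_a`, and for `p ≡ 3 (mod 4)` the point `b` and the regular dihedral
subgroup `D` of the setwise stabilizer of `{a, b}`), and (ii) the rank-3 lemma DW-RANK3 at the types
`stabilizer X {a,b}ᶜ`, `{a,b}ᶜ`.
-/

set_option autoImplicit false

open MulAction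
open scoped Pointwise

namespace Cfsg.Agent.Lib.Helper10.DWAsm

theorem main_of {X Ω : Type*} [Group X] [Finite X] [MulAction X Ω] [FaithfulSMul X Ω] [Fintype Ω]
    [DecidableEq Ω] (p : ℕ) (hp : p.Prime) (hp7 : 7 < p) (hΩ : Fintype.card Ω = p + 1)
    (heven : ∀ x : X, Equiv.Perm.sign (MulAction.toPerm x : Equiv.Perm Ω) = 1)
    (L : Subgroup X)
    (hLt : MulAction.IsMultiplyPretransitive ↥L Ω 2) (hLX : L ≠ ⊤)
    (hA : ∃ (a : Ω) (Q : Subgroup X),
      2 * Nat.card ↥(L ⊓ stabilizer X a) = p * (p - 1) ∧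
      Q ≤ L ⊓ stabilizer X a ∧ Nat.card Q = p ∧
      (∀ m ∈ L ⊓ stabilizer X a, ∀ q ∈ Q, m * q * m⁻¹ ∈ Q) ∧
      (p % 4 = 3 → ∃ (b : Ω) (D : Subgroup X), a ≠ b ∧ D ≤ L ∧
        Nonempty (↥D ≃* DihedralGroup ((p - 1) / 2)) ∧
        (∀ d ∈ D, (d • a = a ∧ d • b = b) ∨ (d • a = b ∧ d • b = a)) ∧
        (∀ ω : Ω, ω ≠ a → ω ≠ b → ∀ d ∈ D, d • ω = ω → d = 1)))
    (hR : ∀ a b : Ω, Cfsg.Agent.Lib.Helper6.DWMAINOf.Rank3Stmt
      ↥(stabilizer X (({a, b} : Set Ω)ᶜ)) ↥(({a, b} : Set Ω)ᶜ)) :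
    MulAction.IsMultiplyPretransitive X Ω 4 := by
  classical
  have hp2 : p ≠ 2 := by omega
  have hLtr : IsPretransitive ↥L Ω := isPretransitive_of_is_two_pretransitive
  have h2X : IsMultiplyPretransitive X Ω 2 := by
    refine ⟨fun x y => ?_⟩
    obtain ⟨g, hg⟩ := hLt.exists_smul_eq x y
    exact ⟨(g : X), hg⟩
  have hXtr : IsPretransitive X Ω := isPretransitive_of_is_two_pretransitive
  obtain ⟨a, Q, hM, hQM, hQ, hnorm, hD⟩ := hA
  have hbig := Cfsg.Agent.Lib.Helper2.DWBIG.DWBIG p hΩ L hLtr hLX a hM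
  obtain ⟨hins, hN⟩ :=
    Cfsg.Agent.Lib.Helper6.DWBOf.DWB_of p hp hp2 hΩ heven h2X a (L ⊓ stabilizer X a) Q
      inf_le_right hM hQM hQ hnorm hbig
      (fun p hp hp2 hΩ htrans heven M Q hM hQ hQM P =>
        Cfsg.Agent.Lib.Helper10.DWBNORM.DWBNORM p hp hp2 hΩ htrans heven M Q hM hQ hQM P)
      (fun p hp hΩ htrans hsol P =>
        Cfsg.Agent.Lib.Helper27.DWBSOL.DWBSOL p hp hΩ htrans hsol P)
  have hfaith := Cfsg.Agent.Lib.Helper27.DWBFAITH.DWBFAITH (X := X) a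
  have hΓ : Nat.card ↥(SubMulAction.ofStabilizer X a) = p := by
    have h := SubMulAction.nat_card_ofStabilizer_add_one_eq X a
    have h' : Nat.card Ω = p + 1 := by rw [Nat.card_eq_fintype_card, hΩ]
    omega
  have htrans : IsPretransitive ↥(stabilizer X a) ↥(SubMulAction.ofStabilizer X a) := by
    have h1 : IsMultiplyPretransitive ↥(stabilizer X a) ↥(SubMulAction.ofStabilizer X a) 1 :=
      (SubMulAction.ofStabilizer.isMultiplyPretransitive (G := X) (a := a) (n := 1)).mp h2X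
    exact (is_one_pretransitive_iff).mp h1
  obtain ⟨P⟩ : Nonempty (Sylow p ↥(stabilizer X a)) := inferInstance
  have hNP := hN P
  have hodd : p % 2 = 1 := by
    rcases hp.eq_two_or_odd with h | h
    · omega
    · exact h
  rcases (by omega : p % 4 = 1 ∨ p % 4 = 3) with hp1 | hp3
  · have h3 := Cfsg.Agent.Lib.Helper10.DWC.DWC p hp hΓ htrans hins P hNP hp1
    exact (SubMulAction.ofStabilizer.isMultiplyPretransitive (G := X) (a := a) (n := 3)).mpr h3
  · obtain ⟨b, D, hab, hDL, ⟨φ⟩, hDab, hDreg⟩ := hD hp3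
    have : Fintype ↥(SubMulAction.ofStabilizer X a) := Fintype.ofFinite _
    have hΓ' : Fintype.card ↥(SubMulAction.ofStabilizer X a) = p := by
      rw [← Nat.card_eq_fintype_card]; exact hΓ
    have : Fact p.Prime := ⟨hp⟩
    obtain ⟨h2Y, h4, -⟩ := Cfsg.Agent.Lib.Helper22.PRWIRE.PRWIRE hp2 hΓ' htrans hins P hNP
    have hfewY := Cfsg.Agent.Lib.Helper1.PRORB.PRORB h4
    have hfew := Cfsg.Agent.Lib.Helper27.DWFEW.DWFEW a hfewY
    have hprimY := Cfsg.Agent.Lib.Helper1.PRAsm.main p hp hΓ htrans hins P hNP hp7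
      (⟨b, (SubMulAction.mem_ofStabilizer_iff X a).mpr hab.symm⟩ :
        ↥(SubMulAction.ofStabilizer X a))
    have hprim := Cfsg.Agent.Lib.Helper27.DWZPRIM.DWZPRIM a b hab.symm hprimY
    obtain ⟨c, hca, hcb⟩ : ∃ c : Ω, c ≠ a ∧ c ≠ b := by
      by_contra hcon
      push Not at hcon
      have hsub : (Finset.univ : Finset Ω) ⊆ {a, b} := by
        intro x _
        by_cases hxa : x = a
        · simp [hxa]
        · simp [hcon x hxa]
      have := Finset.card_le_card hsub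
      have h2 : ({a, b} : Finset Ω).card ≤ 2 := Finset.card_le_two
      rw [Finset.card_univ, hΩ] at this
      omega
    have hmain := Cfsg.Agent.Lib.Helper6.DWMAINOf.DWMAIN_of p hp hp3 hΩ a b hab D φ hDab hDreg
      hprim hfew c hca hcb (hR a b)
    have h3X : IsMultiplyPretransitive X Ω 3 :=
      (SubMulAction.ofStabilizer.isMultiplyPretransitive (G := X) (a := a) (n := 2)).mpr h2Y
    exact Cfsg.Agent.Lib.Helper5.DWD4T.DWD4T h3X a b c hab hca.symm hcb.symm hmain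

end Cfsg.Agent.Lib.Helper10.DWAsm
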