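import Mathlib
import Cfsg.Agent.Lib.Helper10.DWAsm
import Cfsg.Agent.Lib.Helper10.DWA
import Cfsg.Agent.Lib.Helper2.DWRANK3Of2

/-!
# S3616, market "DW": everything except the algebraic core `DHcoreT`
-/

set_option autoImplicit false

open MulAction
open scoped Pointwise

namespace Cfsg.Agent.Lib.Helper10.DWFinal

theorem main_of_core {X Ω : Type*} [Group X] [Finite X] [MulAction X Ω] [FaithfulSMul X Ω]
    [Fintype Ω] [DecidableEq Ω]
    (p : ℕ) (hp : p.Prime) (hp7 : 7 < p) (hΩ : Fintype.card Ω = p + 1)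
    (heven : ∀ x : X, Equiv.Perm.sign (MulAction.toPerm x : Equiv.Perm Ω) = 1)
    (L : Subgroup X)
    (hL : Nonempty (↥L ≃* Matrix.ProjectiveSpecialLinearGroup (Fin 2) (ZMod p)))
    (hLt : MulAction.IsMultiplyPretransitive ↥L Ω 2) (hLX : L ≠ ⊤)
    (hDH : ∀ {n : ℕ}, Odd n → ∀ (T : Finset (DihedralGroup n)), (1 : DihedralGroup n) ∉ T →
      (∀ t ∈ T, t⁻¹ ∈ T) → ∀ (k l m : ℕ),
      (∀ g : DihedralGroup n, ((T ×ˢ T).filter (fun q => q.1 * q.2 = g)).card =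
        if g = 1 then k else if g ∈ T then l else m) →
      (∃ g : DihedralGroup n, g ≠ 1 ∧ g ∉ T) → m = 0 ∨ m = k) :
    MulAction.IsMultiplyPretransitive X Ω 4 :=
  Cfsg.Agent.Lib.Helper10.DWAsm.main_of p hp hp7 hΩ heven L hLt hLX
    (Cfsg.Agent.Lib.Helper10.DWA.DWA p hp (by omega) hΩ L hL hLt)
    (fun a b hprim n hn D φ c hreg O₁ O₂ h₁ h₂ hc₁ hc₂ hdisj hcov horb₁ horb₂ hinv₁ =>
      Cfsg.Agent.Lib.Helper2.DWRANK3Of2.DWRANK3_of_core hprim hn D φ c hreg O₁ O₂ h₁ h₂ hc₁ hc₂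
        hdisj hcov horb₁ horb₂ hinv₁ (hDH hn))

end Cfsg.Agent.Lib.Helper10.DWFinal
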