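import Mathlib
import Cfsg.Prelude.Def_OddOrderChar

set_option autoImplicit false

namespace Cfsg.Agent.Lib.Helper10

open Cfsg

variable {G : Type*} [Group G]

/-- If `N1` is normalized by `C = N1 K` and `N2 ≤ C` has order coprime to `|K|`, then `N2 ≤ N1`. -/
theorem le_of_normal_sup_coprime [Finite G] (C N1 N2 K : Subgroup G)
    (hN1C : N1 ≤ C) (hN2C : N2 ≤ C) (hKC : K ≤ C)
    (hnorm : ∀ c ∈ C, ∀ u ∈ N1, c * u * c⁻¹ ∈ N1) (hsup : N1 ⊔ K = C)
    (hcop : (Nat.card N2).Coprime (Nat.card K)) : N2 ≤ N1 := by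
  have hn : (N1.subgroupOf C).Normal := by
    constructor
    intro n hn g
    rw [Subgroup.mem_subgroupOf] at hn ⊢
    exact hnorm g g.2 n hn
  let π := QuotientGroup.mk' (N1.subgroupOf C)
  have hKsurj : (K.subgroupOf C).map π = ⊤ := by
    have h1 : (N1.subgroupOf C ⊔ K.subgroupOf C) = ⊤ := by
      rw [← Subgroup.subgroupOf_sup hN1C hKC, hsup, Subgroup.subgroupOf_self]
    have h2 := congrArg (Subgroup.map π) h1
    rw [Subgroup.map_sup, QuotientGroup.map_mk'_self, bot_sup_eq, ← MonoidHom.range_eq_map,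
      MonoidHom.range_eq_top.mpr (QuotientGroup.mk'_surjective _)] at h2
    exact h2
  have hd1 : Nat.card (↥C ⧸ N1.subgroupOf C) ∣ Nat.card K := by
    have : Nat.card ((K.subgroupOf C).map π) ∣ Nat.card (K.subgroupOf C) := Subgroup.card_map_dvd _ _
    rw [hKsurj, Subgroup.card_top, Nat.card_congr (Subgroup.subgroupOfEquivOfLe hKC).toEquiv] at this
    exact this
  have hd2 : Nat.card ((N2.subgroupOf C).map π) ∣ Nat.card N2 := by
    have : Nat.card ((N2.subgroupOf C).map π) ∣ Nat.card (N2.subgroupOf C) := Subgroup.card_map_dvd _ _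
    rw [Nat.card_congr (Subgroup.subgroupOfEquivOfLe hN2C).toEquiv] at this
    exact this
  have hd3 : Nat.card ((N2.subgroupOf C).map π) ∣ Nat.card (↥C ⧸ N1.subgroupOf C) :=
    Subgroup.card_subgroup_dvd_card _
  have hone : Nat.card ((N2.subgroupOf C).map π) = 1 :=
    (Nat.Coprime.coprime_dvd_left hd2 hcop).eq_one_of_dvd (hd3.trans hd1)
  have hbot : (N2.subgroupOf C).map π = ⊥ := Subgroup.card_eq_one.mp hone
  have hle : N2.subgroupOf C ≤ N1.subgroupOf C := by
    have := (Subgroup.map_eq_bot_iff _).mp hbot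
    rwa [QuotientGroup.ker_mk'] at this
  intro u hu
  have : (⟨u, hN2C hu⟩ : C) ∈ N2.subgroupOf C := by
    rw [Subgroup.mem_subgroupOf]; exact hu
  have := hle this
  rwa [Subgroup.mem_subgroupOf] at this

theorem conj_mem_centralizer_singleton {a c x : G} (hc : c ∈ Subgroup.centralizer ({a} : Set G)) :
    x * c * x⁻¹ ∈ Subgroup.centralizer ({x * a * x⁻¹} : Set G) := by
  rw [Subgroup.mem_centralizer_iff] at hc ⊢
  intro b hb
  rw [Set.mem_singleton_iff] at hb
  subst hb
  have := hc a rfl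
  calc x * a * x⁻¹ * (x * c * x⁻¹) = x * (a * c) * x⁻¹ := by group
    _ = x * (c * a) * x⁻¹ := by rw [this]
    _ = x * c * x⁻¹ * (x * a * x⁻¹) := by group

/-- Under the Dade hypothesis, the conjugate of `H a` by `x ∈ L` lies in `H (x a x⁻¹)`. -/
theorem dade_conj_le [Finite G] {A : Set G} {L : Subgroup G} {H : G → Subgroup G}
    (hD : DadeHypothesis A L H) {a : G} (ha : a ∈ A) {x : G} (hx : x ∈ L) :
    (H a).map (MulAut.conj x).toMonoidHom ≤ H (x * a * x⁻¹) := by
  have hb : x * a * x⁻¹ ∈ A := hD.conj_mem x hx a ha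
  apply le_of_normal_sup_coprime (Subgroup.centralizer ({x * a * x⁻¹} : Set G)) _ _
    (L ⊓ Subgroup.centralizer ({x * a * x⁻¹} : Set G))
  · exact hD.le_centralizer _ hb
  · rintro _ ⟨u, hu, rfl⟩
    exact conj_mem_centralizer_singleton (hD.le_centralizer a ha hu)
  · exact inf_le_right
  · exact hD.conj_mem_H _ hb
  · exact hD.sup_eq _ hb
  · have h1 : Nat.card ((H a).map (MulAut.conj x).toMonoidHom) = Nat.card (H a) :=
      Subgroup.card_map_of_injective (MulAut.conj x).injective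
    rw [h1]
    exact hD.coprime a ha _ hb

/-- Under the Dade hypothesis, `H (x a x⁻¹)` is the conjugate of `H a` by `x ∈ L`. -/
theorem dade_conj_eq [Finite G] {A : Set G} {L : Subgroup G} {H : G → Subgroup G}
    (hD : DadeHypothesis A L H) {a : G} (ha : a ∈ A) {x : G} (hx : x ∈ L) :
    H (x * a * x⁻¹) = (H a).map (MulAut.conj x).toMonoidHom := by
  apply le_antisymm _ (dade_conj_le hD ha hx)
  have hb : x * a * x⁻¹ ∈ A := hD.conj_mem x hx a ha
  have h := dade_conj_le hD hb (L.inv_mem hx)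
  have e : x⁻¹ * (x * a * x⁻¹) * x⁻¹⁻¹ = a := by group
  rw [e] at h
  intro u hu
  refine ⟨x⁻¹ * u * x, ?_, ?_⟩
  · apply h
    refine ⟨u, hu, ?_⟩
    simp
  · simp [MulAut.conj_apply, mul_assoc]

end Cfsg.Agent.Lib.Helper10
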