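import Mathlib
import Cfsg.Agent.Lib.Helper10.Dade

set_option autoImplicit false

namespace Cfsg.Agent.Lib.Helper10

open Cfsg

variable {G : Type*} [Group G]

/-- Under the Dade hypothesis, for `a, b ∈ A` there is an exponent `m` with `(a u)^m = a` for all
`u ∈ H a` and `(b v)^m = b` for all `v ∈ H b`. -/
theorem dade_exists_pow [Finite G] {A : Set G} {L : Subgroup G} {H : G → Subgroup G}
    (hD : DadeHypothesis A L H) {a b : G} (ha : a ∈ A) (hb : b ∈ A) :
    ∃ m : ℕ, (∀ u ∈ H a, (a * u) ^ m = a) ∧ (∀ v ∈ H b, (b * v) ^ m = b) := by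
  set Ca := L ⊓ Subgroup.centralizer ({a} : Set G) with hCa
  set Cb := L ⊓ Subgroup.centralizer ({b} : Set G) with hCb
  have hcop : (Nat.card Ca * Nat.card Cb).Coprime (Nat.card (H a) * Nat.card (H b)) := by
    apply Nat.Coprime.mul_left
    · apply Nat.Coprime.mul_right
      · exact (hD.coprime a ha a ha).symm
      · exact (hD.coprime b hb a ha).symm
    · apply Nat.Coprime.mul_right
      · exact (hD.coprime a ha b hb).symm
      · exact (hD.coprime b hb b hb).symm
  obtain ⟨m, hm1, hm0⟩ := Nat.chineseRemainder hcop 1 0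
  have aux : ∀ c ∈ A, Nat.card ↥(L ⊓ Subgroup.centralizer ({c} : Set G)) ∣ Nat.card Ca * Nat.card Cb →
      Nat.card (H c) ∣ Nat.card (H a) * Nat.card (H b) → ∀ u ∈ H c, (c * u) ^ m = c := by
    intro c hc hd1 hd2 u hu
    have hcu : Commute c u := by
      have := hD.le_centralizer c hc hu
      rw [Subgroup.mem_centralizer_iff] at this
      exact this c rfl
    rw [hcu.mul_pow]
    have hcmem : c ∈ L ⊓ Subgroup.centralizer ({c} : Set G) := by
      refine Subgroup.mem_inf.mpr ⟨hD.subset hc, ?_⟩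
      rw [Subgroup.mem_centralizer_iff]
      intro h hh
      rw [Set.mem_singleton_iff] at hh
      rw [hh]
    have h1 : c ^ m = c := by
      have hord : orderOf c ∣ Nat.card Ca * Nat.card Cb :=
        (Subgroup.orderOf_dvd_natCard _ hcmem).trans hd1
      have : m ≡ 1 [MOD orderOf c] := hm1.of_dvd hord
      have := pow_eq_pow_iff_modEq.mpr this
      rwa [pow_one] at this
    have h2 : u ^ m = 1 := by
      have hord : orderOf u ∣ Nat.card (H a) * Nat.card (H b) :=
        (Subgroup.orderOf_dvd_natCard _ hu).trans hd2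
      have : m ≡ 0 [MOD orderOf u] := hm0.of_dvd hord
      have := pow_eq_pow_iff_modEq.mpr this
      rwa [pow_zero] at this
    rw [h1, h2, mul_one]
  exact ⟨m, aux a ha (Dvd.intro _ rfl) (Dvd.intro _ rfl), aux b hb (Dvd.intro_left _ rfl) (Dvd.intro_left _ rfl)⟩

theorem conj_pow_eq (g x : G) (m : ℕ) : (g * x * g⁻¹) ^ m = g * x ^ m * g⁻¹ := by
  rw [← MulAut.conj_apply, ← map_pow, MulAut.conj_apply]

/-- Under the Dade hypothesis, if `a u` and `b v` are conjugate in `G` then `a, b` are conjugate in `L`. -/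
theorem dade_fusion [Finite G] {A : Set G} {L : Subgroup G} {H : G → Subgroup G}
    (hD : DadeHypothesis A L H) {a b : G} (ha : a ∈ A) (hb : b ∈ A)
    (h : ∃ u ∈ H a, ∃ v ∈ H b, ∃ g : G, g * (a * u) * g⁻¹ = b * v) :
    ∃ x ∈ L, x * a * x⁻¹ = b := by
  obtain ⟨u, hu, v, hv, g, hg⟩ := h
  obtain ⟨m, hma, hmb⟩ := dade_exists_pow hD ha hb
  have h1 : g * a * g⁻¹ = b := by
    have := congrArg (· ^ m) hg
    simp only [conj_pow_eq, hma u hu, hmb v hv] at this
    exact this
  obtain ⟨x, hxL, hx⟩ := hD.fusion a ha g (h1 ▸ hb)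
  exact ⟨x, hxL, hx.trans h1⟩

/-- Under the Dade hypothesis, the normalizer of the coset `a H(a)` is the centralizer of `a`. -/
theorem dade_normalizer_coset [Finite G] {A : Set G} {L : Subgroup G} {H : G → Subgroup G}
    (hD : DadeHypothesis A L H) {a : G} (ha : a ∈ A) :
    Subgroup.normalizer ((fun u : G => a * u) '' (H a : Set G)) = Subgroup.centralizer ({a} : Set G) := by
  have hconj : ∀ c ∈ Subgroup.centralizer ({a} : Set G), ∀ n ∈ (fun u : G => a * u) '' (H a : Set G),
      c * n * c⁻¹ ∈ (fun u : G => a * u) '' (H a : Set G) := by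
    rintro c hc _ ⟨u, hu, rfl⟩
    refine ⟨c * u * c⁻¹, hD.conj_mem_H a ha c hc u hu, ?_⟩
    have hca : a * c = c * a := (Subgroup.mem_centralizer_iff.mp hc) a rfl
    show a * (c * u * c⁻¹) = c * (a * u) * c⁻¹
    calc a * (c * u * c⁻¹) = (a * c) * u * c⁻¹ := by group
      _ = (c * a) * u * c⁻¹ := by rw [hca]
      _ = c * (a * u) * c⁻¹ := by group
  apply le_antisymm
  · intro g hg
    rw [Subgroup.mem_set_normalizer_iff] at hg
    have h1 : a ∈ (fun u : G => a * u) '' (H a : Set G) := ⟨1, (H a).one_mem, mul_one a⟩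
    obtain ⟨v, hv, hv'⟩ := (hg a).mp h1
    obtain ⟨m, hma, _⟩ := dade_exists_pow hD ha ha
    have h2 : g * a * g⁻¹ = a := by
      have := congrArg (· ^ m) hv'
      simp only [conj_pow_eq, hma v hv] at this
      have h3 := hma 1 (H a).one_mem
      rw [mul_one] at h3
      rw [h3] at this
      exact this.symm
    rw [Subgroup.mem_centralizer_iff]
    intro h hh
    rw [Set.mem_singleton_iff] at hh
    subst hh
    calc h * g = (g * h * g⁻¹) * g := by rw [h2]
      _ = g * h := by group
  · intro c hc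
    rw [Subgroup.mem_set_normalizer_iff]
    intro n
    constructor
    · exact hconj c hc n
    · intro hn
      have := hconj c⁻¹ (Subgroup.inv_mem _ hc) _ hn
      simpa [mul_assoc] using this

end Cfsg.Agent.Lib.Helper10
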