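import Mathlib
import Cfsg.Agent.Lib.Helper10.Dade2

/-!
# Dade hypothesis: counting the conjugators into the Dade cosets (helper10)
-/

set_option autoImplicit false

namespace Cfsg.Agent.Lib.Helper10

open Cfsg

variable {G : Type*} [Group G]

/-- If `g` conjugates an element of `a H(a)` into `b H(b)` then it conjugates `a` to `b`. -/
theorem dade_conj_coset [Finite G] {A : Set G} {L : Subgroup G} {H : G → Subgroup G}
    (hD : DadeHypothesis A L H) {a b : G} (ha : a ∈ A) (hb : b ∈ A) {u v g : G}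
    (hu : u ∈ H a) (hv : v ∈ H b) (hg : g * (a * u) * g⁻¹ = b * v) : g * a * g⁻¹ = b := by
  obtain ⟨m, hma, hmb⟩ := dade_exists_pow hD ha hb
  have := congrArg (· ^ m) hg
  simp only [conj_pow_eq, hma u hu, hmb v hv] at this
  exact this

theorem dade_H_inf_L {A : Set G} {L : Subgroup G} {H : G → Subgroup G}
    (hD : DadeHypothesis A L H) {a : G} (ha : a ∈ A) {h : G} (hh : h ∈ H a) (hL : h ∈ L) :
    h = 1 := by
  have hmem : h ∈ H a ⊓ (L ⊓ Subgroup.centralizer ({a} : Set G)) :=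
    Subgroup.mem_inf.mpr ⟨hh, Subgroup.mem_inf.mpr ⟨hL, hD.le_centralizer a ha hh⟩⟩
  rw [hD.inf_eq_bot a ha] at hmem
  exact Subgroup.mem_bot.mp hmem

/-- Every element of `C_G(a)` is `l * h` with `l ∈ C_L(a)` and `h ∈ H a`. -/
theorem dade_centralizer_decomp {A : Set G} {L : Subgroup G} {H : G → Subgroup G}
    (hD : DadeHypothesis A L H) {a : G} (ha : a ∈ A) {c : G}
    (hc : c ∈ Subgroup.centralizer ({a} : Set G)) :
    ∃ l ∈ L ⊓ Subgroup.centralizer ({a} : Set G), ∃ h ∈ H a, c = l * h := by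
  rw [← hD.sup_eq a ha, Subgroup.sup_eq_closure] at hc
  induction hc using Subgroup.closure_induction with
  | mem x hx =>
    rcases hx with hx | hx
    · exact ⟨1, one_mem _, x, hx, (one_mul x).symm⟩
    · exact ⟨x, hx, 1, one_mem _, (mul_one x).symm⟩
  | one => exact ⟨1, one_mem _, 1, one_mem _, (mul_one 1).symm⟩
  | mul x y _ _ hx hy =>
    obtain ⟨l₁, hl₁, h₁, hh₁, rfl⟩ := hx
    obtain ⟨l₂, hl₂, h₂, hh₂, rfl⟩ := hy
    refine ⟨l₁ * l₂, mul_mem hl₁ hl₂, (l₂⁻¹ * h₁ * l₂) * h₂, mul_mem ?_ hh₂, by group⟩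
    have := hD.conj_mem_H a ha l₂⁻¹ (inv_mem (Subgroup.mem_inf.mp hl₂).2) h₁ hh₁
    simpa using this
  | inv x _ hx =>
    obtain ⟨l, hl, h, hh, rfl⟩ := hx
    exact ⟨l⁻¹, inv_mem hl, l * h⁻¹ * l⁻¹,
      hD.conj_mem_H a ha l (Subgroup.mem_inf.mp hl).2 h⁻¹ (inv_mem hh), by group⟩

/-- `t = (x, a, u)` is a valid triple for `g`: `a ∈ A`, `u ∈ H a` and `x g x⁻¹ = a u`. -/
def dadeValid (A : Set G) (L : Subgroup G) (H : G → Subgroup G) (g : G) (t : G × L × G) : Prop :=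
  (t.2.1 : G) ∈ A ∧ t.2.2 ∈ H (t.2.1 : G) ∧ t.1 * g * t.1⁻¹ = (t.2.1 : G) * t.2.2


/-- The parametrisation `(y, h) ↦ (y h, y a₀ y⁻¹, y (h u₀ h⁻¹) y⁻¹)` of the valid triples of `a₀ u₀`. -/
noncomputable def dadeParam {A : Set G} {L : Subgroup G} {H : G → Subgroup G}
    (hD : DadeHypothesis A L H) {a₀ : G} (ha₀ : a₀ ∈ A) (u₀ : G) (p : L × H a₀) : G × L × G :=
  ((p.1 : G) * (p.2 : G),
    ⟨(p.1 : G) * a₀ * (p.1 : G)⁻¹, L.mul_mem (L.mul_mem p.1.2 (hD.subset ha₀)) (L.inv_mem p.1.2)⟩,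
    (p.1 : G) * ((p.2 : G) * u₀ * (p.2 : G)⁻¹) * (p.1 : G)⁻¹)

theorem dadeParam_valid [Finite G] {A : Set G} {L : Subgroup G} {H : G → Subgroup G}
    (hD : DadeHypothesis A L H) {a₀ : G} (ha₀ : a₀ ∈ A) {u₀ : G} (hu₀ : u₀ ∈ H a₀)
    (p : L × H a₀) : dadeValid A L H (a₀ * u₀) (dadeParam hD ha₀ u₀ p) := by
  obtain ⟨y, h⟩ := p
  refine ⟨hD.conj_mem y y.2 a₀ ha₀, ?_, ?_⟩
  · show (y : G) * ((h : G) * u₀ * (h : G)⁻¹) * (y : G)⁻¹ ∈ H ((y : G) * a₀ * (y : G)⁻¹)
    rw [dade_conj_eq hD ha₀ y.2]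
    exact ⟨(h : G) * u₀ * (h : G)⁻¹, (H a₀).mul_mem ((H a₀).mul_mem h.2 hu₀) ((H a₀).inv_mem h.2), rfl⟩
  · show (y : G) * (h : G) * (a₀ * u₀) * ((y : G) * (h : G))⁻¹ =
      (y : G) * a₀ * (y : G)⁻¹ * ((y : G) * ((h : G) * u₀ * (h : G)⁻¹) * (y : G)⁻¹)
    have hc : a₀ * (h : G) = (h : G) * a₀ := by
      have := hD.le_centralizer a₀ ha₀ h.2
      rw [Subgroup.mem_centralizer_iff] at this
      exact this a₀ rfl
    calc (y : G) * (h : G) * (a₀ * u₀) * ((y : G) * (h : G))⁻¹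
        = (y : G) * ((h : G) * a₀) * u₀ * (h : G)⁻¹ * (y : G)⁻¹ := by group
      _ = (y : G) * (a₀ * (h : G)) * u₀ * (h : G)⁻¹ * (y : G)⁻¹ := by rw [hc]
      _ = _ := by group

theorem dadeParam_injective {A : Set G} {L : Subgroup G} {H : G → Subgroup G}
    (hD : DadeHypothesis A L H) {a₀ : G} (ha₀ : a₀ ∈ A) (u₀ : G) :
    Function.Injective (dadeParam hD ha₀ u₀) := by
  rintro ⟨y, h⟩ ⟨y', h'⟩ heq
  have h1 : (y : G) * (h : G) = (y' : G) * (h' : G) := congrArg Prod.fst heq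
  have h2 : (h' : G) * (h : G)⁻¹ = (y' : G)⁻¹ * (y : G) := by
    calc (h' : G) * (h : G)⁻¹ = (y' : G)⁻¹ * ((y' : G) * (h' : G)) * (h : G)⁻¹ := by group
      _ = (y' : G)⁻¹ * ((y : G) * (h : G)) * (h : G)⁻¹ := by rw [h1]
      _ = _ := by group
  have h3 : (h' : G) * (h : G)⁻¹ = 1 := by
    apply dade_H_inf_L hD ha₀ ((H a₀).mul_mem h'.2 ((H a₀).inv_mem h.2))
    rw [h2]
    exact L.mul_mem (L.inv_mem y'.2) y.2
  have h4 : (h' : G) = (h : G) := by
    rw [mul_inv_eq_one] at h3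
    exact h3
  have h5 : (y : G) = (y' : G) := by
    rw [h4] at h1
    exact mul_right_cancel h1
  have e1 : y = y' := Subtype.ext h5
  have e2 : h = h' := Subtype.ext h4.symm
  rw [e1, e2]

theorem dadeParam_surjective [Finite G] {A : Set G} {L : Subgroup G} {H : G → Subgroup G}
    (hD : DadeHypothesis A L H) {a₀ : G} (ha₀ : a₀ ∈ A) {u₀ : G} (hu₀ : u₀ ∈ H a₀)
    (t : G × L × G) (ht : dadeValid A L H (a₀ * u₀) t) : ∃ p, dadeParam hD ha₀ u₀ p = t := by
  obtain ⟨z, a, u⟩ := t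
  obtain ⟨haA, huH, heq⟩ := ht
  simp only at haA huH heq
  have hza : z * a₀ * z⁻¹ = (a : G) := dade_conj_coset hD ha₀ haA hu₀ huH heq
  obtain ⟨y, hyL, hy⟩ := hD.fusion a₀ ha₀ z (by rw [hza]; exact haA)
  have hc : y⁻¹ * z ∈ Subgroup.centralizer ({a₀} : Set G) := by
    rw [Subgroup.mem_centralizer_iff]
    intro b hb
    rw [Set.mem_singleton_iff] at hb
    subst hb
    have : y⁻¹ * (z * b * z⁻¹) * y = b := by
      rw [← hy]; group
    calc b * (y⁻¹ * z) = (y⁻¹ * (z * b * z⁻¹) * y) * (y⁻¹ * z) := by rw [this]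
      _ = y⁻¹ * z * b := by group
  obtain ⟨l, hl, h, hh, hclh⟩ := dade_centralizer_decomp hD ha₀ hc
  have hlL : l ∈ L := (Subgroup.mem_inf.mp hl).1
  have hla : a₀ * l = l * a₀ := by
    have := (Subgroup.mem_inf.mp hl).2
    rw [Subgroup.mem_centralizer_iff] at this
    exact this a₀ rfl
  have hz : z = y * l * h := by
    calc z = y * (y⁻¹ * z) := by group
      _ = y * (l * h) := by rw [hclh]
      _ = y * l * h := by group
  refine ⟨(⟨y * l, L.mul_mem hyL hlL⟩, ⟨h, hh⟩), ?_⟩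
  have e1 : y * l * h = z := hz.symm
  have e2 : y * l * a₀ * (y * l)⁻¹ = (a : G) := by
    rw [← hza, ← hy]
    calc y * l * a₀ * (y * l)⁻¹ = y * (l * a₀) * l⁻¹ * y⁻¹ := by group
      _ = y * (a₀ * l) * l⁻¹ * y⁻¹ := by rw [hla]
      _ = y * a₀ * y⁻¹ := by group
  have e3 : y * l * (h * u₀ * h⁻¹) * (y * l)⁻¹ = u := by
    have hzu : z * u₀ * z⁻¹ = u := by
      have h1 : z * (a₀ * u₀) * z⁻¹ = (z * a₀ * z⁻¹) * (z * u₀ * z⁻¹) := by group
      rw [h1, hza] at heq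
      exact mul_left_cancel heq
    rw [← hzu, hz]
    group
  unfold dadeParam
  simp only
  refine Prod.ext e1 (Prod.ext (Subtype.ext e2) e3)

theorem dade_card_valid_base [Finite G] {A : Set G} {L : Subgroup G} {H : G → Subgroup G}
    (hD : DadeHypothesis A L H) {a₀ : G} (ha₀ : a₀ ∈ A) {u₀ : G} (hu₀ : u₀ ∈ H a₀) :
    Nat.card {t : G × L × G // dadeValid A L H (a₀ * u₀) t} = Nat.card L * Nat.card (H a₀) := by
  rw [← Nat.card_prod]
  symm
  apply Nat.card_congr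
  refine Equiv.ofBijective
    (fun p => (⟨dadeParam hD ha₀ u₀ p, dadeParam_valid hD ha₀ hu₀ p⟩ :
      {t : G × L × G // dadeValid A L H (a₀ * u₀) t})) ⟨?_, ?_⟩
  · intro p q hpq
    exact dadeParam_injective hD ha₀ u₀ (congrArg Subtype.val hpq)
  · rintro ⟨t, ht⟩
    obtain ⟨p, hp⟩ := dadeParam_surjective hD ha₀ hu₀ t ht
    exact ⟨p, Subtype.ext hp⟩

/-- The number of valid triples of an element `g` in the Dade support. -/
theorem dade_card_valid [Finite G] {A : Set G} {L : Subgroup G} {H : G → Subgroup G}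
    (hD : DadeHypothesis A L H) {g : G} {t₀ : G × L × G} (ht₀ : dadeValid A L H g t₀) :
    Nat.card {t : G × L × G // dadeValid A L H g t} =
      Nat.card L * Nat.card (H (t₀.2.1 : G)) := by
  obtain ⟨x₀, a₀, u₀⟩ := t₀
  obtain ⟨ha₀, hu₀, heq⟩ := ht₀
  simp only at ha₀ hu₀ heq ⊢
  rw [← dade_card_valid_base hD ha₀ hu₀]
  apply Nat.card_congr
  refine Equiv.subtypeEquiv (Equiv.prodCongr (Equiv.mulRight x₀⁻¹) (Equiv.refl _)) ?_
  rintro ⟨x, a, u⟩
  unfold dadeValid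
  simp only [Equiv.prodCongr_apply, Equiv.coe_mulRight, Equiv.refl_apply, Prod.map_fst,
    Prod.map_snd]
  have hg : x * x₀⁻¹ * ((a₀ : G) * u₀) * (x * x₀⁻¹)⁻¹ = x * g * x⁻¹ := by
    rw [← heq]; group
  rw [hg]

/-- All valid triples of `g` have conjugate (in `L`) middle entries. -/
theorem dade_valid_conj [Finite G] {A : Set G} {L : Subgroup G} {H : G → Subgroup G}
    (hD : DadeHypothesis A L H) {g : G} {t t' : G × L × G} (ht : dadeValid A L H g t)
    (ht' : dadeValid A L H g t') : ∃ y : L, y * t.2.1 * y⁻¹ = t'.2.1 := by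
  obtain ⟨x, a, u⟩ := t
  obtain ⟨x', a', u'⟩ := t'
  obtain ⟨ha, hu, heq⟩ := ht
  obtain ⟨ha', hu', heq'⟩ := ht'
  simp only at ha hu heq ha' hu' heq' ⊢
  obtain ⟨y, hy, hya⟩ := dade_fusion hD ha ha' ⟨u, hu, u', hu', x' * x⁻¹, by
    rw [← heq, ← heq']; group⟩
  exact ⟨⟨y, hy⟩, Subtype.ext hya⟩

theorem dade_valid_card_eq [Finite G] {A : Set G} {L : Subgroup G} {H : G → Subgroup G}
    (hD : DadeHypothesis A L H) {g : G} {t t' : G × L × G} (ht : dadeValid A L H g t)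
    (ht' : dadeValid A L H g t') : Nat.card (H (t.2.1 : G)) = Nat.card (H (t'.2.1 : G)) := by
  obtain ⟨y, hy⟩ := dade_valid_conj hD ht ht'
  have h1 : ((y : G) * (t.2.1 : G) * (y : G)⁻¹) = (t'.2.1 : G) := congrArg Subtype.val hy
  rw [← h1, dade_conj_eq hD ht.1 y.2,
    Subgroup.card_map_of_injective (MulAut.conj (y : G)).injective]


/-- The Dade map is well defined on class functions: its value at an element with a valid triple
`(x, a, u)` is `α a`. -/
theorem dadeIsometry_eq_of_valid [Finite G] {A : Set G} {L : Subgroup G} {H : G → Subgroup G}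
    (hD : DadeHypothesis A L H) {α : L → ℂ} (hα : IsClassFunction L α) {g : G}
    {t : G × L × G} (ht : dadeValid A L H g t) : dadeIsometry A L H α g = α t.2.1 := by
  have hex : ∃ a : ↥L, (a : G) ∈ A ∧ ∃ x : G, ∃ u ∈ H (a : G), x * g * x⁻¹ = (a : G) * u :=
    ⟨t.2.1, ht.1, t.1, t.2.2, ht.2.1, ht.2.2⟩
  unfold dadeIsometry
  rw [dif_pos hex]
  obtain ⟨hA', x', u', hu', heq'⟩ := Classical.choose_spec hex
  have ht' : dadeValid A L H g (x', Classical.choose hex, u') := ⟨hA', hu', heq'⟩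
  obtain ⟨y, hy⟩ := dade_valid_conj hD ht' ht
  simp only at hy
  rw [← hy]
  exact (hα _ y).symm

theorem dadeIsometry_eq_zero {A : Set G} {L : Subgroup G} {H : G → Subgroup G}
    {α : L → ℂ} {g : G} (hg : ∀ t : G × L × G, ¬ dadeValid A L H g t) :
    dadeIsometry A L H α g = 0 := by
  unfold dadeIsometry
  rw [dif_neg]
  rintro ⟨a, haA, x, u, hu, heq⟩
  exact hg (x, a, u) ⟨haA, hu, heq⟩

theorem dadeValid_conj {A : Set G} {L : Subgroup G} {H : G → Subgroup G} {g : G}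
    {t : G × L × G} (ht : dadeValid A L H g t) (k : G) :
    dadeValid A L H (k * g * k⁻¹) (t.1 * k⁻¹, t.2.1, t.2.2) := by
  refine ⟨ht.1, ht.2.1, ?_⟩
  show t.1 * k⁻¹ * (k * g * k⁻¹) * (t.1 * k⁻¹)⁻¹ = _
  rw [← ht.2.2]
  group

/-- The Dade image of a class function is a class function. -/
theorem dadeIsometry_isClassFunction [Finite G] {A : Set G} {L : Subgroup G}
    {H : G → Subgroup G} (hD : DadeHypothesis A L H) {α : L → ℂ} (hα : IsClassFunction L α) :
    IsClassFunction G (dadeIsometry A L H α) := by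
  intro g k
  by_cases hg : ∃ t : G × L × G, dadeValid A L H g t
  · obtain ⟨t, ht⟩ := hg
    rw [dadeIsometry_eq_of_valid hD hα ht, dadeIsometry_eq_of_valid hD hα (dadeValid_conj ht k)]
  · push Not at hg
    rw [dadeIsometry_eq_zero hg, dadeIsometry_eq_zero]
    intro t ht
    have := dadeValid_conj ht k⁻¹
    have e : k⁻¹ * (k * g * k⁻¹) * k⁻¹⁻¹ = g := by group
    rw [e] at this
    exact hg _ this

/-- The value of the Dade image on the coset `a H(a)`. -/
theorem dadeIsometry_coset [Finite G] {A : Set G} {L : Subgroup G} {H : G → Subgroup G}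
    (hD : DadeHypothesis A L H) {α : L → ℂ} (hα : IsClassFunction L α) (a : L)
    (ha : (a : G) ∈ A) {u : G} (hu : u ∈ H (a : G)) :
    dadeIsometry A L H α ((a : G) * u) = α a := by
  have ht : dadeValid A L H ((a : G) * u) (1, a, u) := ⟨ha, hu, by simp⟩
  exact dadeIsometry_eq_of_valid hD hα ht


section DoubleCount

variable [Fintype G] {A : Set G} {L : Subgroup G} [Fintype L] {H : G → Subgroup G}
variable {K : Type*} [Field K] [CharZero K]

open Classical in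
theorem dade_weighted_count (hD : DadeHypothesis A L H) (θ : G → K) (Θ : G → L → K)
    (hΘ : ∀ g t, dadeValid A L H g t → Θ g t.2.1 = θ g)
    (hθ : ∀ g, (∀ t, ¬ dadeValid A L H g t) → θ g = 0) (g : G) :
    (Nat.card L : K) * θ g = ∑ t : G × L × G,
      if dadeValid A L H g t then (Nat.card (H (t.2.1 : G)) : K)⁻¹ * Θ g t.2.1 else 0 := by
  by_cases hg : ∃ t₀ : G × L × G, dadeValid A L H g t₀
  · obtain ⟨t₀, ht₀⟩ := hg
    have h1 : ∀ t : G × L × G,
        (if dadeValid A L H g t then (Nat.card (H (t.2.1 : G)) : K)⁻¹ * Θ g t.2.1 else 0) =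
        (if dadeValid A L H g t then (Nat.card (H (t₀.2.1 : G)) : K)⁻¹ * θ g else 0) := by
      intro t
      by_cases ht : dadeValid A L H g t
      · rw [if_pos ht, if_pos ht, hΘ g t ht, dade_valid_card_eq hD ht ht₀]
      · rw [if_neg ht, if_neg ht]
    rw [Finset.sum_congr rfl (fun t _ => h1 t), ← Finset.sum_filter, Finset.sum_const]
    have h2 : (Finset.univ.filter (fun t : G × L × G => dadeValid A L H g t)).card =
        Nat.card L * Nat.card (H (t₀.2.1 : G)) := by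
      rw [← dade_card_valid hD ht₀, Nat.card_eq_fintype_card, Fintype.card_subtype]
    rw [h2, nsmul_eq_mul, Nat.cast_mul]
    have h3 : (Nat.card (H (t₀.2.1 : G)) : K) ≠ 0 := by
      exact_mod_cast Nat.card_pos.ne'
    field_simp
  · push Not at hg
    rw [hθ g hg, mul_zero]
    symm
    apply Finset.sum_eq_zero
    intro t _
    rw [if_neg (hg t)]

open Classical in
/-- Double counting over the valid triples. -/
theorem dade_double_count (hD : DadeHypothesis A L H) (θ : G → K) (Θ : G → L → K)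
    (hΘ : ∀ g t, dadeValid A L H g t → Θ g t.2.1 = θ g)
    (hθ : ∀ g, (∀ t, ¬ dadeValid A L H g t) → θ g = 0) :
    (Nat.card L : K) * ∑ g : G, θ g =
      ∑ a : L, ∑ u : G, ∑ x : G,
        if ((a : G) ∈ A ∧ u ∈ H (a : G)) then
          (Nat.card (H (a : G)) : K)⁻¹ * Θ (x⁻¹ * ((a : G) * u) * x) a else 0 := by
  rw [Finset.mul_sum, Finset.sum_congr rfl (fun g _ => dade_weighted_count hD θ Θ hΘ hθ g),
    Finset.sum_comm]
  have h1 : ∀ t : G × L × G,
      (∑ g : G, if dadeValid A L H g t then (Nat.card (H (t.2.1 : G)) : K)⁻¹ * Θ g t.2.1 else 0) =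
      if ((t.2.1 : G) ∈ A ∧ t.2.2 ∈ H (t.2.1 : G)) then
        (Nat.card (H (t.2.1 : G)) : K)⁻¹ * Θ (t.1⁻¹ * ((t.2.1 : G) * t.2.2) * t.1) t.2.1 else 0 := by
    intro t
    rw [Finset.sum_eq_single (t.1⁻¹ * ((t.2.1 : G) * t.2.2) * t.1)]
    · by_cases h : ((t.2.1 : G) ∈ A ∧ t.2.2 ∈ H (t.2.1 : G))
      · have hv : dadeValid A L H (t.1⁻¹ * ((t.2.1 : G) * t.2.2) * t.1) t :=
          ⟨h.1, h.2, by group⟩
        rw [if_pos hv, if_pos h]
      · have hv : ¬ dadeValid A L H (t.1⁻¹ * ((t.2.1 : G) * t.2.2) * t.1) t :=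
          fun hv => h ⟨hv.1, hv.2.1⟩
        rw [if_neg hv, if_neg h]
    · intro g _ hg
      rw [if_neg]
      intro hv
      apply hg
      rw [← hv.2.2]
      group
    · intro h
      exact absurd (Finset.mem_univ _) h
  rw [Finset.sum_congr rfl (fun t _ => h1 t), Fintype.sum_prod_type]
  simp only [Fintype.sum_prod_type]
  rw [Finset.sum_comm]
  apply Finset.sum_congr rfl
  intro a _
  rw [Finset.sum_comm]

end DoubleCount

end Cfsg.Agent.Lib.Helper10
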