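import Mathlib
import Cfsg.Agent.Lib.Helper10.Dade3

/-!
# The Dade isometry: adjoint formula, isometry, norm inequality (helper10)
-/

set_option autoImplicit false

namespace Cfsg.Agent.Lib.Helper10

open Cfsg
open scoped ComplexConjugate

variable {G : Type*} [Group G] [Fintype G] {A : Set G} {L : Subgroup G} [Fintype L]
  {H : G → Subgroup G}

open Classical in
theorem finsum_mem_subgroup_eq_sum {M : Type*} [AddCommMonoid M] (K : Subgroup G) (f : G → M) :
    ∑ᶠ u ∈ (K : Set G), f u = ∑ u : G, if u ∈ K then f u else 0 := by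
  rw [finsum_mem_def, finsum_eq_sum_of_fintype]
  apply Finset.sum_congr rfl
  intro u _
  rw [Set.indicator_apply]
  rfl

open Classical in
/-- Adjoint formula for the Dade map. -/
theorem dade_adjoint (hD : DadeHypothesis A L H) (α : L → ℂ) (hα : IsClassFunction L α)
    (hαA : ∀ x : L, (x : G) ∉ A → α x = 0) (χ : G → ℂ) (ψ : L → ℂ) (hχ : IsClassFunction G χ)
    (hψ : ∀ a : L, (a : G) ∈ A →
      ψ a = (Nat.card (H a) : ℂ)⁻¹ * ∑ᶠ u ∈ (H a : Set G), χ (a * u)) :
    classInner (dadeIsometry A L H α) χ = classInner α ψ := by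
  have hDC := dade_double_count (K := ℂ) hD
    (fun g => dadeIsometry A L H α g * conj (χ g)) (fun g a => α a * conj (χ g))
    (fun g t ht => by
      show α t.2.1 * conj (χ g) = dadeIsometry A L H α g * conj (χ g)
      rw [dadeIsometry_eq_of_valid hD hα ht])
    (fun g hg => by
      show dadeIsometry A L H α g * conj (χ g) = 0
      rw [dadeIsometry_eq_zero hg, zero_mul])
  have hχ' : ∀ y x : G, χ (x⁻¹ * y * x) = χ y := by
    intro y x
    have := hχ y x⁻¹
    rwa [inv_inv] at this
  have hR : (∑ a : L, ∑ u : G, ∑ x : G,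
        if ((a : G) ∈ A ∧ u ∈ H (a : G)) then
          (Nat.card (H (a : G)) : ℂ)⁻¹ * (α a * conj (χ (x⁻¹ * ((a : G) * u) * x))) else 0) =
      (Nat.card G : ℂ) * ∑ a : L, α a * conj (ψ a) := by
    rw [Finset.mul_sum]
    apply Finset.sum_congr rfl
    intro a _
    by_cases ha : (a : G) ∈ A
    · have h1 : ∀ u : G, (∑ x : G,
          if ((a : G) ∈ A ∧ u ∈ H (a : G)) then
            (Nat.card (H (a : G)) : ℂ)⁻¹ * (α a * conj (χ (x⁻¹ * ((a : G) * u) * x))) else 0) =
          (Nat.card G : ℂ) * ((Nat.card (H (a : G)) : ℂ)⁻¹ * α a *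
            conj (if u ∈ H (a : G) then χ ((a : G) * u) else 0)) := by
        intro u
        by_cases hu : u ∈ H (a : G)
        · rw [if_pos hu]
          simp only [ha, hu, and_self, if_true, hχ']
          rw [Finset.sum_const, Finset.card_univ, nsmul_eq_mul, ← Nat.card_eq_fintype_card]
          ring
        · rw [if_neg hu]
          simp only [ha, hu, and_false, if_false, map_zero, mul_zero]
          exact Finset.sum_const_zero
      rw [Finset.sum_congr rfl (fun u _ => h1 u), ← Finset.mul_sum, ← Finset.mul_sum, hψ a ha,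
        finsum_mem_subgroup_eq_sum, map_mul, map_sum, map_inv₀, Complex.conj_natCast]
      ring
    · rw [hαA a ha, zero_mul, mul_zero]
      apply Finset.sum_eq_zero
      intro u _
      apply Finset.sum_eq_zero
      intro x _
      rw [if_neg (fun h => ha h.1)]
  rw [hR] at hDC
  unfold classInner
  have hG : (Nat.card G : ℂ) ≠ 0 := by exact_mod_cast Nat.card_pos.ne'
  have hL : (Nat.card L : ℂ) ≠ 0 := by exact_mod_cast Nat.card_pos.ne'
  field_simp
  linear_combination hDC


open Classical in
/-- The Dade map is an isometry on class functions supported on `A`. -/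
theorem dade_isometry (hD : DadeHypothesis A L H) (α : L → ℂ) (hα : IsClassFunction L α)
    (hαA : ∀ x : L, (x : G) ∉ A → α x = 0) (β : L → ℂ) (hβ : IsClassFunction L β) :
    classInner (dadeIsometry A L H α) (dadeIsometry A L H β) = classInner α β := by
  have hcl := dadeIsometry_isClassFunction hD hβ
  rw [dade_adjoint hD α hα hαA (dadeIsometry A L H β)
    (fun a => (Nat.card (H a) : ℂ)⁻¹ * ∑ᶠ u ∈ (H a : Set G), dadeIsometry A L H β (a * u)) hcl
    (fun a _ => rfl)]
  unfold classInner
  congr 1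
  apply Finset.sum_congr rfl
  intro a _
  by_cases ha : (a : G) ∈ A
  · congr 2
    show (Nat.card (H (a : G)) : ℂ)⁻¹ *
      ∑ᶠ u ∈ (H (a : G) : Set G), dadeIsometry A L H β ((a : G) * u) = β a
    rw [finsum_mem_subgroup_eq_sum]
    have h1 : ∀ u : G, (if u ∈ H (a : G) then dadeIsometry A L H β ((a : G) * u) else 0) =
        if u ∈ H (a : G) then β a else 0 := by
      intro u
      by_cases hu : u ∈ H (a : G)
      · rw [if_pos hu, if_pos hu, dadeIsometry_coset hD hβ a ha hu]
      · rw [if_neg hu, if_neg hu]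
    rw [Finset.sum_congr rfl (fun u _ => h1 u), ← Finset.sum_filter, Finset.sum_const,
      nsmul_eq_mul]
    have h2 : ((Finset.univ.filter (fun u : G => u ∈ H (a : G))).card : ℂ) =
        (Nat.card (H (a : G)) : ℂ) := by
      rw [Nat.card_eq_fintype_card, Fintype.card_subtype]
    rw [h2]
    have h3 : (Nat.card (H (a : G)) : ℂ) ≠ 0 := by exact_mod_cast Nat.card_pos.ne'
    field_simp
  · rw [hαA a ha, zero_mul, zero_mul]

theorem dade_isometry_and_adjoint (hD : DadeHypothesis A L H) (α : L → ℂ)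
    (hα : IsClassFunction L α) (hαA : ∀ x : L, (x : G) ∉ A → α x = 0) :
    (∀ β : L → ℂ, IsClassFunction L β → (∀ x : L, (x : G) ∉ A → β x = 0) →
      classInner (dadeIsometry A L H α) (dadeIsometry A L H β) = classInner α β) ∧
    (∀ (χ : G → ℂ) (ψ : L → ℂ), IsClassFunction G χ →
      (∀ a : L, (a : G) ∈ A →
        ψ a = (Nat.card (H a) : ℂ)⁻¹ * ∑ᶠ u ∈ (H a : Set G), χ (a * u)) →
      classInner (dadeIsometry A L H α) χ = classInner α ψ) :=
  ⟨fun β hβ _ => dade_isometry hD α hα hαA β hβ,
    fun χ ψ hχ hψ => dade_adjoint hD α hα hαA χ ψ hχ hψ⟩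

end Cfsg.Agent.Lib.Helper10
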