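import Mathlib
import Cfsg.Agent.Lib.Helper10.Dade4

/-!
# The Dade isometry: norm inequality (helper10)
-/

set_option autoImplicit false

namespace Cfsg.Agent.Lib.Helper10

open Cfsg

variable {G : Type*} [Group G] [Fintype G] {A : Set G} {L : Subgroup G} [Fintype L]
  {H : G → Subgroup G}

open Classical in
theorem finsum_mem_eq_sum_ite {X M : Type*} [Fintype X] [AddCommMonoid M] (s : Set X)
    (f : X → M) : ∑ᶠ u ∈ s, f u = ∑ u : X, if u ∈ s then f u else 0 := by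
  rw [finsum_mem_def, finsum_eq_sum_of_fintype]
  apply Finset.sum_congr rfl
  intro u _
  rw [Set.indicator_apply]

open Classical in
/-- The square of the norm of an average is at most the average of the squares of the norms. -/
theorem norm_sq_avg_le {X : Type*} (s : Finset X) (f : X → ℂ) (n : ℕ) (hn : s.card = n) (hn0 : n ≠ 0) :
    ‖(n : ℂ)⁻¹ * ∑ u ∈ s, f u‖ ^ 2 ≤ (n : ℝ)⁻¹ * ∑ u ∈ s, ‖f u‖ ^ 2 := by
  have h1 : ‖∑ u ∈ s, f u‖ ≤ ∑ u ∈ s, ‖f u‖ := norm_sum_le _ _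
  have h2 : (∑ u ∈ s, ‖f u‖) ^ 2 ≤ (s.card : ℝ) * ∑ u ∈ s, ‖f u‖ ^ 2 :=
    sq_sum_le_card_mul_sum_sq
  have h3 : ‖∑ u ∈ s, f u‖ ^ 2 ≤ (n : ℝ) * ∑ u ∈ s, ‖f u‖ ^ 2 := by
    rw [hn] at h2
    exact (pow_le_pow_left₀ (norm_nonneg _) h1 2).trans h2
  have hnpos : (0 : ℝ) < n := by exact_mod_cast Nat.pos_of_ne_zero hn0
  rw [norm_mul, norm_inv, Complex.norm_natCast, mul_pow, inv_pow]
  rw [show ((n : ℝ) ^ 2)⁻¹ * ‖∑ u ∈ s, f u‖ ^ 2 ≤ (n : ℝ)⁻¹ * ∑ u ∈ s, ‖f u‖ ^ 2 ↔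
    ‖∑ u ∈ s, f u‖ ^ 2 ≤ (n : ℝ) * ∑ u ∈ s, ‖f u‖ ^ 2 from by
      constructor
      · intro h
        have := mul_le_mul_of_nonneg_left h (sq_nonneg (n : ℝ))
        have e1 : (n : ℝ) ^ 2 * (((n : ℝ) ^ 2)⁻¹ * ‖∑ u ∈ s, f u‖ ^ 2) = ‖∑ u ∈ s, f u‖ ^ 2 := by
          field_simp
        have e2 : (n : ℝ) ^ 2 * ((n : ℝ)⁻¹ * ∑ u ∈ s, ‖f u‖ ^ 2) =
            (n : ℝ) * ∑ u ∈ s, ‖f u‖ ^ 2 := by
          field_simp
        rwa [e1, e2] at this
      · intro h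
        have := mul_le_mul_of_nonneg_left h (inv_nonneg.mpr (sq_nonneg (n : ℝ)))
        have e2 : ((n : ℝ) ^ 2)⁻¹ * ((n : ℝ) * ∑ u ∈ s, ‖f u‖ ^ 2) =
            (n : ℝ)⁻¹ * ∑ u ∈ s, ‖f u‖ ^ 2 := by
          field_simp
        rwa [e2] at this]
  exact h3


open Classical in
/-- Norm inequality for the Dade averages. -/
theorem dade_norm_inequality (hD : DadeHypothesis A L H) (χ : G → ℂ) (hχ : IsClassFunction G χ)
    (ψ : L → ℂ) (hψ : ∀ a : L, (a : G) ∈ A →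
      ψ a = (Nat.card (H a) : ℂ)⁻¹ * ∑ᶠ u ∈ (H a : Set G), χ (a * u)) :
    (Nat.card L : ℝ)⁻¹ * ∑ᶠ a ∈ {a : L | (a : G) ∈ A}, ‖ψ a‖ ^ 2 ≤
      (Nat.card G : ℝ)⁻¹ * ∑ᶠ g ∈ {g : G | ∃ a ∈ A, ∃ u ∈ H a, ∃ x : G, x * g * x⁻¹ = a * u},
        ‖χ g‖ ^ 2 := by
  set S : Set G := {g : G | ∃ a ∈ A, ∃ u ∈ H a, ∃ x : G, x * g * x⁻¹ = a * u} with hS
  have hSv : ∀ g, g ∈ S ↔ ∃ t : G × L × G, dadeValid A L H g t := by
    intro g
    constructor
    · rintro ⟨a, ha, u, hu, x, hx⟩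
      exact ⟨(x, ⟨a, hD.subset ha⟩, u), ha, hu, hx⟩
    · rintro ⟨⟨x, a, u⟩, ha, hu, hx⟩
      exact ⟨(a : G), ha, u, hu, x, hx⟩
  have hDC := dade_double_count (K := ℝ) hD
    (fun g => if g ∈ S then ‖χ g‖ ^ 2 else 0) (fun g _ => ‖χ g‖ ^ 2)
    (fun g t ht => by
      show ‖χ g‖ ^ 2 = if g ∈ S then ‖χ g‖ ^ 2 else 0
      rw [if_pos ((hSv g).mpr ⟨t, ht⟩)])
    (fun g hg => by
      show (if g ∈ S then ‖χ g‖ ^ 2 else 0) = 0
      rw [if_neg]
      intro hgS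
      obtain ⟨t, ht⟩ := (hSv g).mp hgS
      exact hg t ht)
  have hχ' : ∀ y x : G, χ (x⁻¹ * y * x) = χ y := by
    intro y x
    have := hχ y x⁻¹
    rwa [inv_inv] at this
  have hR : (∑ a : L, if (a : G) ∈ A then ‖ψ a‖ ^ 2 else 0) * (Nat.card G : ℝ) ≤
      (∑ a : L, ∑ u : G, ∑ x : G,
        if ((a : G) ∈ A ∧ u ∈ H (a : G)) then
          (Nat.card (H (a : G)) : ℝ)⁻¹ * ‖χ (x⁻¹ * ((a : G) * u) * x)‖ ^ 2 else 0) := by
    rw [Finset.sum_mul]
    apply Finset.sum_le_sum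
    intro a _
    by_cases ha : (a : G) ∈ A
    · rw [if_pos ha]
      have h1 : ∀ u : G, (∑ x : G,
          if ((a : G) ∈ A ∧ u ∈ H (a : G)) then
            (Nat.card (H (a : G)) : ℝ)⁻¹ * ‖χ (x⁻¹ * ((a : G) * u) * x)‖ ^ 2 else 0) =
          (Nat.card G : ℝ) * ((Nat.card (H (a : G)) : ℝ)⁻¹ *
            (if u ∈ H (a : G) then ‖χ ((a : G) * u)‖ ^ 2 else 0)) := by
        intro u
        by_cases hu : u ∈ H (a : G)
        · rw [if_pos hu]
          simp only [ha, hu, and_self, if_true, hχ']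
          rw [Finset.sum_const, Finset.card_univ, nsmul_eq_mul, ← Nat.card_eq_fintype_card]
        · rw [if_neg hu]
          simp only [ha, hu, and_false, if_false, mul_zero]
          exact Finset.sum_const_zero
      rw [Finset.sum_congr rfl (fun u _ => h1 u), ← Finset.mul_sum, ← Finset.mul_sum,
        ← Finset.sum_filter, hψ a ha, finsum_mem_eq_sum_ite, ← Finset.sum_filter]
      have hcard : (Finset.univ.filter (fun u : G => u ∈ (H (a : G) : Set G))).card =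
          Nat.card (H (a : G)) := by
        rw [Nat.card_eq_fintype_card, Fintype.card_subtype]
        rfl
      have h2 := norm_sq_avg_le (Finset.univ.filter (fun u : G => u ∈ (H (a : G) : Set G)))
        (fun u => χ ((a : G) * u)) (Nat.card (H (a : G))) hcard Nat.card_pos.ne'
      have hG0 : (0 : ℝ) ≤ (Nat.card G : ℝ) := Nat.cast_nonneg _
      calc ‖(Nat.card (H (a : G)) : ℂ)⁻¹ *
            ∑ u ∈ Finset.univ.filter (fun u : G => u ∈ (H (a : G) : Set G)), χ ((a : G) * u)‖ ^ 2 *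
            (Nat.card G : ℝ)
          ≤ ((Nat.card (H (a : G)) : ℝ)⁻¹ *
            ∑ u ∈ Finset.univ.filter (fun u : G => u ∈ (H (a : G) : Set G)),
              ‖χ ((a : G) * u)‖ ^ 2) * (Nat.card G : ℝ) := mul_le_mul_of_nonneg_right h2 hG0
        _ = _ := by
          rw [mul_comm]
          rfl
    · rw [if_neg ha, zero_mul]
      apply Finset.sum_nonneg
      intro u _
      apply Finset.sum_nonneg
      intro x _
      rw [if_neg (fun h => ha h.1)]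
  rw [← hDC] at hR
  rw [finsum_mem_eq_sum_ite, finsum_mem_eq_sum_ite]
  have hG : (0 : ℝ) < (Nat.card G : ℝ) := by exact_mod_cast Nat.card_pos
  have hL : (0 : ℝ) < (Nat.card L : ℝ) := by exact_mod_cast Nat.card_pos
  rw [inv_mul_le_iff₀ hL, ← mul_assoc, mul_comm (Nat.card L : ℝ), mul_assoc,
    le_inv_mul_iff₀ hG, mul_comm]
  refine le_trans (le_of_eq ?_) (hR.trans (le_of_eq ?_))
  · congr 1
  · congr 1
    apply Finset.sum_congr rfl
    intro g _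
    by_cases hg : g ∈ S
    · rw [if_pos hg, if_pos hg]
    · rw [if_neg hg, if_neg hg]

end Cfsg.Agent.Lib.Helper10
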