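import Mathlib
import Cfsg.Prelude.Def_Classical

set_option autoImplicit false

namespace Cfsg.Agent.Lib.Helper10.EOrdO

open Polynomial Matrix

variable {F : Type*} [Field F] [Fintype F]

omit [Fintype F] in
/-- an isometry of `Q` preserves the polar form of `Q` -/
theorem transpose_mul_mul_of_mem {ι : Type} [Fintype ι] [DecidableEq ι] (Q : (ι → F) → F)
    (M : Matrix ι ι F) (hpol : ∀ u v : ι → F, Q (u + v) - Q u - Q v = u ⬝ᵥ (M *ᵥ v))
    (g : Matrix.GeneralLinearGroup ι F) (hg : g ∈ Cfsg.isometryGroup F Q) :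
    (g : Matrix ι ι F).transpose * M * (g : Matrix ι ι F) = M := by
  have hQ : ∀ u : ι → F, Q ((g : Matrix ι ι F) *ᵥ u) = Q u := fun u => hg u u
  have key : ∀ u v : ι → F,
      ((g : Matrix ι ι F) *ᵥ u) ⬝ᵥ (M *ᵥ ((g : Matrix ι ι F) *ᵥ v)) = u ⬝ᵥ (M *ᵥ v) := by
    intro u v
    rw [← hpol, ← hpol, ← Matrix.mulVec_add, hQ, hQ, hQ]
  have key2 : ∀ u v : ι → F,
      u ⬝ᵥ (((g : Matrix ι ι F).transpose * M * (g : Matrix ι ι F)) *ᵥ v) = u ⬝ᵥ (M *ᵥ v) := by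
    intro u v
    rw [← key u v, ← Matrix.mulVec_mulVec, ← Matrix.mulVec_mulVec, Matrix.dotProduct_mulVec,
      Matrix.vecMul_transpose]
  ext i j
  have := key2 (Pi.single i 1) (Pi.single j 1)
  simpa using this

/-- assembly for the orthogonal groups from the leaves P7, G1, G2 (as hypotheses) -/
theorem pomega_order_of_leaves {ι : Type} [Fintype ι] [DecidableEq ι]
    (hP7 : ∀ (P : F[X]) (m : ℕ), 3 ≤ m →
      (P.natDegree = 2 * m ∨ (P.natDegree = 2 * m + 1 ∧ ringChar F ≠ 2)) → P.coeff 0 ≠ 0 →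
      Associated P.mirror P →
      ∃ N, 1 ≤ N ∧ (Fintype.card F - 1) * N ≤ Fintype.card F ^ (m + 1) ∧ P ∣ X ^ N - 1)
    (hG1 : ∀ (A : Matrix ι ι F) (N : ℕ),
      (A.charpoly ∣ X ^ N - 1 → A ^ N = 1) ∧ (A.charpoly ∣ X ^ N + 1 → A ^ N = -1))
    (hG2 : ∀ (A M : Matrix ι ι F),
      IsUnit M.det → A.transpose * M * A = M →
      A.charpoly.natDegree = Fintype.card ι ∧ A.charpoly.coeff 0 ≠ 0 ∧
        Associated A.charpoly.mirror A.charpoly)
    (Q : (ι → F) → F) (M : Matrix ι ι F) (hM : IsUnit M.det)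
    (hpol : ∀ u v : ι → F, Q (u + v) - Q u - Q v = u ⬝ᵥ (M *ᵥ v))
    (m : ℕ) (hm : 3 ≤ m)
    (hcard : Fintype.card ι = 2 * m ∨ (Fintype.card ι = 2 * m + 1 ∧ ringChar F ≠ 2))
    (g : Cfsg.POmega F Q) :
    (Fintype.card F - 1) * orderOf g ≤ Fintype.card F ^ (m + 1) := by
  obtain ⟨ω, rfl⟩ := QuotientGroup.mk_surjective g
  set A : Matrix ι ι F := ((ω.1.1 : Matrix.GeneralLinearGroup ι F) : Matrix ι ι F) with hA
  obtain ⟨hdeg, h0, hmir⟩ := hG2 A M hM (transpose_mul_mul_of_mem Q M hpol ω.1.1 ω.1.2)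
  rw [← hdeg] at hcard
  obtain ⟨N, hN1, hNle, hdvd⟩ := hP7 A.charpoly m hm hcard h0 hmir
  have h1 : A ^ N = 1 := (hG1 A N).1 hdvd
  have hω : ω ^ N = 1 := by
    apply Subtype.ext
    apply Subtype.ext
    apply Units.ext
    show ((((ω ^ N : Cfsg.Omega F Q) : Cfsg.isometryGroup F Q) :
      Matrix.GeneralLinearGroup ι F) : Matrix ι ι F) = 1
    rw [SubgroupClass.coe_pow, SubgroupClass.coe_pow, Units.val_pow_eq_pow_val]
    exact h1
  have hone : ((ω : Cfsg.Omega F Q) : Cfsg.POmega F Q) ^ N = 1 := by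
    rw [← QuotientGroup.mk_pow, hω]; rfl
  have hle : orderOf ((ω : Cfsg.Omega F Q) : Cfsg.POmega F Q) ≤ N :=
    Nat.le_of_dvd (by omega) (orderOf_dvd_of_pow_eq_one hone)
  calc (Fintype.card F - 1) * orderOf ((ω : Cfsg.Omega F Q) : Cfsg.POmega F Q)
      ≤ (Fintype.card F - 1) * N := Nat.mul_le_mul_left _ hle
    _ ≤ Fintype.card F ^ (m + 1) := hNle

end Cfsg.Agent.Lib.Helper10.EOrdO
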