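import Mathlib

/-!
# S2264/S2265 leaves P1, P3, G1 (helper10)
-/

set_option autoImplicit false

namespace Cfsg.Agent.Lib.Helper10.EOrdP1

open Polynomial

section poly

variable {F : Type*} [Field F] [Fintype F]

/-- LEAF P1: an irreducible polynomial `≠ X` of degree `d` divides `X^(q^d-1) - 1`. -/
theorem irreducible_dvd_X_pow_sub_one {f : F[X]} (hf : Irreducible f) (h0 : f.coeff 0 ≠ 0) :
    f ∣ X ^ (Fintype.card F ^ f.natDegree - 1) - 1 := by
  have h1 : f ∣ X ^ (Nat.card F) ^ f.natDegree - X :=
    (hf.natDegree_dvd_iff_dvd_X_pow_card_pow_sub_X).1 (dvd_refl _)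
  rw [Nat.card_eq_fintype_card] at h1
  have hq : 1 ≤ Fintype.card F ^ f.natDegree := Nat.one_le_pow _ _ Fintype.card_pos
  have hfac : (X : F[X]) ^ (Fintype.card F) ^ f.natDegree - X
      = X * (X ^ (Fintype.card F ^ f.natDegree - 1) - 1) := by
    rw [mul_sub, mul_one, ← pow_succ', Nat.sub_add_cancel hq]
  rw [hfac] at h1
  rcases hf.prime.dvd_or_dvd h1 with h | h
  · exfalso
    apply h0
    obtain ⟨c, hc⟩ := h
    have : (X : F[X]).coeff 0 = (f * c).coeff 0 := by rw [← hc]
    rw [coeff_X_zero, mul_coeff_zero] at this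
    -- f * c = X, so degrees: f has degree 1 and c is a constant; then coeff 0 of f is 0
    have hdeg := congrArg natDegree hc
    have hc0 : c ≠ 0 := by
      rintro rfl
      simp at hc
    rw [natDegree_X, natDegree_mul hf.ne_zero hc0] at hdeg
    have hfd : 0 < f.natDegree := hf.natDegree_pos
    have hcd : c.natDegree = 0 := by omega
    obtain ⟨a, rfl⟩ := natDegree_eq_zero.1 hcd
    have ha : a ≠ 0 := by
      rintro rfl
      simp at hc0
    rw [coeff_C_zero] at this
    rcases mul_eq_zero.1 this.symm with h | h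
    · exact h
    · exact absurd h ha
  · exact h

/-- LEAF P3: `mirror` of an irreducible polynomial is irreducible. -/
theorem irreducible_mirror {f : F[X]} (hf : Irreducible f) : Irreducible f.mirror := by
  have hunit : ∀ g : F[X], IsUnit g.mirror → IsUnit g := by
    intro g hg
    rw [Polynomial.isUnit_iff] at hg ⊢
    obtain ⟨r, hr, hrg⟩ := hg
    refine ⟨r, hr, ?_⟩
    have := congrArg mirror hrg
    rw [mirror_C, mirror_mirror] at this
    exact this
  refine ⟨fun h => hf.not_isUnit (hunit f h), ?_⟩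
  intro a b hab
  have h2 : f = a.mirror * b.mirror := by
    have := congrArg mirror hab
    rw [mirror_mirror, mirror_mul_of_domain] at this
    exact this
  rcases hf.isUnit_or_isUnit h2 with h | h
  · exact Or.inl (hunit a h)
  · exact Or.inr (hunit b h)

/-- LEAF G1: Cayley–Hamilton consequences. -/
theorem pow_eq_of_charpoly_dvd {ι : Type*} [Fintype ι] [DecidableEq ι] (A : Matrix ι ι F) (N : ℕ) :
    (A.charpoly ∣ X ^ N - 1 → A ^ N = 1) ∧ (A.charpoly ∣ X ^ N + 1 → A ^ N = -1) := by
  have hCH : aeval A A.charpoly = 0 := Matrix.aeval_self_charpoly A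
  constructor
  · rintro ⟨c, hc⟩
    have := congrArg (aeval A) hc
    rw [map_mul, hCH, zero_mul, map_sub, map_pow, aeval_X, map_one] at this
    exact sub_eq_zero.1 this
  · rintro ⟨c, hc⟩
    have := congrArg (aeval A) hc
    rw [map_mul, hCH, zero_mul, map_add, map_pow, aeval_X, map_one] at this
    exact eq_neg_of_add_eq_zero_left this

end poly

end Cfsg.Agent.Lib.Helper10.EOrdP1
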