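import Mathlib
import Cfsg.Prelude.Def_Classical

set_option autoImplicit false

namespace Cfsg.Agent.Lib.Helper10.EOrdSp

open Polynomial Matrix

variable {F : Type*} [Field F] [Fintype F]

/-- assembly of S2264 from the leaves P6, G1, G2 (as hypotheses) -/
theorem psp_order_of_leaves
    (hP6 : ∀ (P : F[X]) (m : ℕ), 1 ≤ m → P.natDegree = 2 * m → P.coeff 0 ≠ 0 →
      Associated P.mirror P →
      ∃ N, 1 ≤ N ∧ (Fintype.card F - 1) * N ≤ Fintype.card F ^ (m + 1) ∧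
        (P ∣ X ^ N - 1 ∨ P ∣ X ^ N + 1))
    (hG1 : ∀ (m : ℕ) (A : Matrix (Fin m ⊕ Fin m) (Fin m ⊕ Fin m) F) (N : ℕ),
      (A.charpoly ∣ X ^ N - 1 → A ^ N = 1) ∧ (A.charpoly ∣ X ^ N + 1 → A ^ N = -1))
    (hG2 : ∀ (m : ℕ) (A M : Matrix (Fin m ⊕ Fin m) (Fin m ⊕ Fin m) F),
      IsUnit M.det → A.transpose * M * A = M →
      A.charpoly.natDegree = Fintype.card (Fin m ⊕ Fin m) ∧ A.charpoly.coeff 0 ≠ 0 ∧
        Associated A.charpoly.mirror A.charpoly)
    (m : ℕ) (hm : 2 ≤ m) (g : Cfsg.PSp m F) :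
    (Fintype.card F - 1) * orderOf g ≤ Fintype.card F ^ (m + 1) := by
  obtain ⟨A, rfl⟩ := QuotientGroup.mk_surjective g
  obtain ⟨A₀, hA⟩ := A
  obtain ⟨hdeg, h0, hmir⟩ := hG2 m A₀ (J (Fin m) F)
    (Matrix.isUnit_det_J _ _) ((SymplecticGroup.mem_iff').1 hA)
  have hcard : Fintype.card (Fin m ⊕ Fin m) = 2 * m := by
    rw [Fintype.card_sum, Fintype.card_fin]; ring
  rw [hcard] at hdeg
  obtain ⟨N, hN1, hNle, hdvd⟩ := hP6 A₀.charpoly m (by omega) hdeg h0 hmir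
  set A : symplecticGroup (Fin m) F := ⟨A₀, hA⟩ with hAdef
  have hcoe : ((A ^ N : symplecticGroup (Fin m) F) : Matrix (Fin m ⊕ Fin m) (Fin m ⊕ Fin m) F)
      = A₀ ^ N := by
    rw [SubmonoidClass.coe_pow]
  have hcen : A ^ N ∈ Subgroup.center (symplecticGroup (Fin m) F) := by
    rcases hdvd with h | h
    · have h1 : A₀ ^ N = 1 := (hG1 m A₀ N).1 h
      have : A ^ N = 1 := by
        apply Subtype.ext
        rw [hcoe, h1]; rfl
      rw [this]; exact Subgroup.one_mem _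
    · have h1 : A₀ ^ N = -1 := (hG1 m A₀ N).2 h
      rw [Subgroup.mem_center_iff]
      intro B
      apply Subtype.ext
      show (B.1 : Matrix (Fin m ⊕ Fin m) (Fin m ⊕ Fin m) F) * (A ^ N : symplecticGroup (Fin m) F).1
        = (A ^ N : symplecticGroup (Fin m) F).1 * B.1
      have hc : (A ^ N : symplecticGroup (Fin m) F).1 = A₀ ^ N := hcoe
      rw [hc, h1]
      simp
  have hone : ((A : symplecticGroup (Fin m) F) : Cfsg.PSp m F) ^ N = 1 := by
    rw [← QuotientGroup.mk_pow]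
    exact (QuotientGroup.eq_one_iff _).2 hcen
  have hle : orderOf ((A : symplecticGroup (Fin m) F) : Cfsg.PSp m F) ≤ N :=
    Nat.le_of_dvd (by omega) (orderOf_dvd_of_pow_eq_one hone)
  calc (Fintype.card F - 1) * orderOf ((A : symplecticGroup (Fin m) F) : Cfsg.PSp m F)
      ≤ (Fintype.card F - 1) * N := Nat.mul_le_mul_left _ hle
    _ ≤ Fintype.card F ^ (m + 1) := hNle

end Cfsg.Agent.Lib.Helper10.EOrdSp
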