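import Mathlib
import Cfsg.Prelude.Def_Transfer

set_option autoImplicit false

/-!
Groups given by an enumeration of their elements and a multiplication table: extraspecial groups of
order 32 and their elementary abelian subgroups; isomorphisms from tables.
-/

namespace Cfsg.Agent.Lib.Helper10.EnumG

open scoped commutatorElement

/-- an enumeration of the elements of a group with its multiplication table -/
structure Enum (P : Type*) [Group P] (m : ℕ) where
  /-- the elements -/
  e : Fin m → P
  bij : Function.Bijective e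
  /-- the table -/
  mt : Fin m → Fin m → Fin m
  mul : ∀ i j, e i * e j = e (mt i j)

variable {P : Type*} [Group P] {m : ℕ}

theorem Enum.card (E : Enum P m) : Nat.card P = m := by
  rw [← Nat.card_congr (Equiv.ofBijective E.e E.bij), Nat.card_eq_fintype_card, Fintype.card_fin]

theorem Enum.finite (E : Enum P m) : Finite P := Finite.of_equiv _ (Equiv.ofBijective E.e E.bij)

theorem Enum.comm_iff (E : Enum P m) (i j : Fin m) :
    E.e i * E.e j = E.e j * E.e i ↔ E.mt i j = E.mt j i := by
  rw [E.mul, E.mul]
  exact E.bij.1.eq_iff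

/-! ### index two -/

theorem isCoatom_of_index_two [Finite P] (M : Subgroup P) (h : M.index = 2) : IsCoatom M := by
  constructor
  · intro htop
    rw [htop, Subgroup.index_top] at h
    omega
  · intro N hN
    have h1 : N.index ∣ M.index := Subgroup.index_dvd_of_le hN.le
    rw [h] at h1
    rcases (Nat.dvd_prime Nat.prime_two).mp h1 with h2 | h2
    · exact Subgroup.index_eq_one.mp h2
    · exfalso
      have h3 : M.relIndex N * N.index = M.index := Subgroup.relIndex_mul_index hN.le
      rw [h, h2] at h3
      have h4 : M.relIndex N = 1 := by omega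
      exact absurd (Subgroup.relIndex_eq_one.mp h4) (not_le_of_gt hN)

/-- in a finite `2`-group, commutators and squares lie in every maximal subgroup -/
theorem coatom_facts [Finite P] (hP : IsPGroup 2 P) (M : Subgroup P) (hM : IsCoatom M) :
    (∀ a b : P, ⁅a, b⁆ ∈ M) ∧ ∀ x : P, x ^ 2 ∈ M := by
  have : Fact (Nat.Prime 2) := ⟨Nat.prime_two⟩
  have hnil : Group.IsNilpotent P := hP.isNilpotent
  have hn : M.Normal :=
    Subgroup.NormalizerCondition.normal_of_coatom M Group.normalizerCondition_of_isNilpotent hM
  have hidx : M.index = 2 := by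
    have hpow : ∃ k, M.index = 2 ^ k := hP.index M
    obtain ⟨k, hk⟩ := hpow
    have hne : M.index ≠ 1 := fun h => hM.1 (Subgroup.index_eq_one.mp h)
    have hk0 : k ≠ 0 := by
      rintro rfl
      exact hne (by rw [hk, pow_zero])
    by_contra hne2
    have hk2 : 2 ≤ k := by
      rcases Nat.lt_or_ge k 2 with h | h
      · exfalso
        have : k = 1 := by omega
        exact hne2 (by rw [hk, this, pow_one])
      · exact h
    -- the quotient has a subgroup of order 2
    have hcard : Nat.card (P ⧸ M) = 2 ^ k := by rw [← Subgroup.index_eq_card, hk]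
    have hdvd : 2 ^ 1 ∣ Nat.card (P ⧸ M) := by rw [hcard]; exact pow_dvd_pow 2 (by omega)
    obtain ⟨K, hK⟩ := Sylow.exists_subgroup_card_pow_prime 2 hdvd
    have hKne : K ≠ ⊥ := by
      intro h
      rw [h, Subgroup.card_bot] at hK
      omega
    have hKtop : K ≠ ⊤ := by
      intro h
      rw [h, Subgroup.card_top, hcard, pow_one] at hK
      have : (2 : ℕ) ^ 2 ≤ 2 ^ k := pow_le_pow_right₀ (by omega) hk2
      omega
    have hle : M ≤ K.comap (QuotientGroup.mk' M) := by
      intro x hx
      rw [Subgroup.mem_comap, QuotientGroup.mk'_apply, (QuotientGroup.eq_one_iff x).mpr hx]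
      exact K.one_mem
    rcases eq_or_lt_of_le hle with h | h
    · apply hKne
      rw [eq_bot_iff]
      intro y hy
      obtain ⟨x, rfl⟩ := QuotientGroup.mk'_surjective M y
      have : x ∈ K.comap (QuotientGroup.mk' M) := hy
      rw [← h] at this
      rw [Subgroup.mem_bot, QuotientGroup.mk'_apply]
      exact (QuotientGroup.eq_one_iff x).mpr this
    · apply hKtop
      have := hM.2 _ h
      rw [eq_top_iff]
      intro y _
      obtain ⟨x, rfl⟩ := QuotientGroup.mk'_surjective M y
      have hx : x ∈ K.comap (QuotientGroup.mk' M) := by rw [this]; exact Subgroup.mem_top x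
      exact hx
  constructor
  · intro a b
    have hcomm : ∀ x y : P ⧸ M, x * y = y * x := by
      have hc : Nat.card (P ⧸ M) = 2 := by rw [← Subgroup.index_eq_card, hidx]
      have := isCyclic_of_prime_card hc
      intro x y
      exact IsCyclic.commGroup.mul_comm x y
    rw [← QuotientGroup.eq_one_iff, commutatorElement_def]
    simp only [QuotientGroup.mk_mul, QuotientGroup.mk_inv]
    rw [hcomm (a : P ⧸ M) (b : P ⧸ M), mul_inv_cancel_right, mul_inv_cancel]
  · intro x
    have := Subgroup.pow_index_mem M x
    rwa [hidx] at this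

theorem mem_frattini_iff (x : P) : x ∈ frattini P ↔ ∀ M : Subgroup P, IsCoatom M → x ∈ M := by
  unfold frattini Order.radical
  simp only [Subgroup.mem_iInf]
  exact Iff.rfl

/-! ### extraspecial groups of order 32 from their table -/

section table32

variable (E : Enum P 32) (o z : Fin 32)

theorem mem_center_of_table (ho : E.e o = 1)
    (hcen : ∀ i, (∀ j, E.mt i j = E.mt j i) ↔ (i = o ∨ i = z)) (x : P) :
    x ∈ Subgroup.center P ↔ x = 1 ∨ x = E.e z := by
  obtain ⟨i, rfl⟩ := E.bij.2 x
  rw [Subgroup.mem_center_iff, ← ho, E.bij.1.eq_iff, E.bij.1.eq_iff, ← hcen i]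
  constructor
  · intro h j
    exact (E.comm_iff i j).mp (h (E.e j)).symm
  · intro h y
    obtain ⟨j, rfl⟩ := E.bij.2 y
    exact ((E.comm_iff i j).mpr (h j)).symm

theorem card_center_of_table (ho : E.e o = 1) (hz : z ≠ o)
    (hcen : ∀ i, (∀ j, E.mt i j = E.mt j i) ↔ (i = o ∨ i = z)) :
    Nat.card (Subgroup.center P) = 2 := by
  have hne : (1 : P) ≠ E.e z := by
    rw [← ho]
    exact fun h => hz (E.bij.1 h).symm
  have hset : (Subgroup.center P : Set P) = {1, E.e z} := by
    ext x
    rw [SetLike.mem_coe, mem_center_of_table E o z ho hcen, Set.mem_insert_iff,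
      Set.mem_singleton_iff]
  have : Nat.card (Subgroup.center P) = (Subgroup.center P : Set P).ncard := rfl
  rw [this, hset, Set.ncard_pair hne]

theorem comm_of_table (hcomm : ∀ i j, E.mt i j = E.mt j i ∨ E.mt i j = E.mt z (E.mt j i))
    (a b : P) : ⁅a, b⁆ = 1 ∨ ⁅a, b⁆ = E.e z := by
  obtain ⟨i, rfl⟩ := E.bij.2 a
  obtain ⟨j, rfl⟩ := E.bij.2 b
  have key : ⁅E.e i, E.e j⁆ = (E.e i * E.e j) * (E.e j * E.e i)⁻¹ := by
    rw [commutatorElement_def, mul_inv_rev, mul_assoc, mul_assoc]
  rw [key]
  rcases hcomm i j with h | h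
  · left
    rw [E.mul, E.mul, h, mul_inv_cancel]
  · right
    rw [E.mul, E.mul, h, ← E.mul z, mul_inv_cancel_right]

/-- when all commutators lie in a central subgroup `{1, c}`, the centraliser of a non-central
element has index 2 -/
theorem index_centralizer_eq_two [Finite P] (c : P) (hc : c ∈ Subgroup.center P)
    (hcomm : ∀ a b : P, ⁅a, b⁆ = 1 ∨ ⁅a, b⁆ = c) (y : P) (hy : y ∉ Subgroup.center P) :
    (Subgroup.centralizer ({y} : Set P)).index = 2 := by
  have hcen : ∀ a b : P, ⁅a, b⁆ ∈ Subgroup.center P := by
    intro a b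
    rcases hcomm a b with h | h
    · rw [h]; exact Subgroup.one_mem _
    · rw [h]; exact hc
  let f : P →* P := MonoidHom.mk' (fun g => ⁅y, g⁆) (by
    intro g g'
    have h1 : ⁅y, g * g'⁆ = ⁅y, g⁆ * (g * ⁅y, g'⁆ * g⁻¹) := by
      simp only [commutatorElement_def]
      group
    have h2 : g * ⁅y, g'⁆ * g⁻¹ = ⁅y, g'⁆ := by
      rw [(Subgroup.mem_center_iff.mp (hcen y g') g), mul_inv_cancel_right]
    show ⁅y, g * g'⁆ = ⁅y, g⁆ * ⁅y, g'⁆
    rw [h1, h2])
  have hker : f.ker = Subgroup.centralizer ({y} : Set P) := by
    ext g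
    rw [MonoidHom.mem_ker, Subgroup.mem_centralizer_singleton_iff]
    show ⁅y, g⁆ = 1 ↔ _
    rw [commutatorElement_eq_one_iff_mul_comm]
    exact eq_comm
  have hrange : ∀ x ∈ f.range, x = 1 ∨ x = c := by
    rintro x ⟨g, rfl⟩
    exact hcomm y g
  have hne : ∃ g, f g ≠ 1 := by
    by_contra hno
    push Not at hno
    apply hy
    rw [Subgroup.mem_center_iff]
    intro g
    have := hno g
    change ⁅y, g⁆ = 1 at this
    rw [commutatorElement_eq_one_iff_mul_comm] at this
    exact this.symm
  obtain ⟨g0, hg0⟩ := hne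
  have hc1 : c ≠ 1 := by
    intro h
    rcases hrange _ ⟨g0, rfl⟩ with h1 | h1
    · exact hg0 h1
    · exact hg0 (h1.trans h)
  have hcr : c ∈ f.range := by
    rcases hrange _ ⟨g0, rfl⟩ with h1 | h1
    · exact absurd h1 hg0
    · rw [← h1]; exact ⟨g0, rfl⟩
  have hset : (f.range : Set P) = {1, c} := by
    ext x
    rw [SetLike.mem_coe, Set.mem_insert_iff, Set.mem_singleton_iff]
    constructor
    · exact hrange x
    · rintro (rfl | rfl)
      · exact Subgroup.one_mem _
      · exact hcr
  have hcard : Nat.card f.range = 2 := by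
    have : Nat.card f.range = (f.range : Set P).ncard := rfl
    rw [this, hset, Set.ncard_pair hc1.symm]
  rw [← hker, Subgroup.index_ker, hcard]

theorem extraspecial_of_table (ho : E.e o = 1) (hz : z ≠ o)
    (hcen : ∀ i, (∀ j, E.mt i j = E.mt j i) ↔ (i = o ∨ i = z))
    (hcomm : ∀ i j, E.mt i j = E.mt j i ∨ E.mt i j = E.mt z (E.mt j i))
    (hsq : ∃ s, E.mt s s = z) : Cfsg.IsExtraspecial 2 P := by
  have hfin : Finite P := E.finite
  have : Fact (Nat.Prime 2) := ⟨Nat.prime_two⟩
  have hP : IsPGroup 2 P := IsPGroup.of_card (n := 5) (by rw [E.card]; norm_num)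
  have hmem := mem_center_of_table E o z ho hcen
  have hzc : E.e z ∈ Subgroup.center P := (hmem _).mpr (Or.inr rfl)
  -- some commutator is the central element
  have hex : ∃ a b : P, ⁅a, b⁆ = E.e z := by
    by_contra hno
    push Not at hno
    have hall : ∀ i j, E.mt i j = E.mt j i := by
      intro i j
      rw [← E.comm_iff]
      have h1 := comm_of_table E z hcomm (E.e i) (E.e j)
      rcases h1 with h1 | h1
      · rw [commutatorElement_eq_one_iff_mul_comm] at h1
        exact h1
      · exact absurd h1 (hno _ _)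
    have h3 : ∀ i : Fin 32, i = o ∨ i = z := fun i => (hcen i).mp (fun j => hall i j)
    have hcard : Fintype.card (Fin 32) ≤ 2 := by
      calc Fintype.card (Fin 32) = (Finset.univ : Finset (Fin 32)).card := rfl
        _ ≤ ({o, z} : Finset (Fin 32)).card := by
          apply Finset.card_le_card
          intro i _
          rcases h3 i with h | h
          · rw [h]; exact Finset.mem_insert_self _ _
          · rw [h]; exact Finset.mem_insert_of_mem (Finset.mem_singleton_self _)
        _ ≤ 2 := Finset.card_le_two
    rw [Fintype.card_fin] at hcard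
    omega
  refine ⟨⟨hP, ?_, ?_⟩, card_center_of_table E o z ho hz hcen⟩
  · -- the Frattini subgroup
    apply le_antisymm
    · intro x hx
      rw [Subgroup.mem_center_iff]
      intro y
      by_cases hy : y ∈ Subgroup.center P
      · exact (Subgroup.mem_center_iff.mp hy x).symm
      · have hidx := index_centralizer_eq_two (E.e z) hzc (comm_of_table E z hcomm) y hy
        have hxC := frattini_le_coatom (isCoatom_of_index_two _ hidx) hx
        rw [Subgroup.mem_centralizer_singleton_iff] at hxC
        exact hxC.symm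
    · intro x hx
      rw [mem_frattini_iff]
      intro M hM
      rcases (hmem x).mp hx with rfl | rfl
      · exact M.one_mem
      · obtain ⟨s, hs⟩ := hsq
        have := (coatom_facts hP M hM).2 (E.e s)
        rwa [pow_two, E.mul, hs] at this
  · -- the commutator subgroup
    rw [commutator_eq_closure]
    apply le_antisymm
    · rw [Subgroup.closure_le]
      rintro g ⟨a, b, rfl⟩
      rw [SetLike.mem_coe, hmem]
      exact comm_of_table E z hcomm a b
    · intro x hx
      rcases (hmem x).mp hx with rfl | rfl
      · exact Subgroup.one_mem _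
      · obtain ⟨a, b, hab⟩ := hex
        exact Subgroup.subset_closure ⟨a, b, hab⟩

/-- no elementary abelian subgroup of order 8 -/
theorem card_le_four_of_table (ho : E.e o = 1)
    (h3 : ∀ a b c : Fin 32, E.mt a a = o → E.mt b b = o → E.mt c c = o → E.mt a b = E.mt b a →
      E.mt a c = E.mt c a → E.mt b c = E.mt c b →
      (a = o ∨ b = o ∨ b = a ∨ c = o ∨ c = a ∨ c = b ∨ c = E.mt a b))
    (A : Subgroup P) (hA : Cfsg.IsElementaryAbelian 2 A) : Nat.card A ≤ 4 := by
  have hfin : Finite P := E.finite
  obtain ⟨hc, h2⟩ := hA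
  have hcomm : ∀ x ∈ A, ∀ y ∈ A, x * y = y * x := by
    intro x hx y hy
    have := hc.is_comm.comm (⟨x, hx⟩ : A) ⟨y, hy⟩
    exact congrArg Subtype.val this
  have hsq : ∀ i, E.e i ∈ A → E.mt i i = o := by
    intro i hi
    have := h2 _ hi
    rw [pow_two, E.mul, ← ho] at this
    exact E.bij.1 this
  have hle : ∀ S : Finset P, (A : Set P) ⊆ S → Nat.card A ≤ S.card := by
    intro S hS
    have : Nat.card A = (A : Set P).ncard := rfl
    rw [this, ← Set.ncard_coe_finset S]
    exact Set.ncard_le_ncard hS (Finset.finite_toSet S)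
  classical
  by_cases h1 : ∀ x ∈ A, x = 1
  · calc Nat.card A ≤ ({1} : Finset P).card := hle _ (fun x hx => by
          rw [Finset.coe_singleton, Set.mem_singleton_iff]; exact h1 x hx)
      _ ≤ 4 := by rw [Finset.card_singleton]; omega
  push Not at h1
  obtain ⟨a, haA, ha1⟩ := h1
  by_cases h2' : ∀ x ∈ A, x = 1 ∨ x = a
  · calc Nat.card A ≤ ({1, a} : Finset P).card := hle _ (fun x hx => by
          rw [Finset.coe_insert, Finset.coe_singleton, Set.mem_insert_iff, Set.mem_singleton_iff]
          exact h2' x hx)
      _ ≤ 4 := le_trans Finset.card_le_two (by omega)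
  push Not at h2'
  obtain ⟨b, hbA, hb1, hba⟩ := h2'
  calc Nat.card A ≤ ({1, a, b, a * b} : Finset P).card := hle _ (fun c hcA => by
        simp only [Finset.coe_insert, Finset.coe_singleton, Set.mem_insert_iff,
          Set.mem_singleton_iff]
        obtain ⟨i, rfl⟩ := E.bij.2 a
        obtain ⟨j, rfl⟩ := E.bij.2 b
        obtain ⟨k, rfl⟩ := E.bij.2 c
        have := h3 i j k (hsq i haA) (hsq j hbA) (hsq k hcA)
          ((E.comm_iff i j).mp (hcomm _ haA _ hbA)) ((E.comm_iff i k).mp (hcomm _ haA _ hcA))
          ((E.comm_iff j k).mp (hcomm _ hbA _ hcA))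
        rcases this with h | h | h | h | h | h | h
        · exact absurd (by rw [h, ho]) ha1
        · exact absurd (by rw [h, ho]) hb1
        · exact absurd (by rw [h]) hba
        · left; rw [h, ho]
        · right; left; rw [h]
        · right; right; left; rw [h]
        · right; right; right; rw [h, E.mul])
    _ ≤ 4 := Finset.card_le_four

end table32

/-! ### isomorphisms from tables -/

/-- a map on the index set which is multiplicative for the table and injective gives an
isomorphism onto a group of the same order -/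
theorem nonempty_mulEquiv_of_table {R : Type*} [Group R] (E : Enum P m) (φ : Fin m → R)
    (hφ : ∀ i j, φ (E.mt i j) = φ i * φ j) (hinj : Function.Injective φ)
    (hcard : Nat.card R = m) : Nonempty (P ≃* R) := by
  have hfin : Finite P := E.finite
  have hm : 0 < m := by
    rw [← E.card]
    exact Nat.card_pos
  have hfinR : Finite R := Nat.finite_of_card_ne_zero (by rw [hcard]; omega)
  let eq := Equiv.ofBijective E.e E.bij
  let f : P → R := fun x => φ (eq.symm x)
  have hf : ∀ x y, f (x * y) = f x * f y := by
    intro x y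
    obtain ⟨i, rfl⟩ := E.bij.2 x
    obtain ⟨j, rfl⟩ := E.bij.2 y
    have e1 : eq.symm (E.e i) = i := eq.symm_apply_apply i
    have e2 : eq.symm (E.e j) = j := eq.symm_apply_apply j
    have e3 : eq.symm (E.e i * E.e j) = E.mt i j := by
      rw [E.mul]; exact eq.symm_apply_apply _
    show φ _ = φ _ * φ _
    rw [e1, e2, e3, hφ]
  have hfinj : Function.Injective f := fun x y h => eq.symm.injective (hinj h)
  have hbij : Function.Bijective f := by
    rw [Nat.bijective_iff_injective_and_card]
    exact ⟨hfinj, by rw [E.card, hcard]⟩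
  exact ⟨MulEquiv.ofBijective (MonoidHom.mk' f hf) hbij⟩

/-- transport an enumeration along an isomorphism -/
def Enum.map {P' : Type*} [Group P'] (E : Enum P m) (f : P ≃* P') : Enum P' m where
  e := fun i => f (E.e i)
  bij := f.bijective.comp E.bij
  mt := E.mt
  mul := fun i j => by rw [← map_mul, E.mul]

theorem exists_hom_of_table {R : Type*} [Group R] (E : Enum P m) (φ : Fin m → R)
    (hφ : ∀ i j, φ (E.mt i j) = φ i * φ j) (hinj : Function.Injective φ) :
    ∃ f : P →* R, Function.Injective f ∧ ∀ i, f (E.e i) = φ i := by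
  let eq := Equiv.ofBijective E.e E.bij
  let f : P → R := fun x => φ (eq.symm x)
  have hf : ∀ x y, f (x * y) = f x * f y := by
    intro x y
    obtain ⟨i, rfl⟩ := E.bij.2 x
    obtain ⟨j, rfl⟩ := E.bij.2 y
    have e1 : eq.symm (E.e i) = i := eq.symm_apply_apply i
    have e2 : eq.symm (E.e j) = j := eq.symm_apply_apply j
    have e3 : eq.symm (E.e i * E.e j) = E.mt i j := by
      rw [E.mul]; exact eq.symm_apply_apply _
    show φ _ = φ _ * φ _
    rw [e1, e2, e3, hφ]
  refine ⟨MonoidHom.mk' f hf, fun x y h => eq.symm.injective (hinj h), fun i => ?_⟩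
  show φ (eq.symm (E.e i)) = φ i
  rw [show eq.symm (E.e i) = i from eq.symm_apply_apply i]

/-- a group of order 60 with a faithful action on five points given by its table is the alternating
group -/
theorem nonempty_mulEquiv_alt5 (E : Enum P 60) (φ : Fin 60 → Equiv.Perm (Fin 5))
    (hφ : ∀ i j, φ (E.mt i j) = φ i * φ j) (hinj : Function.Injective φ) :
    Nonempty (P ≃* alternatingGroup (Fin 5)) := by
  obtain ⟨f, hf, -⟩ := exists_hom_of_table E φ hφ hinj
  have e1 : P ≃* f.range := MonoidHom.ofInjective hf
  have hc : Nat.card f.range = 60 := by rw [← Nat.card_congr e1.toEquiv, E.card]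
  have hidx : f.range.index = 2 := by
    have := Subgroup.card_mul_index f.range
    rw [hc, Nat.card_eq_fintype_card, Fintype.card_perm, Fintype.card_fin] at this
    have h5 : Nat.factorial 5 = 120 := by decide
    rw [h5] at this
    omega
  have := Equiv.Perm.eq_alternatingGroup_of_index_eq_two hidx
  exact ⟨e1.trans (MulEquiv.subgroupCongr this)⟩

end Cfsg.Agent.Lib.Helper10.EnumG
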