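import Cfsg.Agent.Lib.Helper10.F22OChk0
import Cfsg.Agent.Lib.Helper10.F22ODefChk1
set_option autoImplicit false
set_option maxRecDepth 100000
set_option maxHeartbeats 0

/-! Generated checks of the defining words of the letters of the Fischer group Fi22 on 14080 points. -/

namespace Cfsg.Agent.Lib.Helper10.F22O
open Cfsg.Agent.Lib.Helper28.TC2Upper Cfsg.Agent.Lib.Helper28.TC2Lower Cfsg.Agent.Lib.Helper28.TC2Range
open Cfsg.Agent.Lib.Helper28.TC2Bsgs

theorem hdefAll_4 : defAll (4 * 1024) 1024 = true := by decide +kernel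

theorem hdefAll_5 : defAll (5 * 1024) 1024 = true := by decide +kernel


end Cfsg.Agent.Lib.Helper10.F22O
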