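import Mathlib
import Cfsg.Prelude.Def_KGroupFacts

set_option autoImplicit false

/-!
Generic lemmas for bounding the automorphism group of a finite group by the images of a generating
pair, for the outer automorphism group, and for conjugating elements of prime order into a fixed
cyclic Sylow subgroup.
-/

namespace Cfsg.Agent.Lib.Helper10.OutG

variable {J : Type*} [Group J]

/-- two elements of prime order `p`, where `p ^ 2` does not divide the order of the group, generate
conjugate subgroups -/
theorem exists_conj_mem_zpowers [Finite J] (p : ℕ) [Fact p.Prime] (hp : ¬ p ^ 2 ∣ Nat.card J)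
    (x y : J) (hx : orderOf x = p) (hy : orderOf y = p) : ∃ g : J, g * y * g⁻¹ ∈ Subgroup.zpowers x := by
  have key : ∀ z : J, orderOf z = p → ∀ P : Sylow p J, Subgroup.zpowers z ≤ P →
      Subgroup.zpowers z = ↑P := by
    intro z hz P hle
    have hcz : Nat.card (Subgroup.zpowers z) = p := by rw [Nat.card_zpowers, hz]
    obtain ⟨n, hn⟩ := IsPGroup.iff_card.mp P.isPGroup'
    have hdvd : p ^ n ∣ Nat.card J := by
      rw [← hn]
      exact Subgroup.card_subgroup_dvd_card _
    have hn1 : n ≤ 1 := by
      by_contra hlt
      push Not at hlt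
      exact hp ((pow_dvd_pow p hlt).trans hdvd)
    have hle' : Nat.card P ≤ p := by
      rw [hn]
      calc p ^ n ≤ p ^ 1 := Nat.pow_le_pow_right (Fact.out : p.Prime).pos hn1
        _ = p := pow_one p
    exact Subgroup.eq_of_le_of_card_ge hle (by rw [hcz]; exact hle')
  have hxp : IsPGroup p (Subgroup.zpowers x) :=
    IsPGroup.of_card (n := 1) (by rw [Nat.card_zpowers, hx, pow_one])
  have hyp : IsPGroup p (Subgroup.zpowers y) :=
    IsPGroup.of_card (n := 1) (by rw [Nat.card_zpowers, hy, pow_one])
  obtain ⟨P, hP⟩ := hxp.exists_le_sylow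
  obtain ⟨P', hP'⟩ := hyp.exists_le_sylow
  obtain ⟨g, hg⟩ := MulAction.exists_smul_eq J P' P
  refine ⟨g, ?_⟩
  rw [key x hx P hP, ← hg, Sylow.coe_subgroup_smul]
  exact ⟨y, hP' (Subgroup.mem_zpowers y), rfl⟩

/-- an automorphism is determined by its values on a generating pair -/
theorem mulAut_ext_of_closure (t y : J) (hgen : Subgroup.closure ({t, y} : Set J) = ⊤)
    (α β : MulAut J) (h1 : α t = β t) (h2 : α y = β y) : α = β := by
  have h : (α : J →* J) = (β : J →* J) := by
    apply MonoidHom.eq_of_eqOn_dense hgen
    rintro x (rfl | rfl)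
    · exact h1
    · exact h2
  ext x
  exact DFunLike.congr_fun h x

/-- when every automorphism maps a generating pair to a conjugate of one of two pairs, there are at
most twice as many automorphisms as elements -/
theorem card_mulAut_le [Finite J] (t y a2 : J) (hgen : Subgroup.closure ({t, y} : Set J) = ⊤)
    (h : ∀ α : MulAut J, ∃ g : J, (α t = g * t * g⁻¹ ∨ α t = g * a2 * g⁻¹) ∧ α y = g * y * g⁻¹) :
    Nat.card (MulAut J) ≤ 2 * Nat.card J := by
  let Φ : MulAut J → J × J := fun α => (α t, α y)
  have hΦ : Function.Injective Φ := by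
    intro α β hab
    exact mulAut_ext_of_closure t y hgen α β (congrArg Prod.fst hab) (congrArg Prod.snd hab)
  let Ψ : J × Bool → J × J := fun x =>
    (x.1 * (if x.2 then a2 else t) * x.1⁻¹, x.1 * y * x.1⁻¹)
  have hsub : Set.range Φ ⊆ Set.range Ψ := by
    rintro _ ⟨α, rfl⟩
    obtain ⟨g, h1 | h1, h2⟩ := h α
    · exact ⟨(g, false), by simp only [Ψ, Φ, Bool.false_eq_true, if_false, h1, h2]⟩
    · exact ⟨(g, true), by simp only [Ψ, Φ, if_true, h1, h2]⟩
  have hfin : Finite (MulAut J) := Finite.of_injective Φ hΦ
  calc Nat.card (MulAut J) = Nat.card (Set.range Φ) := (Nat.card_range_of_injective hΦ).symm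
    _ ≤ Nat.card (Set.range Ψ) := Nat.card_mono (Set.finite_range Ψ) hsub
    _ ≤ Nat.card (J × Bool) :=
        Nat.card_le_card_of_surjective (Set.rangeFactorization Ψ) Set.rangeFactorization_surjective
    _ = 2 * Nat.card J := by
        rw [Nat.card_prod, Nat.card_eq_fintype_card (α := Bool), Fintype.card_bool, mul_comm]

/-- the inner automorphism group of a group with trivial centre has the order of the group -/
theorem card_inn (hc : Subgroup.center J = ⊥) : Nat.card (Cfsg.Inn J) = Nat.card J := by
  have hinj : Function.Injective (MulAut.conj : J →* MulAut J) := by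
    rw [injective_iff_map_eq_one]
    intro g hg
    have : g ∈ Subgroup.center J := by
      rw [Subgroup.mem_center_iff]
      intro x
      have h1 := DFunLike.congr_fun hg x
      rw [MulAut.conj_apply, MulAut.one_apply] at h1
      calc x * g = g * x * g⁻¹ * g := by rw [h1]
        _ = g * x := by group
    rw [hc] at this
    exact this
  exact (Nat.card_congr (MonoidHom.ofInjective hinj).toEquiv).symm

/-- a group with trivial centre, at most twice as many automorphisms as elements and an automorphism
that is not inner has exactly two outer automorphism classes -/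
theorem card_out_eq_two [Finite J] (hc : Subgroup.center J = ⊥)
    (hle : Nat.card (MulAut J) ≤ 2 * Nat.card J) (φ : MulAut J) (hφ : φ ∉ Cfsg.Inn J) :
    Nat.card (Cfsg.Out J) = 2 := by
  have hpos : 0 < Nat.card J := Nat.card_pos
  have hfin : Finite (MulAut J) :=
    Finite.of_injective (fun α : MulAut J => (α : J → J)) DFunLike.coe_injective
  have h1 := Subgroup.card_mul_index (Cfsg.Inn J)
  rw [card_inn hc] at h1
  have hidx : (Cfsg.Inn J).index ≤ 2 := by
    have : Nat.card J * (Cfsg.Inn J).index ≤ Nat.card J * 2 := by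
      rw [h1, mul_comm]
      exact hle
    exact Nat.le_of_mul_le_mul_left this hpos
  have hne1 : (Cfsg.Inn J).index ≠ 1 := by
    intro h
    rw [Subgroup.index_eq_one] at h
    apply hφ
    rw [h]
    exact Subgroup.mem_top φ
  have hne0 : (Cfsg.Inn J).index ≠ 0 := Subgroup.index_ne_zero_of_finite
  show (Cfsg.Inn J).index = 2
  omega

/-- the number of outer automorphism classes is invariant under isomorphism -/
theorem card_out_congr {J' : Type*} [Group J'] (e : J ≃* J') :
    Nat.card (Cfsg.Out J) = Nat.card (Cfsg.Out J') := by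
  have hconj : ∀ g : J, MulAut.congr e (MulAut.conj g) = MulAut.conj (e g) := by
    intro g
    ext x
    show e (g * e.symm x * g⁻¹) = e g * x * (e g)⁻¹
    rw [map_mul, map_mul, map_inv, e.apply_symm_apply]
  have hmap : (Cfsg.Inn J).map (MulAut.congr e : MulAut J ≃* MulAut J').toMonoidHom =
      Cfsg.Inn J' := by
    ext φ
    constructor
    · rintro ⟨_, ⟨g, rfl⟩, rfl⟩
      exact ⟨e g, (hconj g).symm⟩
    · rintro ⟨g', rfl⟩
      refine ⟨MulAut.conj (e.symm g'), ⟨e.symm g', rfl⟩, ?_⟩
      show MulAut.congr e (MulAut.conj (e.symm g')) = _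
      rw [hconj, e.apply_symm_apply]
  exact Nat.card_congr
    (QuotientGroup.congr (Cfsg.Inn J) (Cfsg.Inn J') (MulAut.congr e) hmap).toEquiv

/-- an involution moving twice an odd number of points is an odd permutation -/
theorem sign_of_involution {α : Type*} [Fintype α] [DecidableEq α] (σ : Equiv.Perm α)
    (h2 : σ * σ = 1) (m : ℕ) (hm : σ.support.card = 2 * m) (hodd : Odd m) :
    Equiv.Perm.sign σ = -1 := by
  have hne : σ ≠ 1 := by
    intro h
    rw [h, Equiv.Perm.support_one, Finset.card_empty] at hm
    obtain ⟨k, hk⟩ := hodd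
    omega
  have ho : orderOf σ = 2 := orderOf_eq_prime (by rw [pow_two]; exact h2) hne
  obtain ⟨k, hk⟩ := Equiv.Perm.cycleType_prime_order (σ := σ) (by rw [ho]; exact Nat.prime_two)
  rw [ho] at hk
  have hsum := Equiv.Perm.sum_cycleType σ
  rw [hk, Multiset.sum_replicate, hm, smul_eq_mul] at hsum
  have hkm : k + 1 = m := by omega
  rw [Equiv.Perm.sign_of_cycleType, hk, Multiset.sum_replicate, Multiset.card_replicate,
    smul_eq_mul, hkm]
  have : m * 2 + m = 2 * m + m := by ring
  rw [this, pow_add, pow_mul, neg_one_sq, one_pow, one_mul]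
  exact hodd.neg_one_pow

/-- the elements of a perfect group of permutations are even -/
theorem sign_eq_one_of_perfect {α : Type*} [Fintype α] [DecidableEq α]
    (H : Subgroup (Equiv.Perm α)) (hperf : commutator ↥H = ⊤) (g : Equiv.Perm α) (hg : g ∈ H) :
    Equiv.Perm.sign g = 1 := by
  have h := Abelianization.commutator_subset_ker (Equiv.Perm.sign.comp H.subtype)
  rw [hperf] at h
  have := h (Subgroup.mem_top (⟨g, hg⟩ : ↥H))
  rw [MonoidHom.mem_ker] at this
  exact this

/-- the size of a conjugacy class -/
theorem ncard_isConj [Finite J] (t : J) :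
    {a : J | IsConj t a}.ncard * Nat.card (Subgroup.centralizer ({t} : Set J)) = Nat.card J := by
  have h1 : (Subgroup.centralizer ({t} : Set J)).index =
      (MulAction.stabilizer (ConjAct J) t).index := by
    rw [Subgroup.centralizer_eq_comap_stabilizer]
    exact Subgroup.index_comap_of_surjective _ (ConjAct.toConjAct (G := J)).surjective
  have h2 : {a : J | IsConj t a} = MulAction.orbit (ConjAct J) t := by
    ext a
    rw [Set.mem_ofPred_eq, ConjAct.mem_orbit_conjAct, isConj_comm]
  rw [h2, ← MulAction.index_stabilizer, ← h1]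
  exact Subgroup.index_mul_card _

end Cfsg.Agent.Lib.Helper10.OutG
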