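import Cfsg.Agent.Lib.Helper10.F22OBasic
import Cfsg.Agent.Lib.Helper28.TCFi22AW0Main

set_option autoImplicit false
set_option maxRecDepth 100000

/-!
The centraliser of the first generator of the Fischer group Fi22 has index at most 3510: it
contains the subgroup of index 3510 generated by eight of the generators and one more element.
-/

namespace Cfsg.Agent.Lib.Helper10.F22O
open Cfsg.Agent.Lib.Helper28.TC2Upper Cfsg.Agent.Lib.Helper28.TC2Lower Cfsg.Agent.Lib.Helper28.TC2Range
open Cfsg.Agent.Lib.Helper28.TC2Bsgs Cfsg.Agent.Lib.Helper28.TC2Simple Cfsg.Agent.Lib.Helper28.TC2Glue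
open Cfsg.Agent.Lib.Helper28

noncomputable section

theorem comm_sub : (TCFi22AW0Link.subWords.all fun L =>
    sigEq ([0] ++ pathOf TCFi22W0Link.lw L) (pathOf TCFi22W0Link.lw L ++ [0])) = true := by
  decide +kernel

/-- the order of the centraliser of the first generator -/
theorem card_centralizer_ge :
    18393661440 ≤ Nat.card ↥(Subgroup.centralizer ({gw [0]} : Set ↥G)) := by
  obtain ⟨e, he⟩ := exists_iso
  set KH : Subgroup (PresentedGroup TCFi22W0Link.rels) :=
    (Subgroup.closure TCFi22AW0Link.S).map (PresentedGroup.mk TCFi22W0Link.rels) with hKH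
  have hidx : KH.index = 3510 := TCFi22AW0Main.main.1
  have hFi : Nat.card (PresentedGroup TCFi22W0Link.rels) = 64561751654400 :=
    Cfsg.Agent.S1696.result.2
  have hcardK : Nat.card ↥KH = 18393661440 := by
    have := KH.index_mul_card
    rw [hidx, hFi] at this
    omega
  set K' : Subgroup ↥G := KH.map e.toMonoidHom with hK'
  have hcardK' : Nat.card ↥K' = 18393661440 := by
    rw [hK', Subgroup.card_map_of_injective e.injective]
    exact hcardK
  have hle : K' ≤ Subgroup.centralizer ({gw [0]} : Set ↥G) := by
    rw [hK', hKH, Subgroup.map_map, MonoidHom.map_closure, Subgroup.closure_le]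
    rintro _ ⟨s, hs, rfl⟩
    obtain ⟨L, hL, rfl⟩ := (TCFi22AW0Link.hS s).mp hs
    rw [SetLike.mem_coe, Subgroup.mem_centralizer_iff]
    intro h hh
    rw [Set.mem_singleton_iff] at hh
    subst hh
    have key : (e.toMonoidHom.comp (PresentedGroup.mk TCFi22W0Link.rels)) (FreeGroup.mk L) =
        gw (pathOf TCFi22W0Link.lw L) := he L
    rw [key]
    have h0 := comm_sub
    rw [List.all_eq_true] at h0
    have h1 := (sigEq_iff _ _).mp (h0 L hL)
    rw [gw_append, gw_append] at h1
    exact h1.symm
  rw [← hcardK']
  exact Subgroup.card_le_of_le hle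

end

end Cfsg.Agent.Lib.Helper10.F22O
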