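import Cfsg.Agent.Lib.Helper10.F22OTable
import Cfsg.Agent.Lib.Helper28.TCFi22W0Table
import Cfsg.Agent.Lib.Helper28.TCFi22BTable
set_option autoImplicit false
set_option maxRecDepth 100000
set_option maxHeartbeats 0

/-!
Checks of the tables of the Fischer group Fi22 on 14080 points: the letters are permutations, the first
nine agree with the letters of the coset tables of the presentation, the other letters are given by
their defining words.
-/

namespace Cfsg.Agent.Lib.Helper10.F22O
open Cfsg.Agent.Lib.Helper28.TC2Upper Cfsg.Agent.Lib.Helper28.TC2Lower Cfsg.Agent.Lib.Helper28.TC2Range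
open Cfsg.Agent.Lib.Helper28.TC2Bsgs

theorem hinvX : XT.invOK = true := by decide +kernel

theorem prmX : Table.permRange XT 0 14080 = true := by decide +kernel

theorem agreeB : agreeRange Cfsg.Agent.Lib.Helper28.TCFi22W0Table.table XT 9 0 14080 = true := by
  decide +kernel

theorem agreeBS : agreeRange Cfsg.Agent.Lib.Helper28.TCFi22BTable.btable XT 9 0 14080 = true := by
  decide +kernel

theorem hdefsLt : defsLt 9 50 defsX = true := by decide +kernel

/-- all the derived letters act as their defining words -/
noncomputable def defAll (lo cnt : ℕ) : Bool :=
  allLoop (fun i => defRange XT defsX (Nat.add 9 i) lo cnt) 41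


end Cfsg.Agent.Lib.Helper10.F22O
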