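import Cfsg.Agent.Lib.Helper10.F22OClsDef
import Cfsg.Agent.Lib.Helper10.F22OClsChk1

set_option autoImplicit false
set_option maxRecDepth 100000
set_option maxHeartbeats 0

/-! Generated checks for conjugates of three involutions of the Fischer group Fi22 on 14080 points. -/

namespace Cfsg.Agent.Lib.Helper10.F22O
open Cfsg.Agent.Lib.Helper28.TC2Upper Cfsg.Agent.Lib.Helper28.TC2Lower
open Cfsg.Agent.Lib.Helper10.SuzO

noncomputable section

theorem chkB : rangeOK clsBF 0 3511 = true := by
  decide +kernel

theorem chkC : rangeOK clsCF 0 3511 = true := by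
  decide +kernel

theorem chkDIncr : rangeOK (incrF CD) 0 3509 = true := by
  decide +kernel

theorem chkBIncr : rangeOK (incrF CB) 0 3510 = true := by
  decide +kernel

theorem chkCIncr : rangeOK (incrF CC) 0 3510 = true := by
  decide +kernel

end

end Cfsg.Agent.Lib.Helper10.F22O
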