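import Cfsg.Agent.Lib.Helper10.F22OClsChk0
import Cfsg.Agent.Lib.Helper10.F22OClsChk1
import Cfsg.Agent.Lib.Helper10.F22OClsChk2

set_option autoImplicit false
set_option maxRecDepth 100000

/-!
The checks for the conjugates of three involutions of the Fischer group Fi22 on 14080 points, put
together.
-/

namespace Cfsg.Agent.Lib.Helper10.F22O
open Cfsg.Agent.Lib.Helper28.TC2Upper Cfsg.Agent.Lib.Helper28.TC2Lower
open Cfsg.Agent.Lib.Helper10.SuzO

noncomputable section

theorem clsDF_all (i : ℕ) (hi : i < 3510) : clsDF i = true := by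
  refine all_of_chunks clsDF 585 6 (by norm_num) ?_ i (by norm_num; exact hi)
  intro c hc
  interval_cases c
  exacts [chkD_0, chkD_1, chkD_2, chkD_3, chkD_4, chkD_5]

theorem clsDF_parts {i : ℕ} (hi : i < 3510) :
    codeA (wD i) = CD.get i ∧
      (relFailAY (cj (wD i) [0]) [37] [41] = true ∨ CD.get i ∈ EXC1) ∧
      (relFailAY (cj (wD i) [0]) [39] [43] = true ∨ CD.get i ∈ EXC2) := by
  have h := clsDF_all i hi
  unfold clsDF at h
  rw [Bool.and_eq_true, Bool.and_eq_true, Bool.or_eq_true, Bool.or_eq_true, memB_iff, memB_iff] at h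
  exact ⟨Nat.eq_of_beq_eq_true h.1, h.2.1, h.2.2⟩

theorem codeB_wB {i : ℕ} (hi : i < 3511) : codeB (wB i) = CB.get i :=
  Nat.eq_of_beq_eq_true ((rangeOK_iff clsBF 0 3511).mp chkB i (by omega) (by omega))

theorem codeC_wC {i : ℕ} (hi : i < 3511) : codeC (wC i) = CC.get i :=
  Nat.eq_of_beq_eq_true ((rangeOK_iff clsCF 0 3511).mp chkC i (by omega) (by omega))

theorem CD_step (i : ℕ) (hi : i < 3509) : CD.get i < CD.get (i + 1) := by
  have h := (rangeOK_iff (incrF CD) 0 3509).mp chkDIncr i (by omega) (by omega)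
  unfold incrF at h
  simpa [Nat.blt] using h

theorem CB_step (i : ℕ) (hi : i < 3510) : CB.get i < CB.get (i + 1) := by
  have h := (rangeOK_iff (incrF CB) 0 3510).mp chkBIncr i (by omega) (by omega)
  unfold incrF at h
  simpa [Nat.blt] using h

theorem CC_step (i : ℕ) (hi : i < 3510) : CC.get i < CC.get (i + 1) := by
  have h := (rangeOK_iff (incrF CC) 0 3510).mp chkCIncr i (by omega) (by omega)
  unfold incrF at h
  simpa [Nat.blt] using h

end

end Cfsg.Agent.Lib.Helper10.F22O
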