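import Cfsg.Agent.Lib.Helper10.F22OSylDef
import Cfsg.Agent.Lib.Helper10.F22OClsData

set_option autoImplicit false
set_option maxRecDepth 100000

/-!
The conjugates of the first generator of the Fischer group Fi22 on 14080 points, and 3511 conjugates
of each of two other involutions, given by conjugating words, with their codes; the relations of
the generating pair.
-/

namespace Cfsg.Agent.Lib.Helper10.F22O
open Cfsg.Agent.Lib.Helper28.TC2Upper Cfsg.Agent.Lib.Helper28.TC2Lower
open Cfsg.Agent.Lib.Helper10.SuzO

noncomputable section

/-- the conjugating word with a given index, for the class of the first generator -/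
def wD (i : ℕ) : List ℕ := unpackW 64 8 (WD.get i)

/-- the conjugating word with a given index, for the second class -/
def wB (i : ℕ) : List ℕ := unpackW 64 4 (WB.get i)

/-- the conjugating word with a given index, for the third class -/
def wC (i : ℕ) : List ℕ := unpackW 64 4 (WC.get i)

/-- the code of the conjugate of the first generator by the element of a word -/
def codeA (w : List ℕ) : ℕ := codeW (cj w [0])

/-- the code of the conjugate of the second involution by the element of a word -/
def codeB (w : List ℕ) : ℕ := codeW (cj w [0, 2])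

/-- the code of the conjugate of the third involution by the element of a word -/
def codeC (w : List ℕ) : ℕ := codeW (cj w [0, 2, 4])

/-- one of the two relations fails, for given letters of the powers of the element of order 13 -/
def relFailAY (A Y2 Y5 : List ℕ) : Bool :=
  !(sigEq (rpt 9 (A ++ Y2)) []) || !(sigEq (rpt 9 (A ++ Y5)) [])

/-- the relations of the generating pair -/
def Rel (t y : ↥G) : Prop := (y ^ 2 * t) ^ 9 = 1 ∧ (y ^ 5 * t) ^ 9 = 1

theorem rel_of_not_fail {A Y2 Y5 : List ℕ} {y : ↥G} (h2 : gw Y2 = y ^ 2) (h5 : gw Y5 = y ^ 5)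
    (h : relFailAY A Y2 Y5 = false) : Rel (gw A) y := by
  unfold relFailAY at h
  simp only [Bool.or_eq_false_iff, Bool.not_eq_false'] at h
  obtain ⟨r2, r5⟩ := h
  rw [sigEq_iff, gw_rpt, gw_append, gw_nil] at r2 r5
  rw [h2] at r2
  rw [h5] at r5
  exact ⟨r2, r5⟩

theorem not_rel_of_fail {A Y2 Y5 : List ℕ} {y : ↥G} (h2 : gw Y2 = y ^ 2) (h5 : gw Y5 = y ^ 5)
    (h : relFailAY A Y2 Y5 = true) : ¬ Rel (gw A) y := by
  rintro ⟨r2, r5⟩
  unfold relFailAY at h
  have e2 : sigEq (rpt 9 (A ++ Y2)) [] = true := by
    rw [sigEq_iff, gw_rpt, gw_append, gw_nil, h2]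
    exact r2
  have e5 : sigEq (rpt 9 (A ++ Y5)) [] = true := by
    rw [sigEq_iff, gw_rpt, gw_append, gw_nil, h5]
    exact r5
  rw [e2, e5] at h
  simp at h

/-- the relations are preserved by homomorphisms -/
theorem Rel.map {t y : ↥G} (h : Rel t y) (f : ↥G →* ↥G) : Rel (f t) (f y) := by
  obtain ⟨r2, r5⟩ := h
  refine ⟨?_, ?_⟩
  · rw [← map_pow f y 2, ← map_mul, ← map_pow, r2, map_one]
  · rw [← map_pow f y 5, ← map_mul, ← map_pow, r5, map_one]

/-- the checks for an index of the class of the first generator: the code of the conjugate, and for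
the element of order 13 and for its square one of the relations fails unless the code is in the
list of the exceptions -/
def clsDF (i : ℕ) : Bool :=
  Nat.beq (codeA (wD i)) (CD.get i) &&
    ((relFailAY (cj (wD i) [0]) [37] [41] || memB (CD.get i) EXC1) &&
      (relFailAY (cj (wD i) [0]) [39] [43] || memB (CD.get i) EXC2))

/-- the check for an index of the second class -/
def clsBF (i : ℕ) : Bool := Nat.beq (codeB (wB i)) (CB.get i)

/-- the check for an index of the third class -/
def clsCF (i : ℕ) : Bool := Nat.beq (codeC (wC i)) (CC.get i)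

/-- the codes increase -/
def incrF (A : PArr) (i : ℕ) : Bool := Nat.blt (A.get i) (A.get (Nat.succ i))

end

end Cfsg.Agent.Lib.Helper10.F22O
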