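import Cfsg.Agent.Lib.Helper10.F22OClsDef

set_option autoImplicit false
set_option maxRecDepth 100000
set_option maxHeartbeats 0

/-!
Further checks for the Fischer group Fi22 on 14080 points: the element of order 13, the element
normalising it, the exceptional conjugates, the generators as words in the generating pair, the
symmetry of the presentation, the action of the generators on the points.
-/

namespace Cfsg.Agent.Lib.Helper10.F22O
open Cfsg.Agent.Lib.Helper28.TC2Upper Cfsg.Agent.Lib.Helper28.TC2Lower Cfsg.Agent.Lib.Helper28.TC2Glue
open Cfsg.Agent.Lib.Helper28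
open Cfsg.Agent.Lib.Helper10.SuzO

noncomputable section

theorem chk_y13 : sigEq (rpt 13 [33]) [] = true := by decide +kernel

theorem chk_y1 : sigEq [33] [] = false := by decide +kernel

theorem chk_yinv : sigEq [33, 34] [] = true := by decide +kernel

theorem chk_t2 : sigEq [0, 0] [] = true := by decide +kernel

theorem chk_t1 : sigEq [0] [] = false := by decide +kernel

theorem chk_n : sigEq (cj [35] [33]) (rpt 4 [33]) = true := by decide +kernel

theorem chk_y2 : sigEq [37] (rpt 2 [33]) = true := by decide +kernel

theorem chk_y4 : sigEq [39] (rpt 4 [33]) = true := by decide +kernel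

theorem chk_y5 : sigEq [41] (rpt 5 [33]) = true := by decide +kernel

theorem chk_y10 : sigEq [43] (rpt 10 [33]) = true := by decide +kernel

theorem chk_rel : relFailAY (cj [] [0]) [37] [41] = false := by decide +kernel

theorem chk_exc1 : eqL ((List.range 13).map fun i => codeA (rpt i [33])) EXC1 = true := by
  decide +kernel

theorem chk_exc2 : eqL ((List.range 13).map fun i => codeA (W2 ++ rpt i [33])) EXC2 = true := by
  decide +kernel

theorem chk_gw : (GWs.all fun p => sigEq [p.1] (cj p.2 [0]) &&
    p.2.all fun l => memB l [0, 33, 34]) = true := by
  decide +kernel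

theorem chk_gw_letters : GWs.map Prod.fst = [1, 2, 3, 4, 5, 6, 7, 8] := by decide +kernel

/-- the symmetry of the diagram of the presentation, on the letters of the generators -/
def swp (l : ℕ) : ℕ := [6, 5, 4, 3, 2, 1, 0, 7, 8].getD l 0

theorem chk_swap : (TCFi22W0Link.relWords.all fun L =>
    sigEq ((pathOf TCFi22W0Link.lw L).map swp) []) = true := by
  decide +kernel

theorem chk_sq : allLoop (fun l => sigEq [l, l] []) 9 = true := by decide +kernel

/-- the second to the ninth generator fix the first point -/
def fix0OK : Bool := allLoop (fun l => Nat.beq (XT.tau (Nat.succ l) 0) 0) 8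

/-- no point is fixed by all the generators other than the seventh -/
def nofixOK : Bool :=
  allLoop (fun p => !([0, 1, 2, 3, 4, 5, 7, 8].all fun l => Nat.beq (XT.tau l p) p)) 14080

theorem chk_fix0 : fix0OK = true := by decide +kernel

theorem chk_nofix : nofixOK = true := by decide +kernel

end

end Cfsg.Agent.Lib.Helper10.F22O
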