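import Cfsg.Agent.Lib.Helper10.F22OSylDef

set_option autoImplicit false
set_option maxRecDepth 100000
set_option maxHeartbeats 0

/-! Generated checks for a Sylow 2-subgroup of the Fischer group Fi22 on 14080 points. -/

namespace Cfsg.Agent.Lib.Helper10.F22O
open Cfsg.Agent.Lib.Helper28.TC2Upper Cfsg.Agent.Lib.Helper28.TC2Lower
open Cfsg.Agent.Lib.Helper10.SuzO

noncomputable section

theorem chkS_0 : rangeOK sylF (0 * 512) 512 = true := by
  decide +kernel

theorem chkS_1 : rangeOK sylF (1 * 512) 512 = true := by
  decide +kernel

theorem chkS_2 : rangeOK sylF (2 * 512) 512 = true := by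
  decide +kernel

theorem chkS_3 : rangeOK sylF (3 * 512) 512 = true := by
  decide +kernel

theorem chkS_4 : rangeOK sylF (4 * 512) 512 = true := by
  decide +kernel

theorem chkS_5 : rangeOK sylF (5 * 512) 512 = true := by
  decide +kernel

theorem chkS_6 : rangeOK sylF (6 * 512) 512 = true := by
  decide +kernel

theorem chkS_7 : rangeOK sylF (7 * 512) 512 = true := by
  decide +kernel

theorem chkSIncr : rangeOK sylIncrF 0 131071 = true := by
  decide +kernel

theorem chkSOne : (Nat.blt SOne 131072 && Nat.beq (SW.get SOne) 0) = true := by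
  decide +kernel

end

end Cfsg.Agent.Lib.Helper10.F22O
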