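import Cfsg.Agent.Lib.Helper10.F22OSylDef

set_option autoImplicit false
set_option maxRecDepth 100000
set_option maxHeartbeats 0

/-! Generated checks for a Sylow 2-subgroup of the Fischer group Fi22 on 14080 points. -/

namespace Cfsg.Agent.Lib.Helper10.F22O
open Cfsg.Agent.Lib.Helper28.TC2Upper Cfsg.Agent.Lib.Helper28.TC2Lower
open Cfsg.Agent.Lib.Helper10.SuzO

noncomputable section

theorem chkS_128 : rangeOK sylF (128 * 512) 512 = true := by
  decide +kernel

theorem chkS_129 : rangeOK sylF (129 * 512) 512 = true := by
  decide +kernel

theorem chkS_130 : rangeOK sylF (130 * 512) 512 = true := by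
  decide +kernel

theorem chkS_131 : rangeOK sylF (131 * 512) 512 = true := by
  decide +kernel

theorem chkS_132 : rangeOK sylF (132 * 512) 512 = true := by
  decide +kernel

theorem chkS_133 : rangeOK sylF (133 * 512) 512 = true := by
  decide +kernel

theorem chkS_134 : rangeOK sylF (134 * 512) 512 = true := by
  decide +kernel

theorem chkS_135 : rangeOK sylF (135 * 512) 512 = true := by
  decide +kernel

end

end Cfsg.Agent.Lib.Helper10.F22O
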