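import Cfsg.Agent.Lib.Helper10.F22OSylChk0
import Cfsg.Agent.Lib.Helper10.F22OSylChk1
import Cfsg.Agent.Lib.Helper10.F22OSylChk2
import Cfsg.Agent.Lib.Helper10.F22OSylChk3
import Cfsg.Agent.Lib.Helper10.F22OSylChk4
import Cfsg.Agent.Lib.Helper10.F22OSylChk5
import Cfsg.Agent.Lib.Helper10.F22OSylChk6
import Cfsg.Agent.Lib.Helper10.F22OSylChk7
import Cfsg.Agent.Lib.Helper10.F22OSylChk8
import Cfsg.Agent.Lib.Helper10.F22OSylChk9
import Cfsg.Agent.Lib.Helper10.F22OSylChk10
import Cfsg.Agent.Lib.Helper10.F22OSylChk11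
import Cfsg.Agent.Lib.Helper10.F22OSylChk12
import Cfsg.Agent.Lib.Helper10.F22OSylChk13
import Cfsg.Agent.Lib.Helper10.F22OSylChk14
import Cfsg.Agent.Lib.Helper10.F22OSylChk15
import Cfsg.Agent.Lib.Helper10.F22OSylChk16
import Cfsg.Agent.Lib.Helper10.F22OSylChk17
import Cfsg.Agent.Lib.Helper10.F22OSylChk18
import Cfsg.Agent.Lib.Helper10.F22OSylChk19
import Cfsg.Agent.Lib.Helper10.F22OSylChk20
import Cfsg.Agent.Lib.Helper10.F22OSylChk21
import Cfsg.Agent.Lib.Helper10.F22OSylChk22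
import Cfsg.Agent.Lib.Helper10.F22OSylChk23
import Cfsg.Agent.Lib.Helper10.F22OSylChk24
import Cfsg.Agent.Lib.Helper10.F22OSylChk25
import Cfsg.Agent.Lib.Helper10.F22OSylChk26
import Cfsg.Agent.Lib.Helper10.F22OSylChk27
import Cfsg.Agent.Lib.Helper10.F22OSylChk28
import Cfsg.Agent.Lib.Helper10.F22OSylChk29
import Cfsg.Agent.Lib.Helper10.F22OSylChk30
import Cfsg.Agent.Lib.Helper10.F22OSylChk31

set_option autoImplicit false
set_option maxRecDepth 100000

/-!
A Sylow 2-subgroup of the Fischer group Fi22 on 14080 points: its involutions are conjugate to one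
of three involutions.
-/

namespace Cfsg.Agent.Lib.Helper10.F22O
open Cfsg.Agent.Lib.Helper28.TC2Upper Cfsg.Agent.Lib.Helper28.TC2Lower
open Cfsg.Agent.Lib.Helper10.SuzO

noncomputable section

theorem sylF_all (i : ℕ) (hi : i < 131072) : sylF i = true := by
  refine all_of_chunks sylF 512 256 (by norm_num) ?_ i (by norm_num; exact hi)
  intro c hc
  interval_cases c
  exacts [chkS_0, chkS_1, chkS_2, chkS_3, chkS_4, chkS_5, chkS_6, chkS_7, chkS_8, chkS_9, chkS_10,
    chkS_11, chkS_12, chkS_13, chkS_14, chkS_15, chkS_16, chkS_17, chkS_18, chkS_19, chkS_20,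
    chkS_21, chkS_22, chkS_23, chkS_24, chkS_25, chkS_26, chkS_27, chkS_28, chkS_29, chkS_30,
    chkS_31, chkS_32, chkS_33, chkS_34, chkS_35, chkS_36, chkS_37, chkS_38, chkS_39, chkS_40,
    chkS_41, chkS_42, chkS_43, chkS_44, chkS_45, chkS_46, chkS_47, chkS_48, chkS_49, chkS_50,
    chkS_51, chkS_52, chkS_53, chkS_54, chkS_55, chkS_56, chkS_57, chkS_58, chkS_59, chkS_60,
    chkS_61, chkS_62, chkS_63, chkS_64, chkS_65, chkS_66, chkS_67, chkS_68, chkS_69, chkS_70,
    chkS_71, chkS_72, chkS_73, chkS_74, chkS_75, chkS_76, chkS_77, chkS_78, chkS_79, chkS_80,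
    chkS_81, chkS_82, chkS_83, chkS_84, chkS_85, chkS_86, chkS_87, chkS_88, chkS_89, chkS_90,
    chkS_91, chkS_92, chkS_93, chkS_94, chkS_95, chkS_96, chkS_97, chkS_98, chkS_99, chkS_100,
    chkS_101, chkS_102, chkS_103, chkS_104, chkS_105, chkS_106, chkS_107, chkS_108, chkS_109,
    chkS_110, chkS_111, chkS_112, chkS_113, chkS_114, chkS_115, chkS_116, chkS_117, chkS_118,
    chkS_119, chkS_120, chkS_121, chkS_122, chkS_123, chkS_124, chkS_125, chkS_126, chkS_127,
    chkS_128, chkS_129, chkS_130, chkS_131, chkS_132, chkS_133, chkS_134, chkS_135, chkS_136,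
    chkS_137, chkS_138, chkS_139, chkS_140, chkS_141, chkS_142, chkS_143, chkS_144, chkS_145,
    chkS_146, chkS_147, chkS_148, chkS_149, chkS_150, chkS_151, chkS_152, chkS_153, chkS_154,
    chkS_155, chkS_156, chkS_157, chkS_158, chkS_159, chkS_160, chkS_161, chkS_162, chkS_163,
    chkS_164, chkS_165, chkS_166, chkS_167, chkS_168, chkS_169, chkS_170, chkS_171, chkS_172,
    chkS_173, chkS_174, chkS_175, chkS_176, chkS_177, chkS_178, chkS_179, chkS_180, chkS_181,
    chkS_182, chkS_183, chkS_184, chkS_185, chkS_186, chkS_187, chkS_188, chkS_189, chkS_190,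
    chkS_191, chkS_192, chkS_193, chkS_194, chkS_195, chkS_196, chkS_197, chkS_198, chkS_199,
    chkS_200, chkS_201, chkS_202, chkS_203, chkS_204, chkS_205, chkS_206, chkS_207, chkS_208,
    chkS_209, chkS_210, chkS_211, chkS_212, chkS_213, chkS_214, chkS_215, chkS_216, chkS_217,
    chkS_218, chkS_219, chkS_220, chkS_221, chkS_222, chkS_223, chkS_224, chkS_225, chkS_226,
    chkS_227, chkS_228, chkS_229, chkS_230, chkS_231, chkS_232, chkS_233, chkS_234, chkS_235,
    chkS_236, chkS_237, chkS_238, chkS_239, chkS_240, chkS_241, chkS_242, chkS_243, chkS_244,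
    chkS_245, chkS_246, chkS_247, chkS_248, chkS_249, chkS_250, chkS_251, chkS_252, chkS_253,
    chkS_254, chkS_255]

theorem sylF_parts {i : ℕ} (hi : i < 131072) :
    sylCodeF i = true ∧ sylLetF i = true ∧ sylTabF i = true ∧ sylInvF i = true := by
  have h := sylF_all i hi
  unfold sylF at h
  simp only [Bool.and_eq_true] at h
  exact ⟨h.1, h.2.1, h.2.2.1, h.2.2.2⟩

/-! ### the set of the elements of the words -/

theorem code_wdS {i : ℕ} (hi : i < 131072) : codeW (wdS i) = SC.get i :=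
  Nat.eq_of_beq_eq_true (sylF_parts hi).1

theorem SC_step (i : ℕ) (hi : i < 131071) : SC.get i < SC.get (i + 1) := by
  have h := (rangeOK_iff sylIncrF 0 131071).mp chkSIncr i (by omega) (by omega)
  unfold sylIncrF at h
  simpa [Nat.blt] using h

theorem wdS_inj {i j : ℕ} (hi : i < 131072) (hj : j < 131072) (h : gw (wdS i) = gw (wdS j)) : i = j := by
  have hc : SC.get i = SC.get j := by
    rw [← code_wdS hi, ← code_wdS hj, codeW_eq, codeW_eq, h]
  exact inj_of_step SC.get 131071 SC_step i j (by omega) (by omega) hc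

/-- the elements of the words -/
def X : Set ↥G := {g | ∃ i, i < 131072 ∧ g = gw (wdS i)}

theorem SOne_lt : SOne < 131072 := by
  have h := chkSOne
  rw [Bool.and_eq_true] at h
  simpa [Nat.blt] using h.1

theorem wdS_one : wdS SOne = [] := by
  have h := chkSOne
  rw [Bool.and_eq_true] at h
  have h2 : SW.get SOne = 0 := Nat.eq_of_beq_eq_true h.2
  unfold wdS
  rw [h2]
  rfl

theorem one_mem_X : (1 : ↥G) ∈ X := ⟨SOne, SOne_lt, by rw [wdS_one]; rfl⟩

theorem mem_SLs {l : ℕ} (hl : l ∈ SLs) : ∃ k, k < 4 ∧ slS k = l := by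
  simp only [SLs, List.mem_cons, List.not_mem_nil, or_false] at hl
  rcases hl with rfl | rfl | rfl | rfl
  exacts [⟨0, by norm_num, rfl⟩, ⟨1, by norm_num, rfl⟩, ⟨2, by norm_num, rfl⟩, ⟨3, by norm_num, rfl⟩]

theorem mul_mem_X {l : ℕ} (hl : l ∈ SLs) {g : ↥G} (hg : g ∈ X) : gw [l] * g ∈ X := by
  obtain ⟨i, hi, rfl⟩ := hg
  obtain ⟨k, hk, rfl⟩ := mem_SLs hl
  have h := (sylF_parts hi).2.2.1
  unfold sylTabF at h
  rw [allLoop_eq_true] at h
  have h2 := h k hk
  rw [Bool.and_eq_true] at h2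
  have hm : mtS i k < 131072 := by simpa [Nat.blt] using h2.1
  refine ⟨mtS i k, hm, ?_⟩
  rw [← gw_append]
  apply gw_eq_of_code
  rw [Nat.eq_of_beq_eq_true h2.2, code_wdS hm]

theorem pow_mul_mem_X {l : ℕ} (hl : l ∈ SLs) {g : ↥G} (hg : g ∈ X) (m : ℕ) : gw [l] ^ m * g ∈ X := by
  induction m with
  | zero => rw [pow_zero, one_mul]; exact hg
  | succ m ih =>
    rw [pow_succ', mul_assoc]
    exact mul_mem_X hl ih

theorem inv_mul_mem_X {l : ℕ} (hl : l ∈ SLs) {g : ↥G} (hg : g ∈ X) : (gw [l])⁻¹ * g ∈ X := by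
  have ho : 0 < orderOf (gw [l]) := orderOf_pos _
  have e : (gw [l])⁻¹ = gw [l] ^ (orderOf (gw [l]) - 1) := by
    rw [inv_eq_iff_mul_eq_one, ← pow_succ']
    have : orderOf (gw [l]) - 1 + 1 = orderOf (gw [l]) := by omega
    rw [this, pow_orderOf_eq_one]
  rw [e]
  exact pow_mul_mem_X hl hg _

/-- the Sylow 2-subgroup -/
def P : Subgroup ↥G := Subgroup.closure {g | ∃ l ∈ SLs, g = gw [l]}

theorem P_le_X {g : ↥G} (hg : g ∈ P) : g ∈ X := by
  unfold P at hg
  induction hg using Subgroup.closure_induction_left with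
  | one => exact one_mem_X
  | mul_left x hx y _ ih =>
    obtain ⟨l, hl, rfl⟩ := hx
    exact mul_mem_X hl ih
  | inv_mul_cancel x hx y _ ih =>
    obtain ⟨l, hl, rfl⟩ := hx
    exact inv_mul_mem_X hl ih

theorem gw_mem_P (w : List ℕ) (hw : ∀ l ∈ w, l ∈ SLs) : gw w ∈ P := by
  induction w with
  | nil => exact P.one_mem
  | cons l w ih =>
    have e : l :: w = [l] ++ w := rfl
    rw [e, gw_append]
    exact P.mul_mem (ih fun x hx => hw x (List.mem_cons_of_mem _ hx))
      (Subgroup.subset_closure ⟨l, hw l List.mem_cons_self, rfl⟩)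

theorem X_le_P {g : ↥G} (hg : g ∈ X) : g ∈ P := by
  obtain ⟨i, hi, rfl⟩ := hg
  apply gw_mem_P
  have h1 := (sylF_parts hi).2.1
  unfold sylLetF at h1
  rw [List.all_eq_true] at h1
  intro l hl
  exact (memB_iff l SLs).mp (h1 l hl)

theorem card_P : Nat.card ↥P = 131072 := by
  let f : Fin 131072 → ↥P := fun i => ⟨gw (wdS i.val), X_le_P ⟨i.val, i.isLt, rfl⟩⟩
  have hf : Function.Bijective f := by
    constructor
    · intro i j h
      exact Fin.ext (wdS_inj i.isLt j.isLt (congrArg Subtype.val h))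
    · rintro ⟨g, hg⟩
      obtain ⟨i, hi, rfl⟩ := P_le_X hg
      exact ⟨⟨i, hi⟩, rfl⟩
  rw [← Nat.card_congr (Equiv.ofBijective f hf), Nat.card_fin]

/-! ### conjugation into the Sylow subgroup -/

/-- an element generating a 2-group is conjugate to an element of the Sylow subgroup -/
theorem exists_conj_mem_P (x : ↥G) (hx : IsPGroup 2 (Subgroup.zpowers x)) :
    ∃ g : ↥G, g * x * g⁻¹ ∈ P := by
  haveI : Fact (Nat.Prime 2) := ⟨Nat.prime_two⟩
  have hP : IsPGroup 2 ↥P := IsPGroup.of_card (n := 17) (by rw [card_P]; norm_num)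
  obtain ⟨Q0, hQ0⟩ := hP.exists_le_sylow
  obtain ⟨Q1, hQ1⟩ := hx.exists_le_sylow
  have hQ0P : (Q0 : Subgroup ↥G) = P := by
    obtain ⟨n, hn⟩ := IsPGroup.iff_card.mp Q0.isPGroup'
    have hdvd : 2 ^ n ∣ Nat.card ↥G := by
      rw [← hn]
      exact Subgroup.card_subgroup_dvd_card _
    have hn17 : n ≤ 17 := by
      by_contra hlt
      push Not at hlt
      have h18 : 2 ^ 18 ∣ Nat.card ↥G := (pow_dvd_pow 2 hlt).trans hdvd
      rw [card_G] at h18
      norm_num at h18
    have hle : Nat.card (Q0 : Subgroup ↥G) ≤ Nat.card ↥P := by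
      rw [hn, card_P]
      calc 2 ^ n ≤ 2 ^ 17 := Nat.pow_le_pow_right (by norm_num) hn17
        _ = 131072 := by norm_num
    exact (Subgroup.eq_of_le_of_card_ge hQ0 hle).symm
  obtain ⟨g, hg⟩ := MulAction.exists_smul_eq ↥G Q1 Q0
  refine ⟨g, ?_⟩
  rw [← hQ0P, ← hg, Sylow.coe_subgroup_smul]
  exact ⟨x, hQ1 (Subgroup.mem_zpowers x), rfl⟩

theorem isPGroup_zpowers_of_orderOf {x : ↥G} {k : ℕ} (h : orderOf x = 2 ^ k) :
    IsPGroup 2 (Subgroup.zpowers x) :=
  IsPGroup.of_card (n := k) (by rw [Nat.card_zpowers, h])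

theorem repW_cases (c : ℕ) : repW c = [0] ∨ repW c = [0, 2] ∨ repW c = [0, 2, 4] := by
  unfold repW
  cases Nat.beq c 1
  · cases Nat.beq c 2
    · exact Or.inr (Or.inr rfl)
    · exact Or.inr (Or.inl rfl)
  · exact Or.inl rfl

/-- an involution is conjugate to the first generator, or to the product of the first and the third,
or to the product of the first, the third and the fifth -/
theorem invol_conj (x : ↥G) (hx : orderOf x = 2) :
    IsConj (gw [0]) x ∨ IsConj (gw [0, 2]) x ∨ IsConj (gw [0, 2, 4]) x := by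
  obtain ⟨g, hg⟩ := exists_conj_mem_P x (isPGroup_zpowers_of_orderOf (k := 1) (by rw [hx, pow_one]))
  obtain ⟨i, hi, hgi⟩ := P_le_X hg
  have ho : orderOf (gw (wdS i)) = 2 := by
    rw [← hgi, ← MulAut.conj_apply, MulEquiv.orderOf_eq]
    exact hx
  have h1 := (sylF_parts hi).2.2.2
  unfold sylInvF at h1
  have key : ∀ (c : List ℕ) (t : List ℕ), gw (cj c t) = gw (wdS i) → IsConj (gw t) x := by
    intro c t hc
    rw [gw_cj, ← hgi] at hc
    rw [isConj_iff]
    refine ⟨g⁻¹ * gw c, ?_⟩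
    calc g⁻¹ * gw c * gw t * (g⁻¹ * gw c)⁻¹ = g⁻¹ * (gw c * gw t * (gw c)⁻¹) * g := by group
      _ = g⁻¹ * (g * x * g⁻¹) * g := by rw [hc]
      _ = x := by group
  cases h0 : Nat.beq (SIdx.get i) 0
  · rw [h0, cond_false] at h1
    have h2 := key _ _ ((sigEq_iff _ _).mp h1)
    rcases repW_cases (ICl.get (Nat.pred (SIdx.get i))) with e | e | e
    · rw [e] at h2; exact Or.inl h2
    · rw [e] at h2; exact Or.inr (Or.inl h2)
    · rw [e] at h2; exact Or.inr (Or.inr h2)
  · exfalso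
    rw [h0, cond_true, Bool.or_eq_true, Bool.not_eq_true', sigEq_eq_false_iff, sigEq_iff, gw_append,
      gw_nil] at h1
    rcases h1 with h1 | h1
    · apply h1
      rw [← pow_two, ← ho, pow_orderOf_eq_one]
    · rw [h1, orderOf_one] at ho
      omega

end

end Cfsg.Agent.Lib.Helper10.F22O
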