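import Cfsg.Agent.Lib.Helper10.F22OClsChk
import Cfsg.Agent.Lib.Helper10.F22OMainChk
import Cfsg.Agent.Lib.Helper10.F22OCent
import Cfsg.Agent.Lib.Helper10.F22OSyl

set_option autoImplicit false
set_option maxRecDepth 100000

/-!
The Fischer group Fi22 on 14080 points has two classes of outer automorphisms: every automorphism
maps a generating pair (an involution of the smallest class, an element of order 13) to a conjugate
of one of two pairs, and the symmetry of the diagram of the presentation is not inner.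
-/

namespace Cfsg.Agent.Lib.Helper10.F22O
open Cfsg.Agent.Lib.Helper28.TC2Upper Cfsg.Agent.Lib.Helper28.TC2Lower Cfsg.Agent.Lib.Helper28.TC2Bsgs
open Cfsg.Agent.Lib.Helper28.TC2Glue
open Cfsg.Agent.Lib.Helper28
open Cfsg.Agent.Lib.Helper10.OutG
open Cfsg.Agent.Lib.Helper10.SuzO

attribute [local irreducible] wk gwp codeW hcode sigEq

noncomputable section

/-- the first generator, an involution of the smallest class -/
def t : ↥G := gw [0]

/-- an involution of the second class -/
def d2 : ↥G := gw [0, 2]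

/-- an involution of the third class -/
def d3 : ↥G := gw [0, 2, 4]

/-- the element of order 13 -/
def y : ↥G := gw [33]

/-- an element normalising the subgroup of order 13 -/
def nn : ↥G := gw [35]

/-- the image of the first generator under an outer automorphism -/
def a2 : ↥G := gw (cj W2 [0])

/-! ### the generating pair -/

theorem y_pow : y ^ 13 = 1 := by
  have := (sigEq_iff _ _).mp chk_y13
  rwa [gw_rpt, gw_nil] at this

theorem y_ne : y ≠ 1 := by
  have := (sigEq_eq_false_iff [33] []).mp chk_y1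
  rwa [gw_nil] at this

theorem orderOf_y : orderOf y = 13 := by
  haveI : Fact (Nat.Prime 13) := ⟨by norm_num⟩
  exact orderOf_eq_prime y_pow y_ne

theorem t_sq : t ^ 2 = 1 := by
  have := (sigEq_iff _ _).mp chk_t2
  have e : ([0, 0] : List ℕ) = rpt 2 [0] := rfl
  rwa [e, gw_rpt, gw_nil] at this

theorem t_ne : t ≠ 1 := by
  have := (sigEq_eq_false_iff [0] []).mp chk_t1
  rwa [gw_nil] at this

theorem orderOf_t : orderOf t = 2 := by
  haveI : Fact (Nat.Prime 2) := ⟨Nat.prime_two⟩
  exact orderOf_eq_prime t_sq t_ne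

theorem gw_rpt_y (i : ℕ) : gw (rpt i [33]) = y ^ i := gw_rpt i [33]

theorem gw_yinv : gw [34] = y⁻¹ := by
  have := (sigEq_iff _ _).mp chk_yinv
  have e : ([33, 34] : List ℕ) = [33] ++ [34] := rfl
  rw [e, gw_append, gw_nil] at this
  exact eq_inv_of_mul_eq_one_left this

theorem gw_y2 : gw [37] = y ^ 2 := ((sigEq_iff _ _).mp chk_y2).trans (gw_rpt_y 2)

theorem gw_y5 : gw [41] = y ^ 5 := ((sigEq_iff _ _).mp chk_y5).trans (gw_rpt_y 5)

theorem gw_y4 : gw [39] = (y ^ 2) ^ 2 := by
  rw [← pow_mul]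
  exact ((sigEq_iff _ _).mp chk_y4).trans (gw_rpt_y 4)

theorem gw_y10 : gw [43] = (y ^ 2) ^ 5 := by
  rw [← pow_mul]
  exact ((sigEq_iff _ _).mp chk_y10).trans (gw_rpt_y 10)

theorem nn_conj : nn * y * nn⁻¹ = y ^ 4 := by
  have := (sigEq_iff _ _).mp chk_n
  rw [gw_cj] at this
  exact this.trans (gw_rpt_y 4)

theorem nn_pow_conj (i m : ℕ) : nn ^ i * y ^ m * (nn ^ i)⁻¹ = y ^ (m * 4 ^ i) := by
  induction i generalizing m with
  | zero => rw [pow_zero, one_mul, inv_one, mul_one, pow_zero, mul_one]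
  | succ i ih =>
    have e : nn ^ (i + 1) * y ^ m * (nn ^ (i + 1))⁻¹ =
        nn * (nn ^ i * y ^ m * (nn ^ i)⁻¹) * nn⁻¹ := by
      rw [pow_succ']
      group
    rw [e, ih, ← conj_pow, nn_conj, ← pow_mul, pow_succ]
    congr 1
    ring

theorem exists_conj_pow (y' : ↥G) (hy' : orderOf y' = 13) :
    ∃ g : ↥G, g * y' * g⁻¹ = y ∨ g * y' * g⁻¹ = y ^ 2 := by
  haveI : Fact (Nat.Prime 13) := ⟨by norm_num⟩
  obtain ⟨g0, hg0⟩ := exists_conj_mem_zpowers 13 (by rw [card_G]; norm_num) y y' orderOf_y hy'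
  have ho : orderOf (g0 * y' * g0⁻¹) = 13 := by
    rw [← MulAut.conj_apply, MulEquiv.orderOf_eq]
    exact hy'
  rw [← mem_powers_iff_mem_zpowers, Submonoid.mem_powers_iff] at hg0
  obtain ⟨m, hm⟩ := hg0
  have hm' : y ^ (m % 13) = g0 * y' * g0⁻¹ := by
    rw [← hm, ← orderOf_y, pow_mod_orderOf]
  have hm0 : m % 13 ≠ 0 := by
    intro h0
    rw [h0, pow_zero] at hm'
    rw [← hm', orderOf_one] at ho
    omega
  have hdec : ∀ r < 13, r ≠ 0 → ∃ i < 6, (r * 4 ^ i) % 13 = 1 ∨ (r * 4 ^ i) % 13 = 2 := by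
    decide
  obtain ⟨i, -, hi⟩ := hdec (m % 13) (Nat.mod_lt _ (by norm_num)) hm0
  refine ⟨nn ^ i * g0, ?_⟩
  have e : nn ^ i * g0 * y' * (nn ^ i * g0)⁻¹ = nn ^ i * (g0 * y' * g0⁻¹) * (nn ^ i)⁻¹ := by
    group
  rw [e, ← hm', nn_pow_conj]
  have hp : y ^ (m % 13 * 4 ^ i) = y ^ ((m % 13 * 4 ^ i) % 13) := by
    rw [← orderOf_y, pow_mod_orderOf]
  rw [hp]
  rcases hi with hi | hi
  · left
    rw [hi, pow_one]
  · right
    rw [hi]

theorem rel_ty : Rel t y := rel_of_not_fail (A := cj [] [0]) gw_y2 gw_y5 chk_rel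

/-! ### the three classes of involutions -/

/-- the involutions of the smallest class -/
def invsD : List ↥G := (List.range 3510).map fun i => gw (cj (wD i) [0])

theorem invsD_nodup : invsD.Nodup := by
  unfold invsD
  apply List.Nodup.map_on _ List.nodup_range
  intro i hi j hj h
  rw [List.mem_range] at hi hj
  have hc : CD.get i = CD.get j := by
    rw [← (clsDF_parts hi).1, ← (clsDF_parts hj).1]
    unfold codeA
    rw [codeW_eq, codeW_eq, h]
  exact inj_of_step CD.get 3509 CD_step i j (by omega) (by omega) hc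

theorem invsD_length : invsD.length = 3510 := by
  unfold invsD
  rw [List.length_map, List.length_range]

theorem card_class_t : {x : ↥G | IsConj t x}.ncard ≤ 3510 := by
  have h := ncard_isConj t
  rw [card_G] at h
  have hc : 18393661440 ≤ Nat.card ↥(Subgroup.centralizer ({t} : Set ↥G)) := card_centralizer_ge
  by_contra hlt
  push Not at hlt
  have : 3511 * 18393661440 ≤ {x : ↥G | IsConj t x}.ncard *
      Nat.card ↥(Subgroup.centralizer ({t} : Set ↥G)) := Nat.mul_le_mul hlt hc
  omega

theorem mem_invsD_of_conj (x : ↥G) (hx : IsConj t x) : x ∈ invsD := by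
  have hsub : (↑invsD.toFinset : Set ↥G) ⊆ {a | IsConj t a} := by
    intro z hz
    rw [Finset.mem_coe, List.mem_toFinset] at hz
    obtain ⟨w, -, rfl⟩ := List.mem_map.mp hz
    rw [Set.mem_ofPred_eq, gw_cj, isConj_iff]
    exact ⟨gw (wD w), rfl⟩
  have heq : (↑invsD.toFinset : Set ↥G) = {a | IsConj t a} := by
    refine Set.eq_of_subset_of_ncard_le hsub ?_ (Set.toFinite _)
    rw [Set.ncard_coe_finset, List.toFinset_card_of_nodup invsD_nodup, invsD_length]
    exact card_class_t
  have hmem : x ∈ (↑invsD.toFinset : Set ↥G) := by rw [heq]; exact hx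
  rwa [Finset.mem_coe, List.mem_toFinset] at hmem

/-- 3511 involutions of the second class -/
def invsB : List ↥G := (List.range 3511).map fun i => gw (cj (wB i) [0, 2])

theorem invsB_nodup : invsB.Nodup := by
  unfold invsB
  apply List.Nodup.map_on _ List.nodup_range
  intro i hi j hj h
  rw [List.mem_range] at hi hj
  have hc : CB.get i = CB.get j := by
    rw [← codeB_wB hi, ← codeB_wB hj]
    unfold codeB
    rw [codeW_eq, codeW_eq, h]
  exact inj_of_step CB.get 3510 CB_step i j (by omega) (by omega) hc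

theorem card_class_d2 : 3511 ≤ {x : ↥G | IsConj d2 x}.ncard := by
  have hsub : (↑invsB.toFinset : Set ↥G) ⊆ {a | IsConj d2 a} := by
    intro z hz
    rw [Finset.mem_coe, List.mem_toFinset] at hz
    obtain ⟨w, -, rfl⟩ := List.mem_map.mp hz
    rw [Set.mem_ofPred_eq, gw_cj, isConj_iff]
    exact ⟨gw (wB w), rfl⟩
  have := Set.ncard_le_ncard hsub (Set.toFinite _)
  rwa [Set.ncard_coe_finset, List.toFinset_card_of_nodup invsB_nodup, show invsB.length = 3511 by
    unfold invsB; rw [List.length_map, List.length_range]] at this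

/-- 3511 involutions of the third class -/
def invsC : List ↥G := (List.range 3511).map fun i => gw (cj (wC i) [0, 2, 4])

theorem invsC_nodup : invsC.Nodup := by
  unfold invsC
  apply List.Nodup.map_on _ List.nodup_range
  intro i hi j hj h
  rw [List.mem_range] at hi hj
  have hc : CC.get i = CC.get j := by
    rw [← codeC_wC hi, ← codeC_wC hj]
    unfold codeC
    rw [codeW_eq, codeW_eq, h]
  exact inj_of_step CC.get 3510 CC_step i j (by omega) (by omega) hc

theorem card_class_d3 : 3511 ≤ {x : ↥G | IsConj d3 x}.ncard := by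
  have hsub : (↑invsC.toFinset : Set ↥G) ⊆ {a | IsConj d3 a} := by
    intro z hz
    rw [Finset.mem_coe, List.mem_toFinset] at hz
    obtain ⟨w, -, rfl⟩ := List.mem_map.mp hz
    rw [Set.mem_ofPred_eq, gw_cj, isConj_iff]
    exact ⟨gw (wC w), rfl⟩
  have := Set.ncard_le_ncard hsub (Set.toFinite _)
  rwa [Set.ncard_coe_finset, List.toFinset_card_of_nodup invsC_nodup, show invsC.length = 3511 by
    unfold invsC; rw [List.length_map, List.length_range]] at this

theorem ncard_conj_map (β : MulAut ↥G) (x : ↥G) :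
    {z : ↥G | IsConj (β x) z}.ncard = {z : ↥G | IsConj x z}.ncard := by
  have : {z : ↥G | IsConj (β x) z} = β '' {z : ↥G | IsConj x z} := by
    ext z
    constructor
    · intro hz
      rw [Set.mem_ofPred_eq, isConj_iff] at hz
      obtain ⟨c, hc⟩ := hz
      refine ⟨β.symm z, ?_, β.apply_symm_apply z⟩
      rw [Set.mem_ofPred_eq, isConj_iff]
      refine ⟨β.symm c, ?_⟩
      apply β.injective
      rw [map_mul, map_mul, map_inv, β.apply_symm_apply, β.apply_symm_apply]
      exact hc
    · rintro ⟨z0, hz0, rfl⟩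
      rw [Set.mem_ofPred_eq, isConj_iff] at hz0 ⊢
      obtain ⟨c, hc⟩ := hz0
      exact ⟨β c, by rw [← hc, map_mul, map_mul, map_inv]⟩
  rw [this, Set.ncard_image_of_injective _ β.injective]

/-- an automorphism maps the first generator to a conjugate -/
theorem aut_t_conj (β : MulAut ↥G) : IsConj t (β t) := by
  have ho : orderOf (β t) = 2 := by
    rw [MulEquiv.orderOf_eq]
    exact orderOf_t
  have h2 := ncard_conj_map β t
  have h4 := card_class_t
  rcases invol_conj (β t) ho with h | h | h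
  · exact h
  · exfalso
    have h1 : {z : ↥G | IsConj (β t) z} = {z : ↥G | IsConj d2 z} := by
      ext z
      exact ⟨fun hz => IsConj.trans h hz, fun hz => IsConj.trans h.symm hz⟩
    rw [h1] at h2
    have h3 := card_class_d2
    omega
  · exfalso
    have h1 : {z : ↥G | IsConj (β t) z} = {z : ↥G | IsConj d3 z} := by
      ext z
      exact ⟨fun hz => IsConj.trans h hz, fun hz => IsConj.trans h.symm hz⟩
    rw [h1] at h2
    have h3 := card_class_d3
    omega

/-! ### the images of the generating pair under automorphisms -/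

theorem exc1_spec {c : ℕ} (hc : c ∈ EXC1) : ∃ i : ℕ, c = codeA (rpt i [33]) := by
  rw [← eq_of_eqL chk_exc1, List.mem_map] at hc
  obtain ⟨i, -, hi⟩ := hc
  exact ⟨i, hi.symm⟩

theorem exc2_spec {c : ℕ} (hc : c ∈ EXC2) : ∃ i : ℕ, c = codeA (W2 ++ rpt i [33]) := by
  rw [← eq_of_eqL chk_exc2, List.mem_map] at hc
  obtain ⟨i, -, hi⟩ := hc
  exact ⟨i, hi.symm⟩

theorem y_pow_comm (i : ℕ) (k : ℕ) : y ^ i * y ^ k * (y ^ i)⁻¹ = y ^ k := by
  rw [← pow_add, add_comm, pow_add, mul_inv_cancel_right]

theorem aut_images (α : MulAut ↥G) :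
    ∃ h : ↥G, (α t = h * t * h⁻¹ ∧ α y = h * y * h⁻¹) ∨
      (α t = h * a2 * h⁻¹ ∧ α y = h * y ^ 2 * h⁻¹) := by
  have hαy : orderOf (α y) = 13 := by
    rw [MulEquiv.orderOf_eq]
    exact orderOf_y
  obtain ⟨g, hg⟩ := exists_conj_pow (α y) hαy
  let β : MulAut ↥G := MulAut.conj g * α
  have hβt : β t = g * α t * g⁻¹ := rfl
  have hβy : β y = g * α y * g⁻¹ := rfl
  have hrel : Rel (β t) (β y) := rel_ty.map β.toMonoidHom
  have hmem := mem_invsD_of_conj (β t) (aut_t_conj β)
  obtain ⟨i, hi, hw⟩ := List.mem_map.mp hmem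
  rw [List.mem_range] at hi
  have back : ∀ (h0 u v : ↥G), g * α t * g⁻¹ = h0 * u * h0⁻¹ → g * α y * g⁻¹ = h0 * v * h0⁻¹ →
      α t = (g⁻¹ * h0) * u * (g⁻¹ * h0)⁻¹ ∧ α y = (g⁻¹ * h0) * v * (g⁻¹ * h0)⁻¹ := by
    intro h0 u v h1 h2
    constructor
    · calc α t = g⁻¹ * (g * α t * g⁻¹) * g := by group
        _ = g⁻¹ * (h0 * u * h0⁻¹) * g := by rw [h1]
        _ = _ := by group
    · calc α y = g⁻¹ * (g * α y * g⁻¹) * g := by group
        _ = g⁻¹ * (h0 * v * h0⁻¹) * g := by rw [h2]
        _ = _ := by group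
  have hcode := (clsDF_parts hi).1
  unfold codeA at hcode
  rcases hg with hg | hg
  · rcases (clsDF_parts hi).2.1 with hf | hex
    · exfalso
      apply not_rel_of_fail (y := y) gw_y2 gw_y5 hf
      rw [hw, ← hg, ← hβy]
      exact hrel
    · obtain ⟨j, hj⟩ := exc1_spec hex
      have hvw : gw (cj (wD i) [0]) = gw (cj (rpt j [33]) [0]) := by
        apply gw_eq_of_code
        unfold codeA at hj
        rw [hcode, hj]
      rw [hw, gw_cj, gw_rpt_y] at hvw
      refine ⟨g⁻¹ * y ^ j, Or.inl ?_⟩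
      apply back (y ^ j) t y
      · rw [← hβt]; exact hvw
      · rw [hg]
        have := y_pow_comm j 1
        rw [pow_one] at this
        exact this.symm
  · rcases (clsDF_parts hi).2.2 with hf | hex
    · exfalso
      apply not_rel_of_fail (y := y ^ 2) gw_y4 gw_y10 hf
      rw [hw, ← hg, ← hβy]
      exact hrel
    · obtain ⟨j, hj⟩ := exc2_spec hex
      have hvw : gw (cj (wD i) [0]) = gw (cj (W2 ++ rpt j [33]) [0]) := by
        apply gw_eq_of_code
        unfold codeA at hj
        rw [hcode, hj]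
      rw [hw, gw_cj, gw_append, gw_rpt_y] at hvw
      refine ⟨g⁻¹ * y ^ j, Or.inr ?_⟩
      apply back (y ^ j) a2 (y ^ 2)
      · rw [← hβt, hvw]
        unfold a2
        rw [gw_cj]
        group
      · rw [hg]
        exact (y_pow_comm j 2).symm

/-- when every automorphism maps a generating pair to a conjugate of one of two pairs, there are at
most twice as many automorphisms as elements -/
theorem card_mulAut_le2 {J : Type*} [Group J] [Finite J] (t y t2 y2 : J)
    (hgen : Subgroup.closure ({t, y} : Set J) = ⊤)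
    (h : ∀ α : MulAut J, ∃ g : J, (α t = g * t * g⁻¹ ∧ α y = g * y * g⁻¹) ∨
      (α t = g * t2 * g⁻¹ ∧ α y = g * y2 * g⁻¹)) :
    Nat.card (MulAut J) ≤ 2 * Nat.card J := by
  let Φ : MulAut J → J × J := fun α => (α t, α y)
  have hΦ : Function.Injective Φ := by
    intro α β hab
    exact mulAut_ext_of_closure t y hgen α β (congrArg Prod.fst hab) (congrArg Prod.snd hab)
  let Ψ : J × Bool → J × J := fun x =>
    (x.1 * (if x.2 then t2 else t) * x.1⁻¹, x.1 * (if x.2 then y2 else y) * x.1⁻¹)
  have hsub : Set.range Φ ⊆ Set.range Ψ := by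
    rintro _ ⟨α, rfl⟩
    obtain ⟨g, ⟨h1, h2⟩ | ⟨h1, h2⟩⟩ := h α
    · exact ⟨(g, false), by simp only [Ψ, Φ, Bool.false_eq_true, if_false, h1, h2]⟩
    · exact ⟨(g, true), by simp only [Ψ, Φ, if_true, h1, h2]⟩
  have hfin : Finite (MulAut J) := Finite.of_injective Φ hΦ
  calc Nat.card (MulAut J) = Nat.card (Set.range Φ) := (Nat.card_range_of_injective hΦ).symm
    _ ≤ Nat.card (Set.range Ψ) := Nat.card_mono (Set.finite_range Ψ) hsub
    _ ≤ Nat.card (J × Bool) :=
        Nat.card_le_card_of_surjective (Set.rangeFactorization Ψ) Set.rangeFactorization_surjective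
    _ = 2 * Nat.card J := by
        rw [Nat.card_prod, Nat.card_eq_fintype_card (α := Bool), Fintype.card_bool, mul_comm]

/-! ### generation -/

theorem gw_mem_closure (w : List ℕ) (hw : ∀ l ∈ w, l ∈ [0, 33, 34]) :
    gw w ∈ Subgroup.closure ({t, y} : Set ↥G) := by
  induction w with
  | nil =>
    rw [gw_nil]
    exact (Subgroup.closure ({t, y} : Set ↥G)).one_mem
  | cons l w ih =>
    have e : l :: w = [l] ++ w := rfl
    rw [e, gw_append]
    apply Subgroup.mul_mem _ (ih fun x hx => hw x (List.mem_cons_of_mem _ hx))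
    have hl := hw l List.mem_cons_self
    simp only [List.mem_cons, List.not_mem_nil, or_false] at hl
    rcases hl with rfl | rfl | rfl
    · exact Subgroup.subset_closure (by simp [t])
    · exact Subgroup.subset_closure (by simp [y])
    · rw [gw_yinv]
      exact Subgroup.inv_mem _ (Subgroup.subset_closure (by simp [y]))

theorem gw_letter_mem (l : ℕ) (hl : l < 9) : gw [l] ∈ Subgroup.closure ({t, y} : Set ↥G) := by
  rcases Nat.eq_zero_or_pos l with rfl | hpos
  · exact Subgroup.subset_closure (by simp [t])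
  · have hmem : l ∈ GWs.map Prod.fst := by
      rw [chk_gw_letters]
      simp only [List.mem_cons, List.not_mem_nil, or_false]
      omega
    obtain ⟨p, hp, rfl⟩ := List.mem_map.mp hmem
    have h := chk_gw
    rw [List.all_eq_true] at h
    have h1 := h p hp
    rw [Bool.and_eq_true, List.all_eq_true] at h1
    rw [(sigEq_iff _ _).mp h1.1, gw_cj]
    have hc := gw_mem_closure p.2 fun x hx => (memB_iff x _).mp (h1.2 x hx)
    exact Subgroup.mul_mem _ (Subgroup.mul_mem _ hc (Subgroup.subset_closure (by simp [t])))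
      (Subgroup.inv_mem _ hc)

/-- the elements of the letters of the generators generate the group -/
theorem closure_letters : Subgroup.closure {x : ↥G | ∃ l, l < 9 ∧ x = gw [l]} = ⊤ := by
  rw [eq_top_iff]
  have hle : G ≤ (Subgroup.closure {x : ↥G | ∃ l, l < 9 ∧ x = gw [l]}).map G.subtype := by
    unfold G baseGroup
    rw [Subgroup.closure_le]
    rintro π ⟨l, hl, rfl⟩
    refine ⟨gw [l], Subgroup.subset_closure ⟨l, hl, rfl⟩, ?_⟩
    show gwp [l] = Table.sigma hXT l
    rw [gwp_singleton, nl_of_lt (by omega)]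
    rfl
  intro g _
  obtain ⟨m, hm, hmg⟩ := hle g.2
  have : m = g := Subtype.ext hmg
  rw [← this]
  exact hm

theorem gen_ty : Subgroup.closure ({t, y} : Set ↥G) = ⊤ := by
  rw [eq_top_iff, ← closure_letters, Subgroup.closure_le]
  rintro x ⟨l, hl, rfl⟩
  exact gw_letter_mem l hl

theorem card_mulAut_G : Nat.card (MulAut ↥G) ≤ 2 * Nat.card ↥G :=
  card_mulAut_le2 t y a2 (y ^ 2) gen_ty aut_images

theorem center_G : Subgroup.center ↥G = ⊥ := by
  rcases (Subgroup.center ↥G).normal_of_characteristic.eq_bot_or_eq_top with h | h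
  · exact h
  · exfalso
    have hy : y ∈ Subgroup.center ↥G := by rw [h]; exact Subgroup.mem_top y
    have hc := Subgroup.mem_center_iff.mp hy nn
    have h2 : nn * y * nn⁻¹ = y := by rw [hc]; group
    rw [nn_conj] at h2
    have h3 : y ^ 3 = 1 := by
      have e : y ^ 4 = y ^ 3 * y := pow_succ y 3
      rw [e] at h2
      exact mul_right_cancel (h2.trans (one_mul y).symm)
    have h4 := orderOf_dvd_of_pow_eq_one h3
    rw [orderOf_y] at h4
    norm_num at h4

/-! ### the symmetry of the diagram -/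

theorem swp_lt (l : ℕ) : swp l < 9 := by
  unfold swp
  rcases Nat.lt_or_ge l 9 with h | h
  · interval_cases l <;> simp
  · rw [List.getD_eq_default _ _ (by simpa using h)]
    norm_num

theorem swp_swp (l : ℕ) (hl : l < 9) : swp (swp l) = l := by
  unfold swp
  interval_cases l <;> rfl

theorem swp_pos (l : ℕ) (hl : l < 9) (h6 : l ≠ 6) : 1 ≤ swp l := by
  unfold swp
  interval_cases l <;> simp_all

theorem gw_letter_sq (l : ℕ) (hl : l < 9) : gw [l] * gw [l] = 1 := by
  have h := chk_sq
  rw [allLoop_eq_true] at h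
  have h1 := (sigEq_iff _ _).mp (h l hl)
  have e : ([l, l] : List ℕ) = [l] ++ [l] := rfl
  rw [e, gw_append, gw_nil] at h1
  exact h1

theorem gw_letter_inv (l : ℕ) (hl : l < 9) : (gw [l])⁻¹ = gw [l] :=
  inv_eq_of_mul_eq_one_left (gw_letter_sq l hl)

theorem pathProd_gw (g : ℕ → ℕ) (w : List ℕ) : pathProd (fun l => gw [g l]) w = gw (w.map g) := by
  induction w with
  | nil => exact gw_nil.symm
  | cons l ls ih =>
    show pathProd (fun l => gw [g l]) ls * gw [g l] = gw (List.map g (l :: ls))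
    have e : List.map g (l :: ls) = [g l] ++ ls.map g := rfl
    rw [e, gw_append, ih]

/-- the images of the generators of the presentation under the symmetry -/
def fS (x : Cfsg.Spor.Fi22.Gen) : ↥G := gw [swp (TCFi22W0Link.lw (x, true))]

theorem lw_bool (x : Cfsg.Spor.Fi22.Gen) (b : Bool) :
    TCFi22W0Link.lw (x, b) = TCFi22W0Link.lw (x, true) := by
  cases x <;> rfl

theorem lw_lt9 (xb : Cfsg.Spor.Fi22.Gen × Bool) : TCFi22W0Link.lw xb < 9 := by
  obtain ⟨x, b⟩ := xb
  cases x <;> simp [TCFi22W0Link.lw]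

theorem lift_fS (L : List (Cfsg.Spor.Fi22.Gen × Bool)) :
    FreeGroup.lift fS (FreeGroup.mk L) = gw ((pathOf TCFi22W0Link.lw L).map swp) := by
  rw [lift_mk_eq_pathProd fS TCFi22W0Link.lw (fun l => gw [swp l]) _ L, pathProd_gw]
  intro x b
  show gw [swp (TCFi22W0Link.lw (x, b))] = cond b (fS x) (fS x)⁻¹
  rw [lw_bool x b]
  cases b
  · show _ = (fS x)⁻¹
    unfold fS
    rw [gw_letter_inv _ (swp_lt _)]
  · rfl

theorem hrelS : ∀ r ∈ TCFi22W0Link.rels, FreeGroup.lift fS r = 1 := by
  intro r hr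
  obtain ⟨L, hL, rfl⟩ := (TCFi22W0Link.link.hrels r).mp hr
  rw [lift_fS]
  have h := chk_swap
  rw [List.all_eq_true] at h
  have h1 := (sigEq_iff _ _).mp (h L hL)
  rw [gw_nil] at h1
  exact h1

/-- the symmetry of the diagram, as a homomorphism of the presented group to the group of
permutations -/
def psiS : PresentedGroup TCFi22W0Link.rels →* ↥G := PresentedGroup.toGroup hrelS

theorem psiS_of (x : Cfsg.Spor.Fi22.Gen) : psiS (PresentedGroup.of x) = fS x :=
  PresentedGroup.toGroup.of hrelS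

theorem exists_outer : ∃ φ : MulAut ↥G, φ ∉ Cfsg.Inn ↥G := by
  obtain ⟨e, he⟩ := exists_iso
  let sG : ↥G →* ↥G := psiS.comp e.symm.toMonoidHom
  have he1 : ∀ x : Cfsg.Spor.Fi22.Gen,
      e (PresentedGroup.of x) = gw [TCFi22W0Link.lw (x, true)] := fun x => he [(x, true)]
  have hs0 : ∀ x : Cfsg.Spor.Fi22.Gen, sG (gw [TCFi22W0Link.lw (x, true)]) =
      gw [swp (TCFi22W0Link.lw (x, true))] := by
    intro x
    show psiS (e.symm (gw [TCFi22W0Link.lw (x, true)])) = _
    rw [← he1 x, e.symm_apply_apply, psiS_of]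
    rfl
  have hs : ∀ l, l < 9 → sG (gw [l]) = gw [swp l] := by
    intro l hl
    have hd := TCFi22W0Link.link.d1 l (by show l < 9; exact hl)
    rcases hx : TCFi22W0Link.dec l with ⟨x, b⟩
    rw [hx, lw_bool x b] at hd
    rw [← hd]
    exact hs0 x
  have hss : ∀ g : ↥G, sG (sG g) = g := by
    have h : (sG.comp sG) = MonoidHom.id ↥G := by
      apply MonoidHom.eq_of_eqOn_dense closure_letters
      rintro x ⟨l, hl, rfl⟩
      show sG (sG (gw [l])) = gw [l]
      rw [hs l hl, hs _ (swp_lt l), swp_swp l hl]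
    intro g
    exact DFunLike.congr_fun h g
  have hbij : Function.Bijective sG :=
    ⟨fun a b hab => by rw [← hss a, ← hss b, hab], fun b => ⟨sG b, hss b⟩⟩
  refine ⟨MulEquiv.ofBijective sG hbij, ?_⟩
  rintro ⟨g, hg⟩
  have hval : ∀ x : ↥G, g * x * g⁻¹ = sG x := by
    intro x
    have h1 : (MulAut.conj g) x = (MulEquiv.ofBijective sG hbij) x := by rw [hg]
    rw [MulAut.conj_apply] at h1
    exact h1
  have hn : (0 : ℕ) < XT.n := by decide
  let p0 : Fin XT.n := ⟨0, hn⟩
  have hfix0 : ∀ l, 1 ≤ l → l < 9 → (gw [l]).val p0 = p0 := by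
    intro l h1 h9
    have h := chk_fix0
    unfold fix0OK at h
    rw [allLoop_eq_true] at h
    have h2 := Nat.eq_of_beq_eq_true (h (l - 1) (by omega))
    have e1 : Nat.succ (l - 1) = l := by omega
    rw [e1] at h2
    apply Fin.ext
    show (gwp [l] p0).val = 0
    rw [gwp_singleton, nl_of_lt (by omega)]
    have h3 : (σ l p0).val = XT.tau l 0 :=
      Table.sigma_apply hXT (show l < XT.k by show l < 50; omega) p0
    rw [h3]
    exact h2
  have hfixp : ∀ l', l' ∈ [0, 1, 2, 3, 4, 5, 7, 8] → XT.tau l' (g.val p0).val = (g.val p0).val := by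
    intro l' hl'
    have hl9 : l' < 9 := by
      simp only [List.mem_cons, List.not_mem_nil, or_false] at hl'
      omega
    have hl6 : l' ≠ 6 := by
      simp only [List.mem_cons, List.not_mem_nil, or_false] at hl'
      omega
    have h1 := hval (gw [swp l'])
    rw [hs _ (swp_lt l'), swp_swp l' hl9] at h1
    have h2 : (gw [l']).val (g.val p0) = g.val p0 := by
      rw [← h1]
      show (g.val * (gw [swp l']).val * g.val⁻¹) (g.val p0) = g.val p0
      rw [Equiv.Perm.mul_apply, Equiv.Perm.mul_apply, Equiv.Perm.inv_def, Equiv.symm_apply_apply,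
        hfix0 _ (swp_pos l' hl9 hl6) (swp_lt l')]
    have h3 : ((gw [l']).val (g.val p0)).val = XT.tau l' (g.val p0).val := by
      show (gwp [l'] (g.val p0)).val = _
      rw [gwp_singleton, nl_of_lt (by omega)]
      exact Table.sigma_apply hXT (show l' < XT.k by show l' < 50; omega) (g.val p0)
    rw [h2] at h3
    exact h3.symm
  have h := chk_nofix
  unfold nofixOK at h
  rw [allLoop_eq_true] at h
  have h1 := h (g.val p0).val (g.val p0).2
  rw [Bool.not_eq_true', Bool.eq_false_iff] at h1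
  apply h1
  rw [List.all_eq_true]
  intro l' hl'
  rw [hfixp l' hl']
  exact Nat.beq_refl _

/-- the Fischer group Fi22 on 14080 points has two classes of outer automorphisms -/
theorem card_out_G : Nat.card (Cfsg.Out ↥G) = 2 := by
  obtain ⟨φ, hφ⟩ := exists_outer
  exact card_out_eq_two center_G card_mulAut_G φ hφ

/-- the presented Fischer group Fi22 has two classes of outer automorphisms -/
theorem card_out_Fi22 : Nat.card (Cfsg.Out Cfsg.Spor.Fi22) = 2 := by
  obtain ⟨e, -⟩ := exists_iso
  exact (card_out_congr e).trans card_out_G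

end

end Cfsg.Agent.Lib.Helper10.F22O
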