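import Cfsg.Agent.Lib.Helper10.F22OBasic
import Cfsg.Agent.Lib.Helper10.F22OSylDataW
import Cfsg.Agent.Lib.Helper10.F22OSylDataC
import Cfsg.Agent.Lib.Helper10.F22OSylDataM

set_option autoImplicit false
set_option maxRecDepth 100000

/-!
A Sylow 2-subgroup of the Fischer group Fi22 on 14080 points, given by 131072 words: the Boolean
checks.
-/

namespace Cfsg.Agent.Lib.Helper10.F22O
open Cfsg.Agent.Lib.Helper28.TC2Upper Cfsg.Agent.Lib.Helper28.TC2Lower
open Cfsg.Agent.Lib.Helper10.SuzO

noncomputable section

/-- membership of a number in a list -/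
def memB (a : ℕ) : List ℕ → Bool
  | [] => false
  | b :: l => Nat.beq a b || memB a l

theorem memB_iff (a : ℕ) : ∀ l : List ℕ, memB a l = true ↔ a ∈ l
  | [] => by simp [memB]
  | b :: l => by
    rw [memB, Bool.or_eq_true, memB_iff a l, List.mem_cons]
    constructor
    · rintro (h | h)
      · exact Or.inl (Nat.eq_of_beq_eq_true h)
      · exact Or.inr h
    · rintro (h | h)
      · exact Or.inl (by rw [h]; exact Nat.beq_refl _)
      · exact Or.inr h

/-- equality of lists of numbers -/
def eqL : List ℕ → List ℕ → Bool
  | [], [] => true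
  | a :: l, b :: l' => Nat.beq a b && eqL l l'
  | _, _ => false

theorem eq_of_eqL : ∀ {l l' : List ℕ}, eqL l l' = true → l = l'
  | [], [], _ => rfl
  | a :: l, b :: l', h => by
    rw [eqL, Bool.and_eq_true] at h
    rw [Nat.eq_of_beq_eq_true h.1, eq_of_eqL h.2]
  | [], _ :: _, h => by simp [eqL] at h
  | _ :: _, [], h => by simp [eqL] at h

/-- the word of the Sylow subgroup with a given index -/
def wdS (i : ℕ) : List ℕ := unpackW 64 16 (SW.get i)

/-- the index of the product of an element with a generator -/
def mtS (i k : ℕ) : ℕ := SM.get (Nat.add (Nat.mul 4 i) k)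

/-- the letter of a generator -/
def slS (k : ℕ) : ℕ := SLs.getD k 0

/-- the code of the word -/
def sylCodeF (i : ℕ) : Bool := Nat.beq (codeW (wdS i)) (SC.get i)

/-- the letters of the word -/
def sylLetF (i : ℕ) : Bool := (wdS i).all fun l => memB l SLs

/-- the products with the generators -/
def sylTabF (i : ℕ) : Bool :=
  allLoop (fun k => Nat.blt (mtS i k) 131072 &&
    Nat.beq (codeW (wdS i ++ [slS k])) (SC.get (mtS i k))) 4

/-- the words of the representatives of the three classes of involutions -/
def repW (c : ℕ) : List ℕ := cond (Nat.beq c 1) [0] (cond (Nat.beq c 2) [0, 2] [0, 2, 4])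

/-- the conjugating word of the involution with a given number -/
def wdI (j : ℕ) : List ℕ := unpackW 64 34 (ICw.get j)

/-- the element is not an involution, or is a given conjugate of one of three involutions -/
def sylInvF (i : ℕ) : Bool :=
  cond (Nat.beq (SIdx.get i) 0)
    (!(sigEq (wdS i ++ wdS i) []) || sigEq (wdS i) [])
    (sigEq (cj (wdI (Nat.pred (SIdx.get i))) (repW (ICl.get (Nat.pred (SIdx.get i))))) (wdS i))

/-- all the checks for an index -/
def sylF (i : ℕ) : Bool := sylCodeF i && (sylLetF i && (sylTabF i && sylInvF i))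

/-- the codes increase -/
def sylIncrF (i : ℕ) : Bool := Nat.blt (SC.get i) (SC.get (Nat.succ i))

end

end Cfsg.Agent.Lib.Helper10.F22O
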