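import Cfsg.Agent.Lib.Helper10.F22RepData

/-! # squares and the generators commuting with a (helper10) -/

set_option autoImplicit false

namespace Cfsg.Agent.Lib.Helper10.F22Rep

theorem sq_a : mulP 78 13 PA PA = idP 78 := by decide +kernel

theorem sq_b : mulP 78 13 PB PB = idP 78 := by decide +kernel

theorem sq_c : mulP 78 13 PC PC = idP 78 := by decide +kernel

theorem sq_d : mulP 78 13 PD PD = idP 78 := by decide +kernel

theorem sq_e : mulP 78 13 PE PE = idP 78 := by decide +kernel

theorem sq_f : mulP 78 13 PF PF = idP 78 := by decide +kernel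

theorem sq_g : mulP 78 13 PG PG = idP 78 := by decide +kernel

theorem sq_h : mulP 78 13 PH PH = idP 78 := by decide +kernel

theorem sq_i : mulP 78 13 PI PI = idP 78 := by decide +kernel

theorem comm_a_c : mulP 78 13 PA PC = mulP 78 13 PC PA := by decide +kernel

theorem comm_a_d : mulP 78 13 PA PD = mulP 78 13 PD PA := by decide +kernel

theorem comm_a_e : mulP 78 13 PA PE = mulP 78 13 PE PA := by decide +kernel

theorem comm_a_f : mulP 78 13 PA PF = mulP 78 13 PF PA := by decide +kernel

theorem comm_a_g : mulP 78 13 PA PG = mulP 78 13 PG PA := by decide +kernel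

theorem comm_a_h : mulP 78 13 PA PH = mulP 78 13 PH PA := by decide +kernel

theorem comm_a_i : mulP 78 13 PA PI = mulP 78 13 PI PA := by decide +kernel

end Cfsg.Agent.Lib.Helper10.F22Rep
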