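import Cfsg.Agent.Lib.Helper10.F22RepData

/-! # commuting pairs with b and c (helper10) -/

set_option autoImplicit false

namespace Cfsg.Agent.Lib.Helper10.F22Rep

theorem comm_b_d : mulP 78 13 PB PD = mulP 78 13 PD PB := by decide +kernel

theorem comm_b_e : mulP 78 13 PB PE = mulP 78 13 PE PB := by decide +kernel

theorem comm_b_f : mulP 78 13 PB PF = mulP 78 13 PF PB := by decide +kernel

theorem comm_b_g : mulP 78 13 PB PG = mulP 78 13 PG PB := by decide +kernel

theorem comm_b_h : mulP 78 13 PB PH = mulP 78 13 PH PB := by decide +kernel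

theorem comm_b_i : mulP 78 13 PB PI = mulP 78 13 PI PB := by decide +kernel

theorem comm_c_e : mulP 78 13 PC PE = mulP 78 13 PE PC := by decide +kernel

theorem comm_c_f : mulP 78 13 PC PF = mulP 78 13 PF PC := by decide +kernel

theorem comm_c_g : mulP 78 13 PC PG = mulP 78 13 PG PC := by decide +kernel

theorem comm_c_h : mulP 78 13 PC PH = mulP 78 13 PH PC := by decide +kernel

theorem comm_c_i : mulP 78 13 PC PI = mulP 78 13 PI PC := by decide +kernel

end Cfsg.Agent.Lib.Helper10.F22Rep
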