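import Cfsg.Agent.Lib.Helper10.F22RepData

/-! # commuting pairs with d, e, f, g (helper10) -/

set_option autoImplicit false

namespace Cfsg.Agent.Lib.Helper10.F22Rep

theorem comm_d_f : mulP 78 13 PD PF = mulP 78 13 PF PD := by decide +kernel

theorem comm_d_g : mulP 78 13 PD PG = mulP 78 13 PG PD := by decide +kernel

theorem comm_d_i : mulP 78 13 PD PI = mulP 78 13 PI PD := by decide +kernel

theorem comm_e_g : mulP 78 13 PE PG = mulP 78 13 PG PE := by decide +kernel

theorem comm_e_h : mulP 78 13 PE PH = mulP 78 13 PH PE := by decide +kernel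

theorem comm_e_i : mulP 78 13 PE PI = mulP 78 13 PI PE := by decide +kernel

theorem comm_f_h : mulP 78 13 PF PH = mulP 78 13 PH PF := by decide +kernel

theorem comm_f_i : mulP 78 13 PF PI = mulP 78 13 PI PF := by decide +kernel

theorem comm_g_h : mulP 78 13 PG PH = mulP 78 13 PH PG := by decide +kernel

theorem comm_g_i : mulP 78 13 PG PI = mulP 78 13 PI PG := by decide +kernel

end Cfsg.Agent.Lib.Helper10.F22Rep
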