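import Cfsg.Agent.Lib.Helper10.F22RepData

/-! # the braid relations (helper10) -/

set_option autoImplicit false

namespace Cfsg.Agent.Lib.Helper10.F22Rep

/-- product of `a` and `b` -/
def P_a_b : List ℕ := mulP 78 13 PA PB

theorem cube_a_b : mulP 78 13 (mulP 78 13 P_a_b P_a_b) P_a_b = idP 78 := by decide +kernel

/-- product of `b` and `c` -/
def P_b_c : List ℕ := mulP 78 13 PB PC

theorem cube_b_c : mulP 78 13 (mulP 78 13 P_b_c P_b_c) P_b_c = idP 78 := by decide +kernel

/-- product of `c` and `d` -/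
def P_c_d : List ℕ := mulP 78 13 PC PD

theorem cube_c_d : mulP 78 13 (mulP 78 13 P_c_d P_c_d) P_c_d = idP 78 := by decide +kernel

/-- product of `d` and `e` -/
def P_d_e : List ℕ := mulP 78 13 PD PE

theorem cube_d_e : mulP 78 13 (mulP 78 13 P_d_e P_d_e) P_d_e = idP 78 := by decide +kernel

/-- product of `d` and `h` -/
def P_d_h : List ℕ := mulP 78 13 PD PH

theorem cube_d_h : mulP 78 13 (mulP 78 13 P_d_h P_d_h) P_d_h = idP 78 := by decide +kernel

/-- product of `e` and `f` -/
def P_e_f : List ℕ := mulP 78 13 PE PF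

theorem cube_e_f : mulP 78 13 (mulP 78 13 P_e_f P_e_f) P_e_f = idP 78 := by decide +kernel

/-- product of `f` and `g` -/
def P_f_g : List ℕ := mulP 78 13 PF PG

theorem cube_f_g : mulP 78 13 (mulP 78 13 P_f_g P_f_g) P_f_g = idP 78 := by decide +kernel

/-- product of `h` and `i` -/
def P_h_i : List ℕ := mulP 78 13 PH PI

theorem cube_h_i : mulP 78 13 (mulP 78 13 P_h_i P_h_i) P_h_i = idP 78 := by decide +kernel

end Cfsg.Agent.Lib.Helper10.F22Rep
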