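import Cfsg.Agent.Lib.Helper10.F22RepData

/-! # the spider relation (helper10) -/

set_option autoImplicit false

namespace Cfsg.Agent.Lib.Helper10.F22Rep

/-- partial product -/
def sp_1 : List ℕ := mulP 78 13 PD PC

/-- partial product -/
def sp_2 : List ℕ := mulP 78 13 sp_1 PB

/-- partial product -/
def sp_3 : List ℕ := mulP 78 13 sp_2 PD

/-- partial product -/
def sp_4 : List ℕ := mulP 78 13 sp_3 PE

/-- partial product -/
def sp_5 : List ℕ := mulP 78 13 sp_4 PF

/-- partial product -/
def sp_6 : List ℕ := mulP 78 13 sp_5 PD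

/-- partial product -/
def sp_7 : List ℕ := mulP 78 13 sp_6 PH

/-- partial product -/
def sp_8 : List ℕ := mulP 78 13 sp_7 PI

/-- square -/
def sp_p2 : List ℕ := mulP 78 13 sp_8 sp_8

/-- fourth power -/
def sp_p4 : List ℕ := mulP 78 13 sp_p2 sp_p2

/-- eighth power -/
def sp_p8 : List ℕ := mulP 78 13 sp_p4 sp_p4

theorem sp_pow : mulP 78 13 sp_p8 sp_p2 = idP 78 := by decide +kernel

end Cfsg.Agent.Lib.Helper10.F22Rep
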