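import Cfsg.Agent.Lib.Helper10.F22RepData

/-! # the first E7 relation (helper10) -/

set_option autoImplicit false

namespace Cfsg.Agent.Lib.Helper10.F22Rep

/-- partial product -/
def ea_1 : List ℕ := mulP 78 13 PA PB

/-- partial product -/
def ea_2 : List ℕ := mulP 78 13 ea_1 PC

/-- partial product -/
def ea_3 : List ℕ := mulP 78 13 ea_2 PD

/-- partial product -/
def ea_4 : List ℕ := mulP 78 13 ea_3 PE

/-- partial product -/
def ea_5 : List ℕ := mulP 78 13 ea_4 PF

/-- partial product -/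
def ea_6 : List ℕ := mulP 78 13 ea_5 PH

/-- square -/
def ea_p2 : List ℕ := mulP 78 13 ea_6 ea_6

/-- fourth power -/
def ea_p4 : List ℕ := mulP 78 13 ea_p2 ea_p2

/-- eighth power -/
def ea_p8 : List ℕ := mulP 78 13 ea_p4 ea_p4

theorem ea_pow : mulP 78 13 ea_p8 ea_6 = idP 78 := by decide +kernel

end Cfsg.Agent.Lib.Helper10.F22Rep
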