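import Cfsg.Agent.Lib.Helper10.F22RepData

/-! # the second E7 relation (helper10) -/

set_option autoImplicit false

namespace Cfsg.Agent.Lib.Helper10.F22Rep

/-- partial product -/
def eb_1 : List ℕ := mulP 78 13 PB PC

/-- partial product -/
def eb_2 : List ℕ := mulP 78 13 eb_1 PD

/-- partial product -/
def eb_3 : List ℕ := mulP 78 13 eb_2 PE

/-- partial product -/
def eb_4 : List ℕ := mulP 78 13 eb_3 PF

/-- partial product -/
def eb_5 : List ℕ := mulP 78 13 eb_4 PG

/-- partial product -/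
def eb_6 : List ℕ := mulP 78 13 eb_5 PH

/-- square -/
def eb_p2 : List ℕ := mulP 78 13 eb_6 eb_6

/-- fourth power -/
def eb_p4 : List ℕ := mulP 78 13 eb_p2 eb_p2

/-- eighth power -/
def eb_p8 : List ℕ := mulP 78 13 eb_p4 eb_p4

theorem eb_pow : mulP 78 13 eb_p8 eb_6 = idP 78 := by decide +kernel

end Cfsg.Agent.Lib.Helper10.F22Rep
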