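import Mathlib

/-!
# List-of-lists matrices over `ZMod p` with kernel-friendly multiplication (helper10)

`ev n p A` is the `n × n` matrix over `ZMod p` read off a list of rows of natural numbers
(missing entries are `0`); `mulL p A B` multiplies such lists, reducing modulo `p`.
`ev_mulL` : if `B` has at most `n` rows then `ev n p (mulL p A B) = ev n p A * ev n p B`.
-/

set_option autoImplicit false

namespace Cfsg.Agent.Lib.Helper10.F22Rep

/-- entrywise sum, padding the shorter list -/
def vadd : List ℕ → List ℕ → List ℕ
  | [], ys => ys
  | x :: xs, [] => x :: xs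
  | x :: xs, y :: ys => (x + y) :: vadd xs ys

/-- scalar multiple -/
def smul (c : ℕ) (v : List ℕ) : List ℕ := v.map (c * ·)

/-- `∑ₖ rₖ • Bₖ` -/
def rowMul : List ℕ → List (List ℕ) → List ℕ
  | c :: r, b :: B => vadd (smul c b) (rowMul r B)
  | _, _ => []

/-- product of two matrices given as lists of rows, reduced modulo `p` -/
def mulL (p : ℕ) (A B : List (List ℕ)) : List (List ℕ) :=
  A.map fun r => (rowMul r B).map (· % p)

/-- the identity matrix as a list of rows -/
def idL (n : ℕ) : List (List ℕ) :=
  (List.range n).map fun i => (List.range n).map fun j => if i = j then 1 else 0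

/-- the matrix of a list of rows -/
def ev (n p : ℕ) (A : List (List ℕ)) : Matrix (Fin n) (Fin n) (ZMod p) :=
  fun i j => (((A.getD i.val []).getD j.val 0 : ℕ) : ZMod p)

theorem vadd_getD (xs ys : List ℕ) (j : ℕ) :
    (vadd xs ys).getD j 0 = xs.getD j 0 + ys.getD j 0 := by
  induction xs generalizing ys j with
  | nil => simp [vadd]
  | cons x xs ih =>
    cases ys with
    | nil => simp [vadd]
    | cons y ys =>
      cases j with
      | zero => simp [vadd]
      | succ j => simpa [vadd] using ih ys j

theorem smul_getD (c : ℕ) (v : List ℕ) (j : ℕ) : (smul c v).getD j 0 = c * v.getD j 0 := by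
  unfold smul
  induction v generalizing j with
  | nil => simp
  | cons x xs ih =>
    cases j with
    | zero => simp
    | succ j => simpa using ih j

theorem rowMul_nil_right (r : List ℕ) : rowMul r [] = [] := by
  cases r <;> rfl

theorem rowMul_getD (r : List ℕ) (B : List (List ℕ)) (j n : ℕ) (hB : B.length ≤ n) :
    (rowMul r B).getD j 0 = ∑ k ∈ Finset.range n, r.getD k 0 * (B.getD k []).getD j 0 := by
  induction B generalizing r n with
  | nil => simp [rowMul_nil_right]
  | cons b B ih =>
    cases r with
    | nil => simp [rowMul]
    | cons c r =>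
      cases n with
      | zero => simp at hB
      | succ n =>
        have hB' : B.length ≤ n := by simpa using hB
        rw [Finset.sum_range_succ']
        simp only [rowMul, vadd_getD, smul_getD, ih r n hB']
        simp [add_comm]

theorem map_mod_getD (p : ℕ) (v : List ℕ) (j : ℕ) :
    (v.map (· % p)).getD j 0 = (v.getD j 0) % p := by
  induction v generalizing j with
  | nil => simp
  | cons x xs ih =>
    cases j with
    | zero => simp
    | succ j => simpa using ih j

theorem mulL_getD (p : ℕ) (A B : List (List ℕ)) (i : ℕ) :
    (mulL p A B).getD i [] = (rowMul (A.getD i []) B).map (· % p) := by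
  unfold mulL
  induction A generalizing i with
  | nil => simp [rowMul]
  | cons a A ih =>
    cases i with
    | zero => simp
    | succ i => simpa using ih i

theorem length_mulL (p : ℕ) (A B : List (List ℕ)) : (mulL p A B).length = A.length := by
  simp [mulL]

theorem ev_mulL (n p : ℕ) (A B : List (List ℕ)) (hB : B.length ≤ n) :
    ev n p (mulL p A B) = ev n p A * ev n p B := by
  ext i j
  simp only [ev, Matrix.mul_apply, mulL_getD, map_mod_getD, rowMul_getD _ _ _ n hB]
  rw [ZMod.natCast_mod, Nat.cast_sum, ← Fin.sum_univ_eq_sum_range
    (fun k => ((((A.getD i.val []).getD k 0 * (B.getD k []).getD j.val 0 : ℕ)) : ZMod p))]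
  simp

theorem idL_getD (n : ℕ) (i j : ℕ) (hi : i < n) (hj : j < n) :
    ((idL n).getD i []).getD j 0 = if i = j then 1 else 0 := by
  simp [idL, List.getD_eq_getElem?_getD, hi, hj]

theorem ev_idL (n p : ℕ) : ev n p (idL n) = 1 := by
  ext i j
  simp only [ev, idL_getD n i.val j.val i.isLt j.isLt, Matrix.one_apply, Fin.ext_iff]
  split_ifs <;> simp

end Cfsg.Agent.Lib.Helper10.F22Rep
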