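import Cfsg.Agent.Lib.Helper10.F22RepData

/-! # goodness of the data (helper10) -/

set_option autoImplicit false

namespace Cfsg.Agent.Lib.Helper10.F22Rep

theorem good_PA : Good 78 13 PA := good_of_goodM 78 13 (by norm_num) PA (by decide +kernel)

theorem good_PB : Good 78 13 PB := good_of_goodM 78 13 (by norm_num) PB (by decide +kernel)

theorem good_PC : Good 78 13 PC := good_of_goodM 78 13 (by norm_num) PC (by decide +kernel)

theorem good_PD : Good 78 13 PD := good_of_goodM 78 13 (by norm_num) PD (by decide +kernel)

theorem good_PE : Good 78 13 PE := good_of_goodM 78 13 (by norm_num) PE (by decide +kernel)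

theorem good_PF : Good 78 13 PF := good_of_goodM 78 13 (by norm_num) PF (by decide +kernel)

theorem good_PG : Good 78 13 PG := good_of_goodM 78 13 (by norm_num) PG (by decide +kernel)

theorem good_PH : Good 78 13 PH := good_of_goodM 78 13 (by norm_num) PH (by decide +kernel)

theorem good_PI : Good 78 13 PI := good_of_goodM 78 13 (by norm_num) PI (by decide +kernel)

end Cfsg.Agent.Lib.Helper10.F22Rep
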