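import Cfsg.Agent.Lib.Helper10.F22RepGood
import Cfsg.Agent.Lib.Helper10.F22RepChk1
import Cfsg.Agent.Lib.Helper10.F22RepChk2
import Cfsg.Agent.Lib.Helper10.F22RepChk3
import Cfsg.Agent.Lib.Helper10.F22RepChk4
import Cfsg.Agent.Lib.Helper10.F22RepChk5
import Cfsg.Agent.Lib.Helper10.F22RepChk6
import Cfsg.Agent.Lib.Helper10.F22RepChk7
import Cfsg.Agent.S1696

/-!
# An injective homomorphism Fi22 → GL₇₈(F₁₃) (helper10)

The nine matrices of `F22RepData` satisfy the defining relators of `Cfsg.Spor.Fi22` (checked by kernel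
computation in `F22RepChk1`-`F22RepChk7`), so they define a homomorphism; it is injective because Fi22 is simple
(`Cfsg.Agent.S1696`) and the image of `a` is not the identity.
-/

set_option autoImplicit false
set_option maxRecDepth 8000

namespace Cfsg.Agent.Lib.Helper10.F22Rep

open Cfsg.Spor

theorem hW78 : 78 * (13 * 13) < W := by decide

theorem ev2 {A B : List ℕ} (hA : Good 78 13 A) (hB : Good 78 13 B) :
    evP 78 13 (mulP 78 13 A B) = evP 78 13 A * evP 78 13 B := evP_mulP 78 13 hW78 A B hA hB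

theorem good2 {A : List ℕ} (B : List ℕ) (hA : Good 78 13 A) : Good 78 13 (mulP 78 13 A B) :=
  good_mulP 78 13 (by norm_num) A B hA.len

/-- the packed matrix of a generator -/
def PGen : Fi22.Gen → List ℕ
  | .a => PA
  | .b => PB
  | .c => PC
  | .d => PD
  | .e => PE
  | .f => PF
  | .g => PG
  | .h => PH
  | .i => PI

theorem good_PGen (x : Fi22.Gen) : Good 78 13 (PGen x) := by
  cases x
  · exact good_PA
  · exact good_PB
  · exact good_PC
  · exact good_PD
  · exact good_PE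
  · exact good_PF
  · exact good_PG
  · exact good_PH
  · exact good_PI

/-- the matrix of a generator -/
noncomputable def MG (x : Fi22.Gen) : Matrix (Fin 78) (Fin 78) (ZMod 13) := evP 78 13 (PGen x)

theorem MG_def (x : Fi22.Gen) : MG x = evP 78 13 (PGen x) := rfl

theorem MG_sq_of {x : Fi22.Gen} (h : mulP 78 13 (PGen x) (PGen x) = idP 78) : MG x * MG x = 1 := by
  rw [MG_def, ← ev2 (good_PGen x) (good_PGen x), h, evP_idP]

theorem MG_sq (x : Fi22.Gen) : MG x * MG x = 1 := by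
  cases x
  · exact MG_sq_of sq_a
  · exact MG_sq_of sq_b
  · exact MG_sq_of sq_c
  · exact MG_sq_of sq_d
  · exact MG_sq_of sq_e
  · exact MG_sq_of sq_f
  · exact MG_sq_of sq_g
  · exact MG_sq_of sq_h
  · exact MG_sq_of sq_i

/-- the invertible matrix of a generator -/
noncomputable def UG (x : Fi22.Gen) : GL (Fin 78) (ZMod 13) := ⟨MG x, MG x, MG_sq x, MG_sq x⟩

theorem UG_val (x : Fi22.Gen) : ((UG x : GL (Fin 78) (ZMod 13)) : Matrix (Fin 78) (Fin 78) (ZMod 13)) = MG x := rfl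

theorem UG_sq (x : Fi22.Gen) : UG x * UG x = 1 := by
  apply Units.ext
  rw [Units.val_mul, UG_val, MG_sq, Units.val_one]

attribute [irreducible] MG UG

theorem grp_one {G : Type*} [Group G] {u : G} (hu : u * u = 1) : (u * u) ^ 1 = 1 := by
  rw [pow_one, hu]

theorem grp_comm {G : Type*} [Group G] {u v : G} (hu : u * u = 1) (hv : v * v = 1)
    (hc : u * v = v * u) : (u * v) ^ 2 = 1 := by
  have hc' : Commute u v := hc
  rw [hc'.mul_pow, pow_two, pow_two, hu, hv, one_mul]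

theorem rel_one (x : Fi22.Gen) : (UG x * UG x) ^ 1 = 1 :=
  grp_one (G := GL (Fin 78) (ZMod 13)) (UG_sq x)

theorem rel_comm {x y : Fi22.Gen} (h : mulP 78 13 (PGen x) (PGen y) = mulP 78 13 (PGen y) (PGen x)) :
    (UG x * UG y) ^ 2 = 1 := by
  refine grp_comm (G := GL (Fin 78) (ZMod 13)) (UG_sq x) (UG_sq y) ?_
  apply Units.ext
  rw [Units.val_mul, Units.val_mul, UG_val, UG_val, MG_def, MG_def,
    ← ev2 (good_PGen x) (good_PGen y), ← ev2 (good_PGen y) (good_PGen x), h]

theorem rel_cube {x y : Fi22.Gen}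
    (h : mulP 78 13 (mulP 78 13 (mulP 78 13 (PGen x) (PGen y)) (mulP 78 13 (PGen x) (PGen y)))
      (mulP 78 13 (PGen x) (PGen y)) = idP 78) : (UG x * UG y) ^ 3 = 1 := by
  apply Units.ext
  have hg : Good 78 13 (mulP 78 13 (PGen x) (PGen y)) := good2 _ (good_PGen x)
  have h1 := ev2 (good2 (mulP 78 13 (PGen x) (PGen y)) hg) hg
  rw [h, evP_idP, ev2 hg hg, ev2 (good_PGen x) (good_PGen y), ← MG_def, ← MG_def] at h1
  rw [Units.val_pow_eq_pow_val, Units.val_mul, UG_val, UG_val, Units.val_one, pow_succ, pow_two]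
  exact h1.symm

theorem rel_symm {G : Type*} [Group G] {u v : G} {m : ℕ} (h : (u * v) ^ m = 1) : (v * u) ^ m = 1 := by
  have h1 : v * u = v * (u * v) * v⁻¹ := by group
  rw [h1, conj_pow, h]
  group

theorem cox_all (x y : Fi22.Gen) : (UG x * UG y) ^ coxLabel Fi22.edges x y = 1 := by
  cases x <;> cases y
  · exact rel_one _
  · exact rel_cube (x := .a) (y := .b) cube_a_b
  · exact rel_comm (x := .a) (y := .c) comm_a_c
  · exact rel_comm (x := .a) (y := .d) comm_a_d
  · exact rel_comm (x := .a) (y := .e) comm_a_e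
  · exact rel_comm (x := .a) (y := .f) comm_a_f
  · exact rel_comm (x := .a) (y := .g) comm_a_g
  · exact rel_comm (x := .a) (y := .h) comm_a_h
  · exact rel_comm (x := .a) (y := .i) comm_a_i
  · exact rel_symm (G := GL (Fin 78) (ZMod 13)) (rel_cube (x := .a) (y := .b) cube_a_b)
  · exact rel_one _
  · exact rel_cube (x := .b) (y := .c) cube_b_c
  · exact rel_comm (x := .b) (y := .d) comm_b_d
  · exact rel_comm (x := .b) (y := .e) comm_b_e
  · exact rel_comm (x := .b) (y := .f) comm_b_f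
  · exact rel_comm (x := .b) (y := .g) comm_b_g
  · exact rel_comm (x := .b) (y := .h) comm_b_h
  · exact rel_comm (x := .b) (y := .i) comm_b_i
  · exact rel_symm (G := GL (Fin 78) (ZMod 13)) (rel_comm (x := .a) (y := .c) comm_a_c)
  · exact rel_symm (G := GL (Fin 78) (ZMod 13)) (rel_cube (x := .b) (y := .c) cube_b_c)
  · exact rel_one _
  · exact rel_cube (x := .c) (y := .d) cube_c_d
  · exact rel_comm (x := .c) (y := .e) comm_c_e
  · exact rel_comm (x := .c) (y := .f) comm_c_f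
  · exact rel_comm (x := .c) (y := .g) comm_c_g
  · exact rel_comm (x := .c) (y := .h) comm_c_h
  · exact rel_comm (x := .c) (y := .i) comm_c_i
  · exact rel_symm (G := GL (Fin 78) (ZMod 13)) (rel_comm (x := .a) (y := .d) comm_a_d)
  · exact rel_symm (G := GL (Fin 78) (ZMod 13)) (rel_comm (x := .b) (y := .d) comm_b_d)
  · exact rel_symm (G := GL (Fin 78) (ZMod 13)) (rel_cube (x := .c) (y := .d) cube_c_d)
  · exact rel_one _
  · exact rel_cube (x := .d) (y := .e) cube_d_e
  · exact rel_comm (x := .d) (y := .f) comm_d_f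
  · exact rel_comm (x := .d) (y := .g) comm_d_g
  · exact rel_cube (x := .d) (y := .h) cube_d_h
  · exact rel_comm (x := .d) (y := .i) comm_d_i
  · exact rel_symm (G := GL (Fin 78) (ZMod 13)) (rel_comm (x := .a) (y := .e) comm_a_e)
  · exact rel_symm (G := GL (Fin 78) (ZMod 13)) (rel_comm (x := .b) (y := .e) comm_b_e)
  · exact rel_symm (G := GL (Fin 78) (ZMod 13)) (rel_comm (x := .c) (y := .e) comm_c_e)
  · exact rel_symm (G := GL (Fin 78) (ZMod 13)) (rel_cube (x := .d) (y := .e) cube_d_e)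
  · exact rel_one _
  · exact rel_cube (x := .e) (y := .f) cube_e_f
  · exact rel_comm (x := .e) (y := .g) comm_e_g
  · exact rel_comm (x := .e) (y := .h) comm_e_h
  · exact rel_comm (x := .e) (y := .i) comm_e_i
  · exact rel_symm (G := GL (Fin 78) (ZMod 13)) (rel_comm (x := .a) (y := .f) comm_a_f)
  · exact rel_symm (G := GL (Fin 78) (ZMod 13)) (rel_comm (x := .b) (y := .f) comm_b_f)
  · exact rel_symm (G := GL (Fin 78) (ZMod 13)) (rel_comm (x := .c) (y := .f) comm_c_f)
  · exact rel_symm (G := GL (Fin 78) (ZMod 13)) (rel_comm (x := .d) (y := .f) comm_d_f)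
  · exact rel_symm (G := GL (Fin 78) (ZMod 13)) (rel_cube (x := .e) (y := .f) cube_e_f)
  · exact rel_one _
  · exact rel_cube (x := .f) (y := .g) cube_f_g
  · exact rel_comm (x := .f) (y := .h) comm_f_h
  · exact rel_comm (x := .f) (y := .i) comm_f_i
  · exact rel_symm (G := GL (Fin 78) (ZMod 13)) (rel_comm (x := .a) (y := .g) comm_a_g)
  · exact rel_symm (G := GL (Fin 78) (ZMod 13)) (rel_comm (x := .b) (y := .g) comm_b_g)
  · exact rel_symm (G := GL (Fin 78) (ZMod 13)) (rel_comm (x := .c) (y := .g) comm_c_g)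
  · exact rel_symm (G := GL (Fin 78) (ZMod 13)) (rel_comm (x := .d) (y := .g) comm_d_g)
  · exact rel_symm (G := GL (Fin 78) (ZMod 13)) (rel_comm (x := .e) (y := .g) comm_e_g)
  · exact rel_symm (G := GL (Fin 78) (ZMod 13)) (rel_cube (x := .f) (y := .g) cube_f_g)
  · exact rel_one _
  · exact rel_comm (x := .g) (y := .h) comm_g_h
  · exact rel_comm (x := .g) (y := .i) comm_g_i
  · exact rel_symm (G := GL (Fin 78) (ZMod 13)) (rel_comm (x := .a) (y := .h) comm_a_h)
  · exact rel_symm (G := GL (Fin 78) (ZMod 13)) (rel_comm (x := .b) (y := .h) comm_b_h)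
  · exact rel_symm (G := GL (Fin 78) (ZMod 13)) (rel_comm (x := .c) (y := .h) comm_c_h)
  · exact rel_symm (G := GL (Fin 78) (ZMod 13)) (rel_cube (x := .d) (y := .h) cube_d_h)
  · exact rel_symm (G := GL (Fin 78) (ZMod 13)) (rel_comm (x := .e) (y := .h) comm_e_h)
  · exact rel_symm (G := GL (Fin 78) (ZMod 13)) (rel_comm (x := .f) (y := .h) comm_f_h)
  · exact rel_symm (G := GL (Fin 78) (ZMod 13)) (rel_comm (x := .g) (y := .h) comm_g_h)
  · exact rel_one _
  · exact rel_cube (x := .h) (y := .i) cube_h_i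
  · exact rel_symm (G := GL (Fin 78) (ZMod 13)) (rel_comm (x := .a) (y := .i) comm_a_i)
  · exact rel_symm (G := GL (Fin 78) (ZMod 13)) (rel_comm (x := .b) (y := .i) comm_b_i)
  · exact rel_symm (G := GL (Fin 78) (ZMod 13)) (rel_comm (x := .c) (y := .i) comm_c_i)
  · exact rel_symm (G := GL (Fin 78) (ZMod 13)) (rel_comm (x := .d) (y := .i) comm_d_i)
  · exact rel_symm (G := GL (Fin 78) (ZMod 13)) (rel_comm (x := .e) (y := .i) comm_e_i)
  · exact rel_symm (G := GL (Fin 78) (ZMod 13)) (rel_comm (x := .f) (y := .i) comm_f_i)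
  · exact rel_symm (G := GL (Fin 78) (ZMod 13)) (rel_comm (x := .g) (y := .i) comm_g_i)
  · exact rel_symm (G := GL (Fin 78) (ZMod 13)) (rel_cube (x := .h) (y := .i) cube_h_i)
  · exact rel_one _

theorem spider_rel : (MG .d * MG .c * MG .b * MG .d * MG .e * MG .f * MG .d * MG .h * MG .i) ^ 10 = 1 := by
  have g0 : Good 78 13 (PGen .d) := good_PGen _
  have g1 : Good 78 13 sp_1 := good2 _ g0
  have g2 : Good 78 13 sp_2 := good2 _ g1
  have g3 : Good 78 13 sp_3 := good2 _ g2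
  have g4 : Good 78 13 sp_4 := good2 _ g3
  have g5 : Good 78 13 sp_5 := good2 _ g4
  have g6 : Good 78 13 sp_6 := good2 _ g5
  have g7 : Good 78 13 sp_7 := good2 _ g6
  have g8 : Good 78 13 sp_8 := good2 _ g7
  have e0 : evP 78 13 (PGen .d) = MG .d := (MG_def _).symm
  have e1 : evP 78 13 sp_1 = MG .d * MG .c := by
    show evP 78 13 (mulP 78 13 (PGen .d) (PGen .c)) = _
    rw [ev2 g0 (good_PGen _), e0, ← MG_def]
  have e2 : evP 78 13 sp_2 = MG .d * MG .c * MG .b := by
    show evP 78 13 (mulP 78 13 sp_1 (PGen .b)) = _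
    rw [ev2 g1 (good_PGen _), e1, ← MG_def]
  have e3 : evP 78 13 sp_3 = MG .d * MG .c * MG .b * MG .d := by
    show evP 78 13 (mulP 78 13 sp_2 (PGen .d)) = _
    rw [ev2 g2 (good_PGen _), e2, ← MG_def]
  have e4 : evP 78 13 sp_4 = MG .d * MG .c * MG .b * MG .d * MG .e := by
    show evP 78 13 (mulP 78 13 sp_3 (PGen .e)) = _
    rw [ev2 g3 (good_PGen _), e3, ← MG_def]
  have e5 : evP 78 13 sp_5 = MG .d * MG .c * MG .b * MG .d * MG .e * MG .f := by
    show evP 78 13 (mulP 78 13 sp_4 (PGen .f)) = _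
    rw [ev2 g4 (good_PGen _), e4, ← MG_def]
  have e6 : evP 78 13 sp_6 = MG .d * MG .c * MG .b * MG .d * MG .e * MG .f * MG .d := by
    show evP 78 13 (mulP 78 13 sp_5 (PGen .d)) = _
    rw [ev2 g5 (good_PGen _), e5, ← MG_def]
  have e7 : evP 78 13 sp_7 = MG .d * MG .c * MG .b * MG .d * MG .e * MG .f * MG .d * MG .h := by
    show evP 78 13 (mulP 78 13 sp_6 (PGen .h)) = _
    rw [ev2 g6 (good_PGen _), e6, ← MG_def]
  have e8 : evP 78 13 sp_8 = MG .d * MG .c * MG .b * MG .d * MG .e * MG .f * MG .d * MG .h * MG .i := by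
    show evP 78 13 (mulP 78 13 sp_7 (PGen .i)) = _
    rw [ev2 g7 (good_PGen _), e7, ← MG_def]
  have gp2 : Good 78 13 sp_p2 := good2 _ g8
  have gp4 : Good 78 13 sp_p4 := good2 _ gp2
  have gp8 : Good 78 13 sp_p8 := good2 _ gp4
  have p2 : evP 78 13 sp_p2 = evP 78 13 sp_8 ^ 2 := by
    show evP 78 13 (mulP 78 13 sp_8 sp_8) = _
    rw [ev2 g8 g8, pow_two]
  have p4 : evP 78 13 sp_p4 = evP 78 13 sp_8 ^ 4 := by
    show evP 78 13 (mulP 78 13 sp_p2 sp_p2) = _
    rw [ev2 gp2 gp2, p2, ← pow_add]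
  have p8 : evP 78 13 sp_p8 = evP 78 13 sp_8 ^ 8 := by
    show evP 78 13 (mulP 78 13 sp_p4 sp_p4) = _
    rw [ev2 gp4 gp4, p4, ← pow_add]
  have hfin := ev2 gp8 gp2
  rw [sp_pow, evP_idP, p8, p2, ← pow_add, e8] at hfin
  exact hfin.symm

theorem e7a_rel : (MG .a * MG .b * MG .c * MG .d * MG .e * MG .f * MG .h) ^ 9 = 1 := by
  have g0 : Good 78 13 (PGen .a) := good_PGen _
  have g1 : Good 78 13 ea_1 := good2 _ g0
  have g2 : Good 78 13 ea_2 := good2 _ g1
  have g3 : Good 78 13 ea_3 := good2 _ g2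
  have g4 : Good 78 13 ea_4 := good2 _ g3
  have g5 : Good 78 13 ea_5 := good2 _ g4
  have g6 : Good 78 13 ea_6 := good2 _ g5
  have e0 : evP 78 13 (PGen .a) = MG .a := (MG_def _).symm
  have e1 : evP 78 13 ea_1 = MG .a * MG .b := by
    show evP 78 13 (mulP 78 13 (PGen .a) (PGen .b)) = _
    rw [ev2 g0 (good_PGen _), e0, ← MG_def]
  have e2 : evP 78 13 ea_2 = MG .a * MG .b * MG .c := by
    show evP 78 13 (mulP 78 13 ea_1 (PGen .c)) = _
    rw [ev2 g1 (good_PGen _), e1, ← MG_def]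
  have e3 : evP 78 13 ea_3 = MG .a * MG .b * MG .c * MG .d := by
    show evP 78 13 (mulP 78 13 ea_2 (PGen .d)) = _
    rw [ev2 g2 (good_PGen _), e2, ← MG_def]
  have e4 : evP 78 13 ea_4 = MG .a * MG .b * MG .c * MG .d * MG .e := by
    show evP 78 13 (mulP 78 13 ea_3 (PGen .e)) = _
    rw [ev2 g3 (good_PGen _), e3, ← MG_def]
  have e5 : evP 78 13 ea_5 = MG .a * MG .b * MG .c * MG .d * MG .e * MG .f := by
    show evP 78 13 (mulP 78 13 ea_4 (PGen .f)) = _
    rw [ev2 g4 (good_PGen _), e4, ← MG_def]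
  have e6 : evP 78 13 ea_6 = MG .a * MG .b * MG .c * MG .d * MG .e * MG .f * MG .h := by
    show evP 78 13 (mulP 78 13 ea_5 (PGen .h)) = _
    rw [ev2 g5 (good_PGen _), e5, ← MG_def]
  have gp2 : Good 78 13 ea_p2 := good2 _ g6
  have gp4 : Good 78 13 ea_p4 := good2 _ gp2
  have gp8 : Good 78 13 ea_p8 := good2 _ gp4
  have p2 : evP 78 13 ea_p2 = evP 78 13 ea_6 ^ 2 := by
    show evP 78 13 (mulP 78 13 ea_6 ea_6) = _
    rw [ev2 g6 g6, pow_two]
  have p4 : evP 78 13 ea_p4 = evP 78 13 ea_6 ^ 4 := by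
    show evP 78 13 (mulP 78 13 ea_p2 ea_p2) = _
    rw [ev2 gp2 gp2, p2, ← pow_add]
  have p8 : evP 78 13 ea_p8 = evP 78 13 ea_6 ^ 8 := by
    show evP 78 13 (mulP 78 13 ea_p4 ea_p4) = _
    rw [ev2 gp4 gp4, p4, ← pow_add]
  have hfin := ev2 gp8 g6
  rw [ea_pow, evP_idP, p8, ← pow_succ, e6] at hfin
  exact hfin.symm

theorem e7b_rel : (MG .b * MG .c * MG .d * MG .e * MG .f * MG .g * MG .h) ^ 9 = 1 := by
  have g0 : Good 78 13 (PGen .b) := good_PGen _
  have g1 : Good 78 13 eb_1 := good2 _ g0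
  have g2 : Good 78 13 eb_2 := good2 _ g1
  have g3 : Good 78 13 eb_3 := good2 _ g2
  have g4 : Good 78 13 eb_4 := good2 _ g3
  have g5 : Good 78 13 eb_5 := good2 _ g4
  have g6 : Good 78 13 eb_6 := good2 _ g5
  have e0 : evP 78 13 (PGen .b) = MG .b := (MG_def _).symm
  have e1 : evP 78 13 eb_1 = MG .b * MG .c := by
    show evP 78 13 (mulP 78 13 (PGen .b) (PGen .c)) = _
    rw [ev2 g0 (good_PGen _), e0, ← MG_def]
  have e2 : evP 78 13 eb_2 = MG .b * MG .c * MG .d := by
    show evP 78 13 (mulP 78 13 eb_1 (PGen .d)) = _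
    rw [ev2 g1 (good_PGen _), e1, ← MG_def]
  have e3 : evP 78 13 eb_3 = MG .b * MG .c * MG .d * MG .e := by
    show evP 78 13 (mulP 78 13 eb_2 (PGen .e)) = _
    rw [ev2 g2 (good_PGen _), e2, ← MG_def]
  have e4 : evP 78 13 eb_4 = MG .b * MG .c * MG .d * MG .e * MG .f := by
    show evP 78 13 (mulP 78 13 eb_3 (PGen .f)) = _
    rw [ev2 g3 (good_PGen _), e3, ← MG_def]
  have e5 : evP 78 13 eb_5 = MG .b * MG .c * MG .d * MG .e * MG .f * MG .g := by
    show evP 78 13 (mulP 78 13 eb_4 (PGen .g)) = _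
    rw [ev2 g4 (good_PGen _), e4, ← MG_def]
  have e6 : evP 78 13 eb_6 = MG .b * MG .c * MG .d * MG .e * MG .f * MG .g * MG .h := by
    show evP 78 13 (mulP 78 13 eb_5 (PGen .h)) = _
    rw [ev2 g5 (good_PGen _), e5, ← MG_def]
  have gp2 : Good 78 13 eb_p2 := good2 _ g6
  have gp4 : Good 78 13 eb_p4 := good2 _ gp2
  have gp8 : Good 78 13 eb_p8 := good2 _ gp4
  have p2 : evP 78 13 eb_p2 = evP 78 13 eb_6 ^ 2 := by
    show evP 78 13 (mulP 78 13 eb_6 eb_6) = _
    rw [ev2 g6 g6, pow_two]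
  have p4 : evP 78 13 eb_p4 = evP 78 13 eb_6 ^ 4 := by
    show evP 78 13 (mulP 78 13 eb_p2 eb_p2) = _
    rw [ev2 gp2 gp2, p2, ← pow_add]
  have p8 : evP 78 13 eb_p8 = evP 78 13 eb_6 ^ 8 := by
    show evP 78 13 (mulP 78 13 eb_p4 eb_p4) = _
    rw [ev2 gp4 gp4, p4, ← pow_add]
  have hfin := ev2 gp8 g6
  rw [eb_pow, evP_idP, p8, ← pow_succ, e6] at hfin
  exact hfin.symm

theorem lift_rels : ∀ r ∈ coxRelators Fi22.edges ∪ {r | r ∈ Fi22.extra}, FreeGroup.lift UG r = 1 := by
  intro r hr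
  rcases hr with ⟨x, -, y, -, rfl⟩ | hr
  · simp only [map_pow, map_mul, FreeGroup.lift_apply_of]
    exact cox_all x y
  · simp only [Fi22.extra, Set.mem_ofPred_eq, List.mem_cons, List.not_mem_nil, or_false] at hr
    rcases hr with rfl | rfl | rfl
    · simp only [map_pow, map_mul, FreeGroup.lift_apply_of]
      apply Units.ext
      simp only [Units.val_pow_eq_pow_val, Units.val_mul, UG_val, Units.val_one]
      exact spider_rel
    · simp only [map_pow, map_mul, FreeGroup.lift_apply_of]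
      apply Units.ext
      simp only [Units.val_pow_eq_pow_val, Units.val_mul, UG_val, Units.val_one]
      exact e7a_rel
    · simp only [map_pow, map_mul, FreeGroup.lift_apply_of]
      apply Units.ext
      simp only [Units.val_pow_eq_pow_val, Units.val_mul, UG_val, Units.val_one]
      exact e7b_rel

/-- the 78-dimensional representation of Fi22 over the field with 13 elements -/
noncomputable def rep : Fi22 →* GL (Fin 78) (ZMod 13) := PresentedGroup.toGroup lift_rels

theorem rep_of (x : Fi22.Gen) : rep (PresentedGroup.of x) = UG x := PresentedGroup.toGroup.of lift_rels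

theorem entry_ne : dg (PA.getD 0 0) 1 % 13 ≠ 0 := by decide +kernel

theorem UG_a_ne_one : UG .a ≠ 1 := by
  intro h
  have h1 : MG .a = 1 := by rw [← UG_val, h, Units.val_one]
  rw [MG_def] at h1
  have h2 := congrFun (congrFun h1 (0 : Fin 78)) (1 : Fin 78)
  rw [Matrix.one_apply_ne (by decide)] at h2
  have h3 : ((dg (PA.getD 0 0) 1 : ℕ) : ZMod 13) = 0 := h2
  rw [ZMod.natCast_eq_zero_iff, Nat.dvd_iff_mod_eq_zero] at h3
  exact entry_ne h3

theorem rep_injective : Function.Injective rep := by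
  have : IsSimpleGroup Fi22 := Cfsg.Agent.S1696.result.1
  rcases rep.normal_ker.eq_bot_or_eq_top with h | h
  · exact (MonoidHom.ker_eq_bot_iff rep).mp h
  · exfalso
    have : (PresentedGroup.of Fi22.Gen.a : Fi22) ∈ rep.ker := by rw [h]; trivial
    rw [MonoidHom.mem_ker, rep_of] at this
    exact UG_a_ne_one this

end Cfsg.Agent.Lib.Helper10.F22Rep
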