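import Cfsg.Agent.Lib.Helper10.F22RepCore

/-!
# Matrices over `ZMod p` with rows packed into natural numbers (helper10)

A row is a natural number whose base-`W` digits (`W = 2^16`) are the entries; a matrix is a list of rows.
`mulP n p A B` multiplies two such matrices with a handful of big-number operations per entry, and
`evP_mulP` says that it computes the matrix product as soon as the entries are `< p` and `n * p^2 < W`.
-/

set_option autoImplicit false

namespace Cfsg.Agent.Lib.Helper10.F22Rep

/-- lane width -/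
def W : ℕ := 65536

theorem W_pos : 0 < W := by decide

/-- digit `j` in base `W` -/
def dg (X j : ℕ) : ℕ := X / W ^ j % W

/-- pack a list of digits -/
def pack : List ℕ → ℕ
  | [] => 0
  | x :: xs => x + W * pack xs

/-- the lowest `n` digits -/
def lanes : ℕ → ℕ → List ℕ
  | 0, _ => []
  | k + 1, X => (X % W) :: lanes k (X / W)

/-- `∑ₖ (digit k of a) * Bₖ` -/
def lin2 : ℕ → List ℕ → ℕ
  | _, [] => 0
  | a, b :: B => (a % W) * b + lin2 (a / W) B

/-- reduce the lowest `k` digits modulo `p` -/
def redpack (p : ℕ) : ℕ → ℕ → ℕ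
  | 0, _ => 0
  | k + 1, X => (X % W % p) + W * redpack p k (X / W)

/-- product of packed matrices -/
def mulP (n p : ℕ) (A B : List ℕ) : List ℕ := A.map fun a => redpack p n (lin2 a B)

/-- the packed identity matrix -/
def idP (n : ℕ) : List ℕ := (List.range n).map fun i => W ^ i

/-- the matrix of a packed matrix -/
def evP (n p : ℕ) (A : List ℕ) : Matrix (Fin n) (Fin n) (ZMod p) :=
  fun i j => ((dg (A.getD i.val 0) j.val : ℕ) : ZMod p)

theorem dg_zero (X : ℕ) : dg X 0 = X % W := by simp [dg]

theorem dg_succ (X j : ℕ) : dg X (j + 1) = dg (X / W) j := by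
  unfold dg
  rw [pow_succ', Nat.div_div_eq_div_mul]

theorem pack_vadd (xs ys : List ℕ) : pack (vadd xs ys) = pack xs + pack ys := by
  induction xs generalizing ys with
  | nil => simp [vadd, pack]
  | cons x xs ih =>
    cases ys with
    | nil => simp [vadd, pack]
    | cons y ys => simp only [vadd, pack, ih]; ring

theorem pack_smul (c : ℕ) (xs : List ℕ) : pack (smul c xs) = c * pack xs := by
  unfold smul
  induction xs with
  | nil => simp [pack]
  | cons x xs ih => simp only [List.map_cons, pack, ih]; ring

theorem lanes_getD (n X j : ℕ) : (lanes n X).getD j 0 = if j < n then dg X j else 0 := by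
  induction n generalizing X j with
  | zero => simp [lanes]
  | succ n ih =>
    cases j with
    | zero => simp [lanes, dg_zero]
    | succ j =>
      simp only [lanes, List.getD_cons_succ, dg_succ, ih, Nat.succ_lt_succ_iff]

theorem length_lanes (n X : ℕ) : (lanes n X).length = n := by
  induction n generalizing X with
  | zero => rfl
  | succ n ih => simp [lanes, ih]

theorem pack_lanes (n X : ℕ) : pack (lanes n X) = X % W ^ n := by
  induction n generalizing X with
  | zero => simp [lanes, pack, Nat.mod_one]
  | succ n ih => simp only [lanes, pack, ih, pow_succ', Nat.mod_mul]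

theorem dg_pack (ys : List ℕ) (h : ∀ y ∈ ys, y < W) (j : ℕ) : dg (pack ys) j = ys.getD j 0 := by
  induction ys generalizing j with
  | nil => simp [pack, dg]
  | cons y ys ih =>
    have hy : y < W := h y (by simp)
    have hys : ∀ z ∈ ys, z < W := fun z hz => h z (by simp [hz])
    cases j with
    | zero =>
      simp only [pack, dg_zero, List.getD_cons_zero, Nat.add_mul_mod_self_left]
      exact Nat.mod_eq_of_lt hy
    | succ j =>
      simp only [pack, dg_succ, List.getD_cons_succ]
      rw [Nat.add_mul_div_left _ _ W_pos, Nat.div_eq_of_lt hy, Nat.zero_add]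
      exact ih hys j

theorem lin2_eq (n : ℕ) (B : List ℕ) (hB : ∀ b ∈ B, b < W ^ n) (a : ℕ) :
    lin2 a B = pack (rowMul (lanes B.length a) (B.map (lanes n))) := by
  induction B generalizing a with
  | nil => simp [lin2, lanes, rowMul, pack]
  | cons b B ih =>
    have hb : b < W ^ n := hB b (by simp)
    have hB' : ∀ c ∈ B, c < W ^ n := fun c hc => hB c (by simp [hc])
    simp only [lin2, List.length_cons, lanes, List.map_cons, rowMul, pack_vadd, pack_smul,
      pack_lanes, Nat.mod_eq_of_lt hb, ih hB' (a / W)]

theorem mem_getD {l : List ℕ} {y : ℕ} (h : y ∈ l) : ∃ j, l.getD j 0 = y := by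
  obtain ⟨j, hj, rfl⟩ := List.mem_iff_getElem.mp h
  exact ⟨j, by simp [List.getD_eq_getElem?_getD, hj]⟩

/-- a packed matrix with `n` rows, entries `< p` and nothing above lane `n` -/
structure Good (n p : ℕ) (A : List ℕ) : Prop where
  len : A.length = n
  lt : ∀ a ∈ A, a < W ^ n
  dgt : ∀ a ∈ A, ∀ j, dg a j < p

theorem rowMul_lanes_getD (n p : ℕ) (B : List ℕ) (hB : Good n p B) (a j : ℕ) :
    (rowMul (lanes B.length a) (B.map (lanes n))).getD j 0 =
      ∑ k ∈ Finset.range n, dg a k * (if j < n then dg (B.getD k 0) j else 0) := by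
  rw [rowMul_getD _ _ j n (by simp [hB.len])]
  refine Finset.sum_congr rfl fun k hk => ?_
  have hk' : k < B.length := by rw [hB.len]; exact Finset.mem_range.mp hk
  have hk'' : k < n := Finset.mem_range.mp hk
  have h3 : (B.map (lanes n)).getD k [] = lanes n (B.getD k 0) := by
    simp [List.getD_eq_getElem?_getD, hk']
  rw [lanes_getD, if_pos hk', h3, lanes_getD]

theorem dg_lin2 (n p : ℕ) (hW : n * (p * p) < W) (B : List ℕ) (hB : Good n p B) (a : ℕ)
    (ha : ∀ k, dg a k < p) (j : ℕ) :
    dg (lin2 a B) j = ∑ k ∈ Finset.range n, dg a k * (if j < n then dg (B.getD k 0) j else 0) := by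
  rw [lin2_eq n B hB.lt a, dg_pack, rowMul_lanes_getD n p B hB]
  intro y hy
  obtain ⟨j', rfl⟩ := mem_getD hy
  rw [rowMul_lanes_getD n p B hB]
  refine lt_of_le_of_lt ?_ hW
  calc ∑ k ∈ Finset.range n, dg a k * (if j' < n then dg (B.getD k 0) j' else 0)
      ≤ ∑ _k ∈ Finset.range n, p * p := by
        refine Finset.sum_le_sum fun k hk => ?_
        have hk' : k < B.length := by rw [hB.len]; exact Finset.mem_range.mp hk
        refine Nat.mul_le_mul (ha k).le ?_
        split_ifs
        · refine (hB.dgt _ ?_ j').le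
          rw [List.getD_eq_getElem?_getD, List.getElem?_eq_getElem hk']
          exact List.getElem_mem hk'
        · exact Nat.zero_le _
    _ = n * (p * p) := by simp

theorem redpack_lt (p n X : ℕ) : redpack p n X < W ^ n := by
  induction n generalizing X with
  | zero => simp [redpack]
  | succ n ih =>
    have h1 : X % W % p < W := lt_of_le_of_lt (Nat.mod_le _ _) (Nat.mod_lt _ W_pos)
    have h2 := ih (X / W)
    simp only [redpack, pow_succ']
    have h3 : W * (redpack p n (X / W) + 1) ≤ W * W ^ n := Nat.mul_le_mul_left _ h2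
    rw [Nat.mul_add] at h3
    omega

theorem dg_redpack (p n X j : ℕ) :
    dg (redpack p n X) j = if j < n then dg X j % p else 0 := by
  induction n generalizing X j with
  | zero => simp [redpack, dg]
  | succ n ih =>
    have h1 : X % W % p < W := lt_of_le_of_lt (Nat.mod_le _ _) (Nat.mod_lt _ W_pos)
    cases j with
    | zero =>
      simp only [redpack, dg_zero, Nat.add_mul_mod_self_left, Nat.mod_eq_of_lt h1]
      simp
    | succ j =>
      simp only [redpack, dg_succ]
      rw [Nat.add_mul_div_left _ _ W_pos, Nat.div_eq_of_lt h1, Nat.zero_add, ih]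
      simp

theorem good_mulP (n p : ℕ) (hp : 0 < p) (A B : List ℕ) (hA : A.length = n) :
    Good n p (mulP n p A B) where
  len := by simp [mulP, hA]
  lt := by
    intro a ha
    obtain ⟨a', -, rfl⟩ := List.mem_map.mp ha
    exact redpack_lt _ _ _
  dgt := by
    intro a ha j
    obtain ⟨a', -, rfl⟩ := List.mem_map.mp ha
    rw [dg_redpack]
    split_ifs
    · exact Nat.mod_lt _ hp
    · exact hp

theorem evP_mulP (n p : ℕ) (hW : n * (p * p) < W) (A B : List ℕ) (hA : Good n p A)
    (hB : Good n p B) : evP n p (mulP n p A B) = evP n p A * evP n p B := by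
  ext i j
  have hi : i.val < A.length := by rw [hA.len]; exact i.isLt
  have hmem : A[i.val] ∈ A := List.getElem_mem hi
  have h1 : (mulP n p A B).getD i.val 0 = redpack p n (lin2 (A[i.val]) B) := by
    simp [mulP, List.getD_eq_getElem?_getD, hi]
  have h2 : A.getD i.val 0 = A[i.val] := by simp [List.getD_eq_getElem?_getD, hi]
  simp only [evP, Matrix.mul_apply, h1, h2, dg_redpack, if_pos j.isLt, ZMod.natCast_mod]
  rw [dg_lin2 n p hW B hB _ (hA.dgt _ hmem), Nat.cast_sum,
    ← Fin.sum_univ_eq_sum_range
      (fun k => (((dg A[i.val] k * (if j.val < n then dg (B.getD k 0) j.val else 0) : ℕ)) : ZMod p))]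
  simp [j.isLt]

theorem dg_W_pow (i j : ℕ) : dg (W ^ i) j = if i = j then 1 else 0 := by
  unfold dg
  rcases lt_trichotomy i j with h | h | h
  · rw [Nat.div_eq_of_lt (Nat.pow_lt_pow_right (by decide) h), if_neg h.ne]; rfl
  · subst h
    rw [Nat.div_self (Nat.pow_pos W_pos), if_pos rfl]; rfl
  · rw [if_neg h.ne']
    obtain ⟨d, rfl⟩ : ∃ d, i = j + (d + 1) := ⟨i - j - 1, by omega⟩
    rw [pow_add, Nat.mul_div_cancel_left _ (Nat.pow_pos W_pos), pow_succ]
    exact Nat.mul_mod_left _ _

theorem idP_getD (n i : ℕ) (hi : i < n) : (idP n).getD i 0 = W ^ i := by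
  simp [idP, List.getD_eq_getElem?_getD, hi]

theorem evP_idP (n p : ℕ) : evP n p (idP n) = 1 := by
  ext i j
  simp only [evP, idP_getD n i.val i.isLt, dg_W_pow, Matrix.one_apply, Fin.ext_iff]
  split_ifs <;> simp

theorem good_idP (n p : ℕ) (hp : 1 < p) : Good n p (idP n) where
  len := by simp [idP]
  lt := by
    intro a ha
    obtain ⟨i, hi, rfl⟩ := List.mem_map.mp ha
    exact Nat.pow_lt_pow_right (by decide) (List.mem_range.mp hi)
  dgt := by
    intro a ha j
    obtain ⟨i, -, rfl⟩ := List.mem_map.mp ha
    rw [dg_W_pow]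
    split_ifs <;> omega

/-- Boolean test for a good row -/
def goodRow (p : ℕ) : ℕ → ℕ → Bool
  | 0, X => X == 0
  | k + 1, X => decide (X % W < p) && goodRow p k (X / W)

theorem goodRow_spec (p : ℕ) (hp : 0 < p) (n X : ℕ) (h : goodRow p n X = true) :
    X < W ^ n ∧ ∀ j, dg X j < p := by
  induction n generalizing X with
  | zero =>
    have : X = 0 := by simpa [goodRow] using h
    subst this
    exact ⟨by simp, fun j => by simpa [dg] using hp⟩
  | succ n ih =>
    simp only [goodRow, Bool.and_eq_true, decide_eq_true_eq] at h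
    obtain ⟨h1, h2⟩ := ih (X / W) h.2
    refine ⟨?_, fun j => ?_⟩
    · rw [pow_succ]
      exact (Nat.div_lt_iff_lt_mul W_pos).mp h1
    · cases j with
      | zero => rw [dg_zero]; exact h.1
      | succ j => rw [dg_succ]; exact h2 j

/-- Boolean test for a good matrix -/
def goodM (n p : ℕ) (A : List ℕ) : Bool := (A.length == n) && A.all (goodRow p n)

theorem good_of_goodM (n p : ℕ) (hp : 0 < p) (A : List ℕ) (h : goodM n p A = true) : Good n p A := by
  simp only [goodM, Bool.and_eq_true, beq_iff_eq, List.all_eq_true] at h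
  exact ⟨h.1, fun a ha => (goodRow_spec p hp n a (h.2 a ha)).1,
    fun a ha => (goodRow_spec p hp n a (h.2 a ha)).2⟩

end Cfsg.Agent.Lib.Helper10.F22Rep
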