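import Cfsg.Agent.Lib.Helper10.F23OChk0
import Cfsg.Agent.Lib.Helper10.F23ODefChk13
set_option autoImplicit false
set_option maxRecDepth 100000
set_option maxHeartbeats 0

/-! Generated checks of the letters of the Fischer group Fi23 on 31671 points: they are permutations,
and the derived letters act as their defining words. -/

namespace Cfsg.Agent.Lib.Helper10.F23O
open Cfsg.Agent.Lib.Helper28.TC2Upper Cfsg.Agent.Lib.Helper28.TC2Lower Cfsg.Agent.Lib.Helper28.TC2Range
open Cfsg.Agent.Lib.Helper28.TC2Bsgs

theorem hdefAll_28 : defAll (28 * 1024) 1024 = true := by decide +kernel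

theorem hdefAll_29 : defAll (29 * 1024) 1024 = true := by decide +kernel

theorem hperm_28 : Table.permRange XT (28 * 1024) 1024 = true := by decide +kernel

theorem hperm_29 : Table.permRange XT (29 * 1024) 1024 = true := by decide +kernel

end Cfsg.Agent.Lib.Helper10.F23O
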