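import Cfsg.Agent.Lib.Helper10.F23OBasic
import Cfsg.Agent.Lib.Helper28.TCFi23W0Main

set_option autoImplicit false
set_option maxRecDepth 100000

/-!
The centraliser of an involution of the Fischer group Fi23 has index at most 31671: it contains
the subgroup of index 31671 generated by nine of the generators.
-/

namespace Cfsg.Agent.Lib.Helper10.F23O
open Cfsg.Agent.Lib.Helper28.TC2Upper Cfsg.Agent.Lib.Helper28.TC2Lower Cfsg.Agent.Lib.Helper28.TC2Range
open Cfsg.Agent.Lib.Helper28.TC2Bsgs Cfsg.Agent.Lib.Helper28.TC2Simple Cfsg.Agent.Lib.Helper28.TC2Glue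
open Cfsg.Agent.Lib.Helper28

noncomputable section

theorem comm_sub : (TCFi23W0Link.subWords.all fun L =>
    sigEq ([38] ++ pathOf TCFi23W0Link.lw L) (pathOf TCFi23W0Link.lw L ++ [38])) = true := by
  decide +kernel

/-- the order of the centraliser of the involution -/
theorem card_centralizer_ge :
    129123503308800 ≤ Nat.card ↥(Subgroup.centralizer ({gw [38]} : Set ↥G)) := by
  obtain ⟨e, he⟩ := exists_iso
  set KH : Subgroup (PresentedGroup TCFi23W0Link.rels) :=
    (Subgroup.closure TCFi23W0Link.S).map (PresentedGroup.mk TCFi23W0Link.rels) with hKH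
  have hidx : KH.index = 31671 := TCFi23W0Main.main.1
  have hFi : Nat.card (PresentedGroup TCFi23W0Link.rels) = 4089470473293004800 :=
    Cfsg.Agent.S1697.result.2
  have hcardK : Nat.card ↥KH = 129123503308800 := by
    have := KH.index_mul_card
    rw [hidx, hFi] at this
    omega
  set K' : Subgroup ↥G := KH.map e.toMonoidHom with hK'
  have hcardK' : Nat.card ↥K' = 129123503308800 := by
    rw [hK', Subgroup.card_map_of_injective e.injective]
    exact hcardK
  have hle : K' ≤ Subgroup.centralizer ({gw [38]} : Set ↥G) := by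
    rw [hK', hKH, Subgroup.map_map, MonoidHom.map_closure, Subgroup.closure_le]
    rintro _ ⟨s, hs, rfl⟩
    obtain ⟨L, hL, rfl⟩ := (TCFi23W0Link.hS s).mp hs
    rw [SetLike.mem_coe, Subgroup.mem_centralizer_iff]
    intro h hh
    rw [Set.mem_singleton_iff] at hh
    subst hh
    have key : (e.toMonoidHom.comp (PresentedGroup.mk TCFi23W0Link.rels)) (FreeGroup.mk L) =
        gw (pathOf TCFi23W0Link.lw L) := he L
    rw [key]
    have h0 := comm_sub
    rw [List.all_eq_true] at h0
    have h1 := (sigEq_iff _ _).mp (h0 L hL)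
    rw [gw_append, gw_append] at h1
    exact h1.symm
  rw [← hcardK']
  exact Subgroup.card_le_of_le hle

end

end Cfsg.Agent.Lib.Helper10.F23O
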