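import Cfsg.Agent.Lib.Helper10.F23OMain

set_option autoImplicit false
set_option maxRecDepth 100000

/-!
S2081 (helper15's plan), leaf C1: in the Fischer group Fi23 (on 31671 points, and in the presented
form) the element `y` of order 17 is self-centralising.
-/

namespace Cfsg.Agent.Lib.Helper10.F23O
open Cfsg.Agent.Lib.Helper28.TC2Upper Cfsg.Agent.Lib.Helper28.TC2Lower Cfsg.Agent.Lib.Helper28.TC2Bsgs
open Cfsg.Agent.Lib.Helper28.TC2Glue
open Cfsg.Agent.Lib.Helper28
open Cfsg.Agent.Lib.Helper10.OutG
open Cfsg.Agent.Lib.Helper10.SuzO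

attribute [local irreducible] wk gwp codeW hcode sigEq

noncomputable section

/-- the centre of Fi23 is trivial -/
theorem center_G : Subgroup.center ↥G = ⊥ := by
  rcases (Subgroup.Normal.eq_bot_or_eq_top
    (inferInstance : (Subgroup.center ↥G).Normal)) with h | h
  · exact h
  · exfalso
    have hy : y ∈ Subgroup.center ↥G := by
      rw [h]
      trivial
    have hc : nn * y = y * nn := (Subgroup.mem_center_iff.mp hy) nn
    have h3 : nn * y * nn⁻¹ = y ^ 3 := nn_conj
    rw [hc, mul_inv_cancel_right] at h3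
    have h2 : y ^ 2 = 1 := by
      have : y * y ^ 2 = y * 1 := by
        rw [mul_one, ← pow_succ']
        exact h3.symm
      exact mul_left_cancel this
    have hd : orderOf y ∣ 2 := orderOf_dvd_of_pow_eq_one h2
    rw [orderOf_y] at hd
    omega

/-- leaf C1: `C_G(y) = ⟨y⟩` -/
theorem centralizer_y (c : ↥G) (hc : c * y = y * c) : c ∈ Subgroup.zpowers y := by
  let β : MulAut ↥G := MulAut.conj c
  have hβt : β t = c * t * c⁻¹ := rfl
  have hβy : β y = y := by
    show c * y * c⁻¹ = y
    rw [hc, mul_inv_cancel_right]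
  have hrel : Rel (β t) (β y) := rel_ty.map β.toMonoidHom
  rw [hβy] at hrel
  have hmem := mem_invsD_of_conj (β t) (isConj_iff.2 ⟨c, rfl⟩)
  obtain ⟨i, hi, hw⟩ := List.mem_map.mp hmem
  rw [List.mem_range] at hi
  have hcode := (clsDF_parts hi).1
  unfold codeA at hcode
  rcases (clsDF_parts hi).2 with hf | hex
  · exfalso
    apply not_rel_of_fail (y := y) gw_y2 gw_y5 gw_y3 hf
    rw [hw]
    exact hrel
  · obtain ⟨j, hj⟩ := exc1_spec hex
    have hvw : gw (cj (wD i) [38]) = gw (cj (rpt j [34]) [38]) := by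
      apply gw_eq_of_code
      unfold codeA at hj
      rw [hcode, hj]
    rw [hw, gw_cj, gw_rpt_y] at hvw
    -- `hvw : β t = y ^ j * t * (y ^ j)⁻¹`
    have hvw' : c * t * c⁻¹ = y ^ j * t * (y ^ j)⁻¹ := hvw
    set z : ↥G := (y ^ j)⁻¹ * c with hz
    have hzt : z * t = t * z := by
      have h1 : z * t * z⁻¹ = t := by
        calc z * t * z⁻¹ = (y ^ j)⁻¹ * (c * t * c⁻¹) * (y ^ j) := by
              rw [hz]; group
          _ = (y ^ j)⁻¹ * (y ^ j * t * (y ^ j)⁻¹) * (y ^ j) := by rw [hvw']
          _ = t := by group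
      calc z * t = (z * t * z⁻¹) * z := by group
        _ = t * z := by rw [h1]
    have hzy : z * y = y * z := by
      have h1 : (y ^ j)⁻¹ * y = y * (y ^ j)⁻¹ := by
        have := (Commute.refl y).pow_left j
        exact (this.inv_left).eq
      calc z * y = (y ^ j)⁻¹ * (c * y) := by rw [hz, mul_assoc]
        _ = (y ^ j)⁻¹ * (y * c) := by rw [hc]
        _ = ((y ^ j)⁻¹ * y) * c := by rw [mul_assoc]
        _ = (y * (y ^ j)⁻¹) * c := by rw [h1]
        _ = y * z := by rw [hz, mul_assoc]
    have hzc : z ∈ Subgroup.center ↥G := by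
      rw [Subgroup.mem_center_iff]
      intro g
      have hle : Subgroup.closure ({t, y} : Set ↥G) ≤ Subgroup.centralizer ({z} : Set ↥G) := by
        rw [Subgroup.closure_le]
        intro x hx
        rw [SetLike.mem_coe, Subgroup.mem_centralizer_iff]
        intro h hh
        rw [Set.mem_singleton_iff] at hh
        subst hh
        rcases hx with rfl | hx
        · exact hzt
        · rw [Set.mem_singleton_iff] at hx
          subst hx
          exact hzy
      have hg : g ∈ Subgroup.centralizer ({z} : Set ↥G) := hle (by rw [gen_ty]; trivial)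
      rw [Subgroup.mem_centralizer_iff] at hg
      exact (hg z rfl).symm
    rw [center_G, Subgroup.mem_bot] at hzc
    have hcy : c = y ^ j := by
      have : y ^ j * z = y ^ j * 1 := by rw [hzc]
      rw [hz, mul_inv_cancel_left, mul_one] at this
      exact this
    rw [hcy]
    exact Subgroup.pow_mem _ (Subgroup.mem_zpowers y) j

/-- the transport to the presented Fischer group Fi23 -/
theorem exists_self_centralizing_Fi23 : ∃ y : Cfsg.Spor.Fi23, orderOf y = 17 ∧
    ∀ c : Cfsg.Spor.Fi23, c * y = y * c → c ∈ Subgroup.zpowers y := by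
  obtain ⟨e, -⟩ := exists_iso
  let e' : Cfsg.Spor.Fi23 ≃* ↥G := e
  refine ⟨e'.symm y, ?_, ?_⟩
  · rw [MulEquiv.orderOf_eq]
    exact orderOf_y
  · intro c hc
    have h1 : e' c * y = y * e' c := by
      have := congrArg e' hc
      rwa [map_mul, map_mul, e'.apply_symm_apply] at this
    obtain ⟨k, hk⟩ := Subgroup.mem_zpowers_iff.mp (centralizer_y (e' c) h1)
    rw [Subgroup.mem_zpowers_iff]
    refine ⟨k, ?_⟩
    apply e'.injective
    rw [map_zpow, e'.apply_symm_apply]
    exact hk

end

end Cfsg.Agent.Lib.Helper10.F23O
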