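import Cfsg.Agent.Lib.Helper10.F23OClsDef
import Cfsg.Agent.Lib.Helper10.F23OClsChk0

set_option autoImplicit false
set_option maxRecDepth 100000
set_option maxHeartbeats 0

/-! Generated checks for conjugates of three involutions of the Fischer group Fi23 on 31671 points. -/

namespace Cfsg.Agent.Lib.Helper10.F23O
open Cfsg.Agent.Lib.Helper28.TC2Upper Cfsg.Agent.Lib.Helper28.TC2Lower
open Cfsg.Agent.Lib.Helper10.SuzO

noncomputable section

theorem chkD_9 : rangeOK clsDF (9 * 1173) 1173 = true := by
  decide +kernel

theorem chkD_10 : rangeOK clsDF (10 * 1173) 1173 = true := by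
  decide +kernel

theorem chkD_11 : rangeOK clsDF (11 * 1173) 1173 = true := by
  decide +kernel

theorem chkD_12 : rangeOK clsDF (12 * 1173) 1173 = true := by
  decide +kernel

theorem chkD_13 : rangeOK clsDF (13 * 1173) 1173 = true := by
  decide +kernel

theorem chkD_14 : rangeOK clsDF (14 * 1173) 1173 = true := by
  decide +kernel

theorem chkD_15 : rangeOK clsDF (15 * 1173) 1173 = true := by
  decide +kernel

theorem chkD_16 : rangeOK clsDF (16 * 1173) 1173 = true := by
  decide +kernel

theorem chkD_17 : rangeOK clsDF (17 * 1173) 1173 = true := by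
  decide +kernel

end

end Cfsg.Agent.Lib.Helper10.F23O
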