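import Cfsg.Agent.Lib.Helper10.F23OClsDef
import Cfsg.Agent.Lib.Helper10.F23OClsChk1

set_option autoImplicit false
set_option maxRecDepth 100000
set_option maxHeartbeats 0

/-! Generated checks for conjugates of three involutions of the Fischer group Fi23 on 31671 points. -/

namespace Cfsg.Agent.Lib.Helper10.F23O
open Cfsg.Agent.Lib.Helper28.TC2Upper Cfsg.Agent.Lib.Helper28.TC2Lower
open Cfsg.Agent.Lib.Helper10.SuzO

noncomputable section

theorem chkD_18 : rangeOK clsDF (18 * 1173) 1173 = true := by
  decide +kernel

theorem chkD_19 : rangeOK clsDF (19 * 1173) 1173 = true := by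
  decide +kernel

theorem chkD_20 : rangeOK clsDF (20 * 1173) 1173 = true := by
  decide +kernel

theorem chkD_21 : rangeOK clsDF (21 * 1173) 1173 = true := by
  decide +kernel

theorem chkD_22 : rangeOK clsDF (22 * 1173) 1173 = true := by
  decide +kernel

theorem chkD_23 : rangeOK clsDF (23 * 1173) 1173 = true := by
  decide +kernel

theorem chkD_24 : rangeOK clsDF (24 * 1173) 1173 = true := by
  decide +kernel

theorem chkD_25 : rangeOK clsDF (25 * 1173) 1173 = true := by
  decide +kernel

theorem chkD_26 : rangeOK clsDF (26 * 1173) 1173 = true := by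
  decide +kernel

end

end Cfsg.Agent.Lib.Helper10.F23O
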