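import Cfsg.Agent.Lib.Helper10.F23OClsDef
import Cfsg.Agent.Lib.Helper10.F23OClsChk2

set_option autoImplicit false
set_option maxRecDepth 100000
set_option maxHeartbeats 0

/-! Generated checks for conjugates of three involutions of the Fischer group Fi23 on 31671 points. -/

namespace Cfsg.Agent.Lib.Helper10.F23O
open Cfsg.Agent.Lib.Helper28.TC2Upper Cfsg.Agent.Lib.Helper28.TC2Lower
open Cfsg.Agent.Lib.Helper10.SuzO

noncomputable section

theorem chkB_0 : rangeOK clsBF (0 * 3959) 3959 = true := by
  decide +kernel

theorem chkB_1 : rangeOK clsBF (1 * 3959) 3959 = true := by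
  decide +kernel

theorem chkB_2 : rangeOK clsBF (2 * 3959) 3959 = true := by
  decide +kernel

theorem chkB_3 : rangeOK clsBF (3 * 3959) 3959 = true := by
  decide +kernel

theorem chkB_4 : rangeOK clsBF (4 * 3959) 3959 = true := by
  decide +kernel

theorem chkB_5 : rangeOK clsBF (5 * 3959) 3959 = true := by
  decide +kernel

theorem chkB_6 : rangeOK clsBF (6 * 3959) 3959 = true := by
  decide +kernel

theorem chkB_7 : rangeOK clsBF (7 * 3959) 3959 = true := by
  decide +kernel

theorem chkDIncr : rangeOK (incrF CD) 0 31670 = true := by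
  decide +kernel

theorem chkBIncr : rangeOK (incrF CB) 0 31671 = true := by
  decide +kernel

end

end Cfsg.Agent.Lib.Helper10.F23O
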