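import Cfsg.Agent.Lib.Helper10.F23OClsDef
import Cfsg.Agent.Lib.Helper10.F23OClsChk3

set_option autoImplicit false
set_option maxRecDepth 100000
set_option maxHeartbeats 0

/-! Generated checks for conjugates of three involutions of the Fischer group Fi23 on 31671 points. -/

namespace Cfsg.Agent.Lib.Helper10.F23O
open Cfsg.Agent.Lib.Helper28.TC2Upper Cfsg.Agent.Lib.Helper28.TC2Lower
open Cfsg.Agent.Lib.Helper10.SuzO

noncomputable section

theorem chkC_0 : rangeOK clsCF (0 * 3959) 3959 = true := by
  decide +kernel

theorem chkC_1 : rangeOK clsCF (1 * 3959) 3959 = true := by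
  decide +kernel

theorem chkC_2 : rangeOK clsCF (2 * 3959) 3959 = true := by
  decide +kernel

theorem chkC_3 : rangeOK clsCF (3 * 3959) 3959 = true := by
  decide +kernel

theorem chkC_4 : rangeOK clsCF (4 * 3959) 3959 = true := by
  decide +kernel

theorem chkC_5 : rangeOK clsCF (5 * 3959) 3959 = true := by
  decide +kernel

theorem chkC_6 : rangeOK clsCF (6 * 3959) 3959 = true := by
  decide +kernel

theorem chkC_7 : rangeOK clsCF (7 * 3959) 3959 = true := by
  decide +kernel

theorem chkCIncr : rangeOK (incrF CC) 0 31671 = true := by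
  decide +kernel

end

end Cfsg.Agent.Lib.Helper10.F23O
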