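import Cfsg.Agent.Lib.Helper10.F23OClsChk0
import Cfsg.Agent.Lib.Helper10.F23OClsChk1
import Cfsg.Agent.Lib.Helper10.F23OClsChk2
import Cfsg.Agent.Lib.Helper10.F23OClsChk3
import Cfsg.Agent.Lib.Helper10.F23OClsChk4

set_option autoImplicit false
set_option maxRecDepth 100000

/-!
The checks for the conjugates of three involutions of the Fischer group Fi23 on 31671 points, put
together.
-/

namespace Cfsg.Agent.Lib.Helper10.F23O
open Cfsg.Agent.Lib.Helper28.TC2Upper Cfsg.Agent.Lib.Helper28.TC2Lower
open Cfsg.Agent.Lib.Helper10.SuzO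

noncomputable section

theorem clsDF_all (i : ℕ) (hi : i < 31671) : clsDF i = true := by
  refine all_of_chunks clsDF 1173 27 (by norm_num) ?_ i (by norm_num; exact hi)
  intro c hc
  interval_cases c
  exacts [chkD_0, chkD_1, chkD_2, chkD_3, chkD_4, chkD_5, chkD_6, chkD_7, chkD_8, chkD_9, chkD_10, chkD_11, chkD_12, chkD_13, chkD_14, chkD_15, chkD_16, chkD_17, chkD_18, chkD_19, chkD_20, chkD_21, chkD_22, chkD_23, chkD_24, chkD_25, chkD_26]

theorem clsDF_parts {i : ℕ} (hi : i < 31671) :
    codeA (wD i) = CD.get i ∧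
      (relFailAY (cj (wD i) [38]) [39] [43] [41] = true ∨ CD.get i ∈ EXC1) := by
  have h := clsDF_all i hi
  unfold clsDF at h
  rw [Bool.and_eq_true, Bool.or_eq_true, memB_iff] at h
  exact ⟨Nat.eq_of_beq_eq_true h.1, h.2⟩

theorem codeB_wB {i : ℕ} (hi : i < 31672) : codeB (wB i) = CB.get i := by
  have h : clsBF i = true := by
    refine all_of_chunks clsBF 3959 8 (by norm_num) ?_ i (by norm_num; exact hi)
    intro c hc
    interval_cases c
    exacts [chkB_0, chkB_1, chkB_2, chkB_3, chkB_4, chkB_5, chkB_6, chkB_7]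
  exact Nat.eq_of_beq_eq_true h

theorem codeC_wC {i : ℕ} (hi : i < 31672) : codeC (wC i) = CC.get i := by
  have h : clsCF i = true := by
    refine all_of_chunks clsCF 3959 8 (by norm_num) ?_ i (by norm_num; exact hi)
    intro c hc
    interval_cases c
    exacts [chkC_0, chkC_1, chkC_2, chkC_3, chkC_4, chkC_5, chkC_6, chkC_7]
  exact Nat.eq_of_beq_eq_true h

theorem CD_step (i : ℕ) (hi : i < 31670) : CD.get i < CD.get (i + 1) := by
  have h := (rangeOK_iff (incrF CD) 0 31670).mp chkDIncr i (by omega) (by omega)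
  unfold incrF at h
  simpa [Nat.blt] using h

theorem CB_step (i : ℕ) (hi : i < 31671) : CB.get i < CB.get (i + 1) := by
  have h := (rangeOK_iff (incrF CB) 0 31671).mp chkBIncr i (by omega) (by omega)
  unfold incrF at h
  simpa [Nat.blt] using h

theorem CC_step (i : ℕ) (hi : i < 31671) : CC.get i < CC.get (i + 1) := by
  have h := (rangeOK_iff (incrF CC) 0 31671).mp chkCIncr i (by omega) (by omega)
  unfold incrF at h
  simpa [Nat.blt] using h

end

end Cfsg.Agent.Lib.Helper10.F23O
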