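import Cfsg.Agent.Lib.Helper10.F23OSylDef
import Cfsg.Agent.Lib.Helper10.F23OClsData

set_option autoImplicit false
set_option maxRecDepth 100000

/-!
The conjugates of the central involution of the stabiliser of the first point in the Fischer group
Fi23 on 31671 points, and 31672 conjugates of each of two other involutions, given by conjugating
words, with their codes; the relations of the generating pair.
-/

namespace Cfsg.Agent.Lib.Helper10.F23O
open Cfsg.Agent.Lib.Helper28.TC2Upper Cfsg.Agent.Lib.Helper28.TC2Lower
open Cfsg.Agent.Lib.Helper10.SuzO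

noncomputable section

/-- the conjugating word with a given index, for the class of the involution -/
def wD (i : ℕ) : List ℕ := unpackW 64 7 (WD.get i)

/-- the conjugating word with a given index, for the second class -/
def wB (i : ℕ) : List ℕ := unpackW 64 4 (WB.get i)

/-- the conjugating word with a given index, for the third class -/
def wC (i : ℕ) : List ℕ := unpackW 64 4 (WC.get i)

/-- the code of the conjugate of the involution by the element of a word -/
def codeA (w : List ℕ) : ℕ := codeW (cj w [38])

/-- the code of the conjugate of the second involution by the element of a word -/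
def codeB (w : List ℕ) : ℕ := codeW (cj w [38, 0])

/-- the code of the conjugate of the third involution by the element of a word -/
def codeC (w : List ℕ) : ℕ := codeW (cj w [38, 0, 2])

/-- one of the three relations fails, for given letters of the powers of the element of order 17 -/
def relFailAY (A Y2 Y5 Y3 : List ℕ) : Bool :=
  !(sigEq (rpt 17 (A ++ Y2)) []) || (!(sigEq (rpt 18 (A ++ Y5)) []) || !(sigEq (rpt 20 (A ++ Y3)) []))

/-- the relations of the generating pair -/
def Rel (t y : ↥G) : Prop := (y ^ 2 * t) ^ 17 = 1 ∧ (y ^ 5 * t) ^ 18 = 1 ∧ (y ^ 3 * t) ^ 20 = 1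

theorem rel_of_not_fail {A Y2 Y5 Y3 : List ℕ} {y : ↥G} (h2 : gw Y2 = y ^ 2) (h5 : gw Y5 = y ^ 5)
    (h3 : gw Y3 = y ^ 3) (h : relFailAY A Y2 Y5 Y3 = false) : Rel (gw A) y := by
  unfold relFailAY at h
  simp only [Bool.or_eq_false_iff, Bool.not_eq_false'] at h
  obtain ⟨r2, r5, r3⟩ := h
  rw [sigEq_iff, gw_rpt, gw_append, gw_nil] at r2 r5 r3
  rw [h2] at r2
  rw [h5] at r5
  rw [h3] at r3
  exact ⟨r2, r5, r3⟩

theorem not_rel_of_fail {A Y2 Y5 Y3 : List ℕ} {y : ↥G} (h2 : gw Y2 = y ^ 2) (h5 : gw Y5 = y ^ 5)
    (h3 : gw Y3 = y ^ 3) (h : relFailAY A Y2 Y5 Y3 = true) : ¬ Rel (gw A) y := by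
  rintro ⟨r2, r5, r3⟩
  unfold relFailAY at h
  have e2 : sigEq (rpt 17 (A ++ Y2)) [] = true := by
    rw [sigEq_iff, gw_rpt, gw_append, gw_nil, h2]
    exact r2
  have e5 : sigEq (rpt 18 (A ++ Y5)) [] = true := by
    rw [sigEq_iff, gw_rpt, gw_append, gw_nil, h5]
    exact r5
  have e3 : sigEq (rpt 20 (A ++ Y3)) [] = true := by
    rw [sigEq_iff, gw_rpt, gw_append, gw_nil, h3]
    exact r3
  rw [e2, e5, e3] at h
  simp at h

/-- the relations are preserved by homomorphisms -/
theorem Rel.map {t y : ↥G} (h : Rel t y) (f : ↥G →* ↥G) : Rel (f t) (f y) := by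
  obtain ⟨r2, r5, r3⟩ := h
  refine ⟨?_, ?_, ?_⟩
  · rw [← map_pow f y 2, ← map_mul, ← map_pow, r2, map_one]
  · rw [← map_pow f y 5, ← map_mul, ← map_pow, r5, map_one]
  · rw [← map_pow f y 3, ← map_mul, ← map_pow, r3, map_one]

/-- the checks for an index of the class of the involution: the code of the conjugate, and one of
the relations with the element of order 17 fails unless the code is in the list of the exceptions -/
def clsDF (i : ℕ) : Bool :=
  Nat.beq (codeA (wD i)) (CD.get i) &&
    (relFailAY (cj (wD i) [38]) [39] [43] [41] || memB (CD.get i) EXC1)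

/-- the check for an index of the second class -/
def clsBF (i : ℕ) : Bool := Nat.beq (codeB (wB i)) (CB.get i)

/-- the check for an index of the third class -/
def clsCF (i : ℕ) : Bool := Nat.beq (codeC (wC i)) (CC.get i)

/-- the codes increase -/
def incrF (A : PArr) (i : ℕ) : Bool := Nat.blt (A.get i) (A.get (Nat.succ i))

end

end Cfsg.Agent.Lib.Helper10.F23O
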