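import Cfsg.Agent.Lib.Helper10.F23OClsDef

set_option autoImplicit false
set_option maxRecDepth 100000
set_option maxHeartbeats 0

/-!
Further checks for the Fischer group Fi23 on 31671 points: the element of order 17, the element
normalising it, the exceptional conjugates, the generators as words in the generating pair.
-/

namespace Cfsg.Agent.Lib.Helper10.F23O
open Cfsg.Agent.Lib.Helper28.TC2Upper Cfsg.Agent.Lib.Helper28.TC2Lower Cfsg.Agent.Lib.Helper28.TC2Glue
open Cfsg.Agent.Lib.Helper28
open Cfsg.Agent.Lib.Helper10.SuzO

noncomputable section

theorem chk_y17 : sigEq (rpt 17 [34]) [] = true := by decide +kernel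

theorem chk_y1 : sigEq [34] [] = false := by decide +kernel

theorem chk_yinv : sigEq [34, 35] [] = true := by decide +kernel

theorem chk_t2 : sigEq [38, 38] [] = true := by decide +kernel

theorem chk_t1 : sigEq [38] [] = false := by decide +kernel

theorem chk_n : sigEq (cj [36] [34]) (rpt 3 [34]) = true := by decide +kernel

theorem chk_y2 : sigEq [39] (rpt 2 [34]) = true := by decide +kernel

theorem chk_y3 : sigEq [41] (rpt 3 [34]) = true := by decide +kernel

theorem chk_y5 : sigEq [43] (rpt 5 [34]) = true := by decide +kernel

theorem chk_rel : relFailAY (cj [] [38]) [39] [43] [41] = false := by decide +kernel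

theorem chk_exc1 : eqL ((List.range 17).map fun i => codeA (rpt i [34])) EXC1 = true := by
  decide +kernel

theorem chk_gw : (GWs.all fun p => sigEq [p.1] (cj p.2 [38]) &&
    p.2.all fun l => memB l [38, 34, 35]) = true := by
  decide +kernel

theorem chk_gw_letters : GWs.map Prod.fst = [0, 1, 2, 3, 4, 5, 6, 7, 8, 9] := by decide +kernel

end

end Cfsg.Agent.Lib.Helper10.F23O
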