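import Cfsg.Agent.Lib.Helper10.F23OSylDef

set_option autoImplicit false
set_option maxRecDepth 100000
set_option maxHeartbeats 0

/-! Generated checks for a Sylow 2-subgroup of the Fischer group Fi23 on 31671 points. -/

namespace Cfsg.Agent.Lib.Helper10.F23O
open Cfsg.Agent.Lib.Helper28.TC2Upper Cfsg.Agent.Lib.Helper28.TC2Lower
open Cfsg.Agent.Lib.Helper10.SuzO

noncomputable section

theorem chkS_0 : rangeOK sylF (0 * 512) 512 = true := by
  decide +kernel

theorem chkS_1 : rangeOK sylF (1 * 512) 512 = true := by
  decide +kernel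

theorem chkS_2 : rangeOK sylF (2 * 512) 512 = true := by
  decide +kernel

theorem chkS_3 : rangeOK sylF (3 * 512) 512 = true := by
  decide +kernel

theorem chkS_4 : rangeOK sylF (4 * 512) 512 = true := by
  decide +kernel

theorem chkS_5 : rangeOK sylF (5 * 512) 512 = true := by
  decide +kernel

theorem chkS_6 : rangeOK sylF (6 * 512) 512 = true := by
  decide +kernel

theorem chkS_7 : rangeOK sylF (7 * 512) 512 = true := by
  decide +kernel

theorem chkSIncr_0 : rangeOK sylIncrF (0 * 29127) 29127 = true := by
  decide +kernel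

theorem chkSIncr_1 : rangeOK sylIncrF (1 * 29127) 29127 = true := by
  decide +kernel

theorem chkSIncr_2 : rangeOK sylIncrF (2 * 29127) 29127 = true := by
  decide +kernel

theorem chkSIncr_3 : rangeOK sylIncrF (3 * 29127) 29127 = true := by
  decide +kernel

theorem chkSIncr_4 : rangeOK sylIncrF (4 * 29127) 29127 = true := by
  decide +kernel

theorem chkSIncr_5 : rangeOK sylIncrF (5 * 29127) 29127 = true := by
  decide +kernel

theorem chkSIncr_6 : rangeOK sylIncrF (6 * 29127) 29127 = true := by
  decide +kernel

theorem chkSIncr_7 : rangeOK sylIncrF (7 * 29127) 29127 = true := by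
  decide +kernel

theorem chkSIncr_8 : rangeOK sylIncrF (8 * 29127) 29127 = true := by
  decide +kernel

theorem chkSOne : (Nat.blt SOne 262144 && Nat.beq (SW.get SOne) 0) = true := by
  decide +kernel

end

end Cfsg.Agent.Lib.Helper10.F23O
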