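import Cfsg.Agent.Lib.Helper10.F23OSylDef

set_option autoImplicit false
set_option maxRecDepth 100000
set_option maxHeartbeats 0

/-! Generated checks for a Sylow 2-subgroup of the Fischer group Fi23 on 31671 points. -/

namespace Cfsg.Agent.Lib.Helper10.F23O
open Cfsg.Agent.Lib.Helper28.TC2Upper Cfsg.Agent.Lib.Helper28.TC2Lower
open Cfsg.Agent.Lib.Helper10.SuzO

noncomputable section

theorem chkS_192 : rangeOK sylF (192 * 512) 512 = true := by
  decide +kernel

theorem chkS_193 : rangeOK sylF (193 * 512) 512 = true := by
  decide +kernel

theorem chkS_194 : rangeOK sylF (194 * 512) 512 = true := by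
  decide +kernel

theorem chkS_195 : rangeOK sylF (195 * 512) 512 = true := by
  decide +kernel

theorem chkS_196 : rangeOK sylF (196 * 512) 512 = true := by
  decide +kernel

theorem chkS_197 : rangeOK sylF (197 * 512) 512 = true := by
  decide +kernel

theorem chkS_198 : rangeOK sylF (198 * 512) 512 = true := by
  decide +kernel

theorem chkS_199 : rangeOK sylF (199 * 512) 512 = true := by
  decide +kernel

end

end Cfsg.Agent.Lib.Helper10.F23O
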