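import Cfsg.Agent.Lib.Helper10.F23OSylDef
import Cfsg.Agent.Lib.Helper10.F23OSylChk29

set_option autoImplicit false
set_option maxRecDepth 100000
set_option maxHeartbeats 0

/-! Generated checks for a Sylow 2-subgroup of the Fischer group Fi23 on 31671 points. -/

namespace Cfsg.Agent.Lib.Helper10.F23O
open Cfsg.Agent.Lib.Helper28.TC2Upper Cfsg.Agent.Lib.Helper28.TC2Lower
open Cfsg.Agent.Lib.Helper10.SuzO

noncomputable section

theorem chkS_240 : rangeOK sylF (240 * 512) 512 = true := by
  decide +kernel

theorem chkS_241 : rangeOK sylF (241 * 512) 512 = true := by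
  decide +kernel

theorem chkS_242 : rangeOK sylF (242 * 512) 512 = true := by
  decide +kernel

theorem chkS_243 : rangeOK sylF (243 * 512) 512 = true := by
  decide +kernel

theorem chkS_244 : rangeOK sylF (244 * 512) 512 = true := by
  decide +kernel

theorem chkS_245 : rangeOK sylF (245 * 512) 512 = true := by
  decide +kernel

theorem chkS_246 : rangeOK sylF (246 * 512) 512 = true := by
  decide +kernel

theorem chkS_247 : rangeOK sylF (247 * 512) 512 = true := by
  decide +kernel

end

end Cfsg.Agent.Lib.Helper10.F23O
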