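import Cfsg.Agent.Lib.Helper10.F23OSylDef
import Cfsg.Agent.Lib.Helper10.F23OSylChk34

set_option autoImplicit false
set_option maxRecDepth 100000
set_option maxHeartbeats 0

/-! Generated checks for a Sylow 2-subgroup of the Fischer group Fi23 on 31671 points. -/

namespace Cfsg.Agent.Lib.Helper10.F23O
open Cfsg.Agent.Lib.Helper28.TC2Upper Cfsg.Agent.Lib.Helper28.TC2Lower
open Cfsg.Agent.Lib.Helper10.SuzO

noncomputable section

theorem chkS_280 : rangeOK sylF (280 * 512) 512 = true := by
  decide +kernel

theorem chkS_281 : rangeOK sylF (281 * 512) 512 = true := by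
  decide +kernel

theorem chkS_282 : rangeOK sylF (282 * 512) 512 = true := by
  decide +kernel

theorem chkS_283 : rangeOK sylF (283 * 512) 512 = true := by
  decide +kernel

theorem chkS_284 : rangeOK sylF (284 * 512) 512 = true := by
  decide +kernel

theorem chkS_285 : rangeOK sylF (285 * 512) 512 = true := by
  decide +kernel

theorem chkS_286 : rangeOK sylF (286 * 512) 512 = true := by
  decide +kernel

theorem chkS_287 : rangeOK sylF (287 * 512) 512 = true := by
  decide +kernel

end

end Cfsg.Agent.Lib.Helper10.F23O
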