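import Cfsg.Agent.Lib.Helper10.F23OSylDef
import Cfsg.Agent.Lib.Helper10.F23OSylChk49

set_option autoImplicit false
set_option maxRecDepth 100000
set_option maxHeartbeats 0

/-! Generated checks for a Sylow 2-subgroup of the Fischer group Fi23 on 31671 points. -/

namespace Cfsg.Agent.Lib.Helper10.F23O
open Cfsg.Agent.Lib.Helper28.TC2Upper Cfsg.Agent.Lib.Helper28.TC2Lower
open Cfsg.Agent.Lib.Helper10.SuzO

noncomputable section

theorem chkS_400 : rangeOK sylF (400 * 512) 512 = true := by
  decide +kernel

theorem chkS_401 : rangeOK sylF (401 * 512) 512 = true := by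
  decide +kernel

theorem chkS_402 : rangeOK sylF (402 * 512) 512 = true := by
  decide +kernel

theorem chkS_403 : rangeOK sylF (403 * 512) 512 = true := by
  decide +kernel

theorem chkS_404 : rangeOK sylF (404 * 512) 512 = true := by
  decide +kernel

theorem chkS_405 : rangeOK sylF (405 * 512) 512 = true := by
  decide +kernel

theorem chkS_406 : rangeOK sylF (406 * 512) 512 = true := by
  decide +kernel

theorem chkS_407 : rangeOK sylF (407 * 512) 512 = true := by
  decide +kernel

end

end Cfsg.Agent.Lib.Helper10.F23O
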