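import Cfsg.Agent.Lib.Helper10.F23OSylDef

set_option autoImplicit false
set_option maxRecDepth 100000
set_option maxHeartbeats 0

/-! Generated checks for a Sylow 2-subgroup of the Fischer group Fi23 on 31671 points. -/

namespace Cfsg.Agent.Lib.Helper10.F23O
open Cfsg.Agent.Lib.Helper28.TC2Upper Cfsg.Agent.Lib.Helper28.TC2Lower
open Cfsg.Agent.Lib.Helper10.SuzO

noncomputable section

theorem chkS_448 : rangeOK sylF (448 * 512) 512 = true := by
  decide +kernel

theorem chkS_449 : rangeOK sylF (449 * 512) 512 = true := by
  decide +kernel

theorem chkS_450 : rangeOK sylF (450 * 512) 512 = true := by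
  decide +kernel

theorem chkS_451 : rangeOK sylF (451 * 512) 512 = true := by
  decide +kernel

theorem chkS_452 : rangeOK sylF (452 * 512) 512 = true := by
  decide +kernel

theorem chkS_453 : rangeOK sylF (453 * 512) 512 = true := by
  decide +kernel

theorem chkS_454 : rangeOK sylF (454 * 512) 512 = true := by
  decide +kernel

theorem chkS_455 : rangeOK sylF (455 * 512) 512 = true := by
  decide +kernel

end

end Cfsg.Agent.Lib.Helper10.F23O
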