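import Cfsg.Agent.Lib.Helper10.F23OSylDef
import Cfsg.Agent.Lib.Helper10.F23OSylChk57

set_option autoImplicit false
set_option maxRecDepth 100000
set_option maxHeartbeats 0

/-! Generated checks for a Sylow 2-subgroup of the Fischer group Fi23 on 31671 points. -/

namespace Cfsg.Agent.Lib.Helper10.F23O
open Cfsg.Agent.Lib.Helper28.TC2Upper Cfsg.Agent.Lib.Helper28.TC2Lower
open Cfsg.Agent.Lib.Helper10.SuzO

noncomputable section

theorem chkS_464 : rangeOK sylF (464 * 512) 512 = true := by
  decide +kernel

theorem chkS_465 : rangeOK sylF (465 * 512) 512 = true := by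
  decide +kernel

theorem chkS_466 : rangeOK sylF (466 * 512) 512 = true := by
  decide +kernel

theorem chkS_467 : rangeOK sylF (467 * 512) 512 = true := by
  decide +kernel

theorem chkS_468 : rangeOK sylF (468 * 512) 512 = true := by
  decide +kernel

theorem chkS_469 : rangeOK sylF (469 * 512) 512 = true := by
  decide +kernel

theorem chkS_470 : rangeOK sylF (470 * 512) 512 = true := by
  decide +kernel

theorem chkS_471 : rangeOK sylF (471 * 512) 512 = true := by
  decide +kernel

end

end Cfsg.Agent.Lib.Helper10.F23O
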