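import Cfsg.Agent.Lib.Helper10.F23OSylDef
import Cfsg.Agent.Lib.Helper10.F23OSylChk61

set_option autoImplicit false
set_option maxRecDepth 100000
set_option maxHeartbeats 0

/-! Generated checks for a Sylow 2-subgroup of the Fischer group Fi23 on 31671 points. -/

namespace Cfsg.Agent.Lib.Helper10.F23O
open Cfsg.Agent.Lib.Helper28.TC2Upper Cfsg.Agent.Lib.Helper28.TC2Lower
open Cfsg.Agent.Lib.Helper10.SuzO

noncomputable section

theorem chkS_496 : rangeOK sylF (496 * 512) 512 = true := by
  decide +kernel

theorem chkS_497 : rangeOK sylF (497 * 512) 512 = true := by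
  decide +kernel

theorem chkS_498 : rangeOK sylF (498 * 512) 512 = true := by
  decide +kernel

theorem chkS_499 : rangeOK sylF (499 * 512) 512 = true := by
  decide +kernel

theorem chkS_500 : rangeOK sylF (500 * 512) 512 = true := by
  decide +kernel

theorem chkS_501 : rangeOK sylF (501 * 512) 512 = true := by
  decide +kernel

theorem chkS_502 : rangeOK sylF (502 * 512) 512 = true := by
  decide +kernel

theorem chkS_503 : rangeOK sylF (503 * 512) 512 = true := by
  decide +kernel

end

end Cfsg.Agent.Lib.Helper10.F23O
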