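import Cfsg.Agent.Lib.Helper10.F23OSylChk0
import Cfsg.Agent.Lib.Helper10.F23OSylChk1
import Cfsg.Agent.Lib.Helper10.F23OSylChk2
import Cfsg.Agent.Lib.Helper10.F23OSylChk3
import Cfsg.Agent.Lib.Helper10.F23OSylChk4
import Cfsg.Agent.Lib.Helper10.F23OSylChk5
import Cfsg.Agent.Lib.Helper10.F23OSylChk6
import Cfsg.Agent.Lib.Helper10.F23OSylChk7
import Cfsg.Agent.Lib.Helper10.F23OSylChk8
import Cfsg.Agent.Lib.Helper10.F23OSylChk9
import Cfsg.Agent.Lib.Helper10.F23OSylChk10
import Cfsg.Agent.Lib.Helper10.F23OSylChk11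
import Cfsg.Agent.Lib.Helper10.F23OSylChk12
import Cfsg.Agent.Lib.Helper10.F23OSylChk13
import Cfsg.Agent.Lib.Helper10.F23OSylChk14
import Cfsg.Agent.Lib.Helper10.F23OSylChk15
import Cfsg.Agent.Lib.Helper10.F23OSylChk16
import Cfsg.Agent.Lib.Helper10.F23OSylChk17
import Cfsg.Agent.Lib.Helper10.F23OSylChk18
import Cfsg.Agent.Lib.Helper10.F23OSylChk19
import Cfsg.Agent.Lib.Helper10.F23OSylChk20
import Cfsg.Agent.Lib.Helper10.F23OSylChk21
import Cfsg.Agent.Lib.Helper10.F23OSylChk22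
import Cfsg.Agent.Lib.Helper10.F23OSylChk23
import Cfsg.Agent.Lib.Helper10.F23OSylChk24
import Cfsg.Agent.Lib.Helper10.F23OSylChk25
import Cfsg.Agent.Lib.Helper10.F23OSylChk26
import Cfsg.Agent.Lib.Helper10.F23OSylChk27
import Cfsg.Agent.Lib.Helper10.F23OSylChk28
import Cfsg.Agent.Lib.Helper10.F23OSylChk29
import Cfsg.Agent.Lib.Helper10.F23OSylChk30
import Cfsg.Agent.Lib.Helper10.F23OSylChk31
import Cfsg.Agent.Lib.Helper10.F23OSylChk32
import Cfsg.Agent.Lib.Helper10.F23OSylChk33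
import Cfsg.Agent.Lib.Helper10.F23OSylChk34
import Cfsg.Agent.Lib.Helper10.F23OSylChk35
import Cfsg.Agent.Lib.Helper10.F23OSylChk36
import Cfsg.Agent.Lib.Helper10.F23OSylChk37
import Cfsg.Agent.Lib.Helper10.F23OSylChk38
import Cfsg.Agent.Lib.Helper10.F23OSylChk39
import Cfsg.Agent.Lib.Helper10.F23OSylChk40
import Cfsg.Agent.Lib.Helper10.F23OSylChk41
import Cfsg.Agent.Lib.Helper10.F23OSylChk42
import Cfsg.Agent.Lib.Helper10.F23OSylChk43
import Cfsg.Agent.Lib.Helper10.F23OSylChk44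
import Cfsg.Agent.Lib.Helper10.F23OSylChk45
import Cfsg.Agent.Lib.Helper10.F23OSylChk46
import Cfsg.Agent.Lib.Helper10.F23OSylChk47
import Cfsg.Agent.Lib.Helper10.F23OSylChk48
import Cfsg.Agent.Lib.Helper10.F23OSylChk49
import Cfsg.Agent.Lib.Helper10.F23OSylChk50
import Cfsg.Agent.Lib.Helper10.F23OSylChk51
import Cfsg.Agent.Lib.Helper10.F23OSylChk52
import Cfsg.Agent.Lib.Helper10.F23OSylChk53
import Cfsg.Agent.Lib.Helper10.F23OSylChk54
import Cfsg.Agent.Lib.Helper10.F23OSylChk55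
import Cfsg.Agent.Lib.Helper10.F23OSylChk56
import Cfsg.Agent.Lib.Helper10.F23OSylChk57
import Cfsg.Agent.Lib.Helper10.F23OSylChk58
import Cfsg.Agent.Lib.Helper10.F23OSylChk59
import Cfsg.Agent.Lib.Helper10.F23OSylChk60
import Cfsg.Agent.Lib.Helper10.F23OSylChk61
import Cfsg.Agent.Lib.Helper10.F23OSylChk62
import Cfsg.Agent.Lib.Helper10.F23OSylChk63

set_option autoImplicit false
set_option maxRecDepth 100000

/-!
A Sylow 2-subgroup of the Fischer group Fi23 on 31671 points: its involutions are conjugate to one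
of three involutions.
-/

namespace Cfsg.Agent.Lib.Helper10.F23O
open Cfsg.Agent.Lib.Helper28.TC2Upper Cfsg.Agent.Lib.Helper28.TC2Lower
open Cfsg.Agent.Lib.Helper10.SuzO

noncomputable section

theorem sylF_all (i : ℕ) (hi : i < 262144) : sylF i = true := by
  refine all_of_chunks sylF 512 512 (by norm_num) ?_ i (by norm_num; exact hi)
  intro c hc
  interval_cases c
  exacts [chkS_0, chkS_1, chkS_2, chkS_3, chkS_4, chkS_5, chkS_6, chkS_7, chkS_8, chkS_9, chkS_10,
    chkS_11, chkS_12, chkS_13, chkS_14, chkS_15, chkS_16, chkS_17, chkS_18, chkS_19, chkS_20,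
    chkS_21, chkS_22, chkS_23, chkS_24, chkS_25, chkS_26, chkS_27, chkS_28, chkS_29, chkS_30,
    chkS_31, chkS_32, chkS_33, chkS_34, chkS_35, chkS_36, chkS_37, chkS_38, chkS_39, chkS_40,
    chkS_41, chkS_42, chkS_43, chkS_44, chkS_45, chkS_46, chkS_47, chkS_48, chkS_49, chkS_50,
    chkS_51, chkS_52, chkS_53, chkS_54, chkS_55, chkS_56, chkS_57, chkS_58, chkS_59, chkS_60,
    chkS_61, chkS_62, chkS_63, chkS_64, chkS_65, chkS_66, chkS_67, chkS_68, chkS_69, chkS_70,
    chkS_71, chkS_72, chkS_73, chkS_74, chkS_75, chkS_76, chkS_77, chkS_78, chkS_79, chkS_80,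
    chkS_81, chkS_82, chkS_83, chkS_84, chkS_85, chkS_86, chkS_87, chkS_88, chkS_89, chkS_90,
    chkS_91, chkS_92, chkS_93, chkS_94, chkS_95, chkS_96, chkS_97, chkS_98, chkS_99, chkS_100,
    chkS_101, chkS_102, chkS_103, chkS_104, chkS_105, chkS_106, chkS_107, chkS_108, chkS_109,
    chkS_110, chkS_111, chkS_112, chkS_113, chkS_114, chkS_115, chkS_116, chkS_117, chkS_118,
    chkS_119, chkS_120, chkS_121, chkS_122, chkS_123, chkS_124, chkS_125, chkS_126, chkS_127,
    chkS_128, chkS_129, chkS_130, chkS_131, chkS_132, chkS_133, chkS_134, chkS_135, chkS_136,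
    chkS_137, chkS_138, chkS_139, chkS_140, chkS_141, chkS_142, chkS_143, chkS_144, chkS_145,
    chkS_146, chkS_147, chkS_148, chkS_149, chkS_150, chkS_151, chkS_152, chkS_153, chkS_154,
    chkS_155, chkS_156, chkS_157, chkS_158, chkS_159, chkS_160, chkS_161, chkS_162, chkS_163,
    chkS_164, chkS_165, chkS_166, chkS_167, chkS_168, chkS_169, chkS_170, chkS_171, chkS_172,
    chkS_173, chkS_174, chkS_175, chkS_176, chkS_177, chkS_178, chkS_179, chkS_180, chkS_181,
    chkS_182, chkS_183, chkS_184, chkS_185, chkS_186, chkS_187, chkS_188, chkS_189, chkS_190,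
    chkS_191, chkS_192, chkS_193, chkS_194, chkS_195, chkS_196, chkS_197, chkS_198, chkS_199,
    chkS_200, chkS_201, chkS_202, chkS_203, chkS_204, chkS_205, chkS_206, chkS_207, chkS_208,
    chkS_209, chkS_210, chkS_211, chkS_212, chkS_213, chkS_214, chkS_215, chkS_216, chkS_217,
    chkS_218, chkS_219, chkS_220, chkS_221, chkS_222, chkS_223, chkS_224, chkS_225, chkS_226,
    chkS_227, chkS_228, chkS_229, chkS_230, chkS_231, chkS_232, chkS_233, chkS_234, chkS_235,
    chkS_236, chkS_237, chkS_238, chkS_239, chkS_240, chkS_241, chkS_242, chkS_243, chkS_244,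
    chkS_245, chkS_246, chkS_247, chkS_248, chkS_249, chkS_250, chkS_251, chkS_252, chkS_253,
    chkS_254, chkS_255, chkS_256, chkS_257, chkS_258, chkS_259, chkS_260, chkS_261, chkS_262,
    chkS_263, chkS_264, chkS_265, chkS_266, chkS_267, chkS_268, chkS_269, chkS_270, chkS_271,
    chkS_272, chkS_273, chkS_274, chkS_275, chkS_276, chkS_277, chkS_278, chkS_279, chkS_280,
    chkS_281, chkS_282, chkS_283, chkS_284, chkS_285, chkS_286, chkS_287, chkS_288, chkS_289,
    chkS_290, chkS_291, chkS_292, chkS_293, chkS_294, chkS_295, chkS_296, chkS_297, chkS_298,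
    chkS_299, chkS_300, chkS_301, chkS_302, chkS_303, chkS_304, chkS_305, chkS_306, chkS_307,
    chkS_308, chkS_309, chkS_310, chkS_311, chkS_312, chkS_313, chkS_314, chkS_315, chkS_316,
    chkS_317, chkS_318, chkS_319, chkS_320, chkS_321, chkS_322, chkS_323, chkS_324, chkS_325,
    chkS_326, chkS_327, chkS_328, chkS_329, chkS_330, chkS_331, chkS_332, chkS_333, chkS_334,
    chkS_335, chkS_336, chkS_337, chkS_338, chkS_339, chkS_340, chkS_341, chkS_342, chkS_343,
    chkS_344, chkS_345, chkS_346, chkS_347, chkS_348, chkS_349, chkS_350, chkS_351, chkS_352,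
    chkS_353, chkS_354, chkS_355, chkS_356, chkS_357, chkS_358, chkS_359, chkS_360, chkS_361,
    chkS_362, chkS_363, chkS_364, chkS_365, chkS_366, chkS_367, chkS_368, chkS_369, chkS_370,
    chkS_371, chkS_372, chkS_373, chkS_374, chkS_375, chkS_376, chkS_377, chkS_378, chkS_379,
    chkS_380, chkS_381, chkS_382, chkS_383, chkS_384, chkS_385, chkS_386, chkS_387, chkS_388,
    chkS_389, chkS_390, chkS_391, chkS_392, chkS_393, chkS_394, chkS_395, chkS_396, chkS_397,
    chkS_398, chkS_399, chkS_400, chkS_401, chkS_402, chkS_403, chkS_404, chkS_405, chkS_406,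
    chkS_407, chkS_408, chkS_409, chkS_410, chkS_411, chkS_412, chkS_413, chkS_414, chkS_415,
    chkS_416, chkS_417, chkS_418, chkS_419, chkS_420, chkS_421, chkS_422, chkS_423, chkS_424,
    chkS_425, chkS_426, chkS_427, chkS_428, chkS_429, chkS_430, chkS_431, chkS_432, chkS_433,
    chkS_434, chkS_435, chkS_436, chkS_437, chkS_438, chkS_439, chkS_440, chkS_441, chkS_442,
    chkS_443, chkS_444, chkS_445, chkS_446, chkS_447, chkS_448, chkS_449, chkS_450, chkS_451,
    chkS_452, chkS_453, chkS_454, chkS_455, chkS_456, chkS_457, chkS_458, chkS_459, chkS_460,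
    chkS_461, chkS_462, chkS_463, chkS_464, chkS_465, chkS_466, chkS_467, chkS_468, chkS_469,
    chkS_470, chkS_471, chkS_472, chkS_473, chkS_474, chkS_475, chkS_476, chkS_477, chkS_478,
    chkS_479, chkS_480, chkS_481, chkS_482, chkS_483, chkS_484, chkS_485, chkS_486, chkS_487,
    chkS_488, chkS_489, chkS_490, chkS_491, chkS_492, chkS_493, chkS_494, chkS_495, chkS_496,
    chkS_497, chkS_498, chkS_499, chkS_500, chkS_501, chkS_502, chkS_503, chkS_504, chkS_505,
    chkS_506, chkS_507, chkS_508, chkS_509, chkS_510, chkS_511]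

theorem sylF_parts {i : ℕ} (hi : i < 262144) :
    sylCodeF i = true ∧ sylLetF i = true ∧ sylTabF i = true ∧ sylInvF i = true := by
  have h := sylF_all i hi
  unfold sylF at h
  simp only [Bool.and_eq_true] at h
  exact ⟨h.1, h.2.1, h.2.2.1, h.2.2.2⟩

/-! ### the set of the elements of the words -/

theorem code_wdS {i : ℕ} (hi : i < 262144) : codeW (wdS i) = SC.get i :=
  Nat.eq_of_beq_eq_true (sylF_parts hi).1

theorem SC_step (i : ℕ) (hi : i < 262143) : SC.get i < SC.get (i + 1) := by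
  have h : sylIncrF i = true := by
    refine all_of_chunks sylIncrF 29127 9 (by norm_num) ?_ i (by norm_num; exact hi)
    intro c hc
    interval_cases c
    exacts [chkSIncr_0, chkSIncr_1, chkSIncr_2, chkSIncr_3, chkSIncr_4, chkSIncr_5, chkSIncr_6,
      chkSIncr_7, chkSIncr_8]
  unfold sylIncrF at h
  simpa [Nat.blt] using h

theorem wdS_inj {i j : ℕ} (hi : i < 262144) (hj : j < 262144) (h : gw (wdS i) = gw (wdS j)) : i = j := by
  have hc : SC.get i = SC.get j := by
    rw [← code_wdS hi, ← code_wdS hj, codeW_eq, codeW_eq, h]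
  exact inj_of_step SC.get 262143 SC_step i j (by omega) (by omega) hc

/-- the elements of the words -/
def X : Set ↥G := {g | ∃ i, i < 262144 ∧ g = gw (wdS i)}

theorem SOne_lt : SOne < 262144 := by
  have h := chkSOne
  rw [Bool.and_eq_true] at h
  simpa [Nat.blt] using h.1

theorem wdS_one : wdS SOne = [] := by
  have h := chkSOne
  rw [Bool.and_eq_true] at h
  have h2 : SW.get SOne = 0 := Nat.eq_of_beq_eq_true h.2
  unfold wdS
  rw [h2]
  rfl

theorem one_mem_X : (1 : ↥G) ∈ X := ⟨SOne, SOne_lt, by rw [wdS_one]; rfl⟩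

theorem mem_SLs {l : ℕ} (hl : l ∈ SLs) : ∃ k, k < 4 ∧ slS k = l := by
  simp only [SLs, List.mem_cons, List.not_mem_nil, or_false] at hl
  rcases hl with rfl | rfl | rfl | rfl
  exacts [⟨0, by norm_num, rfl⟩, ⟨1, by norm_num, rfl⟩, ⟨2, by norm_num, rfl⟩, ⟨3, by norm_num, rfl⟩]

theorem mul_mem_X {l : ℕ} (hl : l ∈ SLs) {g : ↥G} (hg : g ∈ X) : gw [l] * g ∈ X := by
  obtain ⟨i, hi, rfl⟩ := hg
  obtain ⟨k, hk, rfl⟩ := mem_SLs hl
  have h := (sylF_parts hi).2.2.1
  unfold sylTabF at h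
  rw [force_eq, allLoop_eq_true] at h
  have h2 := h k hk
  rw [Bool.and_eq_true] at h2
  have hm : mtS i k < 262144 := by simpa [Nat.blt] using h2.1
  refine ⟨mtS i k, hm, ?_⟩
  rw [← gw_append]
  apply gw_eq_of_code
  rw [codeW_snoc, code_wdS hi, Nat.eq_of_beq_eq_true h2.2, code_wdS hm]

theorem pow_mul_mem_X {l : ℕ} (hl : l ∈ SLs) {g : ↥G} (hg : g ∈ X) (m : ℕ) : gw [l] ^ m * g ∈ X := by
  induction m with
  | zero => rw [pow_zero, one_mul]; exact hg
  | succ m ih =>
    rw [pow_succ', mul_assoc]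
    exact mul_mem_X hl ih

theorem inv_mul_mem_X {l : ℕ} (hl : l ∈ SLs) {g : ↥G} (hg : g ∈ X) : (gw [l])⁻¹ * g ∈ X := by
  have ho : 0 < orderOf (gw [l]) := orderOf_pos _
  have e : (gw [l])⁻¹ = gw [l] ^ (orderOf (gw [l]) - 1) := by
    rw [inv_eq_iff_mul_eq_one, ← pow_succ']
    have : orderOf (gw [l]) - 1 + 1 = orderOf (gw [l]) := by omega
    rw [this, pow_orderOf_eq_one]
  rw [e]
  exact pow_mul_mem_X hl hg _

/-- the Sylow 2-subgroup -/
def P : Subgroup ↥G := Subgroup.closure {g | ∃ l ∈ SLs, g = gw [l]}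

theorem P_le_X {g : ↥G} (hg : g ∈ P) : g ∈ X := by
  unfold P at hg
  induction hg using Subgroup.closure_induction_left with
  | one => exact one_mem_X
  | mul_left x hx y _ ih =>
    obtain ⟨l, hl, rfl⟩ := hx
    exact mul_mem_X hl ih
  | inv_mul_cancel x hx y _ ih =>
    obtain ⟨l, hl, rfl⟩ := hx
    exact inv_mul_mem_X hl ih

theorem gw_mem_P (w : List ℕ) (hw : ∀ l ∈ w, l ∈ SLs) : gw w ∈ P := by
  induction w with
  | nil => exact P.one_mem
  | cons l w ih =>
    have e : l :: w = [l] ++ w := rfl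
    rw [e, gw_append]
    exact P.mul_mem (ih fun x hx => hw x (List.mem_cons_of_mem _ hx))
      (Subgroup.subset_closure ⟨l, hw l List.mem_cons_self, rfl⟩)

theorem X_le_P {g : ↥G} (hg : g ∈ X) : g ∈ P := by
  obtain ⟨i, hi, rfl⟩ := hg
  apply gw_mem_P
  have h1 := (sylF_parts hi).2.1
  unfold sylLetF at h1
  rw [List.all_eq_true] at h1
  intro l hl
  exact (memB_iff l SLs).mp (h1 l hl)

theorem card_P : Nat.card ↥P = 262144 := by
  let f : Fin 262144 → ↥P := fun i => ⟨gw (wdS i.val), X_le_P ⟨i.val, i.isLt, rfl⟩⟩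
  have hf : Function.Bijective f := by
    constructor
    · intro i j h
      exact Fin.ext (wdS_inj i.isLt j.isLt (congrArg Subtype.val h))
    · rintro ⟨g, hg⟩
      obtain ⟨i, hi, rfl⟩ := P_le_X hg
      exact ⟨⟨i, hi⟩, rfl⟩
  rw [← Nat.card_congr (Equiv.ofBijective f hf), Nat.card_fin]

/-! ### conjugation into the Sylow subgroup -/

/-- an element generating a 2-group is conjugate to an element of the Sylow subgroup -/
theorem exists_conj_mem_P (x : ↥G) (hx : IsPGroup 2 (Subgroup.zpowers x)) :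
    ∃ g : ↥G, g * x * g⁻¹ ∈ P := by
  haveI : Fact (Nat.Prime 2) := ⟨Nat.prime_two⟩
  have hP : IsPGroup 2 ↥P := IsPGroup.of_card (n := 18) (by rw [card_P]; norm_num)
  obtain ⟨Q0, hQ0⟩ := hP.exists_le_sylow
  obtain ⟨Q1, hQ1⟩ := hx.exists_le_sylow
  have hQ0P : (Q0 : Subgroup ↥G) = P := by
    obtain ⟨n, hn⟩ := IsPGroup.iff_card.mp Q0.isPGroup'
    have hdvd : 2 ^ n ∣ Nat.card ↥G := by
      rw [← hn]
      exact Subgroup.card_subgroup_dvd_card _
    have hn17 : n ≤ 18 := by
      by_contra hlt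
      push Not at hlt
      have h18 : 2 ^ 19 ∣ Nat.card ↥G := (pow_dvd_pow 2 hlt).trans hdvd
      rw [card_G] at h18
      norm_num at h18
    have hle : Nat.card (Q0 : Subgroup ↥G) ≤ Nat.card ↥P := by
      rw [hn, card_P]
      calc 2 ^ n ≤ 2 ^ 18 := Nat.pow_le_pow_right (by norm_num) hn17
        _ = 262144 := by norm_num
    exact (Subgroup.eq_of_le_of_card_ge hQ0 hle).symm
  obtain ⟨g, hg⟩ := MulAction.exists_smul_eq ↥G Q1 Q0
  refine ⟨g, ?_⟩
  rw [← hQ0P, ← hg, Sylow.coe_subgroup_smul]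
  exact ⟨x, hQ1 (Subgroup.mem_zpowers x), rfl⟩

theorem isPGroup_zpowers_of_orderOf {x : ↥G} {k : ℕ} (h : orderOf x = 2 ^ k) :
    IsPGroup 2 (Subgroup.zpowers x) :=
  IsPGroup.of_card (n := k) (by rw [Nat.card_zpowers, h])

theorem repW_cases (c : ℕ) : repW c = [38] ∨ repW c = [38, 0] ∨ repW c = [38, 0, 2] := by
  unfold repW
  cases Nat.beq c 1
  · cases Nat.beq c 2
    · exact Or.inr (Or.inr rfl)
    · exact Or.inr (Or.inl rfl)
  · exact Or.inl rfl

/-- an involution is conjugate to the central involution of the stabiliser of the first point, or to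
its product with the first generator, or to its product with the first and the third generator -/
theorem invol_conj (x : ↥G) (hx : orderOf x = 2) :
    IsConj (gw [38]) x ∨ IsConj (gw [38, 0]) x ∨ IsConj (gw [38, 0, 2]) x := by
  obtain ⟨g, hg⟩ := exists_conj_mem_P x (isPGroup_zpowers_of_orderOf (k := 1) (by rw [hx, pow_one]))
  obtain ⟨i, hi, hgi⟩ := P_le_X hg
  have ho : orderOf (gw (wdS i)) = 2 := by
    rw [← hgi, ← MulAut.conj_apply, MulEquiv.orderOf_eq]
    exact hx
  have h1 := (sylF_parts hi).2.2.2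
  unfold sylInvF at h1
  have key : ∀ (c : List ℕ) (t : List ℕ), gw (cj c t) = gw (wdS i) → IsConj (gw t) x := by
    intro c t hc
    rw [gw_cj, ← hgi] at hc
    rw [isConj_iff]
    refine ⟨g⁻¹ * gw c, ?_⟩
    calc g⁻¹ * gw c * gw t * (g⁻¹ * gw c)⁻¹ = g⁻¹ * (gw c * gw t * (gw c)⁻¹) * g := by group
      _ = g⁻¹ * (g * x * g⁻¹) * g := by rw [hc]
      _ = x := by group
  cases h0 : Nat.beq (SIdx.get i) 0
  · rw [h0, cond_false] at h1
    have h2 := key _ _ ((sigEq_iff _ _).mp h1)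
    rcases repW_cases (ICl.get (Nat.pred (SIdx.get i))) with e | e | e
    · rw [e] at h2; exact Or.inl h2
    · rw [e] at h2; exact Or.inr (Or.inl h2)
    · rw [e] at h2; exact Or.inr (Or.inr h2)
  · exfalso
    rw [h0, cond_true, Bool.or_eq_true, Bool.not_eq_true', sigEq_eq_false_iff, sigEq_iff, gw_append,
      gw_nil] at h1
    rcases h1 with h1 | h1
    · apply h1
      rw [← pow_two, ← ho, pow_orderOf_eq_one]
    · rw [h1, orderOf_one] at ho
      omega

end

end Cfsg.Agent.Lib.Helper10.F23O
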