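import Cfsg.Agent.Lib.Helper10.F23OClsChk
import Cfsg.Agent.Lib.Helper10.F23OMainChk
import Cfsg.Agent.Lib.Helper10.F23OCent
import Cfsg.Agent.Lib.Helper10.F23OSyl

set_option autoImplicit false
set_option maxRecDepth 100000

/-!
The Fischer group Fi23 on 31671 points has no outer automorphisms: every automorphism maps a
generating pair (an involution of the smallest class, an element of order 17) to a conjugate of
the pair.
-/

namespace Cfsg.Agent.Lib.Helper10.F23O
open Cfsg.Agent.Lib.Helper28.TC2Upper Cfsg.Agent.Lib.Helper28.TC2Lower Cfsg.Agent.Lib.Helper28.TC2Bsgs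
open Cfsg.Agent.Lib.Helper28.TC2Glue
open Cfsg.Agent.Lib.Helper28
open Cfsg.Agent.Lib.Helper10.OutG
open Cfsg.Agent.Lib.Helper10.SuzO

attribute [local irreducible] wk gwp codeW hcode sigEq

noncomputable section

/-- the central involution of the stabiliser of the first point, an involution of the smallest
class -/
def t : ↥G := gw [38]

/-- an involution of the second class -/
def d2 : ↥G := gw [38, 0]

/-- an involution of the third class -/
def d3 : ↥G := gw [38, 0, 2]

/-- the element of order 17 -/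
def y : ↥G := gw [34]

/-- an element normalising the subgroup of order 17 -/
def nn : ↥G := gw [36]

/-! ### the generating pair -/

theorem y_pow : y ^ 17 = 1 := by
  have := (sigEq_iff _ _).mp chk_y17
  rwa [gw_rpt, gw_nil] at this

theorem y_ne : y ≠ 1 := by
  have := (sigEq_eq_false_iff [34] []).mp chk_y1
  rwa [gw_nil] at this

theorem orderOf_y : orderOf y = 17 := by
  haveI : Fact (Nat.Prime 17) := ⟨by norm_num⟩
  exact orderOf_eq_prime y_pow y_ne

theorem t_sq : t ^ 2 = 1 := by
  have := (sigEq_iff _ _).mp chk_t2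
  have e : ([38, 38] : List ℕ) = rpt 2 [38] := rfl
  rwa [e, gw_rpt, gw_nil] at this

theorem t_ne : t ≠ 1 := by
  have := (sigEq_eq_false_iff [38] []).mp chk_t1
  rwa [gw_nil] at this

theorem orderOf_t : orderOf t = 2 := by
  haveI : Fact (Nat.Prime 2) := ⟨Nat.prime_two⟩
  exact orderOf_eq_prime t_sq t_ne

theorem gw_rpt_y (i : ℕ) : gw (rpt i [34]) = y ^ i := gw_rpt i [34]

theorem gw_yinv : gw [35] = y⁻¹ := by
  have := (sigEq_iff _ _).mp chk_yinv
  have e : ([34, 35] : List ℕ) = [34] ++ [35] := rfl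
  rw [e, gw_append, gw_nil] at this
  exact eq_inv_of_mul_eq_one_left this

theorem gw_y2 : gw [39] = y ^ 2 := ((sigEq_iff _ _).mp chk_y2).trans (gw_rpt_y 2)

theorem gw_y3 : gw [41] = y ^ 3 := ((sigEq_iff _ _).mp chk_y3).trans (gw_rpt_y 3)

theorem gw_y5 : gw [43] = y ^ 5 := ((sigEq_iff _ _).mp chk_y5).trans (gw_rpt_y 5)

theorem nn_conj : nn * y * nn⁻¹ = y ^ 3 := by
  have := (sigEq_iff _ _).mp chk_n
  rw [gw_cj] at this
  exact this.trans (gw_rpt_y 3)

theorem nn_pow_conj (i m : ℕ) : nn ^ i * y ^ m * (nn ^ i)⁻¹ = y ^ (m * 3 ^ i) := by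
  induction i generalizing m with
  | zero => rw [pow_zero, one_mul, inv_one, mul_one, pow_zero, mul_one]
  | succ i ih =>
    have e : nn ^ (i + 1) * y ^ m * (nn ^ (i + 1))⁻¹ =
        nn * (nn ^ i * y ^ m * (nn ^ i)⁻¹) * nn⁻¹ := by
      rw [pow_succ']
      group
    rw [e, ih, ← conj_pow, nn_conj, ← pow_mul, pow_succ]
    congr 1
    ring

theorem exists_conj_pow (y' : ↥G) (hy' : orderOf y' = 17) :
    ∃ g : ↥G, g * y' * g⁻¹ = y := by
  haveI : Fact (Nat.Prime 17) := ⟨by norm_num⟩
  obtain ⟨g0, hg0⟩ := exists_conj_mem_zpowers 17 (by rw [card_G]; norm_num) y y' orderOf_y hy'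
  have ho : orderOf (g0 * y' * g0⁻¹) = 17 := by
    rw [← MulAut.conj_apply, MulEquiv.orderOf_eq]
    exact hy'
  rw [← mem_powers_iff_mem_zpowers, Submonoid.mem_powers_iff] at hg0
  obtain ⟨m, hm⟩ := hg0
  have hm' : y ^ (m % 17) = g0 * y' * g0⁻¹ := by
    rw [← hm, ← orderOf_y, pow_mod_orderOf]
  have hm0 : m % 17 ≠ 0 := by
    intro h0
    rw [h0, pow_zero] at hm'
    rw [← hm', orderOf_one] at ho
    omega
  have hdec : ∀ r < 17, r ≠ 0 → ∃ i < 16, (r * 3 ^ i) % 17 = 1 := by
    decide
  obtain ⟨i, -, hi⟩ := hdec (m % 17) (Nat.mod_lt _ (by norm_num)) hm0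
  refine ⟨nn ^ i * g0, ?_⟩
  have e : nn ^ i * g0 * y' * (nn ^ i * g0)⁻¹ = nn ^ i * (g0 * y' * g0⁻¹) * (nn ^ i)⁻¹ := by
    group
  rw [e, ← hm', nn_pow_conj]
  have hp : y ^ (m % 17 * 3 ^ i) = y ^ ((m % 17 * 3 ^ i) % 17) := by
    rw [← orderOf_y, pow_mod_orderOf]
  rw [hp, hi, pow_one]

theorem rel_ty : Rel t y := rel_of_not_fail (A := cj [] [38]) gw_y2 gw_y5 gw_y3 chk_rel

/-! ### the three classes of involutions -/

/-- the involutions of the smallest class -/
def invsD : List ↥G := (List.range 31671).map fun i => gw (cj (wD i) [38])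

theorem invsD_nodup : invsD.Nodup := by
  unfold invsD
  apply List.Nodup.map_on _ List.nodup_range
  intro i hi j hj h
  rw [List.mem_range] at hi hj
  have hc : CD.get i = CD.get j := by
    rw [← (clsDF_parts hi).1, ← (clsDF_parts hj).1]
    unfold codeA
    rw [codeW_eq, codeW_eq, h]
  exact inj_of_step CD.get 31670 CD_step i j (by omega) (by omega) hc

theorem invsD_length : invsD.length = 31671 := by
  unfold invsD
  rw [List.length_map, List.length_range]

theorem card_class_t : {x : ↥G | IsConj t x}.ncard ≤ 31671 := by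
  have h := ncard_isConj t
  rw [card_G] at h
  have hc : 129123503308800 ≤ Nat.card ↥(Subgroup.centralizer ({t} : Set ↥G)) := card_centralizer_ge
  by_contra hlt
  push Not at hlt
  have : 31672 * 129123503308800 ≤ {x : ↥G | IsConj t x}.ncard *
      Nat.card ↥(Subgroup.centralizer ({t} : Set ↥G)) := Nat.mul_le_mul hlt hc
  omega

theorem mem_invsD_of_conj (x : ↥G) (hx : IsConj t x) : x ∈ invsD := by
  have hsub : (↑invsD.toFinset : Set ↥G) ⊆ {a | IsConj t a} := by
    intro z hz
    rw [Finset.mem_coe, List.mem_toFinset] at hz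
    obtain ⟨w, -, rfl⟩ := List.mem_map.mp hz
    rw [Set.mem_ofPred_eq, gw_cj, isConj_iff]
    exact ⟨gw (wD w), rfl⟩
  have heq : (↑invsD.toFinset : Set ↥G) = {a | IsConj t a} := by
    refine Set.eq_of_subset_of_ncard_le hsub ?_ (Set.toFinite _)
    rw [Set.ncard_coe_finset, List.toFinset_card_of_nodup invsD_nodup, invsD_length]
    exact card_class_t
  have hmem : x ∈ (↑invsD.toFinset : Set ↥G) := by rw [heq]; exact hx
  rwa [Finset.mem_coe, List.mem_toFinset] at hmem

/-- 31672 involutions of the second class -/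
def invsB : List ↥G := (List.range 31672).map fun i => gw (cj (wB i) [38, 0])

theorem invsB_nodup : invsB.Nodup := by
  unfold invsB
  apply List.Nodup.map_on _ List.nodup_range
  intro i hi j hj h
  rw [List.mem_range] at hi hj
  have hc : CB.get i = CB.get j := by
    rw [← codeB_wB hi, ← codeB_wB hj]
    unfold codeB
    rw [codeW_eq, codeW_eq, h]
  exact inj_of_step CB.get 31671 CB_step i j (by omega) (by omega) hc

theorem card_class_d2 : 31672 ≤ {x : ↥G | IsConj d2 x}.ncard := by
  have hsub : (↑invsB.toFinset : Set ↥G) ⊆ {a | IsConj d2 a} := by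
    intro z hz
    rw [Finset.mem_coe, List.mem_toFinset] at hz
    obtain ⟨w, -, rfl⟩ := List.mem_map.mp hz
    rw [Set.mem_ofPred_eq, gw_cj, isConj_iff]
    exact ⟨gw (wB w), rfl⟩
  have := Set.ncard_le_ncard hsub (Set.toFinite _)
  rwa [Set.ncard_coe_finset, List.toFinset_card_of_nodup invsB_nodup, show invsB.length = 31672 by
    unfold invsB; rw [List.length_map, List.length_range]] at this

/-- 31672 involutions of the third class -/
def invsC : List ↥G := (List.range 31672).map fun i => gw (cj (wC i) [38, 0, 2])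

theorem invsC_nodup : invsC.Nodup := by
  unfold invsC
  apply List.Nodup.map_on _ List.nodup_range
  intro i hi j hj h
  rw [List.mem_range] at hi hj
  have hc : CC.get i = CC.get j := by
    rw [← codeC_wC hi, ← codeC_wC hj]
    unfold codeC
    rw [codeW_eq, codeW_eq, h]
  exact inj_of_step CC.get 31671 CC_step i j (by omega) (by omega) hc

theorem card_class_d3 : 31672 ≤ {x : ↥G | IsConj d3 x}.ncard := by
  have hsub : (↑invsC.toFinset : Set ↥G) ⊆ {a | IsConj d3 a} := by
    intro z hz
    rw [Finset.mem_coe, List.mem_toFinset] at hz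
    obtain ⟨w, -, rfl⟩ := List.mem_map.mp hz
    rw [Set.mem_ofPred_eq, gw_cj, isConj_iff]
    exact ⟨gw (wC w), rfl⟩
  have := Set.ncard_le_ncard hsub (Set.toFinite _)
  rwa [Set.ncard_coe_finset, List.toFinset_card_of_nodup invsC_nodup, show invsC.length = 31672 by
    unfold invsC; rw [List.length_map, List.length_range]] at this

theorem ncard_conj_map (β : MulAut ↥G) (x : ↥G) :
    {z : ↥G | IsConj (β x) z}.ncard = {z : ↥G | IsConj x z}.ncard := by
  have : {z : ↥G | IsConj (β x) z} = β '' {z : ↥G | IsConj x z} := by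
    ext z
    constructor
    · intro hz
      rw [Set.mem_ofPred_eq, isConj_iff] at hz
      obtain ⟨c, hc⟩ := hz
      refine ⟨β.symm z, ?_, β.apply_symm_apply z⟩
      rw [Set.mem_ofPred_eq, isConj_iff]
      refine ⟨β.symm c, ?_⟩
      apply β.injective
      rw [map_mul, map_mul, map_inv, β.apply_symm_apply, β.apply_symm_apply]
      exact hc
    · rintro ⟨z0, hz0, rfl⟩
      rw [Set.mem_ofPred_eq, isConj_iff] at hz0 ⊢
      obtain ⟨c, hc⟩ := hz0
      exact ⟨β c, by rw [← hc, map_mul, map_mul, map_inv]⟩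
  rw [this, Set.ncard_image_of_injective _ β.injective]

/-- an automorphism maps the first generator to a conjugate -/
theorem aut_t_conj (β : MulAut ↥G) : IsConj t (β t) := by
  have ho : orderOf (β t) = 2 := by
    rw [MulEquiv.orderOf_eq]
    exact orderOf_t
  have h2 := ncard_conj_map β t
  have h4 := card_class_t
  rcases invol_conj (β t) ho with h | h | h
  · exact h
  · exfalso
    have h1 : {z : ↥G | IsConj (β t) z} = {z : ↥G | IsConj d2 z} := by
      ext z
      exact ⟨fun hz => IsConj.trans h hz, fun hz => IsConj.trans h.symm hz⟩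
    rw [h1] at h2
    have h3 := card_class_d2
    omega
  · exfalso
    have h1 : {z : ↥G | IsConj (β t) z} = {z : ↥G | IsConj d3 z} := by
      ext z
      exact ⟨fun hz => IsConj.trans h hz, fun hz => IsConj.trans h.symm hz⟩
    rw [h1] at h2
    have h3 := card_class_d3
    omega

/-! ### the images of the generating pair under automorphisms -/

theorem exc1_spec {c : ℕ} (hc : c ∈ EXC1) : ∃ i : ℕ, c = codeA (rpt i [34]) := by
  rw [← eq_of_eqL chk_exc1, List.mem_map] at hc
  obtain ⟨i, -, hi⟩ := hc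
  exact ⟨i, hi.symm⟩

theorem y_pow_comm (i : ℕ) (k : ℕ) : y ^ i * y ^ k * (y ^ i)⁻¹ = y ^ k := by
  rw [← pow_add, add_comm, pow_add, mul_inv_cancel_right]

theorem aut_images (α : MulAut ↥G) :
    ∃ h : ↥G, α t = h * t * h⁻¹ ∧ α y = h * y * h⁻¹ := by
  have hαy : orderOf (α y) = 17 := by
    rw [MulEquiv.orderOf_eq]
    exact orderOf_y
  obtain ⟨g, hg⟩ := exists_conj_pow (α y) hαy
  let β : MulAut ↥G := MulAut.conj g * α
  have hβt : β t = g * α t * g⁻¹ := rfl
  have hβy : β y = g * α y * g⁻¹ := rfl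
  have hrel : Rel (β t) (β y) := rel_ty.map β.toMonoidHom
  have hmem := mem_invsD_of_conj (β t) (aut_t_conj β)
  obtain ⟨i, hi, hw⟩ := List.mem_map.mp hmem
  rw [List.mem_range] at hi
  have back : ∀ (h0 u v : ↥G), g * α t * g⁻¹ = h0 * u * h0⁻¹ → g * α y * g⁻¹ = h0 * v * h0⁻¹ →
      α t = (g⁻¹ * h0) * u * (g⁻¹ * h0)⁻¹ ∧ α y = (g⁻¹ * h0) * v * (g⁻¹ * h0)⁻¹ := by
    intro h0 u v h1 h2
    constructor
    · calc α t = g⁻¹ * (g * α t * g⁻¹) * g := by group
        _ = g⁻¹ * (h0 * u * h0⁻¹) * g := by rw [h1]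
        _ = _ := by group
    · calc α y = g⁻¹ * (g * α y * g⁻¹) * g := by group
        _ = g⁻¹ * (h0 * v * h0⁻¹) * g := by rw [h2]
        _ = _ := by group
  have hcode := (clsDF_parts hi).1
  unfold codeA at hcode
  rcases (clsDF_parts hi).2 with hf | hex
  · exfalso
    apply not_rel_of_fail (y := y) gw_y2 gw_y5 gw_y3 hf
    rw [hw, ← hg, ← hβy]
    exact hrel
  · obtain ⟨j, hj⟩ := exc1_spec hex
    have hvw : gw (cj (wD i) [38]) = gw (cj (rpt j [34]) [38]) := by
      apply gw_eq_of_code
      unfold codeA at hj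
      rw [hcode, hj]
    rw [hw, gw_cj, gw_rpt_y] at hvw
    refine ⟨g⁻¹ * y ^ j, ?_⟩
    apply back (y ^ j) t y
    · rw [← hβt]; exact hvw
    · rw [hg]
      have := y_pow_comm j 1
      rw [pow_one] at this
      exact this.symm

/-! ### generation -/

theorem gw_mem_closure (w : List ℕ) (hw : ∀ l ∈ w, l ∈ [38, 34, 35]) :
    gw w ∈ Subgroup.closure ({t, y} : Set ↥G) := by
  induction w with
  | nil =>
    rw [gw_nil]
    exact (Subgroup.closure ({t, y} : Set ↥G)).one_mem
  | cons l w ih =>
    have e : l :: w = [l] ++ w := rfl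
    rw [e, gw_append]
    apply Subgroup.mul_mem _ (ih fun x hx => hw x (List.mem_cons_of_mem _ hx))
    have hl := hw l List.mem_cons_self
    simp only [List.mem_cons, List.not_mem_nil, or_false] at hl
    rcases hl with rfl | rfl | rfl
    · exact Subgroup.subset_closure (by simp [t])
    · exact Subgroup.subset_closure (by simp [y])
    · rw [gw_yinv]
      exact Subgroup.inv_mem _ (Subgroup.subset_closure (by simp [y]))

theorem gw_letter_mem (l : ℕ) (hl : l < 10) : gw [l] ∈ Subgroup.closure ({t, y} : Set ↥G) := by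
  have hmem : l ∈ GWs.map Prod.fst := by
    rw [chk_gw_letters]
    simp only [List.mem_cons, List.not_mem_nil, or_false]
    omega
  obtain ⟨p, hp, rfl⟩ := List.mem_map.mp hmem
  have h := chk_gw
  rw [List.all_eq_true] at h
  have h1 := h p hp
  rw [Bool.and_eq_true, List.all_eq_true] at h1
  rw [(sigEq_iff _ _).mp h1.1, gw_cj]
  have hc := gw_mem_closure p.2 fun x hx => (memB_iff x _).mp (h1.2 x hx)
  exact Subgroup.mul_mem _ (Subgroup.mul_mem _ hc (Subgroup.subset_closure (by simp [t])))
    (Subgroup.inv_mem _ hc)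

/-- the elements of the letters of the generators generate the group -/
theorem closure_letters : Subgroup.closure {x : ↥G | ∃ l, l < 10 ∧ x = gw [l]} = ⊤ := by
  rw [eq_top_iff]
  have hle : G ≤ (Subgroup.closure {x : ↥G | ∃ l, l < 10 ∧ x = gw [l]}).map G.subtype := by
    unfold G baseGroup
    rw [Subgroup.closure_le]
    rintro π ⟨l, hl, rfl⟩
    refine ⟨gw [l], Subgroup.subset_closure ⟨l, hl, rfl⟩, ?_⟩
    show gwp [l] = Table.sigma hXT l
    rw [gwp_singleton, nl_of_lt (by omega)]
    rfl
  intro g _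
  obtain ⟨m, hm, hmg⟩ := hle g.2
  have : m = g := Subtype.ext hmg
  rw [← this]
  exact hm

theorem gen_ty : Subgroup.closure ({t, y} : Set ↥G) = ⊤ := by
  rw [eq_top_iff, ← closure_letters, Subgroup.closure_le]
  rintro x ⟨l, hl, rfl⟩
  exact gw_letter_mem l hl

/-- when every automorphism maps a generating pair to a conjugate of the pair, all automorphisms
are inner -/
theorem card_out_eq_one_of_conj {J : Type*} [Group J] (t y : J)
    (hgen : Subgroup.closure ({t, y} : Set J) = ⊤)
    (h : ∀ α : MulAut J, ∃ g : J, α t = g * t * g⁻¹ ∧ α y = g * y * g⁻¹) :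
    Nat.card (Cfsg.Out J) = 1 := by
  show (Cfsg.Inn J).index = 1
  rw [Subgroup.index_eq_one, eq_top_iff]
  intro α _
  obtain ⟨g, h1, h2⟩ := h α
  have e : α = MulAut.conj g :=
    mulAut_ext_of_closure t y hgen α (MulAut.conj g) (by rw [h1, MulAut.conj_apply])
      (by rw [h2, MulAut.conj_apply])
  rw [e]
  exact ⟨g, rfl⟩

/-- the Fischer group Fi23 on 31671 points has no outer automorphisms -/
theorem card_out_G : Nat.card (Cfsg.Out ↥G) = 1 :=
  card_out_eq_one_of_conj t y gen_ty aut_images

/-- the presented Fischer group Fi23 has no outer automorphisms -/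
theorem card_out_Fi23 : Nat.card (Cfsg.Out Cfsg.Spor.Fi23) = 1 := by
  obtain ⟨e, -⟩ := exists_iso
  exact (card_out_congr e).trans card_out_G

end

end Cfsg.Agent.Lib.Helper10.F23O
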