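import Cfsg.Agent.Lib.Helper10.F23OBasic
import Cfsg.Agent.Lib.Helper10.F23OSylDataW
import Cfsg.Agent.Lib.Helper10.F23OSylDataC
import Cfsg.Agent.Lib.Helper10.F23OSylDataM

set_option autoImplicit false
set_option maxRecDepth 100000

/-!
A Sylow 2-subgroup of the Fischer group Fi23 on 31671 points, given by 262144 words: the Boolean
checks.
-/

namespace Cfsg.Agent.Lib.Helper10.F23O
open Cfsg.Agent.Lib.Helper28.TC2Upper Cfsg.Agent.Lib.Helper28.TC2Lower
open Cfsg.Agent.Lib.Helper10.SuzO

noncomputable section

/-- membership of a number in a list -/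
def memB (a : ℕ) : List ℕ → Bool
  | [] => false
  | b :: l => Nat.beq a b || memB a l

theorem memB_iff (a : ℕ) : ∀ l : List ℕ, memB a l = true ↔ a ∈ l
  | [] => by simp [memB]
  | b :: l => by
    rw [memB, Bool.or_eq_true, memB_iff a l, List.mem_cons]
    constructor
    · rintro (h | h)
      · exact Or.inl (Nat.eq_of_beq_eq_true h)
      · exact Or.inr h
    · rintro (h | h)
      · exact Or.inl (by rw [h]; exact Nat.beq_refl _)
      · exact Or.inr h

/-- equality of lists of numbers -/
def eqL : List ℕ → List ℕ → Bool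
  | [], [] => true
  | a :: l, b :: l' => Nat.beq a b && eqL l l'
  | _, _ => false

theorem eq_of_eqL : ∀ {l l' : List ℕ}, eqL l l' = true → l = l'
  | [], [], _ => rfl
  | a :: l, b :: l', h => by
    rw [eqL, Bool.and_eq_true] at h
    rw [Nat.eq_of_beq_eq_true h.1, eq_of_eqL h.2]
  | [], _ :: _, h => by simp [eqL] at h
  | _ :: _, [], h => by simp [eqL] at h

/-- the code obtained from a code by applying a letter to each of its digits -/
def stepC (fuel c s : ℕ) : ℕ :=
  @Nat.rec (fun _ => ℕ → ℕ) (fun _ => 0)
    (fun _ ih c => Nat.add (Nat.mul (ih (Nat.div c 32768)) 32768) (XT.tau (nl s) (Nat.mod c 32768)))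
    fuel c

theorem stepC_succ (k c s : ℕ) :
    stepC (k + 1) c s = stepC k (c / 32768) s * 32768 + XT.tau (nl s) (c % 32768) := rfl

theorem foldl_snoc_code (f : ℕ → ℕ) (l : List ℕ) (b : ℕ) :
    (l ++ [b]).foldl (fun acc b => acc * 32768 + f b) 0 =
      l.foldl (fun acc b => acc * 32768 + f b) 0 * 32768 + f b := by
  rw [List.foldl_append]
  rfl

theorem stepC_foldl (s : ℕ) (f : ℕ → ℕ) (l : List ℕ) (hf : ∀ b ∈ l, f b < 32768) :
    stepC l.length (l.foldl (fun acc b => acc * 32768 + f b) 0) s =
      l.foldl (fun acc b => acc * 32768 + XT.tau (nl s) (f b)) 0 := by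
  induction l using List.reverseRecOn with
  | nil => rfl
  | append_singleton l b ih =>
    have hb : f b < 32768 := hf b (by simp)
    rw [List.length_append, List.length_singleton, stepC_succ, foldl_snoc_code, foldl_snoc_code]
    have e1 : (l.foldl (fun acc b => acc * 32768 + f b) 0 * 32768 + f b) / 32768 =
        l.foldl (fun acc b => acc * 32768 + f b) 0 := by omega
    have e2 : (l.foldl (fun acc b => acc * 32768 + f b) 0 * 32768 + f b) % 32768 = f b := by omega
    rw [e1, e2, ih fun x hx => hf x (List.mem_append_left _ hx)]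

theorem wk_snoc (w : List ℕ) (s p : ℕ) : wk (w ++ [s]) p = XT.tau (nl s) (wk w p) := by
  unfold wk nw
  rw [List.map_append, List.map_singleton]
  generalize w.map nl = v
  induction v generalizing p with
  | nil => rw [List.nil_append, Table.walkT_cons, Table.walkT_nil, Table.walkT_nil]
  | cons l ls ih => rw [List.cons_append, Table.walkT_cons, Table.walkT_cons, ih]

theorem wk_lt (w : List ℕ) (b : ℕ) (hb : b < XT.n) : wk w b < 32768 := by
  have h : (gwp w ⟨b, hb⟩).val = wk w b := gwp_apply w ⟨b, hb⟩
  have h2 : (gwp w ⟨b, hb⟩).val < 31671 := (gwp w ⟨b, hb⟩).2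
  rw [h] at h2
  omega

/-- the code of a word followed by a letter, from the code of the word -/
theorem codeW_snoc (w : List ℕ) (s : ℕ) : codeW (w ++ [s]) = stepC 9 (codeW w) s := by
  unfold codeW
  have h := stepC_foldl s (wk w) RB fun b hb => wk_lt w b (RB_lt b hb)
  rw [show RB.length = 9 from rfl] at h
  rw [h]
  exact foldl_congr' _ _ RB (fun b _ => wk_snoc w s b) 0

/-- the word of the Sylow subgroup with a given index -/
def wdS (i : ℕ) : List ℕ := unpackW 64 18 (SW.get i)

/-- the index of the product of an element with a generator -/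
def mtS (i k : ℕ) : ℕ := SM.get (Nat.add (Nat.mul 4 i) k)

/-- the letter of a generator -/
def slS (k : ℕ) : ℕ := SLs.getD k 0

/-- the code of the word -/
def sylCodeF (i : ℕ) : Bool := Nat.beq (codeW (wdS i)) (SC.get i)

/-- the letters of the word -/
def sylLetF (i : ℕ) : Bool := (wdS i).all fun l => memB l SLs

/-- the products with the generators -/
def sylTabF (i : ℕ) : Bool :=
  force (SC.get i) fun c => allLoop (fun k => Nat.blt (mtS i k) 262144 &&
    Nat.beq (stepC 9 c (slS k)) (SC.get (mtS i k))) 4

/-- the words of the representatives of the three classes of involutions -/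
def repW (c : ℕ) : List ℕ := cond (Nat.beq c 1) [38] (cond (Nat.beq c 2) [38, 0] [38, 0, 2])

/-- the conjugating word of the involution with a given number -/
def wdI (j : ℕ) : List ℕ := unpackW 64 32 (ICw.get j)

/-- the element is not an involution, or is a given conjugate of one of three involutions -/
def sylInvF (i : ℕ) : Bool :=
  cond (Nat.beq (SIdx.get i) 0)
    (!(sigEq (wdS i ++ wdS i) []) || sigEq (wdS i) [])
    (sigEq (cj (wdI (Nat.pred (SIdx.get i))) (repW (ICl.get (Nat.pred (SIdx.get i))))) (wdS i))

/-- all the checks for an index -/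
def sylF (i : ℕ) : Bool := sylCodeF i && (sylLetF i && (sylTabF i && sylInvF i))

/-- the codes increase -/
def sylIncrF (i : ℕ) : Bool := Nat.blt (SC.get i) (SC.get (Nat.succ i))

end

end Cfsg.Agent.Lib.Helper10.F23O
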