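import Mathlib
import Cfsg.Agent.Lib.Helper18.UDenseDefs

/-!
S5801 (su6) conjunct (3), frames 6x1 (market "F6", notes/S5801_F6_leaves.lean): shared definitions.
`RowDense L` is property (D'): every non-monomial element of `L` has at most one zero in each row.
-/

set_option autoImplicit false

namespace Cfsg.Agent.Lib.Helper10.F6
open Matrix Cfsg.Agent.Lib.Helper11.Mono Cfsg.Agent.Lib.Helper15.MonoLeaf Cfsg.Agent.Lib.Helper18.UDense

variable {F : Type*} [Field F] {ι : Type} [Fintype ι] [DecidableEq ι]

/-- an element outside a small finset -/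
lemma exists_notMem_six {α : Type*} [Fintype α] (S : Finset α) (h : S.card < Fintype.card α) :
    ∃ x : α, x ∉ S := by
  obtain ⟨e, -, he⟩ := Finset.exists_mem_notMem_of_card_lt_card (s := S) (t := Finset.univ)
    (by rwa [Finset.card_univ])
  exact ⟨e, he⟩

/-- property (D'): a non-monomial element of `L` has at most one zero in each row -/
def RowDense (L : Subgroup (GL ι F)) : Prop :=
  ∀ y ∈ L, ¬ IsMono (y : Matrix ι ι F) → ∀ i j j', j ≠ j' →
    (y : Matrix ι ι F) i j = 0 → (y : Matrix ι ι F) i j' = 0 → False

end Cfsg.Agent.Lib.Helper10.F6
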