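import Mathlib
import Cfsg.Agent.Lib.Helper10.F6Defs

/-!
S5801 (su6) conjunct (3), frames 6x1, market "F6" (notes/S5801_F6_leaves.lean): leaf **L3** `false_of_comb_six`,
the combinatorial kill of the dense world for every `6 ≤ n` (pure matrix statement).
-/

set_option autoImplicit false

namespace Cfsg.Agent.Lib.Helper10.F6Leaf
open Matrix Cfsg.Agent.Lib.Helper10.F6

variable {F : Type*} [Field F] {ι : Type} [Fintype ι] [DecidableEq ι]

/-- (U) two functionals `(α, β, -1)`, `(α', β', -1)` killing the same two rows are equal, if rows are never proportional -/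
theorem comb_unique (g : Matrix ι ι F) (a b c : ι)
    (hNP : ∀ i i' : ι, i ≠ i' → ∀ κ : F,
      ¬ (g i' a = κ * g i a ∧ g i' b = κ * g i b ∧ g i' c = κ * g i c))
    (α β α' β' : F) (x y : ι) (hxy : x ≠ y)
    (h1 : g x c = α * g x a + β * g x b) (h2 : g y c = α * g y a + β * g y b)
    (h3 : g x c = α' * g x a + β' * g x b) (h4 : g y c = α' * g y a + β' * g y b) :
    α = α' ∧ β = β' := by
  by_contra hne
  have ex : (α - α') * g x a + (β - β') * g x b = 0 := by linear_combination h3 - h1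
  have ey : (α - α') * g y a + (β - β') * g y b = 0 := by linear_combination h4 - h2
  -- the 2 × 2 minor vanishes
  have hdet : g x a * g y b = g x b * g y a := by
    by_cases hd1 : α - α' = 0
    · have hd2 : β - β' ≠ 0 := by
        intro hd2
        exact hne ⟨sub_eq_zero.mp hd1, sub_eq_zero.mp hd2⟩
      rw [hd1, zero_mul, zero_add] at ex ey
      have hxb : g x b = 0 := (mul_eq_zero.mp ex).resolve_left hd2
      have hyb : g y b = 0 := (mul_eq_zero.mp ey).resolve_left hd2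
      rw [hxb, hyb]; ring
    · have e1 : g x a = -((β - β') / (α - α')) * g x b := by
        field_simp
        linear_combination ex
      have e2 : g y a = -((β - β') / (α - α')) * g y b := by
        field_simp
        linear_combination ey
      rw [e1, e2]; ring
  by_cases hxa : g x a = 0
  · by_cases hxb : g x b = 0
    · -- row `x` vanishes on the three columns
      apply hNP y x hxy.symm 0
      refine ⟨by rw [hxa]; ring, by rw [hxb]; ring, ?_⟩
      rw [h1, hxa, hxb]; ring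
    · have hya : g y a = 0 := by
        rw [hxa, zero_mul] at hdet
        exact (mul_eq_zero.mp hdet.symm).resolve_left hxb
      apply hNP x y hxy (g y b / g x b)
      refine ⟨by rw [hya, hxa]; ring, by field_simp, ?_⟩
      rw [h2, h1, hya, hxa]
      field_simp
      ring
  · apply hNP x y hxy (g y a / g x a)
    have hyb : g y b = g y a / g x a * g x b := by
      field_simp
      linear_combination hdet
    refine ⟨by field_simp, hyb, ?_⟩
    rw [h2, h1, hyb]
    field_simp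

/-- **L3** the combinatorial kill (pure matrix statement; `a b c` need not be distinct). -/
theorem false_of_comb_six (h6 : 6 ≤ Fintype.card ι) (g : Matrix ι ι F) (a b c : ι)
    (hcomb : ∀ k l : ι, k ≠ l → ∃ (α β : F) (i : ι), ∀ x, x ≠ k → x ≠ l → x ≠ i →
      g x c = α * g x a + β * g x b)
    (hNP : ∀ i i' : ι, i ≠ i' → ∀ κ : F,
      ¬ (g i' a = κ * g i a ∧ g i' b = κ * g i b ∧ g i' c = κ * g i c))
    (hH2 : ∀ α β : F, ∃ p q : ι, p ≠ q ∧ g p c ≠ α * g p a + β * g p b ∧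
      g q c ≠ α * g q a + β * g q b) : False := by
  classical
  -- a first line
  obtain ⟨k, l, hkl⟩ : ∃ k l : ι, k ≠ l := by
    have : 1 < Fintype.card ι := by omega
    exact Fintype.one_lt_card_iff.mp this
  obtain ⟨α₀, β₀, i₀, h₀⟩ := hcomb k l hkl
  obtain ⟨p, q, hpq, hp, hq⟩ := hH2 α₀ β₀
  -- three rows on it
  obtain ⟨x₁, hx₁⟩ : ∃ x : ι, x ∉ ({k, l, i₀} : Finset ι) :=
    exists_notMem_six _ (by
      have := Finset.card_le_three (a := k) (b := l) (c := i₀)
      omega)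
  obtain ⟨x₂, hx₂⟩ : ∃ x : ι, x ∉ ({k, l, i₀, x₁} : Finset ι) :=
    exists_notMem_six _ (by
      have := Finset.card_le_four (a := k) (b := l) (c := i₀) (d := x₁)
      omega)
  obtain ⟨x₃, hx₃⟩ : ∃ x : ι, x ∉ ({k, l, i₀, x₁, x₂} : Finset ι) :=
    exists_notMem_six _ (by
      have := Finset.card_le_five (a := k) (b := l) (c := i₀) (d := x₁) (e := x₂)
      omega)
  simp only [Finset.mem_insert, Finset.mem_singleton, not_or] at hx₁ hx₂ hx₃
  have k₁ : g x₁ c = α₀ * g x₁ a + β₀ * g x₁ b := h₀ x₁ hx₁.1 hx₁.2.1 hx₁.2.2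
  have k₂ : g x₂ c = α₀ * g x₂ a + β₀ * g x₂ b := h₀ x₂ hx₂.1 hx₂.2.1 hx₂.2.2.1
  have k₃ : g x₃ c = α₀ * g x₃ a + β₀ * g x₃ b := h₀ x₃ hx₃.1 hx₃.2.1 hx₃.2.2.1
  have h12 : x₁ ≠ x₂ := Ne.symm hx₂.2.2.2
  have h13 : x₁ ≠ x₃ := Ne.symm hx₃.2.2.2.1
  have h23 : x₂ ≠ x₃ := Ne.symm hx₃.2.2.2.2
  -- the second line through `p, q` and one of `x, y`
  have key : ∀ x y : ι, x ≠ y → g x c = α₀ * g x a + β₀ * g x b → g y c = α₀ * g y a + β₀ * g y b →
      ∃ α' β' : F, g p c = α' * g p a + β' * g p b ∧ g q c = α' * g q a + β' * g q b ∧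
        (g x c = α' * g x a + β' * g x b ∨ g y c = α' * g y a + β' * g y b) := by
    intro x y hxy kx ky
    have hxp : x ≠ p := fun h => hp (h ▸ kx)
    have hxq : x ≠ q := fun h => hq (h ▸ kx)
    have hyp : y ≠ p := fun h => hp (h ▸ ky)
    have hyq : y ≠ q := fun h => hq (h ▸ ky)
    obtain ⟨k', hk'⟩ : ∃ z : ι, z ∉ ({x, y, p, q} : Finset ι) :=
      exists_notMem_six _ (by
        have := Finset.card_le_four (a := x) (b := y) (c := p) (d := q)
        omega)
    obtain ⟨l', hl'⟩ : ∃ z : ι, z ∉ ({x, y, p, q, k'} : Finset ι) :=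
      exists_notMem_six _ (by
        have := Finset.card_le_five (a := x) (b := y) (c := p) (d := q) (e := k')
        omega)
    simp only [Finset.mem_insert, Finset.mem_singleton, not_or] at hk' hl'
    obtain ⟨α', β', i', h'⟩ := hcomb k' l' (Ne.symm hl'.2.2.2.2)
    refine ⟨α', β', ?_⟩
    by_cases hix : i' = x
    · subst hix
      exact ⟨h' p (Ne.symm hk'.2.2.1) (Ne.symm hl'.2.2.1) (Ne.symm hxp),
        h' q (Ne.symm hk'.2.2.2) (Ne.symm hl'.2.2.2.1) (Ne.symm hxq),
        Or.inr (h' y (Ne.symm hk'.2.1) (Ne.symm hl'.2.1) (Ne.symm hxy))⟩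
    · by_cases hiy : i' = y
      · subst hiy
        exact ⟨h' p (Ne.symm hk'.2.2.1) (Ne.symm hl'.2.2.1) (Ne.symm hyp),
          h' q (Ne.symm hk'.2.2.2) (Ne.symm hl'.2.2.2.1) (Ne.symm hyq),
          Or.inl (h' x (Ne.symm hk'.1) (Ne.symm hl'.1) hxy)⟩
      · -- both `x` and `y` are killed: the line is the first one, which misses `p` and `q`
        exfalso
        have kx' := h' x (Ne.symm hk'.1) (Ne.symm hl'.1) (Ne.symm hix)
        have ky' := h' y (Ne.symm hk'.2.1) (Ne.symm hl'.2.1) (Ne.symm hiy)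
        obtain ⟨e1, e2⟩ := comb_unique g a b c hNP α₀ β₀ α' β' x y hxy kx ky kx' ky'
        by_cases hip : i' = p
        · apply hq
          rw [e1, e2]
          exact h' q (Ne.symm hk'.2.2.2) (Ne.symm hl'.2.2.2.1) (by rw [hip]; exact Ne.symm hpq)
        · apply hp
          rw [e1, e2]
          exact h' p (Ne.symm hk'.2.2.1) (Ne.symm hl'.2.2.1) (Ne.symm hip)
  obtain ⟨α₁, β₁, p1, q1, o1⟩ := key x₁ x₂ h12 k₁ k₂
  obtain ⟨α₂, β₂, p2, q2, o2⟩ := key x₁ x₃ h13 k₁ k₃
  obtain ⟨α₃, β₃, p3, q3, o3⟩ := key x₂ x₃ h23 k₂ k₃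
  obtain ⟨e1, e2⟩ := comb_unique g a b c hNP α₁ β₁ α₂ β₂ p q hpq p1 q1 p2 q2
  obtain ⟨e3, e4⟩ := comb_unique g a b c hNP α₁ β₁ α₃ β₃ p q hpq p1 q1 p3 q3
  rw [← e1, ← e2] at o2
  rw [← e3, ← e4] at o3
  -- `ψ = (α₁, β₁)` kills two of `x₁, x₂, x₃`
  have fin : ∀ x y : ι, x ≠ y → g x c = α₀ * g x a + β₀ * g x b → g y c = α₀ * g y a + β₀ * g y b →
      g x c = α₁ * g x a + β₁ * g x b → g y c = α₁ * g y a + β₁ * g y b → False := by
    intro x y hxy kx ky kx' ky'
    obtain ⟨e5, e6⟩ := comb_unique g a b c hNP α₀ β₀ α₁ β₁ x y hxy kx ky kx' ky'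
    apply hp
    rw [e5, e6]
    exact p1
  rcases o1 with o1 | o1
  · rcases o3 with o3 | o3
    · exact fin x₁ x₂ h12 k₁ k₂ o1 o3
    · exact fin x₁ x₃ h13 k₁ k₃ o1 o3
  · rcases o2 with o2 | o2
    · exact fin x₁ x₂ h12 k₁ k₂ o2 o1
    · exact fin x₂ x₃ h23 k₂ k₃ o1 o2

end Cfsg.Agent.Lib.Helper10.F6Leaf
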