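import Mathlib
import Cfsg.Agent.Lib.Helper18.UDenseDefs
import Cfsg.Agent.Lib.Helper18.UDenseComb
import Cfsg.Agent.Lib.Helper15.UDenseK1
import Cfsg.Agent.Lib.Helper23.UDenseK2b
import Cfsg.Agent.Lib.Helper10.F6Defs
import Cfsg.Agent.Lib.Helper10.F6Comb
import Cfsg.Agent.Lib.Helper12.F6PropRows
import Cfsg.Agent.Lib.Helper28.UDenseF6

/-!
# The dense kill for every `6 ≤ n` (S5801 (su6) conjunct (3), frames; market "F6", notes/S5801_F6_leaves.lean)

A subgroup `L ≤ GL_n(F)` (`6 ≤ n`) containing the torus elements `dg (tcc k l ε)`, `ε ∈ Θ`, `4 ≤ card Θ`, whose zero pattern is closed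
under inverse-transpose (true inside `GU`), and containing a non-monomial element, contains a non-monomial element with a monomial
column (`¬ WorldW L`).  Assembly of the leaves L1 (helper28 `UDenseF6`), L2 (helper12 `F6PropRows`), L3 (`F6Comb`) with helper18's
bound-free `exists_comb_core` and helper23's coset lemma.  Replaces `Helper18.UDense.not_worldW` (11) / `Helper16.SUgDense10.not_worldW_ten` (10).
-/

set_option autoImplicit false

namespace Cfsg.Agent.Lib.Helper10.F6Main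
open Matrix Cfsg.Agent.Lib.Helper11.Mono Cfsg.Agent.Lib.Helper15.MonoLeaf Cfsg.Agent.Lib.Helper18.UDense
  Cfsg.Agent.Lib.Helper10.F6

variable {F : Type*} [Field F] [Fintype F] {ι : Type} [Fintype ι] [DecidableEq ι]

/-! ## the assembly (helper10; compiles on the leaves) -/

/-- (D) + (D') + torus force `L` to be monomial, `6 ≤ n`. -/
theorem isMono_of_colDense_six (h6 : 6 ≤ Fintype.card ι) (L : Subgroup (GL ι F)) (hD : ColDense L)
    (hR : RowDense L) (Θ : Subgroup Fˣ) (hΘ : 4 ≤ Nat.card Θ) (hT : HasTorus Θ L)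
    (ζ : Fˣ) (hζΘ : ζ ∈ Θ) (r : ℕ) (hr : r.Prime) (hζ : orderOf ζ = r)
    (g : GL ι F) (hg : g ∈ L) : IsMono (g : Matrix ι ι F) := by
  classical
  by_contra hnm
  have hζr : ζ ^ r = 1 := by rw [← hζ]; exact pow_orderOf_eq_one ζ
  have hζ1 : ζ ≠ 1 := by
    intro h
    rw [h, orderOf_one] at hζ
    exact hr.ne_one hζ.symm
  have hfus : ∀ ε : Fˣ, ε ≠ 1 → ∀ k l : ι, k ≠ l → ∀ h : GL ι F, h ∈ L →
      IsMono ((h⁻¹ * dg (tcc k l ε) * h : GL ι F) : Matrix ι ι F) → IsMono (h : Matrix ι ι F) :=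
    fun ε hε k l hkl h hh hy => Cfsg.Agent.Lib.Helper28.UDenseF6.isMono_of_conj_isMono6 h6 L hD ε hε k l hkl h hh hy
  have hz : ∀ k l : ι, k ≠ l → dg (tcc k l ζ) ∈ L := fun k l hkl => hT k l hkl ζ hζΘ
  have hcomb : ∀ y : GL ι F, y ∈ L → ∀ a b c : ι, a ≠ b → ∀ k l : ι, k ≠ l →
      ∃ (α β : F) (i : ι), ∀ x, x ≠ k → x ≠ l → x ≠ i →
        (y : Matrix ι ι F) x c = α * (y : Matrix ι ι F) x a + β * (y : Matrix ι ι F) x b :=
    fun y hy a b c hab k l hkl =>
      exists_comb_core L ζ r hζr hz (hfus ζ hζ1)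
        (fun N z z' g hz hz' hzN h1 h2 =>
          Cfsg.Agent.Lib.Helper23.UDenseLeaf.exists_mem_closure_coset N z z' g r hr hz hz' hzN h1 h2)
        y hy a b c hab k l hkl
  -- three distinct non-trivial torus parameters
  have : Finite Θ := Nat.finite_of_card_ne_zero (by omega)
  have : Fintype Θ := Fintype.ofFinite Θ
  have hcardΘ : 4 ≤ Fintype.card Θ := by rwa [Nat.card_eq_fintype_card] at hΘ
  obtain ⟨e₁, he₁⟩ : ∃ e : Θ, e ∉ ({1} : Finset Θ) :=
    exists_notMem_six _ (by rw [Finset.card_singleton]; omega)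
  obtain ⟨e₂, he₂⟩ : ∃ e : Θ, e ∉ ({1, e₁} : Finset Θ) :=
    exists_notMem_six _ (by
      have := Finset.card_le_two (a := (1 : Θ)) (b := e₁)
      omega)
  obtain ⟨e₃, he₃⟩ : ∃ e : Θ, e ∉ ({1, e₁, e₂} : Finset Θ) :=
    exists_notMem_six _ (by
      have := Finset.card_le_three (a := (1 : Θ)) (b := e₁) (c := e₂)
      omega)
  simp only [Finset.mem_insert, Finset.mem_singleton, not_or] at he₁ he₂ he₃
  have hne : ∀ {x y : Θ}, x ≠ y → (x : Fˣ) ≠ (y : Fˣ) := fun h h' => h (Subtype.ext h')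
  -- three distinct columns
  have h3 : ∃ a b c : ι, a ≠ b ∧ a ≠ c ∧ b ≠ c := by
    have : 2 < Fintype.card ι := by omega
    exact Fintype.two_lt_card_iff.mp this
  obtain ⟨a, b, c, hab, hac, hbc⟩ := h3
  have hinvnm : ¬ IsMono ((g⁻¹ : GL ι F) : Matrix ι ι F) := by
    intro h
    apply hnm
    have := isMono_inv g⁻¹ h
    rwa [inv_inv] at this
  refine Cfsg.Agent.Lib.Helper10.F6Leaf.false_of_comb_six h6 (g : Matrix ι ι F) a b c (fun k l hkl => hcomb g hg a b c hab k l hkl) ?_ ?_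
  · intro i i' hii' κ hκ
    exact Cfsg.Agent.Lib.Helper12.F6Leaf.false_of_prop_rows h6 L hD hR hfus hcomb (e₁ : Fˣ) (e₂ : Fˣ) (e₃ : Fˣ)
      (by have := hne he₁; simpa using this) (by have := hne he₂.1; simpa using this)
      (by have := hne he₃.1; simpa using this)
      (fun h => he₂.2 (Subtype.ext h.symm)) (fun h => he₃.2.1 (Subtype.ext h.symm))
      (fun h => he₃.2.2 (Subtype.ext h.symm))
      (fun i i' hii' => hT i i' hii' _ e₁.2) (fun i i' hii' => hT i i' hii' _ e₂.2)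
      (fun i i' hii' => hT i i' hii' _ e₃.2) g hg hnm i i' hii' a b c hab hac hbc κ hκ.1 hκ.2.1 hκ.2.2
  · -- no functional kills all rows but one
    intro α β
    by_contra hcon
    push Not at hcon
    -- the vector `w = g (α e_a + β e_b - e_c)` has at most one non-zero coordinate
    set v : ι → F := α • Pi.single a (1 : F) + β • Pi.single b (1 : F) - Pi.single c (1 : F) with hv
    have hvc : v c = -1 := by
      simp only [hv, Pi.sub_apply, Pi.add_apply, Pi.smul_apply, smul_eq_mul]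
      rw [Pi.single_eq_of_ne (Ne.symm hac), Pi.single_eq_of_ne (Ne.symm hbc), Pi.single_eq_same]
      ring
    have hv0 : v ≠ 0 := by
      intro h
      have := congrFun h c
      rw [hvc] at this
      simp at this
    have hgv : ∀ x, ((g : Matrix ι ι F) *ᵥ v) x = α * (g : Matrix ι ι F) x a + β * (g : Matrix ι ι F) x b
        - (g : Matrix ι ι F) x c := by
      intro x
      rw [hv, Matrix.mulVec_sub, Matrix.mulVec_add, Matrix.mulVec_smul, Matrix.mulVec_smul,
        Matrix.mulVec_single_one, Matrix.mulVec_single_one, Matrix.mulVec_single_one]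
      simp only [Pi.sub_apply, Pi.add_apply, Pi.smul_apply, smul_eq_mul, Matrix.col_apply]
    -- a row `m` off which `g v` vanishes
    obtain ⟨m, hm⟩ : ∃ m : ι, ∀ x, x ≠ m → ((g : Matrix ι ι F) *ᵥ v) x = 0 := by
      by_cases hall : ∀ x, ((g : Matrix ι ι F) *ᵥ v) x = 0
      · exact ⟨a, fun x _ => hall x⟩
      · push Not at hall
        obtain ⟨m, hm⟩ := hall
        refine ⟨m, fun x hx => ?_⟩
        have h1 : (g : Matrix ι ι F) m c ≠ α * (g : Matrix ι ι F) m a + β * (g : Matrix ι ι F) m b := by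
          intro h; apply hm; rw [hgv, h]; ring
        have h2 := hcon m x (Ne.symm hx) h1
        rw [hgv, h2]; ring
    -- so `g⁻¹ e_m` is proportional to `v`, supported on `{a, b, c}`
    have hsupp : ∀ x, x ≠ a → x ≠ b → x ≠ c → v x = 0 := by
      intro x hxa hxb hxc
      simp only [hv, Pi.sub_apply, Pi.add_apply, Pi.smul_apply, smul_eq_mul]
      rw [Pi.single_eq_of_ne hxa, Pi.single_eq_of_ne hxb, Pi.single_eq_of_ne hxc]
      ring
    have hgm : (g : Matrix ι ι F) *ᵥ v = ((g : Matrix ι ι F) *ᵥ v) m • Pi.single m (1 : F) := by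
      funext x
      by_cases hx : x = m
      · subst hx; simp
      · rw [hm x hx]; simp [Pi.single_eq_of_ne hx]
    have hinv : v = ((g : Matrix ι ι F) *ᵥ v) m • (((g⁻¹ : GL ι F) : Matrix ι ι F) *ᵥ Pi.single m (1 : F)) := by
      have := congrArg (fun w => ((g⁻¹ : GL ι F) : Matrix ι ι F) *ᵥ w) hgm
      rw [inv_mulVec_mulVec, Matrix.mulVec_smul] at this
      exact this
    have hcoef : ((g : Matrix ι ι F) *ᵥ v) m ≠ 0 := by
      intro h0
      apply hv0
      rw [hinv, h0, zero_smul]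
    have hcolz : ∀ x, x ≠ a → x ≠ b → x ≠ c → ((g⁻¹ : GL ι F) : Matrix ι ι F) x m = 0 := by
      intro x hxa hxb hxc
      have := congrFun hinv x
      rw [hsupp x hxa hxb hxc, Pi.smul_apply, smul_eq_mul, Matrix.mulVec_single_one] at this
      exact (mul_eq_zero.mp this.symm).resolve_left hcoef
    -- two rows outside `{a, b, c}`
    obtain ⟨x₁, hx₁⟩ : ∃ x : ι, x ∉ ({a, b, c} : Finset ι) :=
      exists_notMem_six _ (by
        have := Finset.card_le_three (a := a) (b := b) (c := c)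
        omega)
    obtain ⟨x₂, hx₂⟩ : ∃ x : ι, x ∉ ({a, b, c, x₁} : Finset ι) :=
      exists_notMem_six _ (by
        have := Finset.card_le_four (a := a) (b := b) (c := c) (d := x₁)
        omega)
    simp only [Finset.mem_insert, Finset.mem_singleton, not_or] at hx₁ hx₂
    exact hD g⁻¹ (L.inv_mem hg) hinvnm m x₁ x₂ (Ne.symm hx₂.2.2.2)
      (hcolz x₁ hx₁.1 hx₁.2.1 hx₁.2.2) (hcolz x₂ hx₂.1 hx₂.2.1 hx₂.2.2.1)

/-- the interface for the rest of S5655 at `6 ≤ n`: the zero pattern of `L` is closed under inverse-transpose (true in `GU`). -/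
theorem not_worldW_six (h6 : 6 ≤ Fintype.card ι) (Θ : Subgroup Fˣ) (hΘ : 4 ≤ Nat.card Θ)
    (L : Subgroup (GL ι F)) (hT : HasTorus Θ L)
    (hsym : ∀ y : GL ι F, y ∈ L → ∀ i j, (y : Matrix ι ι F) i j = 0 → ((y⁻¹ : GL ι F) : Matrix ι ι F) j i = 0)
    (ζ : Fˣ) (hζΘ : ζ ∈ Θ) (r : ℕ) (hr : r.Prime) (hζ : orderOf ζ = r)
    (g : GL ι F) (hg : g ∈ L) (hnm : ¬ IsMono (g : Matrix ι ι F)) : ¬ WorldW L := by
  intro hW
  have hD : ColDense L := Cfsg.Agent.Lib.Helper15.UDenseLeaf.colDense_of_worldW (by omega) Θ hΘ L hT hW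
  have hR : RowDense L := by
    intro y hy hnmy i j j' hjj' h1 h2
    have hinvnm : ¬ IsMono ((y⁻¹ : GL ι F) : Matrix ι ι F) := by
      intro h
      apply hnmy
      have := isMono_inv y⁻¹ h
      rwa [inv_inv] at this
    exact hD y⁻¹ (L.inv_mem hy) hinvnm i j j' hjj' (hsym y hy i j h1) (hsym y hy i j' h2)
  exact hnm (isMono_of_colDense_six h6 L hD hR Θ hΘ hT ζ hζΘ r hr hζ g hg)

end Cfsg.Agent.Lib.Helper10.F6Main
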