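import Mathlib
import Cfsg.Agent.Lib.Helper28.SchurFoxD

/-!
# A 4-ary trie of natural numbers with a continuation-passing `add` (helper10)

`Q` is a 4-ary trie indexed by the base-4 digits of a key, LOW digit first.  `Q.addS c depth t key` (the
specification) adds `c` to the entry `key`; `Q.add4 c depth t key k` is the kernel-friendly version in
continuation-passing style: it computes `k (Q.addS c depth t key)`, the new trie being handed to `k` in
normal form.  Compared with the binary trie of `FoxTrieA` the kernel needs about half the time and less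
memory for an `add`.
-/

set_option autoImplicit false

namespace Cfsg.Agent.Lib.Helper10.FoxQuad

open Cfsg.Agent.Lib.Helper28.TC2Upper (force force_eq)

/-- 4-ary tries -/
inductive Q : Type
  | nil : Q
  | leaf (v : ℕ) : Q
  | node (a b c d : Q) : Q

namespace Q

/-- evaluate the trie (to a constructor) first -/
noncomputable def forceQ {α : Type} (t : Q) (f : Q → α) : α :=
  @Q.rec (fun _ => α) (f Q.nil) (fun v => f (Q.leaf v)) (fun a b c d _ _ _ _ => f (Q.node a b c d)) t

theorem forceQ_eq {α : Type} (t : Q) (f : Q → α) : forceQ t f = f t := by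
  cases t <;> rfl

/-- value (of a leaf; `0` otherwise) -/
noncomputable def val (t : Q) : ℕ :=
  @Q.rec (fun _ => ℕ) 0 (fun v => v) (fun _ _ _ _ _ _ _ _ => 0) t

@[simp] theorem val_nil : val nil = 0 := rfl
@[simp] theorem val_leaf (v : ℕ) : val (leaf v) = v := rfl
@[simp] theorem val_node (a b c d : Q) : val (node a b c d) = 0 := rfl

/-- the child number `j` (`nil` for a trie that is not a node) -/
def child (j : ℕ) : Q → Q
  | node a b c d => if j = 0 then a else if j = 1 then b else if j = 2 then c else d
  | _ => nil

/-- replace the child number `j` -/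
def setChild (j : ℕ) (t : Q) (x : Q) : Q :=
  if j = 0 then node x (child 1 t) (child 2 t) (child 3 t)
  else if j = 1 then node (child 0 t) x (child 2 t) (child 3 t)
  else if j = 2 then node (child 0 t) (child 1 t) x (child 3 t)
  else node (child 0 t) (child 1 t) (child 2 t) x

theorem child_setChild {j j' : ℕ} (hj : j < 4) (hj' : j' < 4) (t x : Q) :
    child j' (setChild j t x) = if j' = j then x else child j' t := by
  interval_cases j <;> interval_cases j' <;> simp [setChild, child]

/-- read the entry `key` of a trie of depth `depth` -/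
noncomputable def get : ℕ → Q → ℕ → ℕ
  | 0, t, _ => val t
  | d + 1, t, key => get d (child (key % 4) t) (key / 4)

theorem get_nil (depth key : ℕ) : get depth nil key = 0 := by
  induction depth generalizing key with
  | zero => rfl
  | succ d ih => exact ih _

/-- add `c` to the entry `key` of a trie of depth `depth`: the specification -/
noncomputable def addS (c : ℕ) : ℕ → Q → ℕ → Q
  | 0, t, _ => leaf (val t + c)
  | d + 1, t, key => setChild (key % 4) t (addS c d (child (key % 4) t) (key / 4))

/-- the specification of `addS` -/
theorem get_addS (c : ℕ) (depth : ℕ) (t : Q) (key key' : ℕ) (hk : key < 4 ^ depth)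
    (hk' : key' < 4 ^ depth) :
    get depth (addS c depth t key) key' = get depth t key' + (if key' = key then c else 0) := by
  induction depth generalizing t key key' with
  | zero =>
    have h1 : key = 0 := by simpa using hk
    have h2 : key' = 0 := by simpa using hk'
    subst h1 h2
    simp [get, addS]
  | succ d ih =>
    have hk2 : key / 4 < 4 ^ d := by
      rw [Nat.div_lt_iff_lt_mul (by norm_num)]; rw [pow_succ] at hk; exact hk
    have hk2' : key' / 4 < 4 ^ d := by
      rw [Nat.div_lt_iff_lt_mul (by norm_num)]; rw [pow_succ] at hk'; exact hk'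
    show get d (child (key' % 4) (setChild (key % 4) t (addS c d (child (key % 4) t) (key / 4)))) (key' / 4) =
      get d (child (key' % 4) t) (key' / 4) + _
    rw [child_setChild (Nat.mod_lt _ (by norm_num)) (Nat.mod_lt _ (by norm_num))]
    by_cases hj : key' % 4 = key % 4
    · rw [if_pos hj, ih _ _ _ hk2 hk2', hj]
      congr 1
      by_cases e : key' = key
      · rw [if_pos e, if_pos (by rw [e])]
      · rw [if_neg e, if_neg (by omega)]
    · rw [if_neg hj, if_neg (by intro e; exact hj (by rw [e])), add_zero]

/-- all leaves vanish modulo `p` -/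
noncomputable def allZ (p : ℕ) (t : Q) : Bool :=
  @Q.rec (fun _ => Bool) true (fun v => Nat.beq (Nat.mod v p) 0)
    (fun _ _ _ _ ia ib ic id => and (and ia ib) (and ic id)) t

@[simp] theorem allZ_nil (p : ℕ) : allZ p nil = true := rfl
theorem allZ_leaf (p v : ℕ) : allZ p (leaf v) = Nat.beq (Nat.mod v p) 0 := rfl
theorem allZ_node (p : ℕ) (a b c d : Q) :
    allZ p (node a b c d) = ((allZ p a && allZ p b) && (allZ p c && allZ p d)) := rfl

theorem allZ_child {p : ℕ} {t : Q} (h : allZ p t = true) (j : ℕ) : allZ p (child j t) = true := by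
  cases t with
  | nil => rfl
  | leaf v => rfl
  | node a b c d =>
    rw [allZ_node] at h
    simp only [Bool.and_eq_true] at h
    obtain ⟨⟨h1, h2⟩, h3, h4⟩ := h
    show allZ p (if j = 0 then a else if j = 1 then b else if j = 2 then c else d) = true
    split_ifs <;> assumption

theorem val_mod_of_allZ {p : ℕ} {t : Q} (h : allZ p t = true) : val t % p = 0 := by
  cases t with
  | nil => simp
  | leaf v =>
    rw [allZ_leaf] at h
    exact (Cfsg.Agent.Lib.Helper28.TC2Upper.Data.nbeq_iff _ _).mp h
  | node a b c d => simp

theorem get_mod_of_allZ {p : ℕ} (depth : ℕ) {t : Q} (h : allZ p t = true) (key : ℕ) :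
    get depth t key % p = 0 := by
  induction depth generalizing t key with
  | zero => exact val_mod_of_allZ h
  | succ d ih => exact ih (allZ_child h _) _

/-! ### The kernel version of `addS` -/

/-- choose the child by the low digit of the key and go on -/
noncomputable def sel4 {α : Type} (ih : Q → ℕ → (Q → α) → α) (a b c d : Q) (key : ℕ) (k : Q → α) : α :=
  @Bool.rec (fun _ => α)
    (@Bool.rec (fun _ => α) (ih b (Nat.div key 4) (fun x => k (Q.node a x c d)))
      (ih a (Nat.div key 4) (fun x => k (Q.node x b c d))) (Nat.beq (Nat.mod key 4) 0))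
    (@Bool.rec (fun _ => α) (ih d (Nat.div key 4) (fun x => k (Q.node a b c x)))
      (ih c (Nat.div key 4) (fun x => k (Q.node a b x d))) (Nat.beq (Nat.mod key 4) 2))
    (Nat.ble 2 (Nat.mod key 4))

/-- `add4 c depth t key k = k (addS c depth t key)`, in continuation-passing style -/
noncomputable def add4 {α : Type} (c : ℕ) : ℕ → Q → ℕ → (Q → α) → α :=
  @Nat.rec (fun _ => Q → ℕ → (Q → α) → α)
    (fun t _ k => force (Nat.add (val t) c) (fun v => k (Q.leaf v)))
    (fun _ ih t key k =>
      @Q.rec (fun _ => α) (sel4 ih Q.nil Q.nil Q.nil Q.nil key k)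
        (fun _ => sel4 ih Q.nil Q.nil Q.nil Q.nil key k)
        (fun a b c d _ _ _ _ => sel4 ih a b c d key k) t)

theorem brec_true {α : Type} (x y : α) : @Bool.rec (fun _ => α) x y true = y := rfl
theorem brec_false {α : Type} (x y : α) : @Bool.rec (fun _ => α) x y false = x := rfl

theorem sel4_eq {α : Type} (ih : Q → ℕ → (Q → α) → α) (a b c d : Q) (key : ℕ) (k : Q → α) :
    sel4 ih a b c d key k =
      if key % 4 = 0 then ih a (key / 4) (fun x => k (Q.node x b c d))
      else if key % 4 = 1 then ih b (key / 4) (fun x => k (Q.node a x c d))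
      else if key % 4 = 2 then ih c (key / 4) (fun x => k (Q.node a b x d))
      else ih d (key / 4) (fun x => k (Q.node a b c x)) := by
  have h4 : key % 4 < 4 := Nat.mod_lt _ (by norm_num)
  unfold sel4
  show @Bool.rec (fun _ => α)
    (@Bool.rec (fun _ => α) (ih b (key / 4) (fun x => k (Q.node a x c d)))
      (ih a (key / 4) (fun x => k (Q.node x b c d))) (Nat.beq (key % 4) 0))
    (@Bool.rec (fun _ => α) (ih d (key / 4) (fun x => k (Q.node a b c x)))
      (ih c (key / 4) (fun x => k (Q.node a b x d))) (Nat.beq (key % 4) 2))
    (Nat.ble 2 (key % 4)) = _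
  generalize key % 4 = j at h4
  interval_cases j
  · rfl
  · rfl
  · rfl
  · rfl

theorem add4_zero {α : Type} (c : ℕ) (t : Q) (key : ℕ) (k : Q → α) :
    add4 c 0 t key k = k (leaf (val t + c)) := by
  show force (Nat.add (val t) c) (fun v => k (Q.leaf v)) = _
  rw [force_eq]
  rfl

theorem add4_succ {α : Type} (c d : ℕ) (t : Q) (key : ℕ) (k : Q → α) :
    add4 c (d + 1) t key k =
      sel4 (add4 c d) (child 0 t) (child 1 t) (child 2 t) (child 3 t) key k := by
  cases t <;> rfl

/-- the kernel version computes the specification -/
theorem add4_eq {α : Type} (c depth : ℕ) (t : Q) (key : ℕ) (k : Q → α) :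
    add4 c depth t key k = k (addS c depth t key) := by
  induction depth generalizing t key k with
  | zero => exact add4_zero c t key k
  | succ d ih =>
    rw [add4_succ, sel4_eq]
    show _ = k (setChild (key % 4) t (addS c d (child (key % 4) t) (key / 4)))
    have h4 : key % 4 < 4 := Nat.mod_lt _ (by norm_num)
    generalize key % 4 = j at h4
    interval_cases j
    · rw [if_pos rfl, ih]; rfl
    · rw [if_neg (by norm_num), if_pos rfl, ih]; rfl
    · rw [if_neg (by norm_num), if_neg (by norm_num), if_pos rfl, ih]; rfl
    · rw [if_neg (by norm_num), if_neg (by norm_num), if_neg (by norm_num), ih]; rfl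

end Q

end Cfsg.Agent.Lib.Helper10.FoxQuad
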