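import Mathlib
import Cfsg.Agent.Lib.Helper28.SchurFoxD

/-!
# A binary trie of natural numbers (helper10, for the sparse Fox cycle checkers)

`Tr` is a binary trie indexed by the bits of a key, LOW bit first.  `Tr.add c depth t key` adds `c` to
the entry `key`; `Tr.get depth t key` reads it; `Tr.allZ p t` checks that all entries vanish modulo
`p`.  The definitions are written with explicit recursors and `force`, so that the kernel evaluates
them strictly: after every `add` the path to the touched leaf is in normal form.
-/

set_option autoImplicit false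

namespace Cfsg.Agent.Lib.Helper10.FoxTrie

open Cfsg.Agent.Lib.Helper28.TC2Upper (force force_eq)

/-- binary tries -/
inductive Tr : Type
  | nil : Tr
  | leaf (v : ℕ) : Tr
  | node (l r : Tr) : Tr

namespace Tr

/-- evaluate the trie (to a constructor) first -/
noncomputable def forceT {α : Type} (t : Tr) (f : Tr → α) : α :=
  @Tr.rec (fun _ => α) (f Tr.nil) (fun v => f (Tr.leaf v)) (fun l r _ _ => f (Tr.node l r)) t

theorem forceT_eq {α : Type} (t : Tr) (f : Tr → α) : forceT t f = f t := by
  cases t <;> rfl

/-- left child (of a node; `nil` otherwise) -/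
noncomputable def left (t : Tr) : Tr :=
  @Tr.rec (fun _ => Tr) Tr.nil (fun _ => Tr.nil) (fun l _ _ _ => l) t

/-- right child (of a node; `nil` otherwise) -/
noncomputable def right (t : Tr) : Tr :=
  @Tr.rec (fun _ => Tr) Tr.nil (fun _ => Tr.nil) (fun _ r _ _ => r) t

/-- value (of a leaf; `0` otherwise) -/
noncomputable def val (t : Tr) : ℕ :=
  @Tr.rec (fun _ => ℕ) 0 (fun v => v) (fun _ _ _ _ => 0) t

@[simp] theorem left_nil : left nil = nil := rfl
@[simp] theorem left_leaf (v : ℕ) : left (leaf v) = nil := rfl
@[simp] theorem left_node (l r : Tr) : left (node l r) = l := rfl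
@[simp] theorem right_nil : right nil = nil := rfl
@[simp] theorem right_leaf (v : ℕ) : right (leaf v) = nil := rfl
@[simp] theorem right_node (l r : Tr) : right (node l r) = r := rfl
@[simp] theorem val_nil : val nil = 0 := rfl
@[simp] theorem val_leaf (v : ℕ) : val (leaf v) = v := rfl
@[simp] theorem val_node (l r : Tr) : val (node l r) = 0 := rfl

/-- read the entry `key` of a trie of depth `depth` -/
noncomputable def get : ℕ → Tr → ℕ → ℕ
  | 0, t, _ => val t
  | d + 1, t, key => if key % 2 = 0 then get d (left t) (key / 2) else get d (right t) (key / 2)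

/-- add `c` to the entry `key` of a trie of depth `depth` (strict, kernel friendly) -/
noncomputable def add (c : ℕ) : ℕ → Tr → ℕ → Tr :=
  @Nat.rec (fun _ => Tr → ℕ → Tr)
    (fun t _ => force (Nat.add (val t) c) (fun v => Tr.leaf v))
    (fun _ ih t key =>
      force (Nat.div key 2) (fun key2 =>
        @Tr.rec (fun _ => Tr)
          (cond (Nat.beq (Nat.mod key 2) 0)
            (forceT (ih Tr.nil key2) (fun l' => Tr.node l' Tr.nil))
            (forceT (ih Tr.nil key2) (fun r' => Tr.node Tr.nil r')))
          (fun _ => cond (Nat.beq (Nat.mod key 2) 0)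
            (forceT (ih Tr.nil key2) (fun l' => Tr.node l' Tr.nil))
            (forceT (ih Tr.nil key2) (fun r' => Tr.node Tr.nil r')))
          (fun l r _ _ => cond (Nat.beq (Nat.mod key 2) 0)
            (forceT (ih l key2) (fun l' => Tr.node l' r))
            (forceT (ih r key2) (fun r' => Tr.node l r')))
          t))

theorem add_zero (c : ℕ) (t : Tr) (key : ℕ) : add c 0 t key = leaf (val t + c) := by
  show force (Nat.add (val t) c) (fun v => Tr.leaf v) = _
  rw [force_eq]
  rfl

theorem add_succ (c d : ℕ) (t : Tr) (key : ℕ) :
    add c (d + 1) t key =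
      if key % 2 = 0 then node (add c d (left t) (key / 2)) (right t)
      else node (left t) (add c d (right t) (key / 2)) := by
  show force (Nat.div key 2) (fun key2 =>
        @Tr.rec (fun _ => Tr)
          (cond (Nat.beq (Nat.mod key 2) 0)
            (forceT (add c d Tr.nil key2) (fun l' => Tr.node l' Tr.nil))
            (forceT (add c d Tr.nil key2) (fun r' => Tr.node Tr.nil r')))
          (fun _ => cond (Nat.beq (Nat.mod key 2) 0)
            (forceT (add c d Tr.nil key2) (fun l' => Tr.node l' Tr.nil))
            (forceT (add c d Tr.nil key2) (fun r' => Tr.node Tr.nil r')))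
          (fun l r _ _ => cond (Nat.beq (Nat.mod key 2) 0)
            (forceT (add c d l key2) (fun l' => Tr.node l' r))
            (forceT (add c d r key2) (fun r' => Tr.node l r')))
          t) = _
  rw [force_eq]
  by_cases h : key % 2 = 0
  · have hb : Nat.beq (Nat.mod key 2) 0 = true :=
      (Cfsg.Agent.Lib.Helper28.TC2Upper.Data.nbeq_iff _ _).mpr h
    rw [if_pos h, hb]
    cases t <;> simp only [cond_true, forceT_eq] <;> rfl
  · have hb : Nat.beq (Nat.mod key 2) 0 = false := by
      rw [← Bool.not_eq_true, Cfsg.Agent.Lib.Helper28.TC2Upper.Data.nbeq_iff]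
      exact h
    rw [if_neg h, hb]
    cases t <;> simp only [cond_false, forceT_eq] <;> rfl

/-- the specification of `add` -/
theorem get_add (c : ℕ) (depth : ℕ) (t : Tr) (key key' : ℕ) (hk : key < 2 ^ depth)
    (hk' : key' < 2 ^ depth) :
    get depth (add c depth t key) key' = get depth t key' + (if key' = key then c else 0) := by
  induction depth generalizing t key key' with
  | zero =>
    have h1 : key = 0 := by simpa using hk
    have h2 : key' = 0 := by simpa using hk'
    subst h1 h2
    rw [add_zero]
    simp [get]
  | succ d ih =>
    have hk2 : key / 2 < 2 ^ d := by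
      rw [Nat.div_lt_iff_lt_mul (by norm_num)]; rw [pow_succ] at hk; exact hk
    have hk2' : key' / 2 < 2 ^ d := by
      rw [Nat.div_lt_iff_lt_mul (by norm_num)]; rw [pow_succ] at hk'; exact hk'
    rw [add_succ]
    by_cases h : key % 2 = 0
    · rw [if_pos h]
      by_cases h' : key' % 2 = 0
      · show (if key' % 2 = 0 then get d (left (node _ _)) (key' / 2) else _) = _
        rw [if_pos h', left_node, ih _ _ _ hk2 hk2']
        show _ = (if key' % 2 = 0 then get d (left t) (key' / 2) else _) + _
        rw [if_pos h']
        congr 1
        by_cases e : key' = key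
        · rw [if_pos e, if_pos (by rw [e])]
        · rw [if_neg e, if_neg (by omega)]
      · show (if key' % 2 = 0 then _ else get d (right (node _ _)) (key' / 2)) = _
        rw [if_neg h', right_node]
        show _ = (if key' % 2 = 0 then _ else get d (right t) (key' / 2)) + _
        rw [if_neg h', if_neg (by omega)]
        rfl
    · rw [if_neg h]
      by_cases h' : key' % 2 = 0
      · show (if key' % 2 = 0 then get d (left (node _ _)) (key' / 2) else _) = _
        rw [if_pos h', left_node]
        show _ = (if key' % 2 = 0 then get d (left t) (key' / 2) else _) + _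
        rw [if_pos h', if_neg (by omega)]
        rfl
      · show (if key' % 2 = 0 then _ else get d (right (node _ _)) (key' / 2)) = _
        rw [if_neg h', right_node, ih _ _ _ hk2 hk2']
        show _ = (if key' % 2 = 0 then _ else get d (right t) (key' / 2)) + _
        rw [if_neg h']
        congr 1
        by_cases e : key' = key
        · rw [if_pos e, if_pos (by rw [e])]
        · rw [if_neg e, if_neg (by omega)]

/-- all leaves vanish modulo `p` -/
noncomputable def allZ (p : ℕ) (t : Tr) : Bool :=
  @Tr.rec (fun _ => Bool) true (fun v => Nat.beq (Nat.mod v p) 0) (fun _ _ ihl ihr => and ihl ihr) t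

@[simp] theorem allZ_nil (p : ℕ) : allZ p nil = true := rfl
theorem allZ_leaf (p v : ℕ) : allZ p (leaf v) = Nat.beq (Nat.mod v p) 0 := rfl
theorem allZ_node (p : ℕ) (l r : Tr) : allZ p (node l r) = (allZ p l && allZ p r) := rfl

theorem allZ_left {p : ℕ} {t : Tr} (h : allZ p t = true) : allZ p (left t) = true := by
  cases t with
  | nil => rfl
  | leaf v => rfl
  | node l r =>
    rw [allZ_node, Bool.and_eq_true] at h
    exact h.1

theorem allZ_right {p : ℕ} {t : Tr} (h : allZ p t = true) : allZ p (right t) = true := by
  cases t with
  | nil => rfl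
  | leaf v => rfl
  | node l r =>
    rw [allZ_node, Bool.and_eq_true] at h
    exact h.2

theorem val_mod_of_allZ {p : ℕ} {t : Tr} (h : allZ p t = true) : val t % p = 0 := by
  cases t with
  | nil => simp
  | leaf v =>
    rw [allZ_leaf] at h
    exact (Cfsg.Agent.Lib.Helper28.TC2Upper.Data.nbeq_iff _ _).mp h
  | node l r => simp

theorem get_mod_of_allZ {p : ℕ} (depth : ℕ) {t : Tr} (h : allZ p t = true) (key : ℕ) :
    get depth t key % p = 0 := by
  induction depth generalizing t key with
  | zero => exact val_mod_of_allZ h
  | succ d ih =>
    show (if key % 2 = 0 then get d (left t) (key / 2) else get d (right t) (key / 2)) % p = 0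
    split_ifs
    · exact ih (allZ_left h) _
    · exact ih (allZ_right h) _

theorem get_nil (depth key : ℕ) : get depth nil key = 0 := by
  induction depth generalizing key with
  | zero => rfl
  | succ d ih =>
    show (if key % 2 = 0 then get d (left nil) (key / 2) else get d (right nil) (key / 2)) = 0
    simp [ih]

end Tr

end Cfsg.Agent.Lib.Helper10.FoxTrie
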