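import Mathlib
import Cfsg.Agent.Lib.Helper10.FoxTrieA
import Cfsg.Agent.Lib.Helper29.SchurFoxSparse

/-!
# Sparse Fox cycle checker with a trie accumulator (helper10, request of helper19)

The checker `cycleOKS` of `Helper29.SchurFoxSparse` keeps one natural number of `n * d * w` bits; every
step of a walk copies it.  Here the accumulator is a binary trie (`FoxTrieA`), so the cost of a step is
proportional to the depth `Dp` of the trie (`n * d ≤ 2 ^ Dp`), independently of `n`.

* `cycleOKT D nxt Dp k rows` : the check of the cycle number `k` given by its cells.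
* `cycleT_sound` : the conclusion of `cycleS_sound`.
* `ker_eq_bot_of_fox_trie` : `ker_eq_bot_of_fox_sparse` with `cycleOKT`.
-/

set_option autoImplicit false

namespace Cfsg.Agent.Lib.Helper10.FoxTrie

open Subgroup
open scoped IsMulCommutative
open Cfsg.Agent.Lib.Helper28.TC2Upper (force force_eq allLoop allLoop_eq_true)
open Cfsg.Agent.Lib.Helper28.TC2Lower (pathProd Table)
open Cfsg.Agent.Lib.Helper28.TC2Glue (pathOf lift_mk_eq_pathProd)
open Cfsg.Agent.Lib.Helper28.SchurFox
open Cfsg.Agent.Lib.Helper29.SchurFoxSparse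

section Checker
variable (D : FoxData) (nxt : ℕ → ℕ → ℕ) (Dp : ℕ)

/-- one letter of a walk -/
noncomputable def stepTr (k l i : ℕ) (t : Tr) (cont : ℕ → Tr → Tr) : Tr :=
  force (nxt l i) (fun i' =>
    Tr.forceT (cond (Nat.beq (Nat.mod l 2) 0)
        (force (Nat.add (Nat.mul i D.d) (Nat.div l 2)) (fun key => Tr.add k Dp t key))
        (force (Nat.mul k (Nat.pred D.p)) (fun c =>
          force (Nat.add (Nat.mul i' D.d) (Nat.div l 2)) (fun key => Tr.add c Dp t key))))
      (fun t' => cont i' t'))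

/-- add `k` times the boundary of the walk along a path from the point `i` -/
noncomputable def walkTr (k : ℕ) : List ℕ → ℕ → Tr → Tr :=
  @List.rec ℕ (fun _ => ℕ → Tr → Tr) (fun _ t => t) (fun l _ ih i t => stepTr D nxt Dp k l i t ih)

theorem walkTr_nil (k i : ℕ) (t : Tr) : walkTr D nxt Dp k [] i t = t := rfl

theorem walkTr_cons (k l : ℕ) (ls : List ℕ) (i : ℕ) (t : Tr) :
    walkTr D nxt Dp k (l :: ls) i t = walkTr D nxt Dp k ls (nxt l i)
      (if l % 2 = 0 then Tr.add k Dp t (i * D.d + l / 2)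
        else Tr.add (k * (D.p - 1)) Dp t (nxt l i * D.d + l / 2)) := by
  show stepTr D nxt Dp k l i t (walkTr D nxt Dp k ls) = _
  unfold stepTr
  rw [force_eq, Tr.forceT_eq]
  by_cases h : l % 2 = 0
  · have hb : Nat.beq (Nat.mod l 2) 0 = true :=
      (Cfsg.Agent.Lib.Helper28.TC2Upper.Data.nbeq_iff _ _).mpr h
    rw [if_pos h, hb, cond_true, force_eq]
    rfl
  · have hb : Nat.beq (Nat.mod l 2) 0 = false := by
      rw [← Bool.not_eq_true, Cfsg.Agent.Lib.Helper28.TC2Upper.Data.nbeq_iff]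
      exact h
    rw [if_neg h, hb, cond_false, force_eq, force_eq]
    rfl

/-- the cells `(point, coefficient)` of one relator -/
noncomputable def rowTr (path : List ℕ) : List (ℕ × ℕ) → Tr → Tr :=
  @List.rec (ℕ × ℕ) (fun _ => Tr → Tr) (fun t => t)
    (fun cell _ ih t => Tr.forceT (walkTr D nxt Dp cell.2 path cell.1 t) (fun t' => ih t'))

theorem rowTr_nil (path : List ℕ) (t : Tr) : rowTr D nxt Dp path [] t = t := rfl

theorem rowTr_cons (path : List ℕ) (c : ℕ × ℕ) (cs : List (ℕ × ℕ)) (t : Tr) :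
    rowTr D nxt Dp path (c :: cs) t = rowTr D nxt Dp path cs (walkTr D nxt Dp c.2 path c.1 t) := by
  show Tr.forceT (walkTr D nxt Dp c.2 path c.1 t) (fun t' => rowTr D nxt Dp path cs t') = _
  rw [Tr.forceT_eq]

/-- loop with a trie accumulator -/
noncomputable def loopT (f : ℕ → Tr → Tr) (n : ℕ) (t : Tr) : Tr :=
  @Nat.rec (fun _ => Tr) t (fun i ih => Tr.forceT ih (fun a => f i a)) n

theorem loopT_zero (f : ℕ → Tr → Tr) (t : Tr) : loopT f 0 t = t := rfl
theorem loopT_succ (f : ℕ → Tr → Tr) (n : ℕ) (t : Tr) : loopT f (n + 1) t = f n (loopT f n t) :=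
  Tr.forceT_eq _ _

/-- all relators -/
noncomputable def cycTr (rows : List (List (ℕ × ℕ))) : Tr :=
  loopT (fun j a => rowTr D nxt Dp (D.paths.getD j []) (rows.getD j []) a) D.paths.length Tr.nil

/-- the check of the cycle number `k`, given by its cells -/
noncomputable def cycleOKT (k : ℕ) (rows : List (List (ℕ × ℕ))) : Bool :=
  and (and (and (cellsOK D rows)
    (allLoop (fun j => Nat.beq (augS (rows.getD j [])) (entry D.Lam k j)) D.paths.length))
    (Nat.ble (Nat.mul D.n D.d) (Nat.pow 2 Dp)))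
    (Tr.allZ D.p (cycTr D nxt Dp rows))

/-- the digit function of a trie -/
noncomputable def sem (t : Tr) : ℕ → ℕ := fun s => if s < 2 ^ Dp then Tr.get Dp t s else 0

theorem sem_nil : sem Dp Tr.nil = fun _ => 0 := by
  funext s
  unfold sem
  rw [Tr.get_nil, ite_self]

theorem sem_add (c : ℕ) (t : Tr) {key : ℕ} (hk : key < 2 ^ Dp) :
    sem Dp (Tr.add c Dp t key) = addAt (sem Dp t) key c := by
  funext s
  show (if s < 2 ^ Dp then Tr.get Dp (Tr.add c Dp t key) s else 0) =
    (if s < 2 ^ Dp then Tr.get Dp t s else 0) + if s = key then c else 0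
  by_cases hs : s < 2 ^ Dp
  · rw [if_pos hs, if_pos hs, Tr.get_add c Dp t key s hk hs]
  · rw [if_neg hs, if_neg hs, if_neg (by omega)]

theorem sem_walkTr (hnd : D.n * D.d ≤ 2 ^ Dp) (htab : ∀ l < 2 * D.d, ∀ i < D.n, nxt l i < D.n)
    (k : ℕ) (w : List ℕ) (hw : ∀ l ∈ w, l < 2 * D.d) (i : ℕ) (hi : i < D.n) (t : Tr) :
    sem Dp (walkTr D nxt Dp k w i t) = D.walkD nxt k w i (sem Dp t) := by
  induction w generalizing i t with
  | nil => rfl
  | cons l ls ih =>
    have hl : l < 2 * D.d := hw l List.mem_cons_self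
    have hx : l / 2 < D.d := by omega
    have hi' : nxt l i < D.n := htab l hl i hi
    rw [walkTr_cons, ih (fun l' hl' => hw l' (List.mem_cons_of_mem _ hl')) _ hi']
    show _ = D.walkD nxt k ls (nxt l i) _
    congr 1
    by_cases hpar : l % 2 = 0
    · rw [if_pos hpar, if_pos hpar]
      exact sem_add Dp _ _ (lt_of_lt_of_le (FoxData.slot_lt hi hx) hnd)
    · rw [if_neg hpar, if_neg hpar]
      exact sem_add Dp _ _ (lt_of_lt_of_le (FoxData.slot_lt hi' hx) hnd)

theorem sem_rowTr (hnd : D.n * D.d ≤ 2 ^ Dp) (htab : ∀ l < 2 * D.d, ∀ i < D.n, nxt l i < D.n)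
    (path : List ℕ) (hw : ∀ l ∈ path, l < 2 * D.d) (cells : List (ℕ × ℕ))
    (hc : ∀ c ∈ cells, c.1 < D.n) (t : Tr) :
    sem Dp (rowTr D nxt Dp path cells t) = rowDS D nxt path cells (sem Dp t) := by
  induction cells generalizing t with
  | nil => rfl
  | cons c cs ih =>
    rw [rowTr_cons, ih (fun c' hc' => hc c' (List.mem_cons_of_mem _ hc')),
      sem_walkTr D nxt Dp hnd htab _ path hw c.1 (hc c List.mem_cons_self)]
    rfl

theorem sem_cycTr (hnd : D.n * D.d ≤ 2 ^ Dp) (htab : ∀ l < 2 * D.d, ∀ i < D.n, nxt l i < D.n)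
    (hpaths : ∀ path ∈ D.paths, ∀ l ∈ path, l < 2 * D.d) (rows : List (List (ℕ × ℕ)))
    (hc : ∀ j, ∀ c ∈ rows.getD j [], c.1 < D.n) :
    sem Dp (cycTr D nxt Dp rows) = cycDS D nxt rows := by
  unfold cycTr cycDS
  have key : ∀ m', m' ≤ D.paths.length → ∀ t,
      sem Dp (loopT (fun j a => rowTr D nxt Dp (D.paths.getD j []) (rows.getD j []) a) m' t) =
      loopD (fun j g => rowDS D nxt (D.paths.getD j []) (rows.getD j []) g) m' (sem Dp t) := by
    intro m' hm' t
    induction m' with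
    | zero => rfl
    | succ j ih =>
      rw [loopT_succ, sem_rowTr D nxt Dp hnd htab _ (hpaths _ (D.path_mem (by omega))) _ (hc j),
        ih (by omega)]
      rfl
  rw [key _ le_rfl Tr.nil, sem_nil]

/-- a cycle that passes the trie check gives a relation between the values of the relators -/
theorem cycleT_sound (h : D.Static nxt) (k : ℕ) (rows : List (List (ℕ × ℕ)))
    (hk : cycleOKT D nxt Dp k rows = true)
    {A : Type*} [CommGroup A] (F : ℕ → ℕ → A) (hF : ∀ i x, F i x ^ D.p = 1) (z : ℕ → A)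
    (hz : ∀ j < D.paths.length, ∀ i < D.n, walkF F nxt (D.paths.getD j []) i = z j) :
    ∏ j ∈ Finset.range D.paths.length, z j ^ entry D.Lam k j = 1 := by
  unfold cycleOKT at hk
  simp only [Bool.and_eq_true] at hk
  obtain ⟨⟨⟨h0, h1⟩, h2⟩, h3⟩ := hk
  rw [allLoop_eq_true] at h1
  have haug : ∀ j < D.paths.length, augS (rows.getD j []) = entry D.Lam k j :=
    fun j hj => (Cfsg.Agent.Lib.Helper28.TC2Upper.Data.nbeq_iff _ _).mp (h1 j hj)
  have hc : ∀ j, ∀ c ∈ rows.getD j [], c.1 < D.n := by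
    intro j c hcm
    by_cases hj : j < rows.length
    · rw [List.getD_eq_getElem _ _ hj] at hcm
      unfold cellsOK at h0
      rw [List.all_eq_true] at h0
      have h4 := h0 _ (List.getElem_mem hj)
      rw [List.all_eq_true] at h4
      simpa using h4 c hcm
    · rw [List.getD_eq_default _ _ (by omega)] at hcm
      exact absurd hcm (List.not_mem_nil)
  have hnd : D.n * D.d ≤ 2 ^ Dp := Nat.le_of_ble_eq_true h2
  set g := cycDS D nxt rows with hg
  have htab := h.htab
  have hmod : ∀ s < D.n * D.d, g s % D.p = 0 := by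
    intro s hs
    rw [hg, ← sem_cycTr D nxt Dp hnd htab h.paths rows hc]
    unfold sem
    rw [if_pos (lt_of_lt_of_le hs hnd)]
    exact Tr.get_mod_of_allZ Dp h3 s
  have hval : Val (D.n * D.d) (D.Fs F) g = 1 := by
    unfold Val
    apply Finset.prod_eq_one
    intro s hs
    obtain ⟨q, hq⟩ := Nat.dvd_of_mod_eq_zero (hmod s (Finset.mem_range.mp hs))
    have hFs : D.Fs F s ^ D.p = 1 := hF _ _
    rw [hq, pow_mul, hFs, one_pow]
  rw [← hval, hg, Val_cycDS D nxt F h.hp hF htab h.paths rows hc]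
  apply Finset.prod_congr rfl
  intro j hj
  have hj' := Finset.mem_range.mp hj
  rw [prod_cells D.n (fun i => walkF F nxt (D.paths.getD j []) i) (z j) (hz j hj') _ (hc j), haug j hj']

end Checker

section Pres
variable {α : Type} (rels : Set (FreeGroup α)) (relWords : List (List (α × Bool)))
  (lw : α × Bool → ℕ) (gi : α → ℕ)

/-- `ker_eq_bot_of_fox_sparse` of `Helper29.SchurFoxSparse` with the trie checker `cycleOKT` (depth `Dp`) -/
theorem ker_eq_bot_of_fox_trie
    (hrels : ∀ r, r ∈ rels ↔ ∃ L ∈ relWords, r = FreeGroup.mk L)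
    (hlw : ∀ x b, lw (x, b) = 2 * gi x + cond b 0 1) (hgi : Function.Injective gi)
    (H : Subgroup (PresentedGroup rels))
    (T : Table) (hT : T.OK) (hlwk : ∀ x, lw (x, true) < T.k)
    (φ : PresentedGroup rels →* Equiv.Perm (Fin T.n))
    (hφ : ∀ x, φ (PresentedGroup.of x) = Table.sigma hT (lw (x, true)))
    (f : PresentedGroup rels ⧸ H → Fin T.n) (hf : Function.Bijective f)
    (hfe : ∀ g q, f (g • q) = φ g (f q))
    (D : FoxData) (hDn : D.n = T.n) (hDd : ∀ k < D.d, ∃ x, gi x = k)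
    (hpaths : D.paths = relWords.map (pathOf lw))
    (hOK : D.staticOK T.tau = true) (CY : List (List (List (ℕ × ℕ)))) (Dp : ℕ)
    (hcyc : ∀ k < D.cycles.length, cycleOKT D T.tau Dp k (CY.getD k []) = true)
    {Γ : Type*} [Group Γ] (σ : Γ →* PresentedGroup rels) (hσ : Cfsg.IsStemExtension σ)
    (hexp : ∀ a ∈ σ.ker, a ^ D.p = 1) (R : Retraction σ (H.comap σ)) : σ.ker = ⊥ := by
  classical
  have hstat := D.static_of_check T.tau hOK
  -- the cocycle on the coset space
  have hV : ∀ γ, γ ∈ H.comap σ ↔ σ γ • (QuotientGroup.mk 1 : PresentedGroup rels ⧸ H) = QuotientGroup.mk 1 := by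
    intro γ
    rw [Subgroup.mem_comap]
    show _ ↔ (QuotientGroup.mk (σ γ * 1) : PresentedGroup rels ⧸ H) = QuotientGroup.mk 1
    rw [mul_one, QuotientGroup.eq, mul_one, inv_mem_iff]
  obtain ⟨C⟩ := exists_cocycle σ hσ.1 hσ.2.1 (QuotientGroup.mk 1 : PresentedGroup rels ⧸ H) (H.comap σ) hV R
  -- lifts of the generators
  have hlift : ∀ x : α, ∃ g : Γ, σ g = PresentedGroup.of x := fun x => hσ.1 _
  choose γ0 hγ0 using hlift
  let γx : ℕ → Γ := fun k => if h : ∃ x, gi x = k then γ0 h.choose else 1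
  have hγx : ∀ x, γx (gi x) = γ0 x := by
    intro x
    have h : ∃ y, gi y = gi x := ⟨x, rfl⟩
    show (if h : ∃ y, gi y = gi x then γ0 h.choose else 1) = γ0 x
    rw [dif_pos h, hgi h.choose_spec]
  -- the points
  let e := Equiv.ofBijective f hf
  let pts : ℕ → PresentedGroup rels ⧸ H := fun i => if h : i < T.n then e.symm ⟨i, h⟩ else QuotientGroup.mk 1
  have hpts : ∀ i (h : i < T.n), f (pts i) = ⟨i, h⟩ := by
    intro i h
    show f (if h : i < T.n then e.symm ⟨i, h⟩ else QuotientGroup.mk 1) = _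
    rw [dif_pos h]
    exact e.apply_symm_apply _
  have hact : ∀ x < D.d, ∀ i < D.n, σ (γx x) • pts i = pts (T.tau (2 * x) i) := by
    intro k hk i hi
    rw [hDn] at hi
    obtain ⟨x, rfl⟩ := hDd k hk
    rw [hγx, hγ0]
    apply hf.1
    rw [hfe, hφ, hpts i hi]
    have hlt : T.tau (2 * gi x) i < T.n := by
      have := (Table.sigma hT (lw (x, true)) ⟨i, hi⟩).2
      rwa [Table.sigma_apply hT (hlwk x), hlw, cond_true, add_zero] at this
    rw [hpts _ hlt]
    apply Fin.ext
    rw [Table.sigma_apply hT (hlwk x), hlw]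
    rfl
  have hcomp : ∀ (g : α → Γ), (∀ x, σ (g x) = PresentedGroup.of x) → ∀ L : List (α × Bool),
      σ (FreeGroup.lift g (FreeGroup.mk L)) = PresentedGroup.mk rels (FreeGroup.mk L) := by
    intro g hg L
    have : σ.comp (FreeGroup.lift g) = PresentedGroup.mk rels := by
      apply FreeGroup.ext_hom
      intro x
      show σ (FreeGroup.lift g (FreeGroup.of x)) = PresentedGroup.mk rels (FreeGroup.of x)
      rw [FreeGroup.lift_apply_of, hg]
      rfl
    exact congrArg (fun h : FreeGroup α →* PresentedGroup rels => h (FreeGroup.mk L)) this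
  have hrel : ∀ w ∈ D.paths, σ (pathProd (letG γx) w) = 1 := by
    intro w hw
    rw [hpaths, List.mem_map] at hw
    obtain ⟨L, hL, rfl⟩ := hw
    rw [← lift_mk_eq_pathProd γ0 lw (letG γx) (fun x b => by rw [letG_lw lw gi hlw, hγx]) L, hcomp γ0 hγ0]
    exact PresentedGroup.one_of_mem ((hrels _).mpr ⟨L, hL, rfl⟩)
  obtain ⟨a, haker, harel⟩ := exists_adjust_abs D T.tau hOK
    (fun k hk F hF z hz => cycleT_sound D T.tau Dp hstat k _ (hcyc k hk) F hF z hz) C hexp γx pts hact hrel
  -- the corrected lifts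
  let γ' : α → Γ := fun x => γ0 x * (a (gi x) : Γ)
  have hγ' : ∀ x, σ (γ' x) = PresentedGroup.of x := by
    intro x
    show σ (γ0 x * (a (gi x) : Γ)) = _
    rw [map_mul, hγ0, MonoidHom.mem_ker.mp (haker _), mul_one]
  refine ker_eq_bot_of_lifts rels σ hσ γ' hγ' ?_
  intro r hr
  obtain ⟨L, hL, rfl⟩ := (hrels r).mp hr
  rw [lift_mk_eq_pathProd γ' lw (letG (fun k => γx k * (a k : Γ))) (fun x b => by
    rw [letG_lw lw gi hlw, hγx]) L]
  exact harel _ (by rw [hpaths]; exact List.mem_map_of_mem hL)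

end Pres

end Cfsg.Agent.Lib.Helper10.FoxTrie
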