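import Mathlib
import Cfsg.Agent.Lib.Helper10.FoxQuadA
import Cfsg.Agent.Lib.Helper10.FoxTrieC

/-!
# Sparse Fox cycle checker: 4-ary trie, continuation-passing style, slots in classes (helper10)

The kernel keeps every intermediate term of ONE declaration in its caches, so a long cycle costs memory in
proportion to its number of steps.  Here the slots `s < n * d` are split into the classes `s % Kp = r`; the part
number `r` of a check walks all the cells of the cycle but keeps, in a 4-ary trie of depth `Dq`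
(`n * d ≤ Kp * 4 ^ Dq`), only the slots of its class (entry `s / Kp`).  Every part is a separate `Bool`, so a
separate theorem, checked by the kernel on its own.

* `headOK D k rows` : the points of the cells are points, and the coefficients of the row `j` add up to `Lam k j`.
* `partOK D nxt Kp Dq r rows` : the slots of the class `r` all vanish modulo `p`.
* `cycleP_sound` : `headOK` and all the parts `r < Kp` give the conclusion of `cycleS_sound`.
* `cycleOKQ D nxt Dq k rows` : one part (`Kp = 1`), with `cycleQ_sound`.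
* `ker_eq_bot_of_fox_abs'` : the final theorem over an abstract hypothesis on the cycles, so that every cycle may be
  proved by the checker that suits it (`cycleS_sound`, `cycleT_sound`, `cycleQ_sound`, `cycleP_sound`).
-/

set_option autoImplicit false

namespace Cfsg.Agent.Lib.Helper10.FoxQuad

open Subgroup
open scoped IsMulCommutative
open Cfsg.Agent.Lib.Helper28.TC2Upper (force force_eq allLoop allLoop_eq_true)
open Cfsg.Agent.Lib.Helper28.TC2Lower (pathProd Table)
open Cfsg.Agent.Lib.Helper28.TC2Glue (pathOf lift_mk_eq_pathProd)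
open Cfsg.Agent.Lib.Helper28.SchurFox
open Cfsg.Agent.Lib.Helper29.SchurFoxSparse
open Cfsg.Agent.Lib.Helper10.FoxTrie (exists_adjust_abs')

section Checker
variable (D : FoxData) (nxt : ℕ → ℕ → ℕ) (Kp Dq r : ℕ)

theorem brec_eq {α : Type} (x y : α) (b : Bool) :
    @Bool.rec (fun _ => α) x y b = if b = true then y else x := by
  cases b <;> rfl

/-- add `c` to the slot `s` if it belongs to the class `r`: the specification -/
noncomputable def hitS (c s : ℕ) (t : Q) : Q :=
  if s % Kp = r then Q.addS c Dq t (s / Kp) else t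

/-- the kernel version of `hitS` -/
noncomputable def hitQ {α : Type} (c s : ℕ) (t : Q) (k : Q → α) : α :=
  @Bool.rec (fun _ => α) (k t) (Q.add4 c Dq t (Nat.div s Kp) k) (Nat.beq (Nat.mod s Kp) r)

theorem hitQ_eq {α : Type} (c s : ℕ) (t : Q) (k : Q → α) :
    hitQ Kp Dq r c s t k = k (hitS Kp Dq r c s t) := by
  unfold hitQ hitS
  by_cases h : s % Kp = r
  · have hb : Nat.beq (Nat.mod s Kp) r = true :=
      (Cfsg.Agent.Lib.Helper28.TC2Upper.Data.nbeq_iff _ _).mpr h
    rw [if_pos h, brec_eq, hb, if_pos rfl, Q.add4_eq]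
    rfl
  · have hb : Nat.beq (Nat.mod s Kp) r = false := by
      rw [← Bool.not_eq_true, Cfsg.Agent.Lib.Helper28.TC2Upper.Data.nbeq_iff]
      exact h
    rw [if_neg h, brec_eq, hb, if_neg Bool.false_ne_true]

/-- one letter of a walk -/
noncomputable def stepQ {α : Type} (k l i : ℕ) (t : Q) (cont : ℕ → Q → α) : α :=
  force (nxt l i) (fun i' =>
    @Bool.rec (fun _ => α)
      (force (Nat.add (Nat.mul i' D.d) (Nat.div l 2)) (fun s =>
        hitQ Kp Dq r (Nat.mul k (Nat.pred D.p)) s t (cont i')))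
      (force (Nat.add (Nat.mul i D.d) (Nat.div l 2)) (fun s => hitQ Kp Dq r k s t (cont i')))
      (Nat.beq (Nat.mod l 2) 0))

/-- add `k` times the boundary of the walk along a path from the point `i`, then go on with `fin` -/
noncomputable def walkQ {α : Type} (k : ℕ) (fin : Q → α) : List ℕ → ℕ → Q → α :=
  @List.rec ℕ (fun _ => ℕ → Q → α) (fun _ t => fin t) (fun l _ ih i t => stepQ D nxt Kp Dq r k l i t ih)

/-- the specification of `walkQ` -/
noncomputable def walkS (k : ℕ) : List ℕ → ℕ → Q → Q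
  | [], _, t => t
  | l :: ls, i, t => walkS k ls (nxt l i)
      (if l % 2 = 0 then hitS Kp Dq r k (i * D.d + l / 2) t
        else hitS Kp Dq r (k * (D.p - 1)) (nxt l i * D.d + l / 2) t)

theorem walkQ_eq {α : Type} (k : ℕ) (fin : Q → α) (w : List ℕ) (i : ℕ) (t : Q) :
    walkQ D nxt Kp Dq r k fin w i t = fin (walkS D nxt Kp Dq r k w i t) := by
  induction w generalizing i t with
  | nil => rfl
  | cons l ls ih =>
    show stepQ D nxt Kp Dq r k l i t (walkQ D nxt Kp Dq r k fin ls) = _
    unfold stepQ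
    rw [force_eq]
    show _ = fin (walkS D nxt Kp Dq r k ls (nxt l i) _)
    by_cases h : l % 2 = 0
    · have hb : Nat.beq (Nat.mod l 2) 0 = true :=
        (Cfsg.Agent.Lib.Helper28.TC2Upper.Data.nbeq_iff _ _).mpr h
      rw [if_pos h, brec_eq, hb, if_pos rfl, force_eq, hitQ_eq, ih]
      rfl
    · have hb : Nat.beq (Nat.mod l 2) 0 = false := by
        rw [← Bool.not_eq_true, Cfsg.Agent.Lib.Helper28.TC2Upper.Data.nbeq_iff]
        exact h
      rw [if_neg h, brec_eq, hb, if_neg Bool.false_ne_true, force_eq, hitQ_eq, ih]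
      rfl

/-- the cells `(point, coefficient)` of one relator, then `fin` -/
noncomputable def rowQ {α : Type} (path : List ℕ) (fin : Q → α) : List (ℕ × ℕ) → Q → α :=
  @List.rec (ℕ × ℕ) (fun _ => Q → α) (fun t => fin t)
    (fun cell _ ih t => walkQ D nxt Kp Dq r cell.2 ih path cell.1 t)

/-- the specification of `rowQ` -/
noncomputable def rowS (path : List ℕ) : List (ℕ × ℕ) → Q → Q
  | [], t => t
  | c :: cs, t => rowS path cs (walkS D nxt Kp Dq r c.2 path c.1 t)

theorem rowQ_eq {α : Type} (path : List ℕ) (fin : Q → α) (cells : List (ℕ × ℕ)) (t : Q) :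
    rowQ D nxt Kp Dq r path fin cells t = fin (rowS D nxt Kp Dq r path cells t) := by
  induction cells generalizing t with
  | nil => rfl
  | cons c cs ih =>
    show walkQ D nxt Kp Dq r c.2 (rowQ D nxt Kp Dq r path fin cs) path c.1 t = _
    rw [walkQ_eq, ih]
    rfl

/-- loop with a trie accumulator -/
noncomputable def loopQ (f : ℕ → Q → Q) (n : ℕ) (t : Q) : Q :=
  @Nat.rec (fun _ => Q) t (fun i ih => Q.forceQ ih (fun a => f i a)) n

theorem loopQ_zero (f : ℕ → Q → Q) (t : Q) : loopQ f 0 t = t := rfl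
theorem loopQ_succ (f : ℕ → Q → Q) (n : ℕ) (t : Q) : loopQ f (n + 1) t = f n (loopQ f n t) :=
  Q.forceQ_eq _ _

/-- all relators -/
noncomputable def cycQ (rows : List (List (ℕ × ℕ))) : Q :=
  loopQ (fun j a => rowQ D nxt Kp Dq r (D.paths.getD j []) (fun t => t) (rows.getD j []) a)
    D.paths.length Q.nil

/-- the points of the cells are points, and the coefficients of the row `j` add up to `Lam k j` -/
noncomputable def headOK (k : ℕ) (rows : List (List (ℕ × ℕ))) : Bool :=
  and (cellsOK D rows)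
    (allLoop (fun j => Nat.beq (augS (rows.getD j [])) (entry D.Lam k j)) D.paths.length)

/-- the slots of the class `r` modulo `Kp` all vanish modulo `p` -/
noncomputable def partOK (rows : List (List (ℕ × ℕ))) : Bool :=
  and (Nat.ble (Nat.mul D.n D.d) (Nat.mul Kp (Nat.pow 4 Dq)))
    (Q.allZ D.p (cycQ D nxt Kp Dq r rows))

/-- the trie and the digit function agree on the class `r` -/
def Agree (t : Q) (g : ℕ → ℕ) : Prop :=
  ∀ s, s % Kp = r → s / Kp < 4 ^ Dq → Q.get Dq t (s / Kp) = g s

theorem agree_nil : Agree Kp Dq r Q.nil (fun _ => 0) := fun _ _ _ => Q.get_nil _ _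

theorem agree_hitS {t : Q} {g : ℕ → ℕ} (h : Agree Kp Dq r t g) (c : ℕ) {s0 : ℕ}
    (hs0 : s0 / Kp < 4 ^ Dq) : Agree Kp Dq r (hitS Kp Dq r c s0 t) (addAt g s0 c) := by
  intro s hs hb
  show _ = g s + if s = s0 then c else 0
  unfold hitS
  by_cases h0 : s0 % Kp = r
  · rw [if_pos h0, Q.get_addS c Dq t _ _ hs0 hb, h s hs hb]
    congr 1
    by_cases e : s = s0
    · rw [if_pos e, if_pos (by rw [e])]
    · rw [if_neg e, if_neg]
      intro e'
      apply e
      rw [← Nat.div_add_mod s Kp, ← Nat.div_add_mod s0 Kp, e', hs, h0]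
  · rw [if_neg h0, h s hs hb, if_neg, add_zero]
    intro e
    rw [e] at hs
    exact h0 hs

theorem agree_walkS (hnd : D.n * D.d ≤ Kp * 4 ^ Dq)
    (htab : ∀ l < 2 * D.d, ∀ i < D.n, nxt l i < D.n)
    (k : ℕ) (w : List ℕ) (hw : ∀ l ∈ w, l < 2 * D.d) (i : ℕ) (hi : i < D.n) {t : Q} {g : ℕ → ℕ}
    (h : Agree Kp Dq r t g) :
    Agree Kp Dq r (walkS D nxt Kp Dq r k w i t) (D.walkD nxt k w i g) := by
  induction w generalizing i t g with
  | nil => exact h
  | cons l ls ih =>
    have hl : l < 2 * D.d := hw l List.mem_cons_self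
    have hx : l / 2 < D.d := by omega
    have hi' : nxt l i < D.n := htab l hl i hi
    have hb : ∀ {j : ℕ}, j < D.n → (j * D.d + l / 2) / Kp < 4 ^ Dq := fun hj =>
      Nat.div_lt_of_lt_mul (lt_of_lt_of_le (FoxData.slot_lt hj hx) hnd)
    show Agree Kp Dq r (walkS D nxt Kp Dq r k ls (nxt l i) _) (D.walkD nxt k ls (nxt l i) _)
    apply ih (fun l' hl' => hw l' (List.mem_cons_of_mem _ hl')) _ hi'
    by_cases hpar : l % 2 = 0
    · rw [if_pos hpar, if_pos hpar]
      exact agree_hitS Kp Dq r h _ (hb hi)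
    · rw [if_neg hpar, if_neg hpar]
      exact agree_hitS Kp Dq r h _ (hb hi')

theorem agree_rowS (hnd : D.n * D.d ≤ Kp * 4 ^ Dq)
    (htab : ∀ l < 2 * D.d, ∀ i < D.n, nxt l i < D.n)
    (path : List ℕ) (hw : ∀ l ∈ path, l < 2 * D.d) (cells : List (ℕ × ℕ))
    (hc : ∀ c ∈ cells, c.1 < D.n) {t : Q} {g : ℕ → ℕ} (h : Agree Kp Dq r t g) :
    Agree Kp Dq r (rowS D nxt Kp Dq r path cells t) (rowDS D nxt path cells g) := by
  induction cells generalizing t g with
  | nil => exact h
  | cons c cs ih =>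
    show Agree Kp Dq r (rowS D nxt Kp Dq r path cs _) (rowDS D nxt path cs _)
    exact ih (fun c' hc' => hc c' (List.mem_cons_of_mem _ hc'))
      (agree_walkS D nxt Kp Dq r hnd htab _ path hw c.1 (hc c List.mem_cons_self) h)

theorem agree_cycQ (hnd : D.n * D.d ≤ Kp * 4 ^ Dq)
    (htab : ∀ l < 2 * D.d, ∀ i < D.n, nxt l i < D.n)
    (hpaths : ∀ path ∈ D.paths, ∀ l ∈ path, l < 2 * D.d) (rows : List (List (ℕ × ℕ)))
    (hc : ∀ j, ∀ c ∈ rows.getD j [], c.1 < D.n) :
    Agree Kp Dq r (cycQ D nxt Kp Dq r rows) (cycDS D nxt rows) := by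
  unfold cycQ cycDS
  have key : ∀ m', m' ≤ D.paths.length → ∀ (t : Q) (g : ℕ → ℕ), Agree Kp Dq r t g →
      Agree Kp Dq r
        (loopQ (fun j a => rowQ D nxt Kp Dq r (D.paths.getD j []) (fun t => t) (rows.getD j []) a) m' t)
        (loopD (fun j g => rowDS D nxt (D.paths.getD j []) (rows.getD j []) g) m' g) := by
    intro m' hm' t g hag
    induction m' with
    | zero => exact hag
    | succ j ih =>
      rw [loopQ_succ, rowQ_eq]
      exact agree_rowS D nxt Kp Dq r hnd htab _ (hpaths _ (D.path_mem (by omega))) _ (hc j)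
        (ih (by omega))
  exact key _ le_rfl _ _ (agree_nil Kp Dq r)

theorem cells_of_headOK {k : ℕ} {rows : List (List (ℕ × ℕ))} (hh : headOK D k rows = true) :
    (∀ j < D.paths.length, augS (rows.getD j []) = entry D.Lam k j) ∧
      ∀ j, ∀ c ∈ rows.getD j [], c.1 < D.n := by
  unfold headOK at hh
  simp only [Bool.and_eq_true] at hh
  obtain ⟨h0, h1⟩ := hh
  rw [allLoop_eq_true] at h1
  refine ⟨fun j hj => (Cfsg.Agent.Lib.Helper28.TC2Upper.Data.nbeq_iff _ _).mp (h1 j hj), ?_⟩
  intro j c hcm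
  by_cases hj : j < rows.length
  · rw [List.getD_eq_getElem _ _ hj] at hcm
    unfold cellsOK at h0
    rw [List.all_eq_true] at h0
    have h4 := h0 _ (List.getElem_mem hj)
    rw [List.all_eq_true] at h4
    simpa using h4 c hcm
  · rw [List.getD_eq_default _ _ (by omega)] at hcm
    exact absurd hcm (List.not_mem_nil)

/-- what one part gives -/
theorem mod_of_partOK (h : D.Static nxt) {rows : List (List (ℕ × ℕ))}
    (hc : ∀ j, ∀ c ∈ rows.getD j [], c.1 < D.n) (hp : partOK D nxt Kp Dq r rows = true) :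
    ∀ s < D.n * D.d, s % Kp = r → cycDS D nxt rows s % D.p = 0 := by
  unfold partOK at hp
  simp only [Bool.and_eq_true] at hp
  obtain ⟨h2, h3⟩ := hp
  have hnd : D.n * D.d ≤ Kp * 4 ^ Dq := Nat.le_of_ble_eq_true h2
  intro s hs hsr
  have hb : s / Kp < 4 ^ Dq := Nat.div_lt_of_lt_mul (lt_of_lt_of_le hs hnd)
  rw [← agree_cycQ D nxt Kp Dq r hnd h.htab h.paths rows hc s hsr hb]
  exact Q.get_mod_of_allZ Dq h3 _

/-- the conclusion of `cycleS_sound` from the vanishing of all the slots -/
theorem sound_of_mod (h : D.Static nxt) (k : ℕ) (rows : List (List (ℕ × ℕ)))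
    (hh : headOK D k rows = true) (hmod : ∀ s < D.n * D.d, cycDS D nxt rows s % D.p = 0)
    {A : Type*} [CommGroup A] (F : ℕ → ℕ → A) (hF : ∀ i x, F i x ^ D.p = 1) (z : ℕ → A)
    (hz : ∀ j < D.paths.length, ∀ i < D.n, walkF F nxt (D.paths.getD j []) i = z j) :
    ∏ j ∈ Finset.range D.paths.length, z j ^ entry D.Lam k j = 1 := by
  obtain ⟨haug, hc⟩ := cells_of_headOK D hh
  set g := cycDS D nxt rows with hg
  have htab := h.htab
  have hval : Val (D.n * D.d) (D.Fs F) g = 1 := by
    unfold Val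
    apply Finset.prod_eq_one
    intro s hs
    obtain ⟨q, hq⟩ := Nat.dvd_of_mod_eq_zero (hmod s (Finset.mem_range.mp hs))
    have hFs : D.Fs F s ^ D.p = 1 := hF _ _
    rw [hq, pow_mul, hFs, one_pow]
  rw [← hval, hg, Val_cycDS D nxt F h.hp hF htab h.paths rows hc]
  apply Finset.prod_congr rfl
  intro j hj
  have hj' := Finset.mem_range.mp hj
  rw [prod_cells D.n (fun i => walkF F nxt (D.paths.getD j []) i) (z j) (hz j hj') _ (hc j), haug j hj']

/-- a cycle all of whose parts pass gives a relation between the values of the relators -/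
theorem cycleP_sound (h : D.Static nxt) (k : ℕ) (rows : List (List (ℕ × ℕ)))
    (hh : headOK D k rows = true) (hp : ∀ r < Kp, partOK D nxt Kp Dq r rows = true) (hKp : 0 < Kp)
    {A : Type*} [CommGroup A] (F : ℕ → ℕ → A) (hF : ∀ i x, F i x ^ D.p = 1) (z : ℕ → A)
    (hz : ∀ j < D.paths.length, ∀ i < D.n, walkF F nxt (D.paths.getD j []) i = z j) :
    ∏ j ∈ Finset.range D.paths.length, z j ^ entry D.Lam k j = 1 := by
  refine sound_of_mod D nxt h k rows hh ?_ F hF z hz
  intro s hs
  exact mod_of_partOK D nxt Kp Dq (s % Kp) h (cells_of_headOK D hh).2 (hp _ (Nat.mod_lt _ hKp)) s hs rfl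

/-- the check of the cycle number `k` in one part -/
noncomputable def cycleOKQ (k : ℕ) (rows : List (List (ℕ × ℕ))) : Bool :=
  and (headOK D k rows) (partOK D nxt 1 Dq 0 rows)

theorem cycleQ_sound (h : D.Static nxt) (k : ℕ) (rows : List (List (ℕ × ℕ)))
    (hk : cycleOKQ D nxt Dq k rows = true)
    {A : Type*} [CommGroup A] (F : ℕ → ℕ → A) (hF : ∀ i x, F i x ^ D.p = 1) (z : ℕ → A)
    (hz : ∀ j < D.paths.length, ∀ i < D.n, walkF F nxt (D.paths.getD j []) i = z j) :
    ∏ j ∈ Finset.range D.paths.length, z j ^ entry D.Lam k j = 1 := by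
  unfold cycleOKQ at hk
  rw [Bool.and_eq_true] at hk
  refine cycleP_sound D nxt 1 Dq h k rows hk.1 ?_ Nat.one_pos F hF z hz
  intro r hr
  have : r = 0 := by omega
  rw [this]
  exact hk.2

end Checker

end Cfsg.Agent.Lib.Helper10.FoxQuad
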