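import Mathlib
import Cfsg.Prelude.Def_Characters
import Cfsg.Agent.Lib.Lead.CharMore
import Cfsg.Agent.Lib.Lead.CharBurnside
import Cfsg.Agent.Lib.Helper1.Hall

/-! Frobenius groups `G = K H` (kernel `K` normal, `K ⊓ H = ⊥`, no non-identity element of `H`
commutes with a non-identity element of `K`): action of `H` on classes and characters of `K`. -/

namespace Cfsg.Agent.Lib.Helper10
open Cfsg

section
variable {G : Type*} [Group G] [Finite G] (K H : Subgroup G) [hKn : K.Normal]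

/-- In a Frobenius group, `u h` is `K`-conjugate to `h` for `u ∈ K`, `1 ≠ h ∈ H`. -/
theorem frob_exists_conj (hfpf : ∀ h ∈ H, h ≠ 1 → ∀ k ∈ K, h * k = k * h → k = 1)
    (h : G) (hh : h ∈ H) (hh1 : h ≠ 1) (u : G) (hu : u ∈ K) :
    ∃ k' ∈ K, u * h = k' * h * k'⁻¹ := by
  classical
  let f : K → K := fun k' => ⟨(k' : G) * h * (k' : G)⁻¹ * h⁻¹, by
    have h1 : h * (k' : G)⁻¹ * h⁻¹ ∈ K := hKn.conj_mem _ (K.inv_mem k'.2) h
    have : (k' : G) * h * (k' : G)⁻¹ * h⁻¹ = k' * (h * (k' : G)⁻¹ * h⁻¹) := by group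
    rw [this]
    exact K.mul_mem k'.2 h1⟩
  have hinj : Function.Injective f := by
    intro k₁ k₂ h12
    have h1 : (k₁ : G) * h * (k₁ : G)⁻¹ * h⁻¹ = k₂ * h * (k₂ : G)⁻¹ * h⁻¹ := congrArg Subtype.val h12
    have h2 : h * ((k₂ : G)⁻¹ * k₁) = ((k₂ : G)⁻¹ * k₁) * h := by
      have h3 : (k₁ : G) * h * (k₁ : G)⁻¹ = k₂ * h * (k₂ : G)⁻¹ := mul_right_cancel h1
      calc h * ((k₂ : G)⁻¹ * k₁) = (k₂ : G)⁻¹ * (k₂ * h * (k₂ : G)⁻¹) * k₁ := by group
        _ = (k₂ : G)⁻¹ * (k₁ * h * (k₁ : G)⁻¹) * k₁ := by rw [h3]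
        _ = ((k₂ : G)⁻¹ * k₁) * h := by group
    have h4 := hfpf h hh hh1 _ (K.mul_mem (K.inv_mem k₂.2) k₁.2) h2
    apply Subtype.ext
    have : (k₁ : G) = k₂ * ((k₂ : G)⁻¹ * k₁) := by group
    rw [this, h4, mul_one]
  have hsurj : Function.Surjective f := Finite.injective_iff_surjective.mp hinj
  obtain ⟨k', hk'⟩ := hsurj ⟨u, hu⟩
  refine ⟨k', k'.2, ?_⟩
  have h1 : (k' : G) * h * (k' : G)⁻¹ * h⁻¹ = u := congrArg Subtype.val hk'
  rw [← h1]
  group

/-- A non-identity element of the complement fixes no non-trivial class of the kernel. -/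
theorem frob_fixed_class (hfpf : ∀ h ∈ H, h ≠ 1 → ∀ k ∈ K, h * k = k * h → k = 1)
    (h : G) (hh : h ∈ H) (hh1 : h ≠ 1) (k : K)
    (hC : ConjClasses.mk ((MulAut.conjNormal h : MulAut K) k) = ConjClasses.mk k) : k = 1 := by
  rw [ConjClasses.mk_eq_mk_iff_isConj, isConj_iff] at hC
  obtain ⟨u, hu⟩ := hC
  have hu' : (u : G) * (h * k * h⁻¹) * (u : G)⁻¹ = k := by
    have := congrArg Subtype.val hu
    simpa [MulAut.conjNormal_apply] using this
  obtain ⟨k', hk', hk'eq⟩ := frob_exists_conj K H hfpf h hh hh1 u u.2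
  have h1 : h * (k'⁻¹ * k * k') = (k'⁻¹ * k * k') * h := by
    have h2 : (u * h) * k * (u * h)⁻¹ = k := by
      have e : (u * h) * k * (u * h)⁻¹ = (u : G) * (h * k * h⁻¹) * (u : G)⁻¹ := by group
      rw [e]; exact hu'
    rw [hk'eq] at h2
    calc h * (k'⁻¹ * k * k') = k'⁻¹ * ((k' * h * k'⁻¹) * k * (k' * h * k'⁻¹)⁻¹) * k' * h := by group
      _ = (k'⁻¹ * k * k') * h := by rw [h2]
  have h3 := hfpf h hh hh1 _ (K.mul_mem (K.mul_mem (K.inv_mem hk') k.2) hk') h1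
  apply Subtype.ext
  have : (k : G) = k' * (k'⁻¹ * k * k') * k'⁻¹ := by group
  rw [this, h3]
  simp

/-- A non-identity element of the complement fixes no non-principal irreducible character of the
kernel (via Brauer's permutation lemma). -/
theorem frob_fixed_irr (hfpf : ∀ h ∈ H, h ≠ 1 → ∀ k ∈ K, h * k = k * h → k = 1)
    (h : G) (hh : h ∈ H) (hh1 : h ≠ 1) (τ : K → ℂ) (hτ : IsIrrCharacter K τ)
    (hfix : τ ∘ (MulAut.conjNormal h : MulAut K) = τ) : τ = fun _ => 1 := by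
  classical
  set α : K ≃* K := (MulAut.conjNormal h : MulAut K) with hα
  have hbrauer := Cfsg.Agent.CharLib.card_fixed_classes_eq_card_fixed_irr α
  have h1irr : IsIrrCharacter K (1 : K → ℂ) := Cfsg.Agent.CharLib.isIrrCharacter_one
  have hsub : Subsingleton {C : ConjClasses K // ConjClasses.map α.toMonoidHom C = C} := by
    constructor
    rintro ⟨C, hC⟩ ⟨D, hD⟩
    apply Subtype.ext
    obtain ⟨k, rfl⟩ := ConjClasses.mk_surjective C
    obtain ⟨l, rfl⟩ := ConjClasses.mk_surjective D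
    show ConjClasses.mk k = ConjClasses.mk l
    rw [frob_fixed_class K H hfpf h hh hh1 k hC, frob_fixed_class K H hfpf h hh hh1 l hD]
  have hne : Nonempty {C : ConjClasses K // ConjClasses.map α.toMonoidHom C = C} :=
    ⟨⟨ConjClasses.mk 1, by
      show ConjClasses.mk (α 1) = ConjClasses.mk 1
      rw [map_one]⟩⟩
  have hcard : Nat.card {C : ConjClasses K // ConjClasses.map α.toMonoidHom C = C} = 1 :=
    Nat.card_eq_one_iff_unique.mpr ⟨hsub, hne⟩
  rw [hcard] at hbrauer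
  have hsub' := (Nat.card_eq_one_iff_unique.mp hbrauer.symm).1
  have := hsub'.elim (⟨⟨τ, hτ⟩, hfix⟩ : {χ : IrrCharacter K // (χ : K → ℂ) ∘ α = (χ : K → ℂ)})
    ⟨⟨1, h1irr⟩, by funext k; rfl⟩
  have h2 := congrArg (fun y : {χ : IrrCharacter K // (χ : K → ℂ) ∘ α = (χ : K → ℂ)} =>
      (y.1 : K → ℂ)) this
  exact h2

/-- In a Frobenius group the inertia group of a non-principal irreducible character of the kernel
is the kernel. -/
theorem frob_inertia (hKH' : K ⊔ H = ⊤)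
    (hfpf : ∀ h ∈ H, h ≠ 1 → ∀ k ∈ K, h * k = k * h → k = 1)
    (τ : K → ℂ) (hτ : IsIrrCharacter K τ) (hτ1 : τ ≠ fun _ => 1) (x : G)
    (hx : (fun k : K => τ ⟨x * k * x⁻¹, hKn.conj_mem k k.2 x⟩) = τ) : x ∈ K := by
  obtain ⟨k₀, hk₀, h, hh, rfl⟩ := Cfsg.Agent.Lib.Helper1.mem_sup_of_normal_left K H x
    (by rw [hKH']; exact Subgroup.mem_top x)
  by_cases hh1 : h = 1
  · rw [hh1, mul_one]; exact hk₀
  · exfalso
    apply hτ1
    apply frob_fixed_irr K H hfpf h hh hh1 τ hτ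
    have hcl : IsClassFunction K τ :=
      Cfsg.Agent.CharLib.IsCharacter.isClassFunction (Cfsg.Agent.CharLib.IsIrrCharacter.isCharacter hτ)
    funext k
    have h1 := congrFun hx k
    simp only [Function.comp_apply]
    rw [← h1]
    have h2 := hcl ((MulAut.conjNormal h : MulAut K) k) ⟨k₀, hk₀⟩
    rw [← h2]
    congr 1
    apply Subtype.ext
    simp only [Subgroup.coe_mul, MulAut.conjNormal_apply, Subgroup.coe_inv]
    group

end

end Cfsg.Agent.Lib.Helper10
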