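import Mathlib

set_option autoImplicit false

/-!
One level of the Schreier–Sims verification, in terms of permutations.
-/

namespace Cfsg.Agent.Lib.Helper10.SW

open MulAction

variable {n : ℕ}

theorem ss_cover (H H' : Subgroup (Equiv.Perm (Fin n))) (S : Set (Equiv.Perm (Fin n)))
    (hH : H = Subgroup.closure S)
    (R : Fin n → Equiv.Perm (Fin n) → Prop) (b : Fin n)
    (hR1 : R b 1)
    (hsch : ∀ s ∈ S, ∀ p g, R p g → ∃ g', R (s p) g' ∧ g'⁻¹ * s * g ∈ H')
    (x : Equiv.Perm (Fin n)) (hx : x ∈ H) : ∃ p g, R p g ∧ g⁻¹ * x ∈ H' := by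
  let P : Set (Equiv.Perm (Fin n)) := {y | ∃ p g, R p g ∧ g⁻¹ * y ∈ H'}
  have key : ∀ z ∈ Subgroup.closure S, ∀ y ∈ P, z * y ∈ P := by
    intro z hz
    induction hz using Subgroup.closure_induction with
    | mem s hs =>
      rintro y ⟨p, g, hpg, hy⟩
      obtain ⟨g', hg', h1⟩ := hsch s hs p g hpg
      refine ⟨s p, g', hg', ?_⟩
      have : g'⁻¹ * (s * y) = (g'⁻¹ * s * g) * (g⁻¹ * y) := by group
      rw [this]
      exact H'.mul_mem h1 hy
    | one =>
      intro y hy
      rwa [one_mul]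
    | mul z₁ z₂ _ _ ih₁ ih₂ =>
      intro y hy
      rw [mul_assoc]
      exact ih₁ _ (ih₂ y hy)
    | inv z _ ih =>
      intro y hy
      have hpow : ∀ k : ℕ, z ^ k * y ∈ P := by
        intro k
        induction k with
        | zero => rwa [pow_zero, one_mul]
        | succ k ihk =>
          rw [pow_succ', mul_assoc]
          exact ih _ ihk
      have hz : z⁻¹ = z ^ (orderOf z - 1) := by
        rw [inv_eq_iff_mul_eq_one, ← pow_succ']
        have : orderOf z - 1 + 1 = orderOf z := Nat.sub_add_cancel (orderOf_pos z)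
        rw [this, pow_orderOf_eq_one]
      rw [hz]
      exact hpow _
  have h1 : (1 : Equiv.Perm (Fin n)) ∈ P := ⟨b, 1, hR1, by simp⟩
  have := key x (hH ▸ hx) 1 h1
  rwa [mul_one] at this

theorem ss_level (H H' : Subgroup (Equiv.Perm (Fin n))) (S : Set (Equiv.Perm (Fin n)))
    (hH : H = Subgroup.closure S) (hH' : H' ≤ H) (b : Fin n) (hfix : ∀ h ∈ H', h b = b)
    (R : Fin n → Equiv.Perm (Fin n) → Prop)
    (hR : ∀ p g, R p g → g ∈ H ∧ g b = p)
    (hR1 : R b 1) (hRf : ∀ p g g', R p g → R p g' → g = g')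
    (hsch : ∀ s ∈ S, ∀ p g, R p g → ∃ g', R (s p) g' ∧ g'⁻¹ * s * g ∈ H') :
    (∀ x ∈ H, x b = b → x ∈ H') ∧
      Nat.card H = Nat.card {p : Fin n // ∃ g, R p g} * Nat.card H' ∧
      ∀ x ∈ H, ∃ g, R (x b) g := by
  have hcover := ss_cover H H' S hH R b hR1 hsch
  have hstab : ∀ x ∈ H, x b = b → x ∈ H' := by
    intro x hx hxb
    obtain ⟨p, g, hpg, hy⟩ := hcover x hx
    have h1 : x = g * (g⁻¹ * x) := by group
    have h2 : x b = p := by
      rw [h1, Equiv.Perm.mul_apply, hfix _ hy]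
      exact (hR p g hpg).2
    have h3 : p = b := by rw [← h2, hxb]
    subst h3
    have h4 : g = 1 := hRf p g 1 hpg hR1
    rw [h4, inv_one, one_mul] at hy
    exact hy
  have horb : ∀ x ∈ H, ∃ g, R (x b) g := by
    intro x hx
    obtain ⟨p, g, hpg, hy⟩ := hcover x hx
    have h1 : x = g * (g⁻¹ * x) := by group
    have h2 : x b = p := by
      rw [h1, Equiv.Perm.mul_apply, hfix _ hy]
      exact (hR p g hpg).2
    exact ⟨g, h2 ▸ hpg⟩
  refine ⟨hstab, ?_, horb⟩
  -- orbit-stabiliser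
  have h1 := MulAction.index_stabilizer ↥H b
  have h2 := Subgroup.card_mul_index (stabilizer ↥H b)
  have h3 : stabilizer ↥H b = H'.subgroupOf H := by
    ext x
    rw [mem_stabilizer_iff, Subgroup.mem_subgroupOf]
    constructor
    · intro hx
      exact hstab x.1 x.2 hx
    · intro hx
      exact hfix _ hx
  have h4 : Nat.card ↥(H'.subgroupOf H) = Nat.card ↥H' :=
    Nat.card_congr (Subgroup.subgroupOfEquivOfLe hH').toEquiv
  have h5 : orbit ↥H b = {p : Fin n | ∃ g, R p g} := by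
    ext p
    constructor
    · rintro ⟨x, rfl⟩
      obtain ⟨q, g, hqg, hy⟩ := hcover x.1 x.2
      refine ⟨g, ?_⟩
      have h6 : x.1 = g * (g⁻¹ * x.1) := by group
      have h7 : x • b = q := by
        show x.1 b = q
        rw [h6, Equiv.Perm.mul_apply, hfix _ hy]
        exact (hR q g hqg).2
      show R (x • b) g
      rw [h7]
      exact hqg
    · rintro ⟨g, hg⟩
      obtain ⟨hgH, hgb⟩ := hR p g hg
      exact ⟨⟨g, hgH⟩, hgb⟩
  rw [h1, h3, h4, h5] at h2
  rw [← h2, mul_comm]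
  congr 1

end Cfsg.Agent.Lib.Helper10.SW
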