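import Cfsg.Agent.Lib.Helper10.SWTree
import Cfsg.Agent.Lib.Helper10.SWLevel

set_option autoImplicit false

/-!
A verified Schreier–Sims checker for larger degrees: transversals are packed Schreier trees, and
sifting only follows the images of a few points, which is enough when no non-identity element of
the ambient group fixes all of them (`hrig`).
-/

namespace Cfsg.Agent.Lib.Helper10.SW

/-- one level of a stabiliser chain -/
structure Lvl where
  /-- the base point -/
  b : ℕ
  /-- the new strong generators of this level, with their inverses -/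
  gens : List (ℕ × ℕ)
  /-- generators used in the Schreier check -/
  sgens : List ℕ
  /-- words in the moves for the strong generators of this and deeper levels not in `sgens` -/
  wds : List (ℕ × List ℕ)
  /-- the moves of the tree, with their inverses -/
  moves : List (ℕ × ℕ)
  /-- the packed Schreier tree of the orbit of the base point -/
  tree : ℕ
  /-- the length of the orbit -/
  size : ℕ

/-- the codes of the new generators of a level -/
def genCodes (L : Lvl) : List ℕ := L.gens.map Prod.fst

/-- all strong generators of a chain -/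
def allGens : List Lvl → List ℕ
  | [] => []
  | L :: rest => genCodes L ++ allGens rest

/-- the depth allowed when following a tree -/
def fuel : ℕ := 48

/-- sift a formal product through the levels, then test it on the rigidity points -/
def siftOk (n : ℕ) (RB : List ℕ) : List Lvl → List ℕ → Bool
  | [], h => RB.all fun x => evalL n h x == x
  | L :: rest, h =>
    match pathOf L.tree fuel (evalL n h L.b) with
    | none => false
    | some (_, v) => siftOk n RB rest (icodes L.moves v ++ h)

/-- the Schreier condition for one generator and one point -/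
def schreierOk (n : ℕ) (RB : List ℕ) (L : Lvl) (rest : List Lvl) (s p : ℕ) : Bool :=
  match pathOf L.tree fuel p with
  | none => true
  | some (_, w) =>
    match pathOf L.tree fuel (ap n s p) with
    | none => false
    | some (_, w') => siftOk n RB rest (icodes L.moves w' ++ s :: codes L.moves w)

/-- the points of the orbit -/
def orbList (n : ℕ) (L : Lvl) : List ℕ :=
  (List.range n).filter fun p => (pathOf L.tree fuel p).isSome

/-- the orbit has the claimed length -/
def sizeOk (n : ℕ) (L : Lvl) : Bool :=
  if L.size = n then allLt n fun p => (pathOf L.tree fuel p).isSome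
  else decide ((orbList n L).length = L.size)

theorem sizeOk_sound {n : ℕ} {L : Lvl} (h : sizeOk n L = true) :
    (orbList n L).length = L.size := by
  unfold sizeOk at h
  split_ifs at h with hs
  · rw [allLt_iff] at h
    unfold orbList
    rw [List.filter_eq_self.mpr, List.length_range, hs]
    intro p hp
    exact h p (List.mem_range.mp hp)
  · rwa [decide_eq_true_eq] at h

/-- a packed map is the product of a word in the moves -/
def wordOk (n : ℕ) (M : List (ℕ × ℕ)) (c : ℕ) (w : List ℕ) : Bool :=
  (w.all fun i => decide (i < M.length)) && allLt n fun x => ap n c x == evalL n (codes M w) x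

/-- the checks of a level other than the Schreier conditions -/
def levelPre (n : ℕ) (L : Lvl) (rest : List Lvl) : Bool :=
  decide (L.b < n) &&
  (L.gens.all fun e => invB n e.1 e.2 && invB n e.2 e.1) &&
  ((allGens rest).all fun c => ap n c L.b == L.b) &&
  (L.sgens.all fun c => decide (c ∈ allGens (L :: rest))) &&
  ((allGens (L :: rest)).all fun c => decide (c ∈ L.sgens) ||
    L.wds.any fun e => e.1 == c && wordOk n L.moves c e.2) &&
  (L.moves.all fun e => decide (e.1 ∈ L.sgens ∨ e.2 ∈ L.sgens) &&
    invB n e.1 e.2 && invB n e.2 e.1) &&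
  treeOk n L.moves L.tree &&
  decide (ent L.tree L.b = 1) &&
  (allLt n fun p => decide (ent L.tree p = 1 → p = L.b)) &&
  sizeOk n L

/-- the new generators of a checked level are valid -/
theorem levelPre_valid {n : ℕ} {L : Lvl} {rest : List Lvl} (h : levelPre n L rest = true) :
    ∀ c ∈ genCodes L, Valid n c := by
  unfold levelPre at h
  simp only [Bool.and_eq_true, decide_eq_true_eq, List.all_eq_true, beq_iff_eq, invB_iff] at h
  obtain ⟨⟨⟨⟨⟨⟨⟨⟨⟨-, hgens⟩, -⟩, -⟩, -⟩, -⟩, -⟩, -⟩, -⟩, -⟩ := h
  intro c hc
  unfold genCodes at hc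
  obtain ⟨e, he, rfl⟩ := List.mem_map.mp hc
  exact valid_of_invOf (hgens e he).1

/-- the deeper generators fix the base point of a checked level -/
theorem levelPre_fix {n : ℕ} {L : Lvl} {rest : List Lvl} (h : levelPre n L rest = true) :
    ∀ c ∈ allGens rest, ap n c L.b = L.b := by
  unfold levelPre at h
  simp only [Bool.and_eq_true, decide_eq_true_eq, List.all_eq_true, beq_iff_eq, invB_iff] at h
  obtain ⟨⟨⟨⟨⟨⟨⟨⟨⟨-, -⟩, hfixc⟩, -⟩, -⟩, -⟩, -⟩, -⟩, -⟩, -⟩ := h
  exact hfixc

/-- the moves of a checked level lie in the group of the Schreier generators -/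
theorem levelPre_moves {n : ℕ} {L : Lvl} {rest : List Lvl} (h : levelPre n L rest = true) :
    MovesIn n L.moves (grp n L.sgens) := by
  unfold levelPre at h
  simp only [Bool.and_eq_true, decide_eq_true_eq, List.all_eq_true, beq_iff_eq, invB_iff] at h
  obtain ⟨⟨⟨⟨⟨⟨⟨⟨⟨-, -⟩, -⟩, -⟩, -⟩, hmv⟩, -⟩, -⟩, -⟩, -⟩ := h
  intro e he
  obtain ⟨⟨h1, h2⟩, h3⟩ := hmv e he
  have hv1 : Valid n e.1 := valid_of_invOf h2
  have hv2 : Valid n e.2 := valid_of_invOf h3
  have hinv : perm n e.2 = (perm n e.1)⁻¹ := perm_inv_of_invOf h2 hv2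
  refine ⟨hv1, hv2, hinv, ?_⟩
  rcases h1 with h1 | h1
  · exact perm_mem_grp h1
  · have : perm n e.1 = (perm n e.2)⁻¹ := by rw [hinv, inv_inv]
    rw [this]
    exact (grp n L.sgens).inv_mem (perm_mem_grp h1)

/-- all strong generators of a checked level lie in the group of the Schreier generators -/
theorem levelPre_grp {n : ℕ} {L : Lvl} {rest : List Lvl} (h : levelPre n L rest = true)
    (hvalid : ∀ c ∈ allGens (L :: rest), Valid n c) :
    grp n (allGens (L :: rest)) = grp n L.sgens := by
  have hmovesS := levelPre_moves h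
  unfold levelPre at h
  simp only [Bool.and_eq_true, decide_eq_true_eq, List.all_eq_true, beq_iff_eq, invB_iff] at h
  obtain ⟨⟨⟨⟨⟨⟨⟨⟨⟨-, -⟩, -⟩, hsg⟩, hall⟩, -⟩, -⟩, -⟩, -⟩, -⟩ := h
  apply le_antisymm
  · apply grp_le_iff.mpr
    intro c hc
    have hc' := hall c hc
    rw [Bool.or_eq_true, decide_eq_true_eq, List.any_eq_true] at hc'
    rcases hc' with hc' | ⟨e, he, hce⟩
    · exact perm_mem_grp hc'
    · rw [Bool.and_eq_true, beq_iff_eq] at hce
      obtain ⟨hec, hw⟩ := hce
      unfold wordOk at hw
      rw [Bool.and_eq_true, List.all_eq_true, allLt_iff] at hw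
      obtain ⟨hwl, hwe⟩ := hw
      have hwl' : ∀ i ∈ e.2, i < L.moves.length := fun i hi => by
        have := hwl i hi
        rwa [decide_eq_true_eq] at this
      have heq : perm n c = prodL n (codes L.moves e.2) := by
        apply Equiv.ext
        intro i
        apply Fin.ext
        rw [perm_apply_val (hvalid c hc),
          prodL_apply_val _ (fun d hd => (codes_valid hmovesS hwl' d hd).1)]
        exact beq_iff_eq.mp (hwe i.val i.isLt)
      rw [heq]
      exact prodL_mem fun d hd => (codes_valid hmovesS hwl' d hd).2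
  · exact grp_mono hsg

/-- the Schreier conditions of a level for one generator -/
def schAll (n : ℕ) (RB : List ℕ) (L : Lvl) (rest : List Lvl) (s : ℕ) : Bool :=
  allLt n fun p => schreierOk n RB L rest s p

/-- check one level -/
def levelOk (n : ℕ) (RB : List ℕ) (L : Lvl) (rest : List Lvl) : Bool :=
  levelPre n L rest && L.sgens.all fun s => schAll n RB L rest s

/-- check a chain -/
def chainOk (n : ℕ) (RB : List ℕ) : List Lvl → Bool
  | [] => true
  | L :: rest => chainOk n RB rest && levelOk n RB L rest

/-- the order certified by a chain -/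
def cardProd : List Lvl → ℕ
  | [] => 1
  | L :: rest => L.size * cardProd rest

/-- what a correct chain gives -/
structure ChainInv (n : ℕ) (RB : List ℕ) (Gtop : Subgroup (Equiv.Perm (Fin n)))
    (Ls : List Lvl) : Prop where
  valid : ∀ c ∈ allGens Ls, Valid n c
  card : Nat.card ↥(grp n (allGens Ls)) = cardProd Ls
  sift : ∀ h : List ℕ, (∀ c ∈ h, Valid n c ∧ perm n c ∈ Gtop) → siftOk n RB Ls h = true →
    prodL n h ∈ grp n (allGens Ls)
  stab : ∀ (L : Lvl) (rest : List Lvl), Ls = L :: rest → ∀ hb : L.b < n,
    ∀ x ∈ grp n (allGens Ls), x ⟨L.b, hb⟩ = ⟨L.b, hb⟩ → x ∈ grp n (allGens rest)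
  fixb : ∀ (L : Lvl) (rest : List Lvl), Ls = L :: rest → L.b < n ∧
    ∀ c ∈ allGens rest, ap n c L.b = L.b
  orbmem : ∀ (L : Lvl) (rest : List Lvl), Ls = L :: rest → ∀ hb : L.b < n,
    ∀ x ∈ grp n (allGens Ls), (pathOf L.tree fuel (x ⟨L.b, hb⟩).val).isSome = true
  orb : ∀ (L : Lvl) (rest : List Lvl), Ls = L :: rest → ∀ p < n,
    (pathOf L.tree fuel p).isSome = true →
      ∃ w, pathOf L.tree fuel p = some (L.b, w) ∧ (∀ i ∈ w, i < L.moves.length) ∧
        evalL n (codes L.moves w) L.b = p ∧
        ∀ c ∈ codes L.moves w ++ icodes L.moves w,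
          Valid n c ∧ perm n c ∈ grp n (allGens Ls)

/-- the rigidity hypothesis: no non-identity element of `Gtop` fixes all points of `RB` -/
def Rigid (n : ℕ) (RB : List ℕ) (Gtop : Subgroup (Equiv.Perm (Fin n))) : Prop :=
  ∀ g ∈ Gtop, (∀ x ∈ RB, ∀ hx : x < n, g ⟨x, hx⟩ = ⟨x, hx⟩) → g = 1

theorem chainInv_nil (n : ℕ) (RB : List ℕ) (Gtop : Subgroup (Equiv.Perm (Fin n)))
    (hrig : Rigid n RB Gtop) : ChainInv n RB Gtop [] where
  valid := by intro c hc; simp [allGens] at hc
  card := by
    show Nat.card ↥(grp n []) = 1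
    rw [grp_nil, Subgroup.card_bot]
  sift := by
    intro h hv hs
    show prodL n h ∈ grp n []
    rw [grp_nil, Subgroup.mem_bot]
    unfold siftOk at hs
    rw [List.all_eq_true] at hs
    apply hrig _ (prodL_mem fun c hc => (hv c hc).2)
    intro x hx hxn
    apply Fin.ext
    rw [prodL_apply_val h (fun c hc => (hv c hc).1)]
    exact beq_iff_eq.mp (hs x hx)
  stab := by
    intro L rest h
    simp at h
  fixb := by
    intro L rest h
    simp at h
  orbmem := by
    intro L rest h
    simp at h
  orb := by
    intro L rest h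
    simp at h

theorem pathOf_root {T b : ℕ} (h : ent T b = 1) : pathOf T fuel b = some (b, []) := by
  show pathOf T (47 + 1) b = some (b, [])
  unfold pathOf
  rw [h]
  simp

theorem chainInv_cons (n : ℕ) (RB : List ℕ) (Gtop : Subgroup (Equiv.Perm (Fin n)))
    (L : Lvl) (rest : List Lvl) (htop : ∀ c ∈ allGens (L :: rest), perm n c ∈ Gtop)
    (ih : ChainInv n RB Gtop rest)
    (hok : levelOk n RB L rest = true) : ChainInv n RB Gtop (L :: rest) := by
  unfold levelOk at hok
  rw [Bool.and_eq_true] at hok
  obtain ⟨hpre, hsch⟩ := hok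
  have hpre0 := hpre
  unfold levelPre at hpre
  simp only [Bool.and_eq_true, decide_eq_true_eq, List.all_eq_true, beq_iff_eq, invB_iff] at hpre
  rw [List.all_eq_true] at hsch
  obtain ⟨⟨⟨⟨⟨⟨⟨⟨⟨hb, hgens⟩, hfixc⟩, hsg⟩, hall⟩, hmv⟩, htree⟩, hroot⟩, hroot1⟩, hsize⟩ := hpre
  rw [allLt_iff] at hroot1
  have hsize := sizeOk_sound hsize
  -- validity of all generators
  have hvalid : ∀ c ∈ allGens (L :: rest), Valid n c := by
    intro c hc
    unfold allGens at hc
    rcases List.mem_append.mp hc with hc | hc
    · unfold genCodes at hc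
      obtain ⟨e, he, rfl⟩ := List.mem_map.mp hc
      exact valid_of_invOf (hgens e he).1
    · exact ih.valid c hc
  let H := grp n (allGens (L :: rest))
  let H' := grp n (allGens rest)
  have hH'H : H' ≤ H := grp_mono (fun c hc => by
    unfold allGens
    exact List.mem_append_right _ hc)
  have hHtop : H ≤ Gtop := grp_le_iff.mpr htop
  let b : Fin n := ⟨L.b, hb⟩
  have hfix : ∀ h ∈ H', h b = b := by
    have : H' ≤ MulAction.stabilizer (Equiv.Perm (Fin n)) b := by
      apply grp_le_iff.mpr
      intro c hc
      rw [MulAction.mem_stabilizer_iff]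
      apply Fin.ext
      show (perm n c b).val = L.b
      rw [perm_apply_val (ih.valid c hc)]
      exact hfixc c hc
    intro h hh
    exact MulAction.mem_stabilizer_iff.mp (this hh)
  -- the moves
  have hmovesS : MovesIn n L.moves (grp n L.sgens) := levelPre_moves hpre0
  -- the generators used in the Schreier check generate `H`
  have hHs : H = grp n L.sgens := levelPre_grp hpre0 hvalid
  have hmoves : MovesIn n L.moves H := by
    intro e he
    obtain ⟨h1, h2, h3, h4⟩ := hmovesS e he
    exact ⟨h1, h2, h3, hHs ▸ h4⟩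
  -- paths
  have hpath : ∀ p < n, ∀ r w, pathOf L.tree fuel p = some (r, w) →
      r = L.b ∧ (∀ i ∈ w, i < L.moves.length) ∧ evalL n (codes L.moves w) L.b = p := by
    intro p hp r w h
    obtain ⟨hr, hr1, hev, hw⟩ := pathOf_sound htree fuel p r w hp h
    have hrb : r = L.b := by
      have := hroot1 r hr
      rw [decide_eq_true_eq] at this
      exact this hr1
    subst hrb
    exact ⟨rfl, hw, hev⟩
  -- the relation
  let R : Fin n → Equiv.Perm (Fin n) → Prop :=
    fun p g => ∃ w, pathOf L.tree fuel p.val = some (L.b, w) ∧ g = prodL n (codes L.moves w)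
  have hR : ∀ p g, R p g → g ∈ H ∧ g b = p := by
    rintro p g ⟨w, hw, rfl⟩
    obtain ⟨-, hwl, hev⟩ := hpath p.val p.isLt _ _ hw
    refine ⟨prodL_mem fun c hc => (codes_valid hmoves hwl c hc).2, ?_⟩
    exact prodL_codes_apply hmoves hwl hb p.isLt hev
  have hR1 : R b 1 := ⟨[], pathOf_root hroot, by simp [codes, prodL]⟩
  have hRf : ∀ p g g', R p g → R p g' → g = g' := by
    rintro p g g' ⟨w, hw, rfl⟩ ⟨w', hw', rfl⟩
    rw [hw] at hw'
    simp only [Option.some.injEq, Prod.mk.injEq, true_and] at hw'
    rw [hw']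
  -- sifting through the whole chain
  have hsift : ∀ h : List ℕ, (∀ c ∈ h, Valid n c ∧ perm n c ∈ Gtop) →
      siftOk n RB (L :: rest) h = true → prodL n h ∈ H := by
    intro h hv hs
    unfold siftOk at hs
    split at hs
    · simp at hs
    · rename_i r v hl
      have hlt : evalL n h L.b < n := evalL_lt h hb
      obtain ⟨-, hvl, hev⟩ := hpath _ hlt _ _ hl
      have h1 := ih.sift (icodes L.moves v ++ h) (by
        intro c hc
        rcases List.mem_append.mp hc with hc | hc
        · obtain ⟨h1, h2⟩ := icodes_valid hmoves hvl c hc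
          exact ⟨h1, hHtop h2⟩
        · exact hv c hc) hs
      rw [prodL_append, prodL_icodes hmoves hvl] at h1
      have h2 : prodL n h = prodL n (codes L.moves v) *
          ((prodL n (codes L.moves v))⁻¹ * prodL n h) := by group
      rw [h2]
      exact H.mul_mem (prodL_mem fun c hc => (codes_valid hmoves hvl c hc).2) (hH'H h1)
  -- the Schreier condition
  have hschreier : ∀ s ∈ {g | ∃ c ∈ L.sgens, g = perm n c}, ∀ p g, R p g →
      ∃ g', R (s p) g' ∧ g'⁻¹ * s * g ∈ H' := by
    rintro _ ⟨c, hc, rfl⟩ p g ⟨w, hw, rfl⟩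
    have hcheck := (allLt_iff _ _).mp (hsch c hc) p.val p.isLt
    show ∃ g', R (perm n c p) g' ∧ g'⁻¹ * perm n c * prodL n (codes L.moves w) ∈ H'
    unfold schreierOk at hcheck
    rw [hw] at hcheck
    simp only at hcheck
    have hvc := hvalid c (hsg c hc)
    have hsp : (perm n c p).val = ap n c p.val := perm_apply_val hvc p
    split at hcheck
    · simp at hcheck
    · rename_i r' w' hl
      obtain ⟨-, hwl, -⟩ := hpath p.val p.isLt _ _ hw
      have hlt : ap n c p.val < n := ap_lt p.isLt
      obtain ⟨hr', hwl', -⟩ := hpath _ hlt _ _ hl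
      subst hr'
      refine ⟨prodL n (codes L.moves w'), ⟨w', ?_, rfl⟩, ?_⟩
      · rw [hsp]; exact hl
      · have h1 := ih.sift (icodes L.moves w' ++ c :: codes L.moves w) (by
          intro d hd
          rcases List.mem_append.mp hd with hd | hd
          · obtain ⟨h1, h2⟩ := icodes_valid hmoves hwl' d hd
            exact ⟨h1, hHtop h2⟩
          · rcases List.mem_cons.mp hd with rfl | hd
            · exact ⟨hvc, htop _ (hsg _ hc)⟩
            · obtain ⟨h1, h2⟩ := codes_valid hmoves hwl d hd
              exact ⟨h1, hHtop h2⟩) hcheck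
        rw [prodL_append, prodL_cons, prodL_icodes hmoves hwl', ← mul_assoc] at h1
        exact h1
  have hclosure : H = Subgroup.closure {g | ∃ c ∈ L.sgens, g = perm n c} := hHs
  obtain ⟨hstab, hcard, horbm⟩ := ss_level H H' _ hclosure hH'H b hfix R hR hR1 hRf hschreier
  refine ⟨hvalid, ?_, hsift, ?_, ?_, ?_, ?_⟩
  · show Nat.card ↥H = L.size * cardProd rest
    rw [hcard, ih.card]
    congr 1
    -- the number of points of the orbit
    have h1 : Nat.card {p : Fin n // ∃ g, R p g} = (orbList n L).toFinset.card := by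
      rw [← Nat.card_eq_finsetCard]
      apply Nat.card_congr
      refine Equiv.ofBijective (fun p => ⟨p.1.val, ?_⟩) ⟨?_, ?_⟩
      · obtain ⟨p, g, w, hw, -⟩ := p
        rw [List.mem_toFinset]
        unfold orbList
        rw [List.mem_filter]
        refine ⟨List.mem_range.mpr p.isLt, ?_⟩
        rw [hw]
        rfl
      · intro p q hpq
        apply Subtype.ext
        apply Fin.ext
        exact congrArg Subtype.val hpq
      · rintro ⟨q, hq⟩
        rw [List.mem_toFinset] at hq
        unfold orbList at hq
        rw [List.mem_filter] at hq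
        obtain ⟨hq1, hq2⟩ := hq
        have hqn : q < n := List.mem_range.mp hq1
        rw [Option.isSome_iff_exists] at hq2
        obtain ⟨⟨r, w⟩, hrw⟩ := hq2
        obtain ⟨hr, -, -⟩ := hpath q hqn r w hrw
        subst hr
        exact ⟨⟨⟨q, hqn⟩, _, w, hrw, rfl⟩, rfl⟩
    have hnd : (orbList n L).Nodup := List.Nodup.filter _ List.nodup_range
    rw [h1, List.toFinset_card_of_nodup hnd, hsize]
  · intro L' rest' heq hb' x hx hxb
    obtain ⟨rfl, rfl⟩ := List.cons.inj heq
    exact hstab x hx hxb
  · intro L' rest' heq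
    obtain ⟨rfl, rfl⟩ := List.cons.inj heq
    exact ⟨hb, hfixc⟩
  · intro L' rest' heq hb' x hx
    obtain ⟨rfl, rfl⟩ := List.cons.inj heq
    obtain ⟨g, w, hw, -⟩ := horbm x hx
    rw [hw]
    rfl
  · intro L' rest' heq p hp hsome
    obtain ⟨rfl, rfl⟩ := List.cons.inj heq
    rw [Option.isSome_iff_exists] at hsome
    obtain ⟨⟨r, w⟩, hrw⟩ := hsome
    obtain ⟨hr, hwl, hev⟩ := hpath p hp r w hrw
    subst hr
    refine ⟨w, hrw, hwl, hev, ?_⟩
    intro c hc
    rcases List.mem_append.mp hc with hc | hc
    · exact codes_valid hmoves hwl c hc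
    · exact icodes_valid hmoves hwl c hc

theorem chain_sound (n : ℕ) (RB : List ℕ) (Gtop : Subgroup (Equiv.Perm (Fin n)))
    (hrig : Rigid n RB Gtop) :
    ∀ Ls : List Lvl, (∀ c ∈ allGens Ls, perm n c ∈ Gtop) → chainOk n RB Ls = true →
      ChainInv n RB Gtop Ls := by
  intro Ls
  induction Ls with
  | nil => intro _ _; exact chainInv_nil n RB Gtop hrig
  | cons L rest ih =>
    intro htop h
    unfold chainOk at h
    rw [Bool.and_eq_true] at h
    have htop' : ∀ c ∈ allGens rest, perm n c ∈ Gtop := by
      intro c hc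
      apply htop
      unfold allGens
      exact List.mem_append_right _ hc
    exact chainInv_cons n RB Gtop L rest htop (ih htop' h.1) h.2

end Cfsg.Agent.Lib.Helper10.SW
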