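import Cfsg.Agent.Lib.Helper10.G23Pts
import Cfsg.Agent.Lib.Helper10.SWChain

set_option autoImplicit false

/-!
The root elements of `G₂(3)` map each of the 728 points to the point given by the packed
permutations; the points are distinct; the unit vectors are combinations of fourteen of the points.
(Kernel checks.)
-/

namespace Cfsg.Agent.Lib.Helper10.G23

open Cfsg.Agent.Lib.Helper10.SW

/-- the point with a given index -/
def pt (i : ℕ) : List ℕ := ptsL.getD i []

/-- the permutation of the points given by `x_r(1)` -/
def cX (r : ℕ) : ℕ := cXL.getD r 0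

/-- the permutation of the points given by `x_r(2)` -/
def cY (r : ℕ) : ℕ := cYL.getD r 0

/-- equality of lists of numbers -/
def eqL : List ℕ → List ℕ → Bool
  | [], [] => true
  | a :: l, b :: m => Nat.beq a b && eqL l m
  | [], _ :: _ => false
  | _ :: _, [] => false

theorem eq_of_eqL : ∀ {l m : List ℕ}, eqL l m = true → l = m
  | [], [], _ => rfl
  | a :: l, b :: m, h => by
    unfold eqL at h
    rw [Bool.and_eq_true] at h
    rw [Nat.eq_of_beq_eq_true h.1, eq_of_eqL h.2]
  | [], _ :: _, h => by simp [eqL] at h
  | _ :: _, [], h => by simp [eqL] at h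

/-- the number with given digits in base three -/
def num (l : List ℕ) : ℕ := l.foldl (fun acc a => Nat.add (Nat.mul 3 acc) a) 0

theorem actOk1 : allLt 12 (fun r => allLt 728 fun i =>
    eqL (mulVL (R1 r) (pt i)) (pt (ap 728 (cX r) i))) = true := by decide +kernel

theorem actOk2 : allLt 12 (fun r => allLt 728 fun i =>
    eqL (mulVL (R2 r) (pt i)) (pt (ap 728 (cY r) i))) = true := by decide +kernel

theorem ptsValid : allLt 728 (fun i => validL (pt i)) = true := by decide +kernel

theorem ptsInc : allLt 727 (fun i => Nat.blt (num (pt i)) (num (pt (i + 1)))) = true := by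
  decide +kernel

theorem validXY : allLt 12 (fun r => invB 728 (cX r) (cY r) && invB 728 (cY r) (cX r)) = true := by
  decide +kernel

theorem rowsLen : allLt 12 (fun r => ((R1 r).all fun row => Nat.ble row.length 14) &&
    ((R2 r).all fun row => Nat.ble row.length 14)) = true := by decide +kernel

theorem invOk : allLt 12 (fun r => allLt 14 fun j =>
    eqL (mulVL (R1 r) (mulVL (R2 r) (unitL j))) (unitL j) &&
      eqL (mulVL (R2 r) (mulVL (R1 r) (unitL j))) (unitL j)) = true := by decide +kernel

theorem spanOk : allLt 14 (fun j => eqL (comb pt (progL.getD j [])) (unitL j) &&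
    (progL.getD j []).all fun e => RB.any fun x => Nat.beq x e.2) = true := by decide +kernel

theorem rbLt : (RB.all fun x => Nat.blt x 728) = true := by decide +kernel

end Cfsg.Agent.Lib.Helper10.G23
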