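import Cfsg.Agent.Lib.Helper10.G23Data
import Cfsg.Agent.Lib.Helper10.SWChain

set_option autoImplicit false

/-!
The stabiliser chain `A` of the group on 728 points.  (Kernel checks.)
-/

namespace Cfsg.Agent.Lib.Helper10.G23

open Cfsg.Agent.Lib.Helper10.SW

theorem okA4 : levelOk 728 RB lvA4 [] = true := by decide +kernel

theorem okA3 : levelOk 728 RB lvA3 [lvA4] = true := by decide +kernel

theorem okA2 : levelOk 728 RB lvA2 [lvA3, lvA4] = true := by decide +kernel

theorem preA1 : levelPre 728 lvA1 [lvA2, lvA3, lvA4] = true := by decide +kernel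

theorem schA_cX0 : schAll 728 RB lvA1 [lvA2, lvA3, lvA4] cX0 = true := by decide +kernel

theorem schA_cX1 : schAll 728 RB lvA1 [lvA2, lvA3, lvA4] cX1 = true := by decide +kernel

theorem schA_cX2 : schAll 728 RB lvA1 [lvA2, lvA3, lvA4] cX2 = true := by decide +kernel

theorem schA_cX3 : schAll 728 RB lvA1 [lvA2, lvA3, lvA4] cX3 = true := by decide +kernel

theorem schA_cX4 : schAll 728 RB lvA1 [lvA2, lvA3, lvA4] cX4 = true := by decide +kernel

theorem schA_cX5 : schAll 728 RB lvA1 [lvA2, lvA3, lvA4] cX5 = true := by decide +kernel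

theorem schA_cX6 : schAll 728 RB lvA1 [lvA2, lvA3, lvA4] cX6 = true := by decide +kernel

theorem schA_cX7 : schAll 728 RB lvA1 [lvA2, lvA3, lvA4] cX7 = true := by decide +kernel

theorem schA_cX8 : schAll 728 RB lvA1 [lvA2, lvA3, lvA4] cX8 = true := by decide +kernel

theorem schA_cX9 : schAll 728 RB lvA1 [lvA2, lvA3, lvA4] cX9 = true := by decide +kernel

theorem schA_cX10 : schAll 728 RB lvA1 [lvA2, lvA3, lvA4] cX10 = true := by decide +kernel

theorem schA_cX11 : schAll 728 RB lvA1 [lvA2, lvA3, lvA4] cX11 = true := by decide +kernel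

end Cfsg.Agent.Lib.Helper10.G23
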