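import Cfsg.Agent.Lib.Helper10.G23Data
import Cfsg.Agent.Lib.Helper10.SWChain

set_option autoImplicit false

/-!
The stabiliser chain `B` of the group on 728 points.  (Kernel checks.)
-/

namespace Cfsg.Agent.Lib.Helper10.G23

open Cfsg.Agent.Lib.Helper10.SW

theorem okB3 : levelOk 728 RB lvB3 [] = true := by decide +kernel

theorem okB2 : levelOk 728 RB lvB2 [lvB3] = true := by decide +kernel

theorem preB1 : levelPre 728 lvB1 [lvB2, lvB3] = true := by decide +kernel

theorem schB_cX0 : schAll 728 RB lvB1 [lvB2, lvB3] cX0 = true := by decide +kernel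

theorem schB_cX1 : schAll 728 RB lvB1 [lvB2, lvB3] cX1 = true := by decide +kernel

theorem schB_cX2 : schAll 728 RB lvB1 [lvB2, lvB3] cX2 = true := by decide +kernel

theorem schB_cX3 : schAll 728 RB lvB1 [lvB2, lvB3] cX3 = true := by decide +kernel

theorem schB_cX4 : schAll 728 RB lvB1 [lvB2, lvB3] cX4 = true := by decide +kernel

theorem schB_cX5 : schAll 728 RB lvB1 [lvB2, lvB3] cX5 = true := by decide +kernel

theorem schB_cX6 : schAll 728 RB lvB1 [lvB2, lvB3] cX6 = true := by decide +kernel

theorem schB_cX7 : schAll 728 RB lvB1 [lvB2, lvB3] cX7 = true := by decide +kernel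

theorem schB_cX8 : schAll 728 RB lvB1 [lvB2, lvB3] cX8 = true := by decide +kernel

theorem schB_cX9 : schAll 728 RB lvB1 [lvB2, lvB3] cX9 = true := by decide +kernel

theorem schB_cX10 : schAll 728 RB lvB1 [lvB2, lvB3] cX10 = true := by decide +kernel

theorem schB_cX11 : schAll 728 RB lvB1 [lvB2, lvB3] cX11 = true := by decide +kernel

end Cfsg.Agent.Lib.Helper10.G23
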