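import Cfsg.Agent.Lib.Helper10.SWGlue

set_option autoImplicit false

/-!
A certificate that the centraliser of an element `x` of a permutation group given by a checked
stabiliser chain is generated by `x`: the base of the chain is an initial segment of a cycle of `x`,
so that an element commuting with `x` is determined by the image `p` of the first base point; the
images `p, x p, x² p, …` of the base points are sifted through the chain for every `p`.
-/

namespace Cfsg.Agent.Lib.Helper10.SW

open MulAction

/-- sift the images `t, x t, x² t, …` of the base points through the chain, collecting the inverse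
word -/
def siftT (n cx : ℕ) : List Lvl → List ℕ → ℕ → Option (List ℕ)
  | [], acc, _ => some acc
  | L :: rest, acc, t =>
    match pathOf L.tree fuel (evalL n acc t) with
    | none => none
    | some rw => siftT n cx rest (icodes L.moves rw.2 ++ acc) (ap n cx t)

/-- consecutive base points are related by `cx` -/
def basesOk (n cx : ℕ) : List Lvl → Bool
  | [] => true
  | L :: rest =>
    (match rest with
     | [] => true
     | L' :: _ => Nat.beq L'.b (ap n cx L.b)) && basesOk n cx rest

/-- the candidate with image `p` of the first base point survives -/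
def centCand (n cx : ℕ) (Ls : List Lvl) (p : ℕ) : Bool :=
  match siftT n cx Ls [] p with
  | none => false
  | some acc => allLt n fun y => Nat.beq (evalL n (acc ++ [cx]) y) (evalL n (cx :: acc) y)

/-- every surviving candidate lies in the list `cyc` -/
def centOk (n cx : ℕ) (Ls : List Lvl) (cyc : List ℕ) : Bool :=
  allLt n fun p => !centCand n cx Ls p || cyc.contains p

theorem evalL_append (n : ℕ) (L L' : List ℕ) (x : ℕ) :
    evalL n (L ++ L') x = evalL n L (evalL n L' x) := by
  induction L with
  | nil => rfl
  | cons c L ih =>
    show ap n c (evalL n (L ++ L') x) = ap n c (evalL n L (evalL n L' x))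
    rw [ih]

/-- the sift of the images of the base points under an element commuting with `x` succeeds and
returns the inverse of the element -/
theorem siftT_sound {n : ℕ} {RB : List ℕ} {Gtop : Subgroup (Equiv.Perm (Fin n))}
    (hrig : Rigid n RB Gtop) {cx : ℕ} (hvx : Valid n cx) :
    ∀ (Ls : List Lvl), (∀ c ∈ allGens Ls, perm n c ∈ Gtop) → chainOk n RB Ls = true →
      basesOk n cx Ls = true →
      ∀ (c : Equiv.Perm (Fin n)), c * perm n cx = perm n cx * c →
        ∀ (acc : List ℕ), (∀ d ∈ acc, Valid n d) → ∀ (t : Fin n),
          prodL n acc * c ∈ grp n (allGens Ls) →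
          (∀ L rest, Ls = L :: rest → ∀ hb : L.b < n, c ⟨L.b, hb⟩ = t) →
          ∃ acc', siftT n cx Ls acc t.val = some acc' ∧ (∀ d ∈ acc', Valid n d) ∧
            prodL n acc' * c = 1 := by
  intro Ls
  induction Ls with
  | nil =>
    intro _ _ _ c _ acc hacc t hmem _
    refine ⟨acc, rfl, hacc, ?_⟩
    have h : grp n (allGens []) = ⊥ := grp_nil n
    rw [h, Subgroup.mem_bot] at hmem
    exact hmem
  | cons L rest ih =>
    intro htop hchain hbases c hcomm acc hacc t hmem htgt
    have inv := chain_sound n RB Gtop hrig (L :: rest) htop hchain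
    have hchain' := hchain
    unfold chainOk at hchain'
    rw [Bool.and_eq_true] at hchain'
    have hpre := levelPre_of_levelOk hchain'.2
    have hmoves := levelPre_moves hpre
    have htop' : ∀ d ∈ allGens rest, perm n d ∈ Gtop :=
      fun d hd => htop d (allGens_sub_cons L rest d hd)
    have hb : L.b < n := (inv.fixb L rest rfl).1
    have hcb := htgt L rest rfl hb
    -- the image of the base point under the partial product
    have hq : (prodL n acc * c) ⟨L.b, hb⟩ = prodL n acc t := by
      rw [Equiv.Perm.mul_apply, hcb]
    have hqv : ((prodL n acc * c) ⟨L.b, hb⟩).val = evalL n acc t.val := by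
      rw [hq, prodL_apply_val acc hacc]
    have hsome := inv.orbmem L rest rfl hb _ hmem
    rw [hqv] at hsome
    obtain ⟨w, hpath, hwl, hev, hall⟩ := inv.orb L rest rfl (evalL n acc t.val)
      (evalL_lt acc t.isLt) hsome
    -- unfold one step of the sift
    have hstep : siftT n cx (L :: rest) acc t.val =
        siftT n cx rest (icodes L.moves w ++ acc) (ap n cx t.val) := by
      show (match pathOf L.tree fuel (evalL n acc t.val) with
        | none => none
        | some rw => siftT n cx rest (icodes L.moves rw.2 ++ acc) (ap n cx t.val)) = _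
      rw [hpath]
    have hvalid' : ∀ d ∈ icodes L.moves w ++ acc, Valid n d := by
      intro d hd
      rcases List.mem_append.mp hd with hd | hd
      · exact (hall d (List.mem_append_right _ hd)).1
      · exact hacc d hd
    -- the transversal element
    have hu : prodL n (codes L.moves w) ⟨L.b, hb⟩ = prodL n acc t := by
      apply Fin.ext
      rw [prodL_apply_val _ (fun d hd => (hall d (List.mem_append_left _ hd)).1),
        prodL_apply_val acc hacc]
      exact hev
    have huG : prodL n (codes L.moves w) ∈ grp n (allGens (L :: rest)) :=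
      prodL_mem fun d hd => (hall d (List.mem_append_left _ hd)).2
    have hprod : prodL n (icodes L.moves w ++ acc) * c =
        (prodL n (codes L.moves w))⁻¹ * (prodL n acc * c) := by
      rw [prodL_append, prodL_icodes hmoves hwl, mul_assoc]
    have hmem' : prodL n (icodes L.moves w ++ acc) * c ∈ grp n (allGens rest) := by
      rw [hprod]
      apply inv.stab L rest rfl hb
      · exact Subgroup.mul_mem _ (Subgroup.inv_mem _ huG) hmem
      · rw [Equiv.Perm.mul_apply, hq, ← hu]
        exact Equiv.symm_apply_apply _ _
    -- the next target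
    have htgt' : ∀ L' rest', rest = L' :: rest' → ∀ hb' : L'.b < n,
        c ⟨L'.b, hb'⟩ = perm n cx t := by
      intro L' rest' hrest hb'
      have hbo := hbases
      rw [hrest] at hbo
      unfold basesOk at hbo
      rw [Bool.and_eq_true] at hbo
      have hbe : L'.b = ap n cx L.b := Nat.eq_of_beq_eq_true hbo.1
      have e1 : (⟨L'.b, hb'⟩ : Fin n) = perm n cx ⟨L.b, hb⟩ := by
        apply Fin.ext
        rw [perm_apply_val hvx]
        exact hbe
      rw [e1, ← Equiv.Perm.mul_apply, hcomm, Equiv.Perm.mul_apply, hcb]
    have hbases' : basesOk n cx rest = true := by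
      have hbo := hbases
      unfold basesOk at hbo
      rw [Bool.and_eq_true] at hbo
      exact hbo.2
    have hval : ap n cx t.val = (perm n cx t).val := (perm_apply_val hvx t).symm
    obtain ⟨acc', h1, h2, h3⟩ := ih htop' hchain'.1 hbases' c hcomm (icodes L.moves w ++ acc)
      hvalid' (perm n cx t) hmem' htgt'
    refine ⟨acc', ?_, h2, h3⟩
    rw [hstep, hval]
    exact h1

/-- an element of the group commuting with `x` is a power of `x` -/
theorem cent_mem_zpowers {n : ℕ} {RB : List ℕ} {Gtop : Subgroup (Equiv.Perm (Fin n))}
    (hrig : Rigid n RB Gtop) {cx : ℕ} (hvx : Valid n cx) {L : Lvl} {rest : List Lvl}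
    (htop : ∀ c ∈ allGens (L :: rest), perm n c ∈ Gtop)
    (hchain : chainOk n RB (L :: rest) = true) (hbases : basesOk n cx (L :: rest) = true)
    (hx : perm n cx ∈ grp n (allGens (L :: rest)))
    {cyc : List ℕ} (hcyc : ∀ p ∈ cyc, ∃ j : ℕ, evalL n (List.replicate j cx) L.b = p)
    (hok : centOk n cx (L :: rest) cyc = true)
    (c : Equiv.Perm (Fin n)) (hc : c ∈ grp n (allGens (L :: rest)))
    (hcomm : c * perm n cx = perm n cx * c) : c ∈ Subgroup.zpowers (perm n cx) := by
  have inv := chain_sound n RB Gtop hrig (L :: rest) htop hchain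
  have hb : L.b < n := (inv.fixb L rest rfl).1
  -- the sift for `c`
  obtain ⟨acc, hs, hv, hone⟩ := siftT_sound hrig hvx (L :: rest) htop hchain hbases c hcomm []
    (fun d hd => absurd hd List.not_mem_nil) (c ⟨L.b, hb⟩)
    (by rw [prodL_nil, one_mul]; exact hc)
    (by
      intro L' rest' h hb'
      have h1 := (List.cons.inj h).1
      subst h1
      rfl)
  -- the candidate survives
  have hcinv : prodL n acc = c⁻¹ := eq_inv_of_mul_eq_one_left hone
  have hcand : centCand n cx (L :: rest) (c ⟨L.b, hb⟩).val = true := by
    unfold centCand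
    rw [hs]
    show allLt n _ = true
    rw [allLt_iff]
    intro y hy
    have hv1 : ∀ d ∈ acc ++ [cx], Valid n d := by
      intro d hd
      rcases List.mem_append.mp hd with hd | hd
      · exact hv d hd
      · rw [List.mem_singleton.mp hd]; exact hvx
    have hv2 : ∀ d ∈ cx :: acc, Valid n d := by
      intro d hd
      rcases List.mem_cons.mp hd with rfl | hd
      · exact hvx
      · exact hv d hd
    have e1 := prodL_apply_val (acc ++ [cx]) hv1 ⟨y, hy⟩
    have e2 := prodL_apply_val (cx :: acc) hv2 ⟨y, hy⟩
    have e3 : prodL n (acc ++ [cx]) = prodL n (cx :: acc) := by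
      rw [prodL_append, prodL_cons, prodL_cons, prodL_nil, mul_one, hcinv]
      have : c⁻¹ * perm n cx = c⁻¹ * (perm n cx * c) * c⁻¹ := by group
      rw [this, ← hcomm]
      group
    rw [e3] at e1
    have : evalL n (acc ++ [cx]) y = evalL n (cx :: acc) y := by
      rw [← e1, ← e2]
    rw [this]
    exact Nat.beq_refl _
  -- hence the image of the base point lies on the cycle
  unfold centOk at hok
  rw [allLt_iff] at hok
  have h1 := hok (c ⟨L.b, hb⟩).val (c ⟨L.b, hb⟩).isLt
  rw [hcand] at h1
  simp only [Bool.not_true, Bool.false_or, List.contains_iff_mem] at h1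
  obtain ⟨j, hj⟩ := hcyc _ h1
  -- the power of `x` with the same image
  have hvrep : ∀ d ∈ List.replicate j cx, Valid n d := by
    intro d hd
    rw [List.eq_of_mem_replicate hd]
    exact hvx
  have hpow : (perm n cx ^ j) ⟨L.b, hb⟩ = c ⟨L.b, hb⟩ := by
    apply Fin.ext
    rw [← prodL_replicate, prodL_apply_val _ hvrep]
    exact hj
  have hxj : perm n cx ^ j ∈ grp n (allGens (L :: rest)) := Subgroup.pow_mem _ hx j
  have hcommj : perm n cx ^ j * perm n cx = perm n cx * perm n cx ^ j := by
    rw [← pow_succ, ← pow_succ']
  obtain ⟨acc2, hs2, -, hone2⟩ := siftT_sound hrig hvx (L :: rest) htop hchain hbases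
    (perm n cx ^ j) hcommj [] (fun d hd => absurd hd List.not_mem_nil) (c ⟨L.b, hb⟩)
    (by rw [prodL_nil, one_mul]; exact hxj)
    (by
      intro L' rest' h hb'
      have h1 := (List.cons.inj h).1
      subst h1
      exact hpow)
  rw [hs] at hs2
  have hacc : acc = acc2 := Option.some.inj hs2
  rw [← hacc] at hone2
  have : c = perm n cx ^ j := by
    have e1 : c = (prodL n acc)⁻¹ := by rw [hcinv, inv_inv]
    have e2 : perm n cx ^ j = (prodL n acc)⁻¹ := by
      rw [eq_inv_of_mul_eq_one_left hone2, inv_inv]
    rw [e1, e2]
  rw [this]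
  exact Subgroup.pow_mem _ (Subgroup.mem_zpowers _) j

end Cfsg.Agent.Lib.Helper10.SW
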