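import Cfsg.Agent.Lib.Helper10.G23Data
import Cfsg.Agent.Lib.Helper10.SWCent

set_option autoImplicit false

/-!
Words for the elements of orders 7, 13 and 6 of the group on 728 points, their orders, and the checks that the elements of orders 7 and 13 generate their centralisers.  (Kernel checks.)
-/

namespace Cfsg.Agent.Lib.Helper10.G23

open Cfsg.Agent.Lib.Helper10.SW

/-- a packed permutation is the product of a list -/
def eqProd (n c : ℕ) (L : List ℕ) : Bool :=
  allLt n fun x => Nat.beq (ap n c x) (evalL n L x)

/-- the power of a packed permutation is the identity -/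
def powOne (n c k : ℕ) : Bool :=
  allLt n fun x => Nat.beq (evalL n (List.replicate k c) x) x

theorem wordsOk : ∀ e ∈ [(cE7, [cX6, cX2, cX1, cX10]), (cE13, [cX7, cX2, cX8]), (cE6, [cX3, cX8, cX3])],
    eqProd 728 e.1 e.2 = true := by decide +kernel

theorem pow7 : powOne 728 cE7 7 = true := by decide +kernel

theorem pow13 : powOne 728 cE13 13 = true := by decide +kernel

theorem pow6 : powOne 728 cE6 6 = true := by decide +kernel

theorem ne7 : ap 728 cE7 0 ≠ 0 := by decide +kernel

theorem ne13 : ap 728 cE13 0 ≠ 0 := by decide +kernel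

theorem ne6_2 : evalL 728 [cE6, cE6] 26 ≠ 26 := by decide +kernel

theorem ne6_3 : evalL 728 [cE6, cE6, cE6] 0 ≠ 0 := by decide +kernel

theorem cyc7_eq : cyc7 = (List.range 7).map (fun j => evalL 728 (List.replicate j cE7) 0) := by
  decide +kernel

theorem cyc13_eq : cyc13 = (List.range 13).map (fun j => evalL 728 (List.replicate j cE13) 0) := by
  decide +kernel

theorem basesA : basesOk 728 cE7 [lvA1, lvA2, lvA3, lvA4] = true := by decide +kernel

theorem basesB : basesOk 728 cE13 [lvB1, lvB2, lvB3] = true := by decide +kernel

theorem centA : centOk 728 cE7 [lvA1, lvA2, lvA3, lvA4] cyc7 = true := by decide +kernel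

theorem centB : centOk 728 cE13 [lvB1, lvB2, lvB3] cyc13 = true := by decide +kernel

end Cfsg.Agent.Lib.Helper10.G23
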