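import Mathlib
import Cfsg.Prelude.Def_Chevalley

set_option autoImplicit false

/-!
A Chevalley group over a field depends only on the isomorphism type of the field.
(Generalises `Cfsg.Agent.Lib.Helper7.group_map_glMapEquiv` from automorphisms to isomorphisms.)
-/

namespace Cfsg.Agent.Lib.Helper10.G23

open Cfsg Cfsg.Lie

theorem xMat_map_hom (D : ChevalleyDatum) {F F' : Type*} [Field F] [Field F'] (f : F →+* F')
    (r : Fin D.nroots) (t : F) : (D.xMat F r t).map f = D.xMat F' r (f t) := by
  ext row col
  unfold ChevalleyDatum.xMat
  simp only [Matrix.map_apply, Matrix.of_apply]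
  rcases col with i | s
  · rcases row with i' | u
    · simp only; split_ifs <;> simp
    · simp only; split_ifs <;> simp
  · by_cases hsr : s = r
    · rcases row with i' | u
      · simp [hsr]
      · simp only [hsr, if_true]; split_ifs <;> simp
    · by_cases hneg : s.val = D.negIdx.getD r.val 0
      · rcases row with i' | u
        · simp [hsr, hneg]
        · simp only [hsr, if_false, hneg, if_true]; split_ifs <;> simp
      · rcases row with i' | u
        · simp only [hsr, if_false, hneg]; simp
        · simp only [hsr, if_false, hneg]
          rw [map_add, map_list_sum, List.map_map]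
          congr 1
          · split_ifs <;> simp
          · congr 1
            apply List.map_congr_left
            intro km _
            simp

/-- the entrywise action of a field isomorphism on `GL` -/
noncomputable def glMapIso (n : Type*) [Fintype n] [DecidableEq n] {F F' : Type*} [Field F]
    [Field F'] (f : F ≃+* F') : GL n F ≃* GL n F' :=
  Units.mapEquiv (RingEquiv.mapMatrix f).toMulEquiv

theorem glMapIso_val (n : Type*) [Fintype n] [DecidableEq n] {F F' : Type*} [Field F] [Field F']
    (f : F ≃+* F') (g : GL n F) :
    ((glMapIso n f g : GL n F') : Matrix n n F') = (g : Matrix n n F).map f := rfl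

theorem glMapIso_symm_val (n : Type*) [Fintype n] [DecidableEq n] {F F' : Type*} [Field F]
    [Field F'] (f : F ≃+* F') (g : GL n F') :
    (((glMapIso n f).symm g : GL n F) : Matrix n n F) = (g : Matrix n n F').map f.symm := rfl

theorem group_map_glMapIso (D : ChevalleyDatum) {F F' : Type*} [Field F] [Field F']
    (f : F ≃+* F') : (D.group F).map (glMapIso D.Idx f).toMonoidHom = D.group F' := by
  unfold ChevalleyDatum.group
  rw [MonoidHom.map_closure]
  congr 1
  ext g
  simp only [Set.mem_image, Set.mem_ofPred_eq]
  constructor
  · rintro ⟨g', ⟨r, t, hg'⟩, rfl⟩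
    refine ⟨r, f t, ?_⟩
    show ((glMapIso D.Idx f g' : GL D.Idx F') : Matrix D.Idx D.Idx F') = _
    rw [glMapIso_val, hg']
    exact xMat_map_hom D (f : F →+* F') r t
  · rintro ⟨r, t, hg⟩
    refine ⟨(glMapIso D.Idx f).symm g, ⟨r, f.symm t, ?_⟩, ?_⟩
    · rw [glMapIso_symm_val, hg]
      exact xMat_map_hom D (f.symm : F' →+* F) r t
    · show glMapIso D.Idx f ((glMapIso D.Idx f).symm g) = g
      simp

/-- the Chevalley groups over isomorphic fields are isomorphic -/
noncomputable def groupCongr (D : ChevalleyDatum) {F F' : Type*} [Field F] [Field F']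
    (f : F ≃+* F') : ↥(D.group F) ≃* ↥(D.group F') :=
  ((glMapIso D.Idx f).subgroupMap (D.group F)).trans
    (MulEquiv.subgroupCongr (group_map_glMapIso D f))

end Cfsg.Agent.Lib.Helper10.G23
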