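import Cfsg.Agent.Lib.Helper10.G23Act

set_option autoImplicit false

/-!
The group `G₂(3) = Cfsg.Lie.chevG2.group (ZMod 3)` acts faithfully on an orbit of 728 vectors of
the adjoint module; it is isomorphic to the group of the twelve permutations of these points
given by its root elements `x_r(1)`.
-/

namespace Cfsg.Agent.Lib.Helper10.G23

open Cfsg.Lie Cfsg.Agent.Lib.Helper10.SW

/-- the points as vectors -/
def vec (i : Fin 728) : I14 → ZMod 3 := decV (pt i.val)

theorem num_lt_succ {i : ℕ} (hi : i < 727) : num (pt i) < num (pt (i + 1)) :=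
  Eq.mp Nat.blt_eq ((allLt_iff _ _).mp ptsInc i hi)

theorem num_lt_add {i : ℕ} (d : ℕ) (h : i + d + 1 < 728) : num (pt i) < num (pt (i + d + 1)) := by
  induction d with
  | zero => exact num_lt_succ (by omega)
  | succ d ih =>
    have h1 := ih (by omega)
    have h2 : num (pt (i + d + 1)) < num (pt (i + d + 1 + 1)) := num_lt_succ (by omega)
    have : i + (d + 1) + 1 = i + d + 1 + 1 := by omega
    rw [this]
    exact lt_trans h1 h2

theorem num_lt_of_lt {i j : ℕ} (hij : i < j) (hj : j < 728) : num (pt i) < num (pt j) := by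
  obtain ⟨d, rfl⟩ : ∃ d, j = i + d + 1 := ⟨j - i - 1, by omega⟩
  exact num_lt_add d hj

theorem pt_valid {i : ℕ} (hi : i < 728) : validL (pt i) = true := (allLt_iff _ _).mp ptsValid i hi

theorem pt_length {i : ℕ} (hi : i < 728) : (pt i).length = 14 :=
  ((validL_iff _).mp (pt_valid hi)).1

theorem vec_injective : Function.Injective vec := by
  intro i j h
  have h1 : pt i.val = pt j.val := decV_injective (pt_valid i.isLt) (pt_valid j.isLt) h
  apply Fin.ext
  by_contra hne
  rcases Nat.lt_or_gt_of_ne hne with hlt | hlt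
  · exact absurd (congrArg num h1) (ne_of_lt (num_lt_of_lt hlt j.isLt))
  · exact absurd (congrArg num h1).symm (ne_of_lt (num_lt_of_lt hlt i.isLt))

theorem rb_lt : ∀ x ∈ RB, x < 728 := by
  intro x hx
  exact Eq.mp Nat.blt_eq (List.all_eq_true.mp rbLt x hx)

/-! ### a matrix fixing the fourteen spanning points is the identity -/

theorem eq_one_of_fixRB (A : M14) (h : ∀ x ∈ RB, A.mulVec (decV (pt x)) = decV (pt x)) :
    A = 1 := by
  apply eq_one_of_units
  intro j
  have hs := (allLt_iff _ _).mp spanOk (pos j) (pos_lt j)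
  rw [Bool.and_eq_true, List.all_eq_true] at hs
  have hmem : ∀ e ∈ progL.getD (pos j) [], e.2 ∈ RB := by
    intro e he
    have := hs.2 e he
    rw [List.any_eq_true] at this
    obtain ⟨x, hx, hxe⟩ := this
    rw [← Nat.eq_of_beq_eq_true hxe]
    exact hx
  have := mulVec_comb A pt (progL.getD (pos j) [])
    (fun e he => pt_length (rb_lt _ (hmem e he))) (fun e he => h _ (hmem e he))
  rw [eq_of_eqL hs.1, decV_unitL] at this
  exact this

/-! ### the matrices that permute the points -/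

/-- the matrices of the general linear group that permute the points -/
def St : Subgroup (GL I14 (ZMod 3)) where
  carrier := {g | ∃ σ : Equiv.Perm (Fin 728), ∀ i, (g : M14).mulVec (vec i) = vec (σ i)}
  one_mem' := ⟨1, fun i => by rw [Units.val_one, Matrix.one_mulVec]; rfl⟩
  mul_mem' := by
    rintro a b ⟨σ, hσ⟩ ⟨τ, hτ⟩
    refine ⟨σ * τ, fun i => ?_⟩
    rw [Units.val_mul, ← Matrix.mulVec_mulVec, hτ, hσ]
    rfl
  inv_mem' := by
    rintro a ⟨σ, hσ⟩
    refine ⟨σ⁻¹, fun i => ?_⟩
    have h := hσ (σ⁻¹ i)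
    have e : σ (σ⁻¹ i) = i := by
      show (σ * σ⁻¹) i = i
      rw [mul_inv_cancel]
      rfl
    rw [e] at h
    rw [← h, Matrix.mulVec_mulVec, ← Units.val_mul, inv_mul_cancel, Units.val_one,
      Matrix.one_mulVec]

/-- the permutation of the points given by a matrix -/
noncomputable def permOf (g : St) : Equiv.Perm (Fin 728) := Classical.choose g.2

theorem permOf_spec (g : St) (i : Fin 728) :
    ((g : GL I14 (ZMod 3)) : M14).mulVec (vec i) = vec (permOf g i) :=
  Classical.choose_spec g.2 i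

theorem permOf_eq (g : St) (σ : Equiv.Perm (Fin 728))
    (h : ∀ i, ((g : GL I14 (ZMod 3)) : M14).mulVec (vec i) = vec (σ i)) : permOf g = σ := by
  apply Equiv.ext
  intro i
  apply vec_injective
  rw [← permOf_spec, h]

/-- the action on the points as a homomorphism -/
noncomputable def permHom : St →* Equiv.Perm (Fin 728) :=
  MonoidHom.mk' permOf (by
    intro a b
    apply permOf_eq
    intro i
    rw [Subgroup.coe_mul, Units.val_mul, ← Matrix.mulVec_mulVec, permOf_spec, permOf_spec]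
    rfl)

theorem permHom_apply (g : St) : permHom g = permOf g := rfl

theorem eq_one_of_permOf_fix (g : St)
    (h : ∀ x ∈ RB, ∀ hx : x < 728, permOf g ⟨x, hx⟩ = ⟨x, hx⟩) : g = 1 := by
  apply Subtype.ext
  apply Units.ext
  rw [Subgroup.coe_one, Units.val_one]
  apply eq_one_of_fixRB
  intro x hx
  have hlt := rb_lt x hx
  have h1 := permOf_spec g ⟨x, hlt⟩
  rw [h x hx hlt] at h1
  exact h1

theorem permHom_injective : Function.Injective permHom := by
  rw [injective_iff_map_eq_one]
  intro g hg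
  rw [permHom_apply] at hg
  apply eq_one_of_permOf_fix
  intro x _ hlt
  rw [hg]
  rfl

/-- the permutations of the points induced by matrices -/
noncomputable def Gtop : Subgroup (Equiv.Perm (Fin 728)) := permHom.range

theorem rigid : Rigid 728 RB Gtop := by
  intro g hg hfix
  obtain ⟨s, rfl⟩ := hg
  have : s = 1 := eq_one_of_permOf_fix s (fun x hx hlt => hfix x hx hlt)
  rw [this, map_one]

/-! ### the generators -/

theorem rows_le1 {r : ℕ} (hr : r < 12) : ∀ row ∈ R1 r, row.length ≤ 14 := by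
  have h := (allLt_iff _ _).mp rowsLen r hr
  rw [Bool.and_eq_true, List.all_eq_true] at h
  intro row hrow
  exact Nat.le_of_ble_eq_true (h.1 row hrow)

theorem rows_le2 {r : ℕ} (hr : r < 12) : ∀ row ∈ R2 r, row.length ≤ 14 := by
  have h := (allLt_iff _ _).mp rowsLen r hr
  rw [Bool.and_eq_true, List.all_eq_true, List.all_eq_true] at h
  intro row hrow
  exact Nat.le_of_ble_eq_true (h.2 row hrow)

theorem x1_mulVec (r : Fin 12) (v : List ℕ) :
    (X14 r 1).mulVec (decV v) = decV (mulVL (R1 r.val) v) := by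
  rw [x_one r, decM_mulVec _ (rows_le1 r.isLt)]

theorem x2_mulVec (r : Fin 12) (v : List ℕ) :
    (X14 r 2).mulVec (decV v) = decV (mulVL (R2 r.val) v) := by
  rw [x_two r, decM_mulVec _ (rows_le2 r.isLt)]

theorem inv_XY {r : ℕ} (hr : r < 12) : InvOf 728 (cX r) (cY r) := by
  have h := (allLt_iff _ _).mp validXY r hr
  rw [Bool.and_eq_true] at h
  exact (invB_iff _ _ _).mp h.1

theorem inv_YX {r : ℕ} (hr : r < 12) : InvOf 728 (cY r) (cX r) := by
  have h := (allLt_iff _ _).mp validXY r hr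
  rw [Bool.and_eq_true] at h
  exact (invB_iff _ _ _).mp h.2

theorem valid_cX {r : ℕ} (hr : r < 12) : Valid 728 (cX r) := valid_of_invOf (inv_XY hr)

theorem valid_cY {r : ℕ} (hr : r < 12) : Valid 728 (cY r) := valid_of_invOf (inv_YX hr)

theorem perm_cY {r : ℕ} (hr : r < 12) : perm 728 (cY r) = (perm 728 (cX r))⁻¹ :=
  perm_inv_of_invOf (inv_XY hr) (valid_cY hr)

attribute [local irreducible] perm

theorem x1_vec (r : Fin 12) (i : Fin 728) :
    (X14 r 1).mulVec (vec i) = vec (perm 728 (cX r.val) i) := by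
  unfold vec
  rw [x1_mulVec, perm_apply_val (valid_cX r.isLt)]
  have := (allLt_iff _ _).mp ((allLt_iff _ _).mp actOk1 r.val r.isLt) i.val i.isLt
  rw [eq_of_eqL this]

theorem x2_vec (r : Fin 12) (i : Fin 728) :
    (X14 r 2).mulVec (vec i) = vec (perm 728 (cY r.val) i) := by
  unfold vec
  rw [x2_mulVec, perm_apply_val (valid_cY r.isLt)]
  have := (allLt_iff _ _).mp ((allLt_iff _ _).mp actOk2 r.val r.isLt) i.val i.isLt
  rw [eq_of_eqL this]

theorem x12 (r : Fin 12) : X14 r 1 * X14 r 2 = 1 := by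
  apply eq_one_of_units
  intro j
  rw [← decV_unitL, ← Matrix.mulVec_mulVec, x2_mulVec, x1_mulVec]
  have := (allLt_iff _ _).mp ((allLt_iff _ _).mp invOk r.val r.isLt) (pos j) (pos_lt j)
  rw [Bool.and_eq_true] at this
  rw [eq_of_eqL this.1]

theorem x21 (r : Fin 12) : X14 r 2 * X14 r 1 = 1 := by
  apply eq_one_of_units
  intro j
  rw [← decV_unitL, ← Matrix.mulVec_mulVec, x1_mulVec, x2_mulVec]
  have := (allLt_iff _ _).mp ((allLt_iff _ _).mp invOk r.val r.isLt) (pos j) (pos_lt j)
  rw [Bool.and_eq_true] at this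
  rw [eq_of_eqL this.2]

/-- a root element as an element of the general linear group -/
def xU (r : Fin 12) : GL I14 (ZMod 3) := ⟨X14 r 1, X14 r 2, x12 r, x21 r⟩

theorem coe_xU (r : Fin 12) : ((xU r : GL I14 (ZMod 3)) : M14) = X14 r 1 := rfl

theorem zmod3_cases (t : ZMod 3) : t = 0 ∨ t = 1 ∨ t = 2 := by
  revert t
  decide

/-- the group `G₂(3)`, with the index type unfolded -/
def G14 : Subgroup (GL I14 (ZMod 3)) := chevG2.group (ZMod 3)

theorem G14_eq : G14 = Subgroup.closure
    {g : GL I14 (ZMod 3) | ∃ (r : Fin 12) (t : ZMod 3), (g : M14) = X14 r t} := rfl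

/-- the group of the twelve permutations -/
noncomputable def P : Subgroup (Equiv.Perm (Fin 728)) := grp 728 cXL

theorem cX_mem {r : ℕ} (hr : r < 12) : cX r ∈ cXL := by
  unfold cX
  rw [List.getD_eq_getElem _ _ (show r < cXL.length from hr)]
  exact List.getElem_mem _

theorem perm_cX_mem_P {r : ℕ} (hr : r < 12) : perm 728 (cX r) ∈ P := perm_mem_grp (cX_mem hr)

theorem perm_cY_mem_P {r : ℕ} (hr : r < 12) : perm 728 (cY r) ∈ P := by
  rw [perm_cY hr]
  exact P.inv_mem (perm_cX_mem_P hr)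

/-- a generator lies in `St`, and its permutation in `P` -/
theorem gen_mem {g : GL I14 (ZMod 3)} (r : Fin 12) (t : ZMod 3) (hg : (g : M14) = X14 r t) :
    ∃ h : g ∈ St, permHom ⟨g, h⟩ ∈ P := by
  rcases zmod3_cases t with rfl | rfl | rfl
  · have : g = 1 := Units.ext (by rw [hg, x_zero r]; rfl)
    subst this
    refine ⟨St.one_mem, ?_⟩
    have : (⟨1, St.one_mem⟩ : St) = 1 := rfl
    rw [this, map_one]
    exact P.one_mem
  · have hst : ∀ i, (g : M14).mulVec (vec i) = vec (perm 728 (cX r.val) i) := by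
      intro i
      rw [hg]
      exact x1_vec r i
    have hmem : g ∈ St := ⟨perm 728 (cX r.val), hst⟩
    refine ⟨hmem, ?_⟩
    have e : permOf ⟨g, hmem⟩ = perm 728 (cX r.val) := permOf_eq ⟨g, hmem⟩ _ hst
    rw [permHom_apply, e]
    exact perm_cX_mem_P r.isLt
  · have hst : ∀ i, (g : M14).mulVec (vec i) = vec (perm 728 (cY r.val) i) := by
      intro i
      rw [hg]
      exact x2_vec r i
    have hmem : g ∈ St := ⟨perm 728 (cY r.val), hst⟩
    refine ⟨hmem, ?_⟩
    have e : permOf ⟨g, hmem⟩ = perm 728 (cY r.val) := permOf_eq ⟨g, hmem⟩ _ hst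
    rw [permHom_apply, e]
    exact perm_cY_mem_P r.isLt

theorem G14_le : ∀ g ∈ G14, ∃ h : g ∈ St, permHom ⟨g, h⟩ ∈ P := by
  intro g hg
  rw [G14_eq] at hg
  induction hg using Subgroup.closure_induction with
  | mem x hx =>
    obtain ⟨r, t, hx'⟩ := hx
    exact gen_mem r t hx'
  | one =>
    refine ⟨St.one_mem, ?_⟩
    have : (⟨1, St.one_mem⟩ : St) = 1 := rfl
    rw [this, map_one]
    exact P.one_mem
  | mul x y _ _ ihx ihy =>
    obtain ⟨hx, hpx⟩ := ihx
    obtain ⟨hy, hpy⟩ := ihy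
    refine ⟨St.mul_mem hx hy, ?_⟩
    have : (⟨x * y, St.mul_mem hx hy⟩ : St) = ⟨x, hx⟩ * ⟨y, hy⟩ := rfl
    rw [this, map_mul]
    exact P.mul_mem hpx hpy
  | inv x _ ihx =>
    obtain ⟨hx, hpx⟩ := ihx
    refine ⟨St.inv_mem hx, ?_⟩
    have : (⟨x⁻¹, St.inv_mem hx⟩ : St) = (⟨x, hx⟩ : St)⁻¹ := rfl
    rw [this, map_inv]
    exact P.inv_mem hpx

theorem G14_le_St : G14 ≤ St := fun g hg => (G14_le g hg).1

/-- the action of `G₂(3)` on the points -/
noncomputable def phi : ↥G14 →* ↥P :=
  (permHom.comp (Subgroup.inclusion G14_le_St)).codRestrict P (fun g => by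
    obtain ⟨h, hp⟩ := G14_le g.1 g.2
    exact hp)

theorem phi_injective : Function.Injective phi := by
  intro a b h
  have h1 := congrArg Subtype.val h
  have h2 : permHom (Subgroup.inclusion G14_le_St a) = permHom (Subgroup.inclusion G14_le_St b) :=
    h1
  exact Subgroup.inclusion_injective G14_le_St (permHom_injective h2)

theorem xU_mem (r : Fin 12) : xU r ∈ G14 := by
  rw [G14_eq]
  exact Subgroup.subset_closure ⟨r, 1, coe_xU r⟩

theorem phi_xU (r : Fin 12) : (phi ⟨xU r, xU_mem r⟩ : Equiv.Perm (Fin 728)) = perm 728 (cX r.val) := by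
  have hst : ∀ i, ((xU r : GL I14 (ZMod 3)) : M14).mulVec (vec i) = vec (perm 728 (cX r.val) i) := by
    intro i
    rw [coe_xU]
    exact x1_vec r i
  show permOf ⟨xU r, G14_le_St (xU_mem r)⟩ = perm 728 (cX r.val)
  exact permOf_eq ⟨xU r, G14_le_St (xU_mem r)⟩ _ hst

theorem exists_of_mem_cXL {c : ℕ} (hc : c ∈ cXL) : ∃ r : Fin 12, c = cX r.val := by
  obtain ⟨k, hk, rfl⟩ := List.getElem_of_mem hc
  refine ⟨⟨k, hk⟩, ?_⟩
  unfold cX
  rw [List.getD_eq_getElem _ _ hk]

theorem phi_surjective : Function.Surjective phi := by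
  have hle : P ≤ (phi.range).map P.subtype := by
    unfold P
    rw [grp_le_iff]
    intro c hc
    obtain ⟨r, rfl⟩ := exists_of_mem_cXL hc
    exact ⟨phi ⟨xU r, xU_mem r⟩, ⟨_, rfl⟩, phi_xU r⟩
  intro p
  obtain ⟨q, ⟨g, rfl⟩, hq⟩ := hle p.2
  exact ⟨g, Subtype.ext hq⟩

/-- `G₂(3)` is isomorphic to the group of the twelve permutations -/
noncomputable def g23Equiv : ↥G14 ≃* ↥P :=
  MulEquiv.ofBijective phi ⟨phi_injective, phi_surjective⟩

theorem P_le_Gtop : P ≤ Gtop := by
  unfold P
  rw [grp_le_iff]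
  intro c hc
  obtain ⟨r, rfl⟩ := exists_of_mem_cXL hc
  exact ⟨Subgroup.inclusion G14_le_St ⟨xU r, xU_mem r⟩, phi_xU r⟩

end Cfsg.Agent.Lib.Helper10.G23
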