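import Cfsg.Agent.Lib.Helper10.OutGen

set_option autoImplicit false

/-!
If an element `x` of prime order `p` generates its own centraliser and `p ^ 2` does not divide the
order of the group, no element has order `p * r` with `r > 1`.
-/

namespace Cfsg.Agent.Lib.Helper10.OrdCent

open Cfsg.Agent.Lib.Helper10.OutG

variable {J : Type*} [Group J]

theorem orderOf_conj_eq (k g : J) : orderOf (k * g * k⁻¹) = orderOf g := by
  have h := orderOf_injective ((MulAut.conj k).toMonoidHom : J →* J) (MulAut.conj k).injective g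
  rw [← h]
  rfl

theorem orderOf_ne_mul [Finite J] (p : ℕ) [hp : Fact p.Prime] (hpp : ¬ p ^ 2 ∣ Nat.card J)
    (x : J) (hx : orderOf x = p)
    (hcent : ∀ c : J, c * x = x * c → c ∈ Subgroup.zpowers x) (r : ℕ) (hr : 1 < r) :
    ∀ g : J, orderOf g ≠ p * r := by
  intro g hg
  have hrpos : 0 < r := by omega
  -- the power of order `p`
  have hy : orderOf (g ^ r) = p := by
    rw [orderOf_pow' g (by omega), hg, Nat.gcd_mul_left_left, Nat.mul_div_cancel _ hrpos]
  obtain ⟨k, hk⟩ := exists_conj_mem_zpowers p hpp x (g ^ r) hx hy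
  -- the conjugate of `g`
  set g' : J := k * g * k⁻¹ with hg'
  have hg'ord : orderOf g' = p * r := by
    rw [hg', ← hg]
    exact orderOf_conj_eq k g
  have hpow : g' ^ r = k * g ^ r * k⁻¹ := conj_pow
  set z : J := k * g ^ r * k⁻¹ with hz
  have hzord : orderOf z = p := by
    rw [hz, ← hy]
    exact orderOf_conj_eq k (g ^ r)
  have hz1 : z ≠ 1 := by
    intro h
    rw [h, orderOf_one] at hzord
    exact hp.out.one_lt.ne hzord
  -- `x` is a power of `z`
  have hzx : Subgroup.zpowers z = Subgroup.zpowers x := by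
    apply Subgroup.eq_of_le_of_card_ge
    · rw [Subgroup.zpowers_le]
      exact hk
    · rw [Nat.card_zpowers, Nat.card_zpowers, hx, hzord]
  have hxz : x ∈ Subgroup.zpowers z := by
    rw [hzx]
    exact Subgroup.mem_zpowers x
  obtain ⟨m, hm⟩ := Subgroup.mem_zpowers_iff.mp hxz
  -- `g'` commutes with `z`, hence with `x`
  have hcz : g' * z = z * g' := by
    rw [← hpow, ← pow_succ', ← pow_succ]
  have hcx : g' * x = x * g' := by
    rw [← hm]
    exact (Commute.zpow_right (show Commute g' z from hcz) m).eq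
  have hmem := hcent g' hcx
  -- so the order of `g'` divides `p`
  have hdvd : orderOf g' ∣ p := by
    have := orderOf_dvd_natCard (⟨g', hmem⟩ : Subgroup.zpowers x)
    rw [Nat.card_zpowers, hx] at this
    have e : orderOf (⟨g', hmem⟩ : Subgroup.zpowers x) = orderOf g' :=
      Subgroup.orderOf_mk g' hmem
    rwa [e] at this
  rw [hg'ord] at hdvd
  have : p * r ≤ p := Nat.le_of_dvd hp.out.pos hdvd
  have : p * r > p * 1 := Nat.mul_lt_mul_of_pos_left hr hp.out.pos
  omega

end Cfsg.Agent.Lib.Helper10.OrdCent
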