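import Cfsg.Agent.Lib.Helper10.G23Iso
import Cfsg.Agent.Lib.Helper10.G23ChkA
import Cfsg.Agent.Lib.Helper10.G23ChkB
import Cfsg.Agent.Lib.Helper10.G23ChkC
import Cfsg.Agent.Lib.Helper10.OrdCent
import Cfsg.Agent.Lib.Helper10.SWPath

set_option autoImplicit false

/-!
The group `G₂(3)` has order `4245696`; it has an element of order 6; its elements of orders 7
and 13 generate their centralisers, so that it has no element of order `7 r` or `13 r` with
`r > 1`.
-/

namespace Cfsg.Agent.Lib.Helper10.G23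

open Cfsg.Lie Cfsg.Agent.Lib.Helper10.SW

attribute [local irreducible] perm

/-! ### the chains -/

theorem okA1 : levelOk 728 RB lvA1 [lvA2, lvA3, lvA4] = true := by
  unfold levelOk
  rw [Bool.and_eq_true]
  refine ⟨preA1, ?_⟩
  show ([cX0, cX1, cX2, cX3, cX4, cX5, cX6, cX7, cX8, cX9, cX10, cX11].all fun s => schAll 728 RB lvA1 [lvA2, lvA3, lvA4] s) = true
  rw [List.all_cons, List.all_cons, List.all_cons, List.all_cons, List.all_cons, List.all_cons, List.all_cons, List.all_cons, List.all_cons, List.all_cons, List.all_cons, List.all_cons, List.all_nil, schA_cX0, schA_cX1, schA_cX2, schA_cX3, schA_cX4, schA_cX5, schA_cX6, schA_cX7, schA_cX8, schA_cX9, schA_cX10, schA_cX11]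
  rfl

theorem chainA4 : chainOk 728 RB [lvA4] = true := chainOk_cons (chainOk_nil _ _) okA4

theorem chainA3 : chainOk 728 RB [lvA3, lvA4] = true := chainOk_cons chainA4 okA3

theorem chainA2 : chainOk 728 RB [lvA2, lvA3, lvA4] = true := chainOk_cons chainA3 okA2

theorem chainA1 : chainOk 728 RB [lvA1, lvA2, lvA3, lvA4] = true := chainOk_cons chainA2 okA1

theorem validA4 : ∀ c ∈ allGens [lvA4], Valid 728 c :=
  valid_cons_of_pre (levelPre_of_levelOk okA4) (fun _ hc => absurd hc List.not_mem_nil)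

theorem validA3 : ∀ c ∈ allGens [lvA3, lvA4], Valid 728 c :=
  valid_cons_of_pre (levelPre_of_levelOk okA3) validA4

theorem validA2 : ∀ c ∈ allGens [lvA2, lvA3, lvA4], Valid 728 c :=
  valid_cons_of_pre (levelPre_of_levelOk okA2) validA3

theorem validA1 : ∀ c ∈ allGens [lvA1, lvA2, lvA3, lvA4], Valid 728 c :=
  valid_cons_of_pre preA1 validA2

theorem okB1 : levelOk 728 RB lvB1 [lvB2, lvB3] = true := by
  unfold levelOk
  rw [Bool.and_eq_true]
  refine ⟨preB1, ?_⟩
  show ([cX0, cX1, cX2, cX3, cX4, cX5, cX6, cX7, cX8, cX9, cX10, cX11].all fun s => schAll 728 RB lvB1 [lvB2, lvB3] s) = true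
  rw [List.all_cons, List.all_cons, List.all_cons, List.all_cons, List.all_cons, List.all_cons, List.all_cons, List.all_cons, List.all_cons, List.all_cons, List.all_cons, List.all_cons, List.all_nil, schB_cX0, schB_cX1, schB_cX2, schB_cX3, schB_cX4, schB_cX5, schB_cX6, schB_cX7, schB_cX8, schB_cX9, schB_cX10, schB_cX11]
  rfl

theorem chainB3 : chainOk 728 RB [lvB3] = true := chainOk_cons (chainOk_nil _ _) okB3

theorem chainB2 : chainOk 728 RB [lvB2, lvB3] = true := chainOk_cons chainB3 okB2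

theorem chainB1 : chainOk 728 RB [lvB1, lvB2, lvB3] = true := chainOk_cons chainB2 okB1

theorem validB3 : ∀ c ∈ allGens [lvB3], Valid 728 c :=
  valid_cons_of_pre (levelPre_of_levelOk okB3) (fun _ hc => absurd hc List.not_mem_nil)

theorem validB2 : ∀ c ∈ allGens [lvB2, lvB3], Valid 728 c :=
  valid_cons_of_pre (levelPre_of_levelOk okB2) validB3

theorem validB1 : ∀ c ∈ allGens [lvB1, lvB2, lvB3], Valid 728 c :=
  valid_cons_of_pre preB1 validB2

theorem PA_eq : grp 728 (allGens [lvA1, lvA2, lvA3, lvA4]) = P := levelPre_grp preA1 validA1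

theorem PB_eq : grp 728 (allGens [lvB1, lvB2, lvB3]) = P := levelPre_grp preB1 validB1

theorem htopA : ∀ c ∈ allGens [lvA1, lvA2, lvA3, lvA4], perm 728 c ∈ Gtop := by
  intro c hc
  apply P_le_Gtop
  rw [← PA_eq]
  exact perm_mem_grp hc

theorem htopB : ∀ c ∈ allGens [lvB1, lvB2, lvB3], perm 728 c ∈ Gtop := by
  intro c hc
  apply P_le_Gtop
  rw [← PB_eq]
  exact perm_mem_grp hc

theorem invA : ChainInv 728 RB Gtop [lvA1, lvA2, lvA3, lvA4] :=
  chain_sound 728 RB _ rigid _ htopA chainA1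

theorem card_P : Nat.card ↥P = 4245696 := by
  rw [← PA_eq, invA.card]
  decide +kernel

/-! ### the three elements -/

theorem valid_of_eqProd {n c : ℕ} {L : List ℕ} (hL : ∀ d ∈ L, Valid n d)
    (h : eqProd n c L = true) : Valid n c := by
  unfold Valid
  have : fn n c = fun i => prodL n L i := by
    funext i
    apply Fin.ext
    rw [fn_val, prodL_apply_val L hL]
    exact Nat.eq_of_beq_eq_true ((allLt_iff _ _).mp h i.val i.isLt)
  rw [this]
  exact (prodL n L).bijective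

theorem valid_of_mem_cXL : ∀ c ∈ cXL, Valid 728 c := by
  intro c hc
  obtain ⟨r, rfl⟩ := exists_of_mem_cXL hc
  exact valid_cX r.isLt

theorem sub_cXL {L : List ℕ} (h : ∀ c ∈ L, c ∈ cXL) : (∀ d ∈ L, Valid 728 d) ∧ prodL 728 L ∈ P :=
  ⟨fun d hd => valid_of_mem_cXL d (h d hd), prodL_mem fun c hc => perm_mem_grp (h c hc)⟩

/-- facts on a product of root elements -/
theorem elt_facts {c : ℕ} {L : List ℕ} (hL : ∀ c ∈ L, c ∈ cXL) (h : eqProd 728 c L = true) :
    Valid 728 c ∧ perm 728 c ∈ P := by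
  have hv := valid_of_eqProd (sub_cXL hL).1 h
  refine ⟨hv, ?_⟩
  rw [perm_eq_prodL hv (sub_cXL hL).1 h]
  exact (sub_cXL hL).2

theorem factsE7 : Valid 728 cE7 ∧ perm 728 cE7 ∈ P :=
  elt_facts (L := [cX6, cX2, cX1, cX10]) (by decide) (wordsOk (cE7, _) (by simp))

theorem factsE13 : Valid 728 cE13 ∧ perm 728 cE13 ∈ P :=
  elt_facts (L := [cX7, cX2, cX8]) (by decide) (wordsOk (cE13, _) (by simp))

theorem factsE6 : Valid 728 cE6 ∧ perm 728 cE6 ∈ P :=
  elt_facts (L := [cX3, cX8, cX3]) (by decide) (wordsOk (cE6, _) (by simp))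

theorem pow_eq_one {c k : ℕ} (hv : Valid 728 c) (h : powOne 728 c k = true) :
    perm 728 c ^ k = 1 := by
  rw [← prodL_replicate]
  apply Equiv.ext
  intro i
  apply Fin.ext
  rw [prodL_apply_val _ (fun d hd => by rw [List.eq_of_mem_replicate hd]; exact hv)]
  exact Nat.eq_of_beq_eq_true ((allLt_iff _ _).mp h i.val i.isLt)

theorem order7 : orderOf (perm 728 cE7) = 7 := by
  have : Fact (Nat.Prime 7) := ⟨by norm_num⟩
  apply orderOf_eq_prime (pow_eq_one factsE7.1 pow7)
  intro h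
  have := congrArg (fun g : Equiv.Perm (Fin 728) => (g ⟨0, by norm_num⟩).val) h
  simp only [perm_apply_val factsE7.1, Equiv.Perm.coe_one, id_eq] at this
  exact ne7 this

theorem order13 : orderOf (perm 728 cE13) = 13 := by
  have : Fact (Nat.Prime 13) := ⟨by norm_num⟩
  apply orderOf_eq_prime (pow_eq_one factsE13.1 pow13)
  intro h
  have := congrArg (fun g : Equiv.Perm (Fin 728) => (g ⟨0, by norm_num⟩).val) h
  simp only [perm_apply_val factsE13.1, Equiv.Perm.coe_one, id_eq] at this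
  exact ne13 this

theorem pow_ne_one {c k x : ℕ} (hv : Valid 728 c) (hx : x < 728)
    (h : evalL 728 (List.replicate k c) x ≠ x) : perm 728 c ^ k ≠ 1 := by
  intro h1
  rw [← prodL_replicate] at h1
  have := congrArg (fun g : Equiv.Perm (Fin 728) => (g ⟨x, hx⟩).val) h1
  simp only [Equiv.Perm.coe_one, id_eq] at this
  rw [prodL_apply_val _ (fun d hd => by rw [List.eq_of_mem_replicate hd]; exact hv)] at this
  exact h this

theorem order6 : orderOf (perm 728 cE6) = 6 := by
  apply orderOf_eq_of_pow_and_pow_div_prime (by norm_num) (pow_eq_one factsE6.1 pow6)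
  intro p hp hdvd
  have hp6 : p ∣ 2 * 3 := hdvd
  rcases (Nat.Prime.dvd_mul hp).mp hp6 with h | h
  · have : p = 2 := (Nat.prime_dvd_prime_iff_eq hp (by norm_num)).mp h
    subst this
    exact pow_ne_one factsE6.1 (by norm_num) ne6_3
  · have : p = 3 := (Nat.prime_dvd_prime_iff_eq hp (by norm_num)).mp h
    subst this
    exact pow_ne_one factsE6.1 (by norm_num) ne6_2

/-! ### the centralisers -/

theorem cycA : ∀ p ∈ cyc7, ∃ j : ℕ, evalL 728 (List.replicate j cE7) lvA1.b = p := by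
  intro p hp
  rw [cyc7_eq, List.mem_map] at hp
  obtain ⟨j, -, hj⟩ := hp
  exact ⟨j, hj⟩

theorem cycB : ∀ p ∈ cyc13, ∃ j : ℕ, evalL 728 (List.replicate j cE13) lvB1.b = p := by
  intro p hp
  rw [cyc13_eq, List.mem_map] at hp
  obtain ⟨j, -, hj⟩ := hp
  exact ⟨j, hj⟩

theorem cent7 (c : Equiv.Perm (Fin 728)) (hc : c ∈ P)
    (hcomm : c * perm 728 cE7 = perm 728 cE7 * c) : c ∈ Subgroup.zpowers (perm 728 cE7) :=
  cent_mem_zpowers rigid factsE7.1 htopA chainA1 basesA (by rw [PA_eq]; exact factsE7.2) cycA centA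
    c (by rw [PA_eq]; exact hc) hcomm

theorem cent13 (c : Equiv.Perm (Fin 728)) (hc : c ∈ P)
    (hcomm : c * perm 728 cE13 = perm 728 cE13 * c) : c ∈ Subgroup.zpowers (perm 728 cE13) :=
  cent_mem_zpowers rigid factsE13.1 htopB chainB1 basesB (by rw [PB_eq]; exact factsE13.2) cycB
    centB c (by rw [PB_eq]; exact hc) hcomm

/-- no element of order `p r` in a subgroup with a self-centralising element of prime order `p` -/
theorem no_order_mul {H : Subgroup (Equiv.Perm (Fin 728))} [Finite ↥H] (p : ℕ) [Fact p.Prime]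
    (hpp : ¬ p ^ 2 ∣ Nat.card ↥H) (x : Equiv.Perm (Fin 728)) (hx : x ∈ H) (ho : orderOf x = p)
    (hcent : ∀ c ∈ H, c * x = x * c → c ∈ Subgroup.zpowers x) (r : ℕ) (hr : 1 < r) :
    ∀ g : ↥H, orderOf g ≠ p * r := by
  apply OrdCent.orderOf_ne_mul p hpp (⟨x, hx⟩ : ↥H) (by rw [← ho]; exact Subgroup.orderOf_mk x hx)
    _ r hr
  intro c hc
  have h1 : c.val * x = x * c.val := congrArg Subtype.val hc
  obtain ⟨k, hk⟩ := Subgroup.mem_zpowers_iff.mp (hcent c.val c.2 h1)
  refine Subgroup.mem_zpowers_iff.mpr ⟨k, Subtype.ext ?_⟩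
  rw [Subgroup.coe_zpow]
  exact hk

theorem no7P (r : ℕ) (hr : 1 < r) : ∀ g : ↥P, orderOf g ≠ 7 * r := by
  have : Fact (Nat.Prime 7) := ⟨by norm_num⟩
  exact no_order_mul 7 (by rw [card_P]; norm_num) (perm 728 cE7) factsE7.2 order7 cent7 r hr

theorem no13P (r : ℕ) (hr : 1 < r) : ∀ g : ↥P, orderOf g ≠ 13 * r := by
  have : Fact (Nat.Prime 13) := ⟨by norm_num⟩
  exact no_order_mul 13 (by rw [card_P]; norm_num) (perm 728 cE13) factsE13.2 order13 cent13 r hr

/-! ### the group of matrices -/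

theorem card_G14 : Nat.card ↥G14 = 4245696 := by
  rw [Nat.card_congr g23Equiv.toEquiv, card_P]

theorem orderOf_ne_of_equiv {G H : Type*} [Group G] [Group H] (A : Subgroup G) (B : Subgroup H)
    (e : ↥A ≃* ↥B) (n : ℕ) (h : ∀ b : ↥B, orderOf b ≠ n) : ∀ a : ↥A, orderOf a ≠ n := by
  intro a
  rw [← MulEquiv.orderOf_eq e a]
  exact h _

theorem exists_orderOf_of_equiv {G H : Type*} [Group G] [Group H] (A : Subgroup G)
    (B : Subgroup H) (e : ↥A ≃* ↥B) (n : ℕ) (h : ∃ b : ↥B, orderOf b = n) :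
    ∃ a : ↥A, orderOf a = n := by
  obtain ⟨b, hb⟩ := h
  exact ⟨e.symm b, by rw [MulEquiv.orderOf_eq]; exact hb⟩

theorem no7 (r : ℕ) (hr : 1 < r) : ∀ g : ↥G14, orderOf g ≠ 7 * r :=
  orderOf_ne_of_equiv G14 P g23Equiv (7 * r) (no7P r hr)

theorem no13 (r : ℕ) (hr : 1 < r) : ∀ g : ↥G14, orderOf g ≠ 13 * r :=
  orderOf_ne_of_equiv G14 P g23Equiv (13 * r) (no13P r hr)

theorem exists_order6P : ∃ g : ↥P, orderOf g = 6 := by
  refine ⟨⟨perm 728 cE6, factsE6.2⟩, ?_⟩
  rw [Subgroup.orderOf_mk]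
  exact order6

theorem exists_order6 : ∃ g : ↥G14, orderOf g = 6 :=
  exists_orderOf_of_equiv G14 P g23Equiv 6 exists_order6P

end Cfsg.Agent.Lib.Helper10.G23
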