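import Mathlib
import Cfsg.Prelude.Def_ChevG2

set_option autoImplicit false

/-!
Vectors and matrices over `ZMod 3` indexed by `Fin 2 ⊕ Fin 12`, given by lists of residues, with a
product of a matrix (list of rows) and a vector that the kernel evaluates quickly.
-/

namespace Cfsg.Agent.Lib.Helper10.G23

open Cfsg.Lie

/-- the index type of the adjoint module of type `G₂` -/
abbrev I14 : Type := Fin 2 ⊕ Fin 12

/-- matrices over the field with three elements -/
abbrev M14 : Type := Matrix I14 I14 (ZMod 3)

/-- the position of an index -/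
def pos : I14 → ℕ
  | Sum.inl i => i.val
  | Sum.inr r => 2 + r.val

theorem pos_lt (i : I14) : pos i < 14 := by
  rcases i with i | r
  · have := i.isLt
    show i.val < 14
    omega
  · have := r.isLt
    show 2 + r.val < 14
    omega

theorem pos_injective : Function.Injective pos := by
  intro a b h
  rcases a with a | a <;> rcases b with b | b
  · exact congrArg Sum.inl (Fin.ext h)
  · exfalso
    have := a.isLt
    have e : a.val = 2 + b.val := h
    omega
  · exfalso
    have := b.isLt
    have e : 2 + a.val = b.val := h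
    omega
  · have e : 2 + a.val = 2 + b.val := h
    exact congrArg Sum.inr (Fin.ext (by omega))

theorem exists_pos {k : ℕ} (hk : k < 14) : ∃ i : I14, pos i = k := by
  by_cases h : k < 2
  · exact ⟨Sum.inl ⟨k, h⟩, rfl⟩
  · refine ⟨Sum.inr ⟨k - 2, by omega⟩, ?_⟩
    show 2 + (k - 2) = k
    omega

theorem sum_pos (F : ℕ → ZMod 3) : ∑ j : I14, F (pos j) = ∑ k ∈ Finset.range 14, F k := by
  rw [Fintype.sum_sum_type]
  have h1 : ∑ i : Fin 2, F (pos (Sum.inl i)) = ∑ k ∈ Finset.range 2, F k :=
    Fin.sum_univ_eq_sum_range F 2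
  have h2 : ∑ r : Fin 12, F (pos (Sum.inr r)) = ∑ k ∈ Finset.range 12, F (2 + k) :=
    Fin.sum_univ_eq_sum_range (fun k => F (2 + k)) 12
  rw [h1, h2]
  exact (Finset.sum_range_add F 2 12).symm

/-- the vector of a list of residues -/
def decV (l : List ℕ) : I14 → ZMod 3 := fun i => ((l.getD (pos i) 0 : ℕ) : ZMod 3)

/-- the matrix with given rows -/
def decM (R : List (List ℕ)) : M14 :=
  fun i j => (((R.getD (pos i) []).getD (pos j) 0 : ℕ) : ZMod 3)

/-- the scalar product of two lists -/
def dotL : List ℕ → List ℕ → ℕ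
  | [], _ => 0
  | _ :: _, [] => 0
  | a :: l, b :: m => a * b + dotL l m

/-- the product of a matrix given by rows and a vector -/
def mulVL (R : List (List ℕ)) (v : List ℕ) : List ℕ := R.map fun row => (dotL row v) % 3

theorem decV_apply (l : List ℕ) (i : I14) : decV l i = ((l.getD (pos i) 0 : ℕ) : ZMod 3) := rfl

theorem decM_apply (R : List (List ℕ)) (i j : I14) :
    decM R i j = (((R.getD (pos i) []).getD (pos j) 0 : ℕ) : ZMod 3) := rfl

theorem dotL_cast : ∀ (l m : List ℕ) (N : ℕ), l.length ≤ N →
    ((dotL l m : ℕ) : ZMod 3) =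
      ∑ k ∈ Finset.range N, ((l.getD k 0 : ℕ) : ZMod 3) * ((m.getD k 0 : ℕ) : ZMod 3) := by
  intro l
  induction l with
  | nil =>
    intro m N _
    simp [dotL]
  | cons a l ih =>
    intro m N hN
    cases m with
    | nil => simp [dotL]
    | cons b m =>
      obtain ⟨N', rfl⟩ : ∃ N', N = N' + 1 := ⟨N - 1, by simp at hN; omega⟩
      have hN' : l.length ≤ N' := by simp at hN; omega
      rw [Finset.sum_range_succ']
      simp only [List.getD_cons_succ, List.getD_cons_zero]
      show ((a * b + dotL l m : ℕ) : ZMod 3) = _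
      rw [Nat.cast_add, Nat.cast_mul, ih m N' hN', add_comm]

theorem getD_mulVL (R : List (List ℕ)) (v : List ℕ) (k : ℕ) :
    (mulVL R v).getD k 0 = (dotL (R.getD k []) v) % 3 := by
  unfold mulVL
  by_cases hk : k < R.length
  · rw [List.getD_eq_getElem _ _ (by rw [List.length_map]; exact hk), List.getElem_map,
      List.getD_eq_getElem _ _ hk]
  · rw [List.getD_eq_default _ _ (by rw [List.length_map]; omega),
      List.getD_eq_default _ _ (by omega)]
    rfl

/-- the product of the matrix with given rows and the vector of a list -/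
theorem decM_mulVec (R : List (List ℕ)) (hR : ∀ row ∈ R, row.length ≤ 14) (v : List ℕ) :
    (decM R).mulVec (decV v) = decV (mulVL R v) := by
  funext i
  rw [decV_apply, getD_mulVL, ZMod.natCast_mod, Matrix.mulVec, dotProduct]
  have hlen : (R.getD (pos i) []).length ≤ 14 := by
    by_cases hk : pos i < R.length
    · rw [List.getD_eq_getElem _ _ hk]
      exact hR _ (List.getElem_mem hk)
    · rw [List.getD_eq_default _ _ (by omega)]
      simp
  rw [dotL_cast _ _ 14 hlen,
    ← sum_pos (fun k => (((R.getD (pos i) []).getD k 0 : ℕ) : ZMod 3) * ((v.getD k 0 : ℕ) : ZMod 3))]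
  rfl

/-! ### injectivity -/

/-- a list of fourteen residues -/
def validL (l : List ℕ) : Bool := Nat.beq l.length 14 && l.all fun a => Nat.blt a 3

theorem validL_iff (l : List ℕ) : validL l = true ↔ l.length = 14 ∧ ∀ a ∈ l, a < 3 := by
  unfold validL
  rw [Bool.and_eq_true, List.all_eq_true]
  constructor
  · rintro ⟨h1, h2⟩
    exact ⟨Nat.eq_of_beq_eq_true h1, fun a ha => by have := h2 a ha; rwa [Nat.blt_eq] at this⟩
  · rintro ⟨h1, h2⟩
    refine ⟨by rw [h1]; rfl, fun a ha => ?_⟩
    rw [Nat.blt_eq]
    exact h2 a ha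

theorem decV_injective {a b : List ℕ} (ha : validL a = true) (hb : validL b = true)
    (h : decV a = decV b) : a = b := by
  rw [validL_iff] at ha hb
  apply List.ext_getElem (by rw [ha.1, hb.1])
  intro k hk1 hk2
  have hk : k < 14 := by rw [ha.1] at hk1; exact hk1
  obtain ⟨i, rfl⟩ := exists_pos hk
  have e := congrFun h i
  rw [decV_apply, decV_apply, List.getD_eq_getElem _ _ hk1, List.getD_eq_getElem _ _ hk2] at e
  have h1 : a[pos i] < 3 := ha.2 _ (List.getElem_mem hk1)
  have h2 : b[pos i] < 3 := hb.2 _ (List.getElem_mem hk2)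
  have := (ZMod.natCast_eq_natCast_iff' _ _ 3).mp e
  rw [Nat.mod_eq_of_lt h1, Nat.mod_eq_of_lt h2] at this
  exact this

/-! ### linear combinations -/

/-- `c u + v` -/
def axpy (c : ℕ) (u v : List ℕ) : List ℕ := List.zipWith (fun a b => (c * a + b) % 3) u v

/-- a linear combination of vectors of a family -/
def comb (P : ℕ → List ℕ) : List (ℕ × ℕ) → List ℕ
  | [] => List.replicate 14 0
  | e :: rest => axpy e.1 (P e.2) (comb P rest)

theorem length_axpy (c : ℕ) (u v : List ℕ) (hu : u.length = 14) (hv : v.length = 14) :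
    (axpy c u v).length = 14 := by
  unfold axpy
  rw [List.length_zipWith, hu, hv]
  rfl

theorem decV_axpy (c : ℕ) (u v : List ℕ) (hu : u.length = 14) (hv : v.length = 14) :
    decV (axpy c u v) = (c : ZMod 3) • decV u + decV v := by
  funext i
  have hk := pos_lt i
  rw [Pi.add_apply, Pi.smul_apply, decV_apply, decV_apply, decV_apply, smul_eq_mul]
  have h1 : pos i < (axpy c u v).length := by rw [length_axpy c u v hu hv]; exact hk
  have hu' : pos i < u.length := by rw [hu]; exact hk
  have hv' : pos i < v.length := by rw [hv]; exact hk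
  have key : (axpy c u v)[pos i]'h1 = (c * u[pos i] + v[pos i]) % 3 := by
    simp only [axpy, List.getElem_zipWith]
  rw [List.getD_eq_getElem _ _ h1, List.getD_eq_getElem _ _ hu',
    List.getD_eq_getElem _ _ hv', key, ZMod.natCast_mod, Nat.cast_add, Nat.cast_mul]

theorem length_comb (P : ℕ → List ℕ) (prog : List (ℕ × ℕ))
    (hP : ∀ e ∈ prog, (P e.2).length = 14) : (comb P prog).length = 14 := by
  induction prog with
  | nil => simp [comb]
  | cons e rest ih =>
    show (axpy e.1 (P e.2) (comb P rest)).length = 14
    exact length_axpy _ _ _ (hP e (List.mem_cons_self ..))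
      (ih fun e' he' => hP e' (List.mem_cons_of_mem _ he'))

theorem decV_replicate_zero : decV (List.replicate 14 0) = 0 := by
  funext i
  rw [decV_apply, List.getD_eq_getElem _ _ (by rw [List.length_replicate]; exact pos_lt i),
    List.getElem_replicate]
  rfl

/-- a matrix fixing the vectors of a family fixes their linear combinations -/
theorem mulVec_comb (A : M14) (P : ℕ → List ℕ) (prog : List (ℕ × ℕ))
    (hP : ∀ e ∈ prog, (P e.2).length = 14)
    (hA : ∀ e ∈ prog, A.mulVec (decV (P e.2)) = decV (P e.2)) :
    A.mulVec (decV (comb P prog)) = decV (comb P prog) := by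
  induction prog with
  | nil =>
    show A.mulVec (decV (List.replicate 14 0)) = decV (List.replicate 14 0)
    rw [decV_replicate_zero, Matrix.mulVec_zero]
  | cons e rest ih =>
    have hP' : ∀ e' ∈ rest, (P e'.2).length = 14 := fun e' he' => hP e' (List.mem_cons_of_mem _ he')
    have hA' : ∀ e' ∈ rest, A.mulVec (decV (P e'.2)) = decV (P e'.2) :=
      fun e' he' => hA e' (List.mem_cons_of_mem _ he')
    show A.mulVec (decV (axpy e.1 (P e.2) (comb P rest))) = decV (axpy e.1 (P e.2) (comb P rest))
    rw [decV_axpy _ _ _ (hP e (List.mem_cons_self ..)) (length_comb P rest hP'),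
      Matrix.mulVec_add, Matrix.mulVec_smul, hA e (List.mem_cons_self ..), ih hP' hA']

/-- the unit list -/
def unitL (j : ℕ) : List ℕ := (List.range 14).map fun k => if Nat.beq k j then 1 else 0

theorem decV_unitL (j : I14) : decV (unitL (pos j)) = Pi.single j 1 := by
  funext i
  have hk := pos_lt i
  rw [decV_apply]
  unfold unitL
  rw [List.getD_eq_getElem _ _ (by rw [List.length_map, List.length_range]; exact hk),
    List.getElem_map, List.getElem_range, Pi.single_apply]
  by_cases h : i = j
  · rw [h, if_pos rfl, if_pos (Nat.beq_refl _)]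
    rfl
  · have : pos i ≠ pos j := fun e => h (pos_injective e)
    have hb : Nat.beq (pos i) (pos j) = false := by
      cases hbe : Nat.beq (pos i) (pos j)
      · rfl
      · exact absurd (Nat.eq_of_beq_eq_true hbe) this
    rw [if_neg h, hb]
    rfl

/-- a matrix fixing all unit vectors is the identity -/
theorem eq_one_of_units (A : M14) (h : ∀ j : I14, A.mulVec (Pi.single j 1) = Pi.single j 1) :
    A = 1 := by
  ext i j
  have := congrFun (h j) i
  rw [Matrix.mulVec_single_one] at this
  rw [Matrix.one_apply]
  rw [Pi.single_apply] at this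
  exact this

/-- the root elements of type `G₂` over the field with three elements -/
def X14 (r : Fin 12) (t : ZMod 3) : M14 := chevG2.xMat (ZMod 3) r t

end Cfsg.Agent.Lib.Helper10.G23
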