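import Mathlib
import Cfsg.Agent.Lib.Helper27.GGDefs

/-!
# S2318 leaf B1 `sph_H` (helper10): a spherical function is multiplicative against `H = B ⊓ N`, of modulus one there.
-/

set_option autoImplicit false

namespace Cfsg.Agent.Lib.Helper10.GG

open Cfsg Cfsg.Agent.Lib.Helper3.BN Cfsg.Agent.Lib.Helper3.WordLen Cfsg.Agent.Lib.Helper6.BNSt
open Cfsg.Agent.Lib.Helper27.GG
open scoped ComplexConjugate

/-- the average of a constant family -/
theorem avg_const {G : Type*} [Group G] [Finite G] (U : Subgroup G) (f : U → ℂ) (a : ℂ)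
    (h : ∀ u, f u = a) : (Nat.card U : ℂ)⁻¹ * ∑ᶠ u : U, f u = a := by
  classical
  haveI := Fintype.ofFinite U
  have hf : f = fun _ => a := funext h
  rw [hf, finsum_eq_sum_of_fintype, Finset.sum_const, Finset.card_univ, ← Nat.card_eq_fintype_card,
    nsmul_eq_mul, ← mul_assoc, inv_mul_cancel₀, one_mul]
  have : Nat.card U ≠ 0 := Nat.card_pos.ne'
  exact_mod_cast this

section B
variable {G : Type*} [Group G] [Finite G] {P : Cfsg.BNPair G} {U : Subgroup G} {q : ℕ}

theorem sph_H (R : SplitBN P U q) {c : G → ℂ} (hc : IsSph U c) :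
    ∀ h ∈ P.B ⊓ P.N, (∀ g, c (h * g) = c h * c g) ∧ (∀ g, c (g * h) = c g * c h) ∧ ‖c h‖ = 1 := by
  intro h hh
  have hB : h ∈ P.B := hh.1
  have h1 : ∀ g, c (h * g) = c h * c g := by
    intro g
    rw [← hc.conv h g]
    symm
    apply avg_const
    intro u
    have hu : h * (u : G) * h⁻¹ ∈ U := R.hUn h hB u u.2
    have : h * (u : G) * g = (h * (u : G) * h⁻¹) * (h * g) := by group
    rw [this, hc.left _ hu]
  have h2 : ∀ g, c (g * h) = c g * c h := by
    intro g
    rw [← hc.conv g h]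
    symm
    apply avg_const
    intro u
    have hu : h⁻¹ * (u : G) * h⁻¹⁻¹ ∈ U := R.hUn h⁻¹ (P.B.inv_mem hB) u u.2
    have : g * (u : G) * h = (g * h) * (h⁻¹ * (u : G) * h⁻¹⁻¹) := by group
    rw [this, hc.right _ hu]
  refine ⟨h1, h2, ?_⟩
  have hpow : ∀ k : ℕ, c (h ^ k) = c h ^ k := by
    intro k
    induction k with
    | zero => rw [pow_zero, pow_zero, hc.one]
    | succ k ih => rw [pow_succ', h1, ih, pow_succ']
  have hk : 0 < orderOf h := orderOf_pos h
  have h3 : c h ^ orderOf h = 1 := by rw [← hpow, pow_orderOf_eq_one, hc.one]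
  have h4 : ‖c h‖ ^ orderOf h = 1 := by rw [← norm_pow, h3, norm_one]
  exact (pow_eq_one_iff_of_nonneg (norm_nonneg _) hk.ne').1 h4

end B

end Cfsg.Agent.Lib.Helper10.GG
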