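import Mathlib
import Cfsg.Agent.Lib.Helper27.GGDefs

/-!
# S2318 leaf B8 `sph_sum_parabolic` (helper10): the sum of a spherical function over a standard parabolic subgroup.
-/

set_option autoImplicit false

namespace Cfsg.Agent.Lib.Helper10.GG

open Cfsg Cfsg.Agent.Lib.Helper3.BN Cfsg.Agent.Lib.Helper3.WordLen Cfsg.Agent.Lib.Helper6.BNSt
open Cfsg.Agent.Lib.Helper27.GG
open scoped ComplexConjugate

section B
variable {G : Type*} [Group G] [Finite G] {P : Cfsg.BNPair G} {U : Subgroup G} {q : ℕ}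

/-- for a subgroup `Q ≥ U` and `y ∈ Q`: `(Σ_{x ∈ Q} c x) c(y) = Σ_{x ∈ Q} c x` -/
theorem sum_mul_eq {c : G → ℂ} (hc : IsSph U c) (Q : Subgroup G) (hUQ : U ≤ Q) (y : G) (hy : y ∈ Q) :
    (∑ᶠ x : Q, c (x : G)) * c y = ∑ᶠ x : Q, c (x : G) := by
  classical
  haveI := Fintype.ofFinite Q
  haveI := Fintype.ofFinite U
  rw [finsum_eq_sum_of_fintype, Finset.sum_mul]
  have hcard : (Nat.card U : ℂ) ≠ 0 := by
    have : Nat.card U ≠ 0 := Nat.card_pos.ne'
    exact_mod_cast this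
  have h1 : ∀ x : Q, c (x : G) * c y = (Nat.card U : ℂ)⁻¹ * ∑ u : U, c ((x : G) * (u : G) * y) := by
    intro x
    rw [← hc.conv (x : G) y, finsum_eq_sum_of_fintype]
  simp_rw [h1]
  rw [← Finset.mul_sum, Finset.sum_comm]
  have h2 : ∀ u : U, ∑ x : Q, c ((x : G) * (u : G) * y) = ∑ x : Q, c (x : G) := by
    intro u
    have huy : (u : G) * y ∈ Q := Q.mul_mem (hUQ u.2) hy
    refine Fintype.sum_equiv (Equiv.mulRight (⟨(u : G) * y, huy⟩ : Q)) _ _ ?_
    intro x
    simp [mul_assoc]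
  simp_rw [h2]
  rw [Finset.sum_const, Finset.card_univ, ← Nat.card_eq_fintype_card, nsmul_eq_mul, ← mul_assoc,
    inv_mul_cancel₀ hcard, one_mul]

theorem sph_sum_parabolic (R : SplitBN P U q) {c : G → ℂ} (hc : IsSph U c)
    (hs : ∀ i, c (R.sOf i) = -(q : ℂ)⁻¹) (hH : ∀ h ∈ P.B ⊓ P.N, c h = 1) (J : Set G) (hJ : J ⊆ P.S) :
    ∑ᶠ x : P.parabolic J, c (x : G) = if J = ∅ then (Nat.card P.B : ℂ) else 0 := by
  classical
  by_cases hJe : J = ∅
  · rw [if_pos hJe]
    have hQ : P.parabolic J = P.B := by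
      unfold Cfsg.BNPair.parabolic
      rw [hJe, Subgroup.closure_empty, sup_bot_eq]
    rw [hQ]
    haveI := Fintype.ofFinite P.B
    have h1 : ∀ x : P.B, c (x : G) = 1 := by
      intro x
      obtain ⟨u, hu, h, hh, hx⟩ := R.hBUH (x : G) x.2
      rw [hx, hc.left u hu, hH h hh]
    rw [finsum_eq_sum_of_fintype]
    simp_rw [h1]
    rw [Finset.sum_const, Finset.card_univ, ← Nat.card_eq_fintype_card, nsmul_eq_mul, mul_one]
  · rw [if_neg hJe]
    obtain ⟨s, hsJ⟩ := Set.nonempty_iff_ne_empty.2 hJe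
    have hsS : s ∈ P.S := hJ hsJ
    rw [R.hS] at hsS
    obtain ⟨i, rfl⟩ := hsS
    have hyQ : R.sOf i ∈ P.parabolic J := by
      unfold Cfsg.BNPair.parabolic
      exact Subgroup.mem_sup_right (Subgroup.subset_closure hsJ)
    have hUQ : U ≤ P.parabolic J := by
      unfold Cfsg.BNPair.parabolic
      exact R.hUB.trans le_sup_left
    have key := sum_mul_eq hc (P.parabolic J) hUQ (R.sOf i) hyQ
    have hne : c (R.sOf i) - 1 ≠ 0 := by
      rw [hs i]
      intro h0
      have hq : (2 : ℝ) ≤ (q : ℝ) := by exact_mod_cast R.hq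
      have h1 : (q : ℂ)⁻¹ = -1 := by linear_combination -h0
      have hq0 : (q : ℂ) ≠ 0 := by
        have : q ≠ 0 := by have := R.hq; omega
        exact_mod_cast this
      have h2 : (q : ℂ) = -1 := by
        have := congrArg (fun z => z⁻¹) h1
        simpa [inv_neg] using this
      have h3 : ((q : ℝ) : ℂ) = ((-1 : ℝ) : ℂ) := by push_cast; exact h2
      have h4 : (q : ℝ) = -1 := Complex.ofReal_injective h3
      linarith
    have h0 : (∑ᶠ x : P.parabolic J, c (x : G)) * (c (R.sOf i) - 1) = 0 := by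
      rw [mul_sub, mul_one, key, sub_self]
    rcases mul_eq_zero.1 h0 with h | h
    · exact h
    · exact absurd h hne

end B

end Cfsg.Agent.Lib.Helper10.GG
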