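import Mathlib
import Cfsg.Prelude.Def_ClassicalGeometry
import Cfsg.Prelude.Def_GeometricClasses
import Cfsg.Agent.Lib.Helper5.SpMax
import Cfsg.Agent.Lib.Helper22.C3Defs
import Cfsg.Agent.Lib.Helper22.C3Tool
import Cfsg.Agent.Lib.Helper23.C3E

/-!
S5804 conjunct (6), `GU_3(q).2 < Sp_6(q)`, `q` odd (helper22's GU3 market, notes/S5804_GU3_leaves.lean): the E1 block.
A `J`-invariant, `f`-nondegenerate, proper subspace `W` has a non-singular vector in its perp, and the four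
shapes in which the S5665 tower uses it (`W = 0`, `⟨x, Jx⟩`, `⟨x, Jx, u, Ju⟩`, `⟨x₀, y₀, Jx₀, Jy₀⟩`).
-/

set_option autoImplicit false

namespace Cfsg.Agent.Lib.Helper10.GU3Leaf
open Cfsg Matrix Cfsg.Agent.Lib.Helper5 Cfsg.Agent.Lib.Helper5.SpMax Cfsg.Agent.Lib.Helper22.C3
  Cfsg.Agent.Lib.Helper22.C3Leaf Cfsg.Agent.Lib.Helper23.C3Leaf

variable {F : Type*} [Field F] {m : ℕ}

local notation "𝕍" => (Fin m ⊕ Fin m → F)
local notation "𝕄" => Matrix (Fin m ⊕ Fin m) (Fin m ⊕ Fin m) F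

lemma Bform_isRefl10 : LinearMap.BilinForm.IsRefl (Bform m F) := by
  intro x y h
  rw [Bform_apply] at h ⊢
  rw [sympForm_swap, h, neg_zero]

/-- E1 (general): a J-invariant, f-nondegenerate, proper subspace has a non-singular vector in its perp -/
theorem exists_nonsing_perp_nd (S : CS m F) (h2 : (2 : F) ≠ 0) (W : Submodule F 𝕍)
    (hJ : ∀ w ∈ W, S.J *ᵥ w ∈ W)
    (hnd : ∀ w ∈ W, (∀ w' ∈ W, sympForm m F w w' = 0) → w = 0)
    (hW : W ≠ ⊤) : ∃ v : 𝕍, S.N v ≠ 0 ∧ ∀ w ∈ W, sympForm m F v w = 0 := by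
  set B : LinearMap.BilinForm F 𝕍 := Bform m F with hB
  set X := LinearMap.BilinForm.orthogonal B W with hX
  have hXfr : Module.finrank F X = 2 * m - Module.finrank F W := by
    rw [hX, LinearMap.BilinForm.finrank_orthogonal Bform_nondegenerate, finrank_V]
  by_contra hcon
  push Not at hcon
  -- `N` vanishes on `X`
  have hN : ∀ v ∈ X, S.N v = 0 := by
    intro v hv
    by_contra hv0
    obtain ⟨w, hw, hvw⟩ := hcon v hv0
    apply hvw
    have := hv w hw
    rw [sympForm_swap]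
    change sympForm m F w v = 0 at this
    rw [this, neg_zero]
  -- polarise
  have hpol : ∀ u ∈ X, ∀ u' ∈ X, sympForm m F u (S.J *ᵥ u') = 0 := by
    intro u hu u' hu'
    have h := N_add S u u'
    rw [hN u hu, hN u' hu', hN (u + u') (X.add_mem hu hu'), zero_add, zero_add] at h
    exact (mul_eq_zero.mp h.symm).resolve_left h2
  -- `X` is `J`-invariant
  have hJX : ∀ u ∈ X, S.J *ᵥ u ∈ X := by
    intro u hu w hw
    change sympForm m F w (S.J *ᵥ u) = 0
    have h1 := S.skew w u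
    have h3 : sympForm m F (S.J *ᵥ w) u = 0 := hu _ (hJ w hw)
    rw [h1] at h3
    exact neg_eq_zero.mp h3
  have hXX : LinearMap.BilinForm.orthogonal B X = W :=
    LinearMap.BilinForm.orthogonal_orthogonal Bform_nondegenerate Bform_isRefl10 W
  -- `X = 0`
  have hX0 : ∀ u ∈ X, u = 0 := by
    intro u hu
    have h1 : S.J *ᵥ u ∈ W := by
      rw [← hXX]
      intro u' hu'
      exact hpol u' hu' u hu
    have h3 : S.J *ᵥ u = 0 := by
      apply hnd _ h1
      intro w' hw'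
      have := hJX u hu w' hw'
      change sympForm m F w' (S.J *ᵥ u) = 0 at this
      rw [sympForm_swap, this, neg_zero]
    apply J_injective S
    rw [Matrix.toLin'_apply, h3, map_zero]
  have hXbot : X = ⊥ := (Submodule.eq_bot_iff X).mpr hX0
  rw [hXbot, finrank_bot] at hXfr
  apply hW
  apply Submodule.eq_top_of_finrank_eq
  rw [finrank_V]
  have := Submodule.finrank_le W
  rw [finrank_V] at this
  omega

/-- a family with a dual family inside its span spans an `f`-nondegenerate subspace -/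
theorem nd_of_dual {k : ℕ} (e t : Fin k → 𝕍)
    (ht : ∀ i, t i ∈ Submodule.span F (Set.range e))
    (hdiag : ∀ i, sympForm m F (e i) (t i) ≠ 0)
    (hoff : ∀ i j, i ≠ j → sympForm m F (e i) (t j) = 0) :
    ∀ w ∈ Submodule.span F (Set.range e),
      (∀ w' ∈ Submodule.span F (Set.range e), sympForm m F w w' = 0) → w = 0 := by
  intro w hw hperp
  obtain ⟨c, rfl⟩ := (Submodule.mem_span_range_iff_exists_fun F).mp hw
  have hsum : ∀ (z : 𝕍) (s : Finset (Fin k)),
      sympForm m F (∑ i ∈ s, c i • e i) z = ∑ i ∈ s, c i * sympForm m F (e i) z := by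
    intro z s
    induction s using Finset.induction_on with
    | empty => simp [sympForm_zero_left]
    | insert a s ha ih =>
      rw [Finset.sum_insert ha, Finset.sum_insert ha, sympForm_add_left, sympForm_smul_left, ih]
  have hc : ∀ j, c j = 0 := by
    intro j
    have h1 := hperp (t j) (ht j)
    rw [hsum, Finset.sum_eq_single j] at h1
    · exact (mul_eq_zero.mp h1).resolve_right (hdiag j)
    · intro i _ hij
      rw [hoff i j hij, mul_zero]
    · intro hj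
      exact absurd (Finset.mem_univ j) hj
  apply Finset.sum_eq_zero
  intro i _
  rw [hc i, zero_smul]

/-- E1 for the span of a `J`-closed family with a dual family -/
theorem exists_nonsing_perp_fam (S : CS m F) (h2 : (2 : F) ≠ 0) {k : ℕ} (hk : k < 2 * m)
    (e t : Fin k → 𝕍)
    (hJ : ∀ i, S.J *ᵥ e i ∈ Submodule.span F (Set.range e))
    (ht : ∀ i, t i ∈ Submodule.span F (Set.range e))
    (hdiag : ∀ i, sympForm m F (e i) (t i) ≠ 0)
    (hoff : ∀ i j, i ≠ j → sympForm m F (e i) (t j) = 0) :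
    ∃ v : 𝕍, S.N v ≠ 0 ∧ ∀ i, sympForm m F v (e i) = 0 := by
  set W := Submodule.span F (Set.range e) with hW
  have hfr : Module.finrank F W ≤ k := by
    have := finrank_range_le_card (R := F) e
    rwa [Fintype.card_fin] at this
  have hJW : ∀ w ∈ W, S.J *ᵥ w ∈ W := by
    intro w hw
    induction hw using Submodule.span_induction with
    | mem x hx =>
      obtain ⟨i, rfl⟩ := hx
      exact hJ i
    | zero => rw [Matrix.mulVec_zero]; exact W.zero_mem
    | add x y _ _ hx hy => rw [Matrix.mulVec_add]; exact W.add_mem hx hy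
    | smul a x _ hx => rw [Matrix.mulVec_smul]; exact W.smul_mem a hx
  have hne : W ≠ ⊤ := by
    intro h
    rw [h, finrank_top, finrank_V] at hfr
    omega
  obtain ⟨v, hv, hperp⟩ := exists_nonsing_perp_nd S h2 W hJW (nd_of_dual e t ht hdiag hoff) hne
  exact ⟨v, hv, fun i => hperp _ (Submodule.subset_span (Set.mem_range_self i))⟩

theorem exists_nonsing3 (S : CS m F) (hm : 1 ≤ m) (h2 : (2 : F) ≠ 0) : ∃ v : 𝕍, S.N v ≠ 0 := by
  obtain ⟨v, hv, -⟩ := exists_nonsing_perp_fam S h2 (k := 0) (by omega) (fun i => i.elim0)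
    (fun i => i.elim0) (fun i => i.elim0) (fun i => i.elim0) (fun i => i.elim0) (fun i => i.elim0)
  exact ⟨v, hv⟩

theorem exists_perp_line3 (S : CS m F) (hm : 2 ≤ m) (h2 : (2 : F) ≠ 0) (x : 𝕍) (hx : S.N x ≠ 0) :
    ∃ y : 𝕍, S.N y ≠ 0 ∧ sympForm m F y x = 0 ∧ sympForm m F y (S.J *ᵥ x) = 0 := by
  have hmem : ∀ i : Fin 2, ![x, S.J *ᵥ x] i ∈ Submodule.span F (Set.range ![x, S.J *ᵥ x]) :=
    fun i => Submodule.subset_span (Set.mem_range_self i)
  have d0 : sympForm m F x (S.J *ᵥ x) ≠ 0 := hx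
  have d1 : sympForm m F (S.J *ᵥ x) x ≠ 0 := by
    rw [S.form_J_self]; exact neg_ne_zero.mpr hx
  suffices h : ∃ v : 𝕍, S.N v ≠ 0 ∧ ∀ i, sympForm m F v (![x, S.J *ᵥ x] i) = 0 by
    obtain ⟨v, hv, hperp⟩ := h
    exact ⟨v, hv, hperp 0, hperp 1⟩
  refine exists_nonsing_perp_fam S h2 (k := 2) (by omega)
    ![x, S.J *ᵥ x] ![S.J *ᵥ x, x] ?_ ?_ ?_ ?_
  · intro i
    fin_cases i
    · exact hmem 1
    · have : S.J *ᵥ (S.J *ᵥ x) = S.δ • x := S.JJ x
      change S.J *ᵥ (S.J *ᵥ x) ∈ _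
      rw [this]
      exact Submodule.smul_mem _ _ (hmem 0)
  · intro i
    fin_cases i
    · exact hmem 1
    · exact hmem 0
  · intro i
    fin_cases i
    · exact d0
    · exact d1
  · intro i j hij
    fin_cases i <;> fin_cases j
    · exact absurd rfl hij
    · exact sympForm_self m x
    · exact sympForm_self m (S.J *ᵥ x)
    · exact absurd rfl hij

theorem exists_perp_pair3 (S : CS m F) (hm : 3 ≤ m) (h2 : (2 : F) ≠ 0) (x u : 𝕍) (hx : S.N x ≠ 0)
    (hu : S.N u ≠ 0) (hux : sympForm m F u x = 0) (huJx : sympForm m F u (S.J *ᵥ x) = 0) :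
    ∃ y : 𝕍, S.N y ≠ 0 ∧ sympForm m F y x = 0 ∧ sympForm m F y (S.J *ᵥ x) = 0 ∧
      sympForm m F y u = 0 ∧ sympForm m F y (S.J *ᵥ u) = 0 := by
  have hmem : ∀ i : Fin 4, ![x, S.J *ᵥ x, u, S.J *ᵥ u] i ∈
      Submodule.span F (Set.range ![x, S.J *ᵥ x, u, S.J *ᵥ u]) :=
    fun i => Submodule.subset_span (Set.mem_range_self i)
  have d0 : sympForm m F x (S.J *ᵥ x) ≠ 0 := hx
  have d1 : sympForm m F (S.J *ᵥ x) x ≠ 0 := by
    rw [S.form_J_self]; exact neg_ne_zero.mpr hx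
  have d2 : sympForm m F u (S.J *ᵥ u) ≠ 0 := hu
  have d3 : sympForm m F (S.J *ᵥ u) u ≠ 0 := by
    rw [S.form_J_self]; exact neg_ne_zero.mpr hu
  have g01 : sympForm m F x x = 0 := sympForm_self m x
  have g02 : sympForm m F x (S.J *ᵥ u) = 0 := by rw [form_J_symm, huJx]
  have g03 : sympForm m F x u = 0 := by rw [sympForm_swap, hux, neg_zero]
  have g10 : sympForm m F (S.J *ᵥ x) (S.J *ᵥ x) = 0 := sympForm_self m _
  have g12 : sympForm m F (S.J *ᵥ x) (S.J *ᵥ u) = 0 := by rw [S.form_JJ, g03, mul_zero]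
  have g13 : sympForm m F (S.J *ᵥ x) u = 0 := by rw [S.skew, g02, neg_zero]
  have g23 : sympForm m F u u = 0 := sympForm_self m u
  have g30 : sympForm m F (S.J *ᵥ u) (S.J *ᵥ x) = 0 := by rw [S.form_JJ, hux, mul_zero]
  have g31 : sympForm m F (S.J *ᵥ u) x = 0 := by rw [S.skew, huJx, neg_zero]
  have g32 : sympForm m F (S.J *ᵥ u) (S.J *ᵥ u) = 0 := sympForm_self m _
  suffices h : ∃ v : 𝕍, S.N v ≠ 0 ∧
      ∀ i, sympForm m F v (![x, S.J *ᵥ x, u, S.J *ᵥ u] i) = 0 by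
    obtain ⟨v, hv, hperp⟩ := h
    exact ⟨v, hv, hperp 0, hperp 1, hperp 2, hperp 3⟩
  refine exists_nonsing_perp_fam S h2 (k := 4) (by omega)
    ![x, S.J *ᵥ x, u, S.J *ᵥ u] ![S.J *ᵥ x, x, S.J *ᵥ u, u] ?_ ?_ ?_ ?_
  · intro i
    fin_cases i
    · exact hmem 1
    · change S.J *ᵥ (S.J *ᵥ x) ∈ _
      rw [S.JJ x]
      exact Submodule.smul_mem _ _ (hmem 0)
    · exact hmem 3
    · change S.J *ᵥ (S.J *ᵥ u) ∈ _
      rw [S.JJ u]
      exact Submodule.smul_mem _ _ (hmem 2)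
  · intro i
    fin_cases i
    · exact hmem 1
    · exact hmem 0
    · exact hmem 3
    · exact hmem 2
  · intro i
    fin_cases i
    · exact d0
    · exact d1
    · exact d2
    · exact d3
  · intro i j hij
    fin_cases i <;> fin_cases j
    · exact absurd rfl hij
    · exact g01
    · exact g02
    · exact g03
    · exact g10
    · exact absurd rfl hij
    · exact g12
    · exact g13
    · exact huJx
    · exact hux
    · exact absurd rfl hij
    · exact g23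
    · exact g30
    · exact g31
    · exact g32
    · exact absurd rfl hij

theorem exists_perp_hyp3 (S : CS m F) (hm : 3 ≤ m) (h2 : (2 : F) ≠ 0) (x₀ y₀ : 𝕍)
    (h₀ : sympForm m F x₀ y₀ = 1) (hN : ∀ u ∈ Submodule.span F {x₀, y₀}, S.N u = 0) :
    ∃ v₁ : 𝕍, S.N v₁ ≠ 0 ∧ sympForm m F v₁ x₀ = 0 ∧ sympForm m F v₁ y₀ = 0 ∧
      sympForm m F v₁ (S.J *ᵥ x₀) = 0 ∧ sympForm m F v₁ (S.J *ᵥ y₀) = 0 := by
  have hmem : ∀ i : Fin 4, ![x₀, y₀, S.J *ᵥ x₀, S.J *ᵥ y₀] i ∈
      Submodule.span F (Set.range ![x₀, y₀, S.J *ᵥ x₀, S.J *ᵥ y₀]) :=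
    fun i => Submodule.subset_span (Set.mem_range_self i)
  have hx₀P : x₀ ∈ Submodule.span F {x₀, y₀} := Submodule.subset_span (Set.mem_insert _ _)
  have hy₀P : y₀ ∈ Submodule.span F {x₀, y₀} :=
    Submodule.subset_span (Set.mem_insert_of_mem _ rfl)
  have nx : sympForm m F x₀ (S.J *ᵥ x₀) = 0 := hN x₀ hx₀P
  have ny : sympForm m F y₀ (S.J *ᵥ y₀) = 0 := hN y₀ hy₀P
  have pxy : sympForm m F x₀ (S.J *ᵥ y₀) = 0 := by
    have h := N_add S x₀ y₀
    rw [hN x₀ hx₀P, hN y₀ hy₀P, hN (x₀ + y₀) (Submodule.add_mem _ hx₀P hy₀P), zero_add,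
      zero_add] at h
    exact (mul_eq_zero.mp h.symm).resolve_left h2
  have pyx : sympForm m F y₀ (S.J *ᵥ x₀) = 0 := by rw [form_J_symm, pxy]
  have hyx : sympForm m F y₀ x₀ = -1 := by rw [sympForm_swap, h₀]
  have d0 : sympForm m F x₀ y₀ ≠ 0 := by rw [h₀]; exact one_ne_zero
  have d1 : sympForm m F y₀ x₀ ≠ 0 := by rw [hyx]; exact neg_ne_zero.mpr one_ne_zero
  have d2 : sympForm m F (S.J *ᵥ x₀) (S.J *ᵥ y₀) ≠ 0 := by
    rw [S.form_JJ, h₀, mul_one]; exact neg_ne_zero.mpr S.δ_ne_zero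
  have d3 : sympForm m F (S.J *ᵥ y₀) (S.J *ᵥ x₀) ≠ 0 := by
    rw [S.form_JJ, hyx]
    simpa using S.δ_ne_zero
  have g01 : sympForm m F x₀ x₀ = 0 := sympForm_self m x₀
  have g10 : sympForm m F y₀ y₀ = 0 := sympForm_self m y₀
  have g20 : sympForm m F (S.J *ᵥ x₀) y₀ = 0 := by rw [S.skew, pxy, neg_zero]
  have g21 : sympForm m F (S.J *ᵥ x₀) x₀ = 0 := by rw [S.skew, nx, neg_zero]
  have g23 : sympForm m F (S.J *ᵥ x₀) (S.J *ᵥ x₀) = 0 := sympForm_self m _
  have g30 : sympForm m F (S.J *ᵥ y₀) y₀ = 0 := by rw [S.skew, ny, neg_zero]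
  have g31 : sympForm m F (S.J *ᵥ y₀) x₀ = 0 := by rw [S.skew, pyx, neg_zero]
  have g32 : sympForm m F (S.J *ᵥ y₀) (S.J *ᵥ y₀) = 0 := sympForm_self m _
  suffices h : ∃ v : 𝕍, S.N v ≠ 0 ∧
      ∀ i, sympForm m F v (![x₀, y₀, S.J *ᵥ x₀, S.J *ᵥ y₀] i) = 0 by
    obtain ⟨v, hv, hperp⟩ := h
    exact ⟨v, hv, hperp 0, hperp 1, hperp 2, hperp 3⟩
  refine exists_nonsing_perp_fam S h2 (k := 4) (by omega)
    ![x₀, y₀, S.J *ᵥ x₀, S.J *ᵥ y₀] ![y₀, x₀, S.J *ᵥ y₀, S.J *ᵥ x₀] ?_ ?_ ?_ ?_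
  · intro i
    fin_cases i
    · exact hmem 2
    · exact hmem 3
    · change S.J *ᵥ (S.J *ᵥ x₀) ∈ _
      rw [S.JJ x₀]
      exact Submodule.smul_mem _ _ (hmem 0)
    · change S.J *ᵥ (S.J *ᵥ y₀) ∈ _
      rw [S.JJ y₀]
      exact Submodule.smul_mem _ _ (hmem 1)
  · intro i
    fin_cases i
    · exact hmem 1
    · exact hmem 0
    · exact hmem 3
    · exact hmem 2
  · intro i
    fin_cases i
    · exact d0
    · exact d1
    · exact d2
    · exact d3
  · intro i j hij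
    fin_cases i <;> fin_cases j
    · exact absurd rfl hij
    · exact g01
    · exact pxy
    · exact nx
    · exact g10
    · exact absurd rfl hij
    · exact ny
    · exact pyx
    · exact g20
    · exact g21
    · exact absurd rfl hij
    · exact g23
    · exact g30
    · exact g31
    · exact g32
    · exact absurd rfl hij

end Cfsg.Agent.Lib.Helper10.GU3Leaf
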