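import Cfsg.Agent.S5622
import Cfsg.Agent.S5624
import Cfsg.Agent.S0407
import Cfsg.Agent.S0363
import Cfsg.Agent.S0358

set_option autoImplicit false
open Cfsg

namespace Cfsg.Agent.Lib.Helper10.GolayUnique

/-- A binary word is determined by its support. -/
theorem eq_of_support_eq {α : Type*} [Fintype α] (v w : α → ZMod 2)
    (h : support₂ v = support₂ w) : v = w := by
  funext a
  have h1 : a ∈ support₂ v ↔ a ∈ support₂ w := by rw [h]
  simp only [support₂, Finset.mem_filter, Finset.mem_univ, true_and] at h1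
  have h01 : ∀ x : ZMod 2, x = 0 ∨ x = 1 := by decide
  rcases h01 (v a) with hv | hv <;> rcases h01 (w a) with hw | hw <;> simp_all

theorem card_support_eq {α : Type*} [Fintype α] (w : α → ZMod 2) :
    (support₂ w).card = hammingNorm w := by
  unfold support₂ hammingNorm
  congr

theorem golay_unique (C : Submodule (ZMod 2) (Fin 24 → ZMod 2))
    (hdim : Module.finrank (ZMod 2) C = 12)
    (horth : ∀ v ∈ C, ∀ w ∈ C, ∑ i, v i * w i = 0)
    (h4 : ∀ w ∈ C, 4 ∣ hammingNorm w) (hno4 : ∀ w ∈ C, hammingNorm w ≠ 4) :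
    ∃ e : Fin 24 ≃ Cfsg.GolayPt, ∀ w : Cfsg.GolayPt → ZMod 2,
      w ∈ Cfsg.golayCode ↔ (fun i => w (e i)) ∈ C := by
  have hmin : ∀ w ∈ C, w ≠ 0 → 8 ≤ hammingNorm w := by
    intro w hw hne
    have h1 := h4 w hw
    have h2 := hno4 w hw
    have h3 : hammingNorm w ≠ 0 := by rwa [Ne, hammingNorm_eq_zero]
    omega
  obtain ⟨-, hS⟩ := Cfsg.Agent.S5622.result C hdim horth hmin
  have hspan := Cfsg.Agent.S5624.result C hdim horth hmin
  obtain ⟨e, he⟩ := Cfsg.Agent.S0407.result (by simp) (by simp [GolayPt]) hS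
    Cfsg.Agent.S0363.result
  refine ⟨e, ?_⟩
  let ψ : (Fin 24 → ZMod 2) ≃ₗ[ZMod 2] (GolayPt → ZMod 2) :=
    LinearEquiv.funCongrLeft (ZMod 2) (ZMod 2) e.symm
  have hψ : ∀ (w : Fin 24 → ZMod 2) (a : GolayPt), ψ w a = w (e.symm a) := fun w a => rfl
  have hψs : ∀ (x : GolayPt → ZMod 2), ψ.symm x = fun i => x (e i) := by
    intro x
    apply ψ.injective
    rw [LinearEquiv.apply_symm_apply]
    funext a
    rw [hψ]
    simp
  have hsupp : ∀ w : Fin 24 → ZMod 2, support₂ (ψ w) = (support₂ w).image e := by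
    intro w
    ext a
    simp only [support₂, Finset.mem_filter, Finset.mem_univ, true_and, Finset.mem_image, hψ]
    constructor
    · intro h
      exact ⟨e.symm a, h, by simp⟩
    · rintro ⟨i, hi, rfl⟩
      simpa using hi
  have hle : C.map (ψ : (Fin 24 → ZMod 2) →ₗ[ZMod 2] (GolayPt → ZMod 2)) ≤ golayCode := by
    rw [← hspan, Submodule.map_span, Submodule.span_le]
    rintro _ ⟨w, ⟨hwC, hw8⟩, rfl⟩
    have h1 : support₂ w ∈ wordsOfWeight (C : Set (Fin 24 → ZMod 2)) 8 :=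
      ⟨⟨w, hwC, rfl⟩, by rw [card_support_eq, hw8]⟩
    have h2 : (support₂ w).image e ∈ octads := by
      rw [← he]
      exact ⟨_, h1, rfl⟩
    obtain ⟨⟨u, huG, hu⟩, -⟩ := h2
    have h3 : u = ψ w := by
      apply eq_of_support_eq
      rw [hsupp]
      exact hu
    show ψ w ∈ golayCode
    rw [← h3]
    exact huG
  have hfr : Module.finrank (ZMod 2) (C.map (ψ : (Fin 24 → ZMod 2) →ₗ[ZMod 2] (GolayPt → ZMod 2)))
      = Module.finrank (ZMod 2) golayCode := by
    rw [Cfsg.Agent.S0358.result, ← hdim]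
    exact LinearEquiv.finrank_map_eq ψ C
  have heq := Submodule.eq_of_le_of_finrank_eq hle hfr
  intro w
  rw [← heq, ← hψs]
  exact Submodule.mem_map_equiv (e := ψ) (p := C) (x := w)
end Cfsg.Agent.Lib.Helper10.GolayUnique
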