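import Cfsg.Agent.Lib.Helper10.HSMain
import Cfsg.Agent.S0414

set_option autoImplicit false
set_option linter.style.haveILetI false

namespace Cfsg.Agent.Lib.Helper10.HSMain

open Cfsg
open Cfsg.Agent.Lib.Helper10.Srg100

/-- S0431 -/
theorem hs_graph_aut_contains_hs {α : Type*} [Fintype α] (hα : Fintype.card α = 22)
    {B : Set (Finset α)} (hB : IsSteinerSystem 3 6 B) :
    ∃ H : Subgroup (pointBlockGraph B ≃g pointBlockGraph B), IsHS H := by
  classical
  letI : Fintype ↥B := Fintype.ofFinite _
  exact hs_exists hα hB (Cfsg.Agent.S0414.result hα hB)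

/-- S1586 -/
theorem hs_graph_full_aut {α : Type*} [Fintype α] [DecidableEq α] (hα : Fintype.card α = 22)
    {B : Set (Finset α)} (hB : IsSteinerSystem 3 6 B) :
    Nat.card (pointBlockGraph B ≃g pointBlockGraph B) = 88704000 :=
  card_aut_pb hα hB (Cfsg.Agent.S0414.result hα hB).1

end Cfsg.Agent.Lib.Helper10.HSMain
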