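import Mathlib

set_option autoImplicit false
set_option linter.style.haveILetI false
set_option linter.unusedSectionVars false

/-!
Abstract part of the simplicity proof for the Higman–Sims group: a transitive faithful group of
degree 100 whose point stabiliser is simple and has suitable orbit sizes is simple.
-/

namespace Cfsg.Agent.Lib.Helper10.HSSimple

open MulAction

section general

variable {H V : Type*} [Group H] [MulAction H V]

theorem stabilizer_subgroup_eq (N : Subgroup H) (v : V) :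
    stabilizer ↥N v = (stabilizer H v).subgroupOf N := by
  ext x
  rw [mem_stabilizer_iff, Subgroup.mem_subgroupOf, mem_stabilizer_iff, Subgroup.smul_def]

/-- a transitive subgroup containing the point stabiliser is everything -/
theorem eq_top_of_transitive_of_stab_le (N : Subgroup H) (v : V)
    (htr : ∀ x : V, ∃ n ∈ N, n • v = x) (hle : stabilizer H v ≤ N) : N = ⊤ := by
  rw [eq_top_iff]
  intro h _
  obtain ⟨n, hn, hnv⟩ := htr (h • v)
  have h1 : n⁻¹ * h ∈ stabilizer H v := by
    rw [mem_stabilizer_iff, mul_smul, ← hnv, inv_smul_smul]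
  have h2 : n * (n⁻¹ * h) ∈ N := N.mul_mem hn (hle h1)
  rwa [mul_inv_cancel_left] at h2

/-- orbit–stabiliser for a transitive subgroup -/
theorem card_eq_of_transitive [Finite H] [Finite V] (N : Subgroup H) (v : V)
    (htr : ∀ x : V, ∃ n ∈ N, n • v = x) :
    Nat.card N = Nat.card V * Nat.card ↥((stabilizer H v).subgroupOf N) := by
  have h1 := MulAction.index_stabilizer ↥N v
  have h2 : orbit ↥N v = Set.univ := by
    ext x
    simp only [Set.mem_univ, iff_true]
    obtain ⟨n, hn, hnv⟩ := htr x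
    exact ⟨⟨n, hn⟩, hnv⟩
  rw [h2, Set.ncard_univ, stabilizer_subgroup_eq] at h1
  rw [← h1, mul_comm, Subgroup.card_mul_index]

end general

section half

variable {G K X : Type*} [Group G] [Group K] [MulAction G X] [Finite X]

/-- invariant subsets of an orbit under a subgroup of index 2 -/
theorem half_orbit (φ : K →* G) (M : Subgroup K) (hM : M.index = 2)
    (O S : Set X) (hO : ∀ k : K, ∀ x ∈ O, φ k • x ∈ O)
    (hOtr : ∀ x ∈ O, ∀ y ∈ O, ∃ k : K, φ k • x = y)
    (hSO : S ⊆ O) (hS : ∀ m ∈ M, ∀ x ∈ S, φ m • x ∈ S) :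
    S = ∅ ∨ S = O ∨ 2 * S.ncard = O.ncard := by
  by_cases hne : S = ∅
  · exact Or.inl hne
  right
  obtain ⟨s₀, hs₀⟩ := Set.nonempty_iff_ne_empty.mpr hne
  -- an element outside `M`
  obtain ⟨g, hg⟩ : ∃ g : K, g ∉ M := by
    by_contra hcon
    rw [not_exists] at hcon
    have : M = ⊤ := by
      rw [eq_top_iff]; intro x _
      by_contra hx
      exact hcon x hx
    rw [this, Subgroup.index_top] at hM
    omega
  have hmul : ∀ a b : K, a * b ∈ M ↔ (a ∈ M ↔ b ∈ M) :=
    fun a b => Subgroup.mul_mem_iff_of_index_two hM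
  have hginv : g⁻¹ ∉ M := fun h => hg (by simpa using M.inv_mem h)
  let T : Set X := (fun x => φ g • x) '' S
  have hinj : Function.Injective (fun x : X => φ g • x) := MulAction.injective (φ g)
  have hTcard : T.ncard = S.ncard := Set.ncard_image_of_injective S hinj
  -- action of elements of `M` and of its complement
  have hMT : ∀ m ∈ M, ∀ x ∈ T, φ m • x ∈ T := by
    rintro m hm _ ⟨s, hs, rfl⟩
    refine ⟨φ (g⁻¹ * (m * g)) • s, hS _ ?_ s hs, ?_⟩
    · rw [hmul, hmul]
      simp [hginv, hg, hm]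
    · show φ g • φ (g⁻¹ * (m * g)) • s = φ m • φ g • s
      rw [← mul_smul, ← mul_smul, ← map_mul, ← map_mul, mul_inv_cancel_left]
  have hNS : ∀ k : K, k ∉ M → ∀ x ∈ S, φ k • x ∈ T := by
    intro k hk s hs
    refine ⟨φ (g⁻¹ * k) • s, hS _ ?_ s hs, ?_⟩
    · rw [hmul]
      simp [hginv, hk]
    · show φ g • φ (g⁻¹ * k) • s = φ k • s
      rw [← mul_smul, ← map_mul, mul_inv_cancel_left]
  have hNT : ∀ k : K, k ∉ M → ∀ x ∈ T, φ k • x ∈ S := by
    rintro k hk _ ⟨s, hs, rfl⟩
    have h1 : φ (k * g) • s ∈ S := hS _ (by rw [hmul]; simp [hg, hk]) s hs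
    rwa [map_mul, mul_smul] at h1
  have hTO : T ⊆ O := by
    rintro _ ⟨s, hs, rfl⟩
    exact hO g s (hSO hs)
  -- `S ∪ T` is invariant, hence equals `O`
  have hunion : S ∪ T = O := by
    apply Set.Subset.antisymm (Set.union_subset hSO hTO)
    intro y hy
    obtain ⟨k, hk⟩ := hOtr s₀ (hSO hs₀) y hy
    rw [← hk]
    by_cases hkM : k ∈ M
    · exact Or.inl (hS k hkM s₀ hs₀)
    · exact Or.inr (hNS k hkM s₀ hs₀)
  -- `S ∩ T` is invariant, hence empty or `O`
  by_cases hI : (S ∩ T) = ∅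
  · right
    have h1 := Set.ncard_union_add_ncard_inter S T
    rw [hunion, hI, Set.ncard_empty, hTcard] at h1
    omega
  · left
    obtain ⟨z, hzS, hzT⟩ := Set.nonempty_iff_ne_empty.mpr hI
    apply Set.Subset.antisymm hSO
    intro y hy
    obtain ⟨k, hk⟩ := hOtr z (hSO hzS) y hy
    rw [← hk]
    by_cases hkM : k ∈ M
    · exact hS k hkM z hzS
    · exact hNT k hkM z hzT

end half

section main

variable {H V : Type*} [Group H] [Finite H] [MulAction H V] [Fintype V] [FaithfulSMul H V]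

/-- maximality of the stabiliser -/
theorem isCoatom_stabilizer (hV : Fintype.card V = 100) [IsPretransitive H V] (v₀ : V)
    (hinv : ∀ Δ : Set V, v₀ ∈ Δ → (∀ k ∈ stabilizer H v₀, ∀ x ∈ Δ, k • x ∈ Δ) →
      Δ.ncard ∣ 100 → Δ = {v₀} ∨ Δ = Set.univ) :
    IsCoatom (stabilizer H v₀) := by
  have hKindex : (stabilizer H v₀).index = 100 := by
    rw [MulAction.index_stabilizer_of_transitive, Nat.card_eq_fintype_card, hV]
  refine ⟨?_, ?_⟩
  · intro h
    rw [h, Subgroup.index_top] at hKindex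
    omega
  · intro L hL
    have hKL : stabilizer H v₀ ≤ L := le_of_lt hL
    have hdvd : (orbit ↥L v₀).ncard ∣ 100 := by
      rw [← MulAction.index_stabilizer, stabilizer_subgroup_eq, ← hKindex,
        ← Subgroup.relIndex_mul_index hKL]
      exact Dvd.intro _ rfl
    have hmem : v₀ ∈ orbit ↥L v₀ := mem_orbit_self v₀
    have hinvL : ∀ k ∈ stabilizer H v₀, ∀ x ∈ orbit ↥L v₀, k • x ∈ orbit ↥L v₀ := by
      rintro k hk _ ⟨l, rfl⟩
      exact ⟨⟨k, hKL hk⟩ * l, by simp [mul_smul, Subgroup.smul_def]⟩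
    rcases hinv _ hmem hinvL hdvd with h | h
    · exfalso
      apply not_le_of_gt hL
      intro l hl
      have h1 : (⟨l, hl⟩ : ↥L) • v₀ ∈ orbit ↥L v₀ := ⟨⟨l, hl⟩, rfl⟩
      rw [h, Set.mem_singleton_iff] at h1
      exact mem_stabilizer_iff.mpr h1
    · apply eq_top_of_transitive_of_stab_le L v₀ _ hKL
      intro x
      have h1 : x ∈ orbit ↥L v₀ := by rw [h]; exact Set.mem_univ x
      obtain ⟨l, hl⟩ := h1
      exact ⟨l.1, l.2, hl⟩

/-- nontrivial normal subgroups are transitive -/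
theorem transitive_of_normal (hV : Fintype.card V = 100) [IsPretransitive H V] (v₀ : V)
    (hinv : ∀ Δ : Set V, v₀ ∈ Δ → (∀ k ∈ stabilizer H v₀, ∀ x ∈ Δ, k • x ∈ Δ) →
      Δ.ncard ∣ 100 → Δ = {v₀} ∨ Δ = Set.univ)
    (N : Subgroup H) [N.Normal] (hN : N ≠ ⊥) : ∀ x : V, ∃ n ∈ N, n • v₀ = x := by
  haveI : Nontrivial V := by
    rw [← Fintype.one_lt_card_iff_nontrivial, hV]; norm_num
  haveI : IsPreprimitive H V :=
    (isCoatom_stabilizer_iff_preprimitive (G := H) v₀).mp (isCoatom_stabilizer hV v₀ hinv)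
  have hfix : fixedPoints ↥N V ≠ Set.univ := by
    intro h
    apply hN
    rw [eq_bot_iff]
    intro n hn
    rw [Subgroup.mem_bot]
    apply FaithfulSMul.eq_of_smul_eq_smul (α := V)
    intro x
    have hx : x ∈ fixedPoints ↥N V := by rw [h]; exact Set.mem_univ x
    have := hx ⟨n, hn⟩
    rw [one_smul]
    exact this
  haveI : IsPretransitive ↥N V := IsQuasiPreprimitive.isPretransitive_of_normal hfix
  intro x
  obtain ⟨n, hn⟩ := exists_smul_eq ↥N v₀ x
  exact ⟨n.1, n.2, hn⟩

theorem isSimpleGroup_of_degree_100 (hV : Fintype.card V = 100) [IsPretransitive H V] (v₀ : V)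
    [IsSimpleGroup ↥(stabilizer H v₀)]
    (hinv : ∀ Δ : Set V, v₀ ∈ Δ → (∀ k ∈ stabilizer H v₀, ∀ x ∈ Δ, k • x ∈ Δ) →
      Δ.ncard ∣ 100 → Δ = {v₀} ∨ Δ = Set.univ) :
    IsSimpleGroup H := by
  haveI : Nontrivial H := by
    obtain ⟨⟨a, ha⟩, ⟨b, hb⟩, hab⟩ := exists_pair_ne ↥(stabilizer H v₀)
    exact ⟨a, b, fun h => hab (Subtype.ext h)⟩
  refine ⟨fun N hN => ?_⟩
  haveI := hN
  by_contra hcon
  rw [not_or] at hcon
  obtain ⟨hbot, htop⟩ := hcon
  have htr := transitive_of_normal hV v₀ hinv N hbot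
  -- intersection with the stabiliser
  have hnorm : (N.subgroupOf (stabilizer H v₀)).Normal := inferInstance
  rcases hnorm.eq_bot_or_eq_top with h | h
  · -- regular normal subgroup of order 100
    have hdisj : (stabilizer H v₀).subgroupOf N = ⊥ := by
      rw [Subgroup.subgroupOf_eq_bot] at h ⊢
      exact h.symm
    have hcard : Nat.card N = 100 := by
      rw [card_eq_of_transitive N v₀ htr, hdisj, Subgroup.card_bot, Nat.card_eq_fintype_card, hV]
    haveI : Fact (Nat.Prime 5) := ⟨by norm_num⟩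
    obtain ⟨P⟩ : Nonempty (Sylow 5 ↥N) := inferInstance
    have h5 : 5 ∣ Nat.card ↥N := by rw [hcard]; norm_num
    have hPne : (P : Subgroup ↥N) ≠ ⊥ := P.ne_bot_of_dvd_card h5
    -- the number of Sylow 5-subgroups is 1
    have hn1 : Nat.card (Sylow 5 ↥N) ≡ 1 [MOD 5] := card_sylow_modEq_one 5 ↥N
    have hn2 : Nat.card (Sylow 5 ↥N) ∣ (P : Subgroup ↥N).index := P.card_dvd_index
    have hn3 : (P : Subgroup ↥N).index ∣ 100 := by
      rw [← hcard]; exact Subgroup.index_dvd_card _
    have hn4 : ¬ 5 ∣ (P : Subgroup ↥N).index := P.not_dvd_index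
    have hn5 : (P : Subgroup ↥N).index ∣ 4 := by
      have hc : Nat.Coprime (P : Subgroup ↥N).index 25 := by
        have : Nat.Coprime (P : Subgroup ↥N).index 5 :=
          ((Nat.Prime.coprime_iff_not_dvd (by norm_num)).mpr hn4).symm
        exact Nat.Coprime.pow_right 2 this
      have h100 : (P : Subgroup ↥N).index ∣ 4 * 25 := by norm_num; exact hn3
      exact hc.dvd_of_dvd_mul_right h100
    have hn6 : Nat.card (Sylow 5 ↥N) = 1 := by
      have h7 : Nat.card (Sylow 5 ↥N) ∣ 4 := hn2.trans hn5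
      have h8 : Nat.card (Sylow 5 ↥N) ≤ 4 := Nat.le_of_dvd (by norm_num) h7
      have h9 := hn1
      unfold Nat.ModEq at h9
      interval_cases (Nat.card (Sylow 5 ↥N)) <;> simp_all
    haveI : Subsingleton (Sylow 5 ↥N) := (Nat.card_eq_one_iff_unique.mp hn6).1
    haveI hPn : (P : Subgroup ↥N).Normal := P.normal_of_subsingleton
    haveI hPc : (P : Subgroup ↥N).Characteristic := P.characteristic_of_normal hPn
    -- the image in H is normal
    let Q : Subgroup H := (P : Subgroup ↥N).map N.subtype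
    haveI hQn : Q.Normal := ConjAct.normal_of_characteristic_of_normal
    have hQne : Q ≠ ⊥ := by
      intro hQ
      apply hPne
      exact (Subgroup.map_eq_bot_iff_of_injective _ N.subtype_injective).mp hQ
    have hQtr := transitive_of_normal hV v₀ hinv Q hQne
    have hQcard := card_eq_of_transitive Q v₀ hQtr
    have hQP : Nat.card Q = Nat.card (P : Subgroup ↥N) :=
      Subgroup.card_map_of_injective N.subtype_injective
    obtain ⟨k, hk⟩ := (P.isPGroup').exists_card_eq
    rw [hQP, hk, Nat.card_eq_fintype_card, hV] at hQcard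
    have h2 : 2 ∣ 5 ^ k := by rw [hQcard]; exact Dvd.dvd.mul_right (by norm_num) _
    have := (Nat.Prime.dvd_of_dvd_pow Nat.prime_two h2)
    omega
  · apply htop
    apply eq_top_of_transitive_of_stab_le N v₀ htr
    exact Subgroup.subgroupOf_eq_top.mp h

end main

end Cfsg.Agent.Lib.Helper10.HSSimple
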