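import Cfsg.Agent.Lib.Helper10.HSOdd2
import Cfsg.Agent.Lib.Helper10.HSSimple
import Cfsg.Prelude.Def_Sporadic

set_option autoImplicit false
set_option linter.unusedSectionVars false
set_option linter.style.haveILetI false

/-!
The kernel of the sign character on the automorphism group of the point-block graph of an
S(3, 6, 22) is a simple group of order 44352000.
-/

namespace Cfsg.Agent.Lib.Helper10.HSMain

open Cfsg MulAction
open Cfsg.Agent.Lib.Helper10.Srg100 Cfsg.Agent.Lib.Helper10.HSSimple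
open Cfsg.Agent.Lib.Helper10.HSOdd

/-- a simple group with more than two elements has no nontrivial homomorphism to `ℤˣ` -/
theorem hom_trivial_of_simple {M : Type*} [Group M] [IsSimpleGroup M]
    (hcard : 2 < Nat.card M) (f : M →* ℤˣ) (m : M) : f m = 1 := by
  rcases f.normal_ker.eq_bot_or_eq_top with h | h
  · exfalso
    have hinj : Function.Injective f := (MonoidHom.ker_eq_bot_iff f).mp h
    have h1 := Nat.card_le_card_of_injective f hinj
    rw [Nat.card_eq_fintype_card (α := ℤˣ), Fintype.card_units_int] at h1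
    omega
  · have : m ∈ f.ker := by rw [h]; exact Subgroup.mem_top m
    exact MonoidHom.mem_ker.mp this

variable {α : Type*} [Fintype α] [DecidableEq α] {B : Set (Finset α)}
variable [Fintype ↥B] [DecidableEq ↥B]

theorem index_ker_signHom (σ₀ : ↥(setSystemAut B)) (hσ₀ : signHom (ofAut σ₀) = -1) :
    (signHom (B := B)).ker.index = 2 := by
  rw [Subgroup.index_ker]
  have : (signHom (B := B)).range = ⊤ := by
    rw [eq_top_iff]
    intro u _
    rcases Int.units_eq_one_or u with rfl | rfl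
    · exact Subgroup.one_mem _
    · exact ⟨ofAut σ₀, hσ₀⟩
  rw [this, Subgroup.card_top, Nat.card_eq_fintype_card, Fintype.card_units_int]

theorem ker_transitive (hα : Fintype.card α = 22) (hB : IsSteinerSystem 3 6 B)
    (σ₀ : ↥(setSystemAut B)) (hσ₀ : signHom (ofAut σ₀) = -1) (x : Option (α ⊕ ↥B)) :
    ∃ h ∈ (signHom (B := B)).ker, h none = x := by
  obtain ⟨a, ha⟩ := exists_map_none hα hB x
  have hx : a⁻¹ none = x := by
    rw [← ha]
    exact RelIso.inv_apply_self a x
  by_cases h : a⁻¹ ∈ (signHom (B := B)).ker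
  · exact ⟨a⁻¹, h, hx⟩
  · refine ⟨a⁻¹ * ofAut σ₀, ?_, ?_⟩
    · rw [MonoidHom.mem_ker, map_mul, hσ₀]
      rcases Int.units_eq_one_or (signHom a⁻¹) with h1 | h1
      · exact absurd (MonoidHom.mem_ker.mpr h1) h
      · rw [h1]
        rfl
    · show a⁻¹ (ofAut σ₀ none) = x
      rw [ofAut_none, hx]

section withM

variable (M : Subgroup ↥(setSystemAut B)) (hMi : M.index = 2) (hM : IsM22 ↥M)
variable (σ₀ : ↥(setSystemAut B)) (hσ₀ : signHom (ofAut σ₀) = -1)

include hM in
theorem sign_eq_one_of_mem {m : ↥(setSystemAut B)} (hm : m ∈ M) : signHom (ofAut m) = 1 := by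
  haveI := hM.1
  have h2 : 2 < Nat.card ↥M := by rw [hM.2]; norm_num
  exact hom_trivial_of_simple h2 (((signHom (B := B)).comp ofAutHom).comp M.subtype) ⟨m, hm⟩

include hMi hM hσ₀ in
theorem mem_iff_sign (σ : ↥(setSystemAut B)) : σ ∈ M ↔ signHom (ofAut σ) = 1 := by
  constructor
  · exact sign_eq_one_of_mem M hM
  · intro h
    by_contra hσ
    have h0 : σ₀ ∉ M := by
      intro h0
      have := sign_eq_one_of_mem M hM h0
      rw [hσ₀] at this
      exact absurd this (by decide)
    have h1 : σ₀ * σ ∈ M := by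
      rw [Subgroup.mul_mem_iff_of_index_two hMi]
      exact ⟨fun h' => absurd h' h0, fun h' => absurd h' hσ⟩
    have h2 := sign_eq_one_of_mem M hM h1
    rw [ofAut_mul, map_mul, hσ₀, h] at h2
    exact absurd h2 (by decide)

/-- the map from `M` onto the stabiliser of the extra vertex in the kernel of the sign -/
noncomputable def stabHom (hM : IsM22 ↥M) :
    ↥M →* ↥(stabilizer ↥(signHom (B := B)).ker (none : Option (α ⊕ ↥B))) :=
  MonoidHom.mk' (fun m => ⟨⟨ofAut m.1, MonoidHom.mem_ker.mpr (sign_eq_one_of_mem M hM m.2)⟩,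
    mem_stabilizer_iff.mpr (ofAut_none m.1)⟩)
    (fun a b => Subtype.ext (Subtype.ext (ofAut_mul a.1 b.1)))

include hMi hσ₀ in
theorem stabHom_surjective : Function.Surjective (stabHom M hM) := by
  rintro ⟨⟨a, ha⟩, hstab⟩
  have h1 : a none = none := mem_stabilizer_iff.mp hstab
  obtain ⟨σ, hσ⟩ := exists_ofAut a h1
  have h2 : signHom (ofAut σ) = 1 := by rw [hσ]; exact MonoidHom.mem_ker.mp ha
  have h3 : σ ∈ M := (mem_iff_sign M hMi hM σ₀ hσ₀ σ).mpr h2
  exact ⟨⟨σ, h3⟩, Subtype.ext (Subtype.ext hσ)⟩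

include hMi hM hσ₀ in
theorem isSimpleGroup_stabilizer :
    IsSimpleGroup ↥(stabilizer ↥(signHom (B := B)).ker (none : Option (α ⊕ ↥B))) := by
  haveI := hM.1
  haveI : Nontrivial ↥(stabilizer ↥(signHom (B := B)).ker (none : Option (α ⊕ ↥B))) := by
    have hinj : Function.Injective (stabHom M hM) := by
      intro a b hab
      have h1 : ofAut a.1 = ofAut b.1 := congrArg (fun k => k.1.1) hab
      exact Subtype.ext (ofAutHom_injective h1)
    exact hinj.nontrivial
  exact IsSimpleGroup.isSimpleGroup_of_surjective (stabHom M hM)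
    (stabHom_surjective M hMi hM σ₀ hσ₀)

end withM

section orbits

variable (hα : Fintype.card α = 22) (hB : IsSteinerSystem 3 6 B)
variable (h3 : MulAction.IsMultiplyPretransitive ↥(setSystemAut B) α 3)

include hα h3 in
/-- transitivity on points -/
theorem exists_map_point (a a' : α) : ∃ k : ↥(setSystemAut B), k.1 a = a' := by
  haveI := h3
  haveI : MulAction.IsMultiplyPretransitive ↥(setSystemAut B) α 1 :=
    MulAction.isMultiplyPretransitive_of_le (G := ↥(setSystemAut B)) (α := α) (m := 1) (n := 3)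
      (by norm_num) (by rw [Nat.card_eq_fintype_card, hα]; norm_num)
  haveI : MulAction.IsPretransitive ↥(setSystemAut B) α :=
    MulAction.is_one_pretransitive_iff.mp inferInstance
  obtain ⟨k, hk⟩ := MulAction.exists_smul_eq ↥(setSystemAut B) a a'
  exact ⟨k, hk⟩

include hB h3 in
/-- transitivity on blocks -/
theorem exists_map_block (b b' : ↥B) : ∃ k : ↥(setSystemAut B), b.1.image k.1 = b'.1 := by
  have hb : b.1.card = 6 := hB.1 b.1 b.2
  have hb' : b'.1.card = 6 := hB.1 b'.1 b'.2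
  obtain ⟨x'⟩ : Nonempty (Fin 3 ↪ {a // a ∈ b.1}) :=
    Function.Embedding.nonempty_of_card_le (by
      rw [Fintype.card_fin, Fintype.card_coe, hb]; norm_num)
  obtain ⟨y'⟩ : Nonempty (Fin 3 ↪ {a // a ∈ b'.1}) :=
    Function.Embedding.nonempty_of_card_le (by
      rw [Fintype.card_fin, Fintype.card_coe, hb']; norm_num)
  let x : Fin 3 ↪ α := x'.trans (Function.Embedding.subtype _)
  let y : Fin 3 ↪ α := y'.trans (Function.Embedding.subtype _)
  haveI := h3
  obtain ⟨k, hk⟩ := MulAction.exists_smul_eq ↥(setSystemAut B) x y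
  refine ⟨k, ?_⟩
  have hk' : ∀ i, k.1 (x i) = y i := fun i => by
    have := congrArg (fun z : Fin 3 ↪ α => z i) hk
    exact this
  let s : Finset α := Finset.univ.image y
  have hs : s.card = 3 := by
    rw [Finset.card_image_of_injective _ y.injective, Finset.card_univ, Fintype.card_fin]
  obtain ⟨c, -, hc⟩ := hB.2 s hs
  have h1 : b'.1 = c := by
    apply hc _ ⟨b'.2, ?_⟩
    intro z hz
    obtain ⟨i, -, rfl⟩ := Finset.mem_image.mp hz
    exact (y' i).2
  have h2 : b.1.image k.1 = c := by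
    apply hc _ ⟨(blockEquiv k.1 (image_eq_of_aut k.2) b).2, ?_⟩
    intro z hz
    obtain ⟨i, -, rfl⟩ := Finset.mem_image.mp hz
    rw [← hk' i]
    exact Finset.mem_image_of_mem _ (x' i).2
  rw [h1, h2]

include hα hB h3 in
theorem delta_cases (M : Subgroup ↥(setSystemAut B)) (hMi : M.index = 2)
    (Δ : Set (Option (α ⊕ ↥B))) (hnone : none ∈ Δ)
    (hΔ : ∀ m ∈ M, ∀ x ∈ Δ, ofAut m x ∈ Δ) (hdvd : Δ.ncard ∣ 100) :
    Δ = {none} ∨ Δ = Set.univ := by
  have hcardV : Fintype.card (Option (α ⊕ ↥B)) = 100 := by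
    classical
    have hΓ : (pointBlockGraph B).IsSRGWith 100 22 0 6 := Cfsg.Agent.S0428.result hα hB
    rw [← hΓ.card]
  have hcardB : Fintype.card ↥B = 77 := by
    rw [Fintype.card_option, Fintype.card_sum, hα] at hcardV
    omega
  let Op : Set (Option (α ⊕ ↥B)) := Set.range (fun a : α => some (Sum.inl a))
  let Ob : Set (Option (α ⊕ ↥B)) := Set.range (fun b : ↥B => some (Sum.inr b))
  have hOpc : Op.ncard = 22 := by
    have h1 : Op = (fun a : α => (some (Sum.inl a) : Option (α ⊕ ↥B))) '' Set.univ :=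
      Set.image_univ.symm
    rw [h1, Set.ncard_image_of_injective _ (fun a a' h => by simpa using h), Set.ncard_univ,
      Nat.card_eq_fintype_card, hα]
  have hObc : Ob.ncard = 77 := by
    have h1 : Ob = (fun b : ↥B => (some (Sum.inr b) : Option (α ⊕ ↥B))) '' Set.univ :=
      Set.image_univ.symm
    rw [h1, Set.ncard_image_of_injective _ (fun a a' h => by simpa using h), Set.ncard_univ,
      Nat.card_eq_fintype_card, hcardB]
  have hp := half_orbit (ofAutHom (B := B)) M hMi Op (Δ ∩ Op)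
    (by
      rintro k _ ⟨a, rfl⟩
      exact ⟨k.1 a, rfl⟩)
    (by
      rintro _ ⟨a, rfl⟩ _ ⟨a', rfl⟩
      obtain ⟨k, hk⟩ := exists_map_point hα h3 a a'
      refine ⟨k, ?_⟩
      show ofAut k (some (Sum.inl a)) = some (Sum.inl a')
      rw [ofAut_inl, hk])
    Set.inter_subset_right
    (by
      rintro m hm x ⟨hx, a, rfl⟩
      exact ⟨hΔ m hm _ hx, m.1 a, rfl⟩)
  have hb := half_orbit (ofAutHom (B := B)) M hMi Ob (Δ ∩ Ob)
    (by
      rintro k _ ⟨b, rfl⟩
      exact ⟨blockEquiv k.1 (image_eq_of_aut k.2) b, rfl⟩)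
    (by
      rintro _ ⟨b, rfl⟩ _ ⟨b', rfl⟩
      obtain ⟨k, hk⟩ := exists_map_block hB h3 b b'
      refine ⟨k, ?_⟩
      show ofAut k (some (Sum.inr b)) = some (Sum.inr b')
      rw [ofAut_apply_inr]
      congr 2
      exact Subtype.ext hk)
    Set.inter_subset_right
    (by
      rintro m hm x ⟨hx, b, rfl⟩
      exact ⟨hΔ m hm _ hx, blockEquiv m.1 (image_eq_of_aut m.2) b, rfl⟩)
  -- decomposition of `Δ`
  have hΔeq : Δ = insert none ((Δ ∩ Op) ∪ (Δ ∩ Ob)) := by
    ext x
    rcases x with _ | a | b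
    · simp [hnone]
    · simp [Op, Ob]
    · simp [Op, Ob]
  have hnot : (none : Option (α ⊕ ↥B)) ∉ (Δ ∩ Op) ∪ (Δ ∩ Ob) := by
    simp [Op, Ob]
  have hdisj : Disjoint (Δ ∩ Op) (Δ ∩ Ob) := by
    rw [Set.disjoint_left]
    rintro x ⟨-, a, rfl⟩ ⟨-, b, hb⟩
    simp at hb
  have hcard : Δ.ncard = (Δ ∩ Op).ncard + (Δ ∩ Ob).ncard + 1 := by
    conv_lhs => rw [hΔeq]
    rw [Set.ncard_insert_of_notMem hnot, Set.ncard_union_eq hdisj]
  rw [hOpc] at hp
  rw [hObc] at hb
  have hb2 : Δ ∩ Ob = ∅ ∨ Δ ∩ Ob = Ob := by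
    rcases hb with h | h | h
    · exact Or.inl h
    · exact Or.inr h
    · omega
  rcases hb2 with hb2 | hb2
  · rcases hp with hp | hp | hp
    · left
      rw [hΔeq, hp, hb2]
      simp
    · exfalso
      rw [hcard, hp, hb2, hOpc, Set.ncard_empty] at hdvd
      revert hdvd
      decide
    · exfalso
      rw [hcard, hb2, Set.ncard_empty] at hdvd
      have : (Δ ∩ Op).ncard = 11 := by omega
      rw [this] at hdvd
      revert hdvd
      decide
  · rcases hp with hp | hp | hp
    · exfalso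
      rw [hcard, hp, hb2, hObc, Set.ncard_empty] at hdvd
      revert hdvd
      decide
    · right
      rw [hΔeq, hp, hb2]
      ext x
      rcases x with _ | a | b <;> simp [Op, Ob]
    · exfalso
      rw [hcard, hb2, hObc] at hdvd
      have : (Δ ∩ Op).ncard = 11 := by omega
      rw [this] at hdvd
      revert hdvd
      decide

end orbits

/-- the Higman–Sims group inside the automorphism group of the point-block graph, given the
structure of the automorphism group of the Steiner system -/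
theorem hs_exists (hα : Fintype.card α = 22) (hB : IsSteinerSystem 3 6 B)
    (h414 : Nat.card ↥(setSystemAut B) = 887040 ∧
      MulAction.IsMultiplyPretransitive ↥(setSystemAut B) α 3 ∧
      ∃ H : Subgroup ↥(setSystemAut B), H.index = 2 ∧ IsM22 ↥H) :
    ∃ H : Subgroup (pointBlockGraph B ≃g pointBlockGraph B), IsHS ↥H := by
  obtain ⟨hcard, h3, M, hMi, hM⟩ := h414
  obtain ⟨σ₀, hσ₀⟩ := exists_odd hα hB
  have hcardV : Fintype.card (Option (α ⊕ ↥B)) = 100 := by
    classical
    have hΓ : (pointBlockGraph B).IsSRGWith 100 22 0 6 := Cfsg.Agent.S0428.result hα hB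
    rw [← hΓ.card]
  haveI : Finite (pointBlockGraph B ≃g pointBlockGraph B) :=
    Finite.of_injective (fun g => g.toEquiv) (fun g g' h => RelIso.ext fun x => by
      have := congrArg (fun e : Option (α ⊕ ↥B) ≃ Option (α ⊕ ↥B) => e x) h
      exact this)
  refine ⟨(signHom (B := B)).ker, ?_, ?_⟩
  · haveI : IsPretransitive ↥(signHom (B := B)).ker (Option (α ⊕ ↥B)) := by
      refine ⟨fun x y => ?_⟩
      obtain ⟨h1, hh1, hx⟩ := ker_transitive hα hB σ₀ hσ₀ x
      obtain ⟨h2, hh2, hy⟩ := ker_transitive hα hB σ₀ hσ₀ y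
      refine ⟨⟨h2, hh2⟩ * ⟨h1, hh1⟩⁻¹, ?_⟩
      show h2 (h1⁻¹ x) = y
      rw [← hx, RelIso.inv_apply_self, hy]
    haveI := isSimpleGroup_stabilizer M hMi hM σ₀ hσ₀
    apply isSimpleGroup_of_degree_100 hcardV none
    intro Δ hnone hΔ hdvd
    apply delta_cases hα hB h3 M hMi Δ hnone _ hdvd
    intro m hm x hx
    exact hΔ (stabHom M hM ⟨m, hm⟩).1 (stabHom M hM ⟨m, hm⟩).2 x hx
  · have h1 := Subgroup.card_mul_index (signHom (B := B)).ker
    rw [index_ker_signHom σ₀ hσ₀, card_aut_pb hα hB hcard] at h1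
    omega

end Cfsg.Agent.Lib.Helper10.HSMain
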