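import Cfsg.Agent.Lib.Helper10.HSOddData

set_option autoImplicit false

namespace Cfsg.Agent.Lib.Helper10.HSOdd

open Cfsg
open Cfsg.Agent.Lib.Helper28.FinMask Cfsg.Agent.Lib.Helper28.Plane4Model

theorem blk_bits : ∀ m ∈ blk, ∀ i : Fin 22,
    (permMask m).testBit (sig i).val = m.testBit i.val := by
  decide +kernel

theorem blk_closed : ∀ m ∈ blk, permMask m ∈ blk := by decide +kernel

theorem blk_lt : ∀ m ∈ blk, m < 2 ^ 22 := by decide +kernel

theorem blk_nodup : blk.Nodup := by decide +kernel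

theorem blk_of_line : ∀ m ∈ lineMasks, m + 2 ^ 21 ∈ blk := by decide +kernel

theorem blk_of_hyp : ∀ p ∈ hypAll, p.2 = 0 → p.1 ∈ blk := by decide +kernel

theorem blk_cases : ∀ m ∈ blk, (∃ m' ∈ lineMasks, m = m' + 2 ^ 21) ∨
    ∃ p ∈ hypAll, p.2 = 0 ∧ m = p.1 := by decide +kernel

theorem fix_iff : ∀ m ∈ blk, permMask m = m ↔ m ∈ fixMasks := by decide +kernel

theorem fix_sub : ∀ m ∈ fixMasks, m ∈ blk := by decide +kernel

theorem fix_nodup : fixMasks.Nodup := by decide +kernel

theorem fix_length : fixMasks.length = 21 := by decide +kernel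

theorem blk_length : blk.length = 77 := by decide +kernel

theorem sig_sq : sig * sig = 1 := by
  apply Equiv.ext
  intro x
  revert x
  decide

theorem sig_fixed : (Finset.univ.filter fun i : Fin 22 => sig i = i).card = 8 := by decide

end Cfsg.Agent.Lib.Helper10.HSOdd
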