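import Mathlib
import Cfsg.Prelude.Def_Sporadic_a

set_option autoImplicit false
set_option linter.unusedSectionVars false

/-! A strongly regular graph with parameters (100, 22, 0, 6): the neighbours of a vertex and the
traces of the non-neighbours form a Steiner system S(3, 6, 22). -/

namespace Cfsg.Agent.Lib.Helper10.Srg100

open Cfsg Finset

variable {V : Type*} [Fintype V] [DecidableEq V] {G : SimpleGraph V} [DecidableRel G.Adj]

theorem card_inter_eq (x y : V) :
    (G.neighborFinset x ∩ G.neighborFinset y).card = Fintype.card (G.commonNeighbors x y) := by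
  rw [← Set.toFinset_card]
  congr 1
  ext z
  simp [SimpleGraph.mem_commonNeighbors]

theorem card_inter_of_adj (hG : G.IsSRGWith 100 22 0 6) {x y : V} (h : G.Adj x y) :
    G.neighborFinset x ∩ G.neighborFinset y = ∅ := by
  rw [← Finset.card_eq_zero, card_inter_eq, hG.of_adj x y h]

theorem card_inter_of_not_adj (hG : G.IsSRGWith 100 22 0 6) {x y : V} (hxy : x ≠ y)
    (h : ¬ G.Adj x y) : (G.neighborFinset x ∩ G.neighborFinset y).card = 6 := by
  rw [card_inter_eq, hG.of_not_adj hxy h]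

theorem card_nbr (hG : G.IsSRGWith 100 22 0 6) (x : V) : (G.neighborFinset x).card = 22 :=
  hG.regular.degree_eq x

/-- no triangles -/
theorem no_triangle (hG : G.IsSRGWith 100 22 0 6) {a b c : V} (hab : G.Adj a b) (hac : G.Adj a c) :
    ¬ G.Adj b c := by
  intro hbc
  have h := card_inter_of_adj hG hbc
  have : a ∈ G.neighborFinset b ∩ G.neighborFinset c := by
    rw [Finset.mem_inter, SimpleGraph.mem_neighborFinset, SimpleGraph.mem_neighborFinset]
    exact ⟨hab.symm, hac.symm⟩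
  rw [h] at this
  exact absurd this (Finset.notMem_empty a)

variable (G) in
/-- the points: the neighbours of the base vertex -/
def P (v₀ : V) : Finset V := G.neighborFinset v₀

variable (G) in
/-- the vertices at distance two from the base vertex -/
def Q (v₀ : V) : Finset V := Finset.univ.filter fun q => q ≠ v₀ ∧ ¬ G.Adj v₀ q

variable (G) in
/-- the trace of a vertex on the points -/
def tr (v₀ q : V) : Finset V := G.neighborFinset q ∩ P G v₀

theorem mem_P {v₀ p : V} : p ∈ P G v₀ ↔ G.Adj v₀ p := by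
  simp [P]

theorem mem_Q {v₀ q : V} : q ∈ Q G v₀ ↔ q ≠ v₀ ∧ ¬ G.Adj v₀ q := by
  simp [Q]

theorem mem_tr {v₀ q p : V} : p ∈ tr G v₀ q ↔ G.Adj q p ∧ G.Adj v₀ p := by
  simp [tr, mem_P]

theorem card_P (hG : G.IsSRGWith 100 22 0 6) (v₀ : V) : (P G v₀).card = 22 := card_nbr hG v₀

theorem P_indep (hG : G.IsSRGWith 100 22 0 6) {v₀ p p' : V} (hp : p ∈ P G v₀) (hp' : p' ∈ P G v₀) :
    ¬ G.Adj p p' :=
  no_triangle hG (mem_P.mp hp) (mem_P.mp hp')

theorem disjoint_P_Q (v₀ : V) : Disjoint (P G v₀) (Q G v₀) := by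
  rw [Finset.disjoint_left]
  intro x hx hx'
  exact (mem_Q.mp hx').2 (mem_P.mp hx)

theorem v0_not_mem_P (v₀ : V) : v₀ ∉ P G v₀ := fun h => G.loopless.irrefl v₀ (mem_P.mp h)

theorem v0_not_mem_Q (v₀ : V) : v₀ ∉ Q G v₀ := fun h => (mem_Q.mp h).1 rfl

theorem univ_eq (v₀ : V) : (Finset.univ : Finset V) = insert v₀ (P G v₀ ∪ Q G v₀) := by
  ext x
  simp only [Finset.mem_univ, Finset.mem_insert, Finset.mem_union, mem_P, mem_Q, true_iff]
  by_cases h1 : x = v₀
  · exact Or.inl h1
  · by_cases h2 : G.Adj v₀ x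
    · exact Or.inr (Or.inl h2)
    · exact Or.inr (Or.inr ⟨h1, h2⟩)

theorem card_Q (hG : G.IsSRGWith 100 22 0 6) (v₀ : V) : (Q G v₀).card = 77 := by
  have h := congrArg Finset.card (univ_eq (G := G) v₀)
  rw [Finset.card_univ, hG.card, Finset.card_insert_of_notMem, Finset.card_union_of_disjoint
    (disjoint_P_Q v₀), card_P hG] at h
  · omega
  · rw [Finset.mem_union]
    rintro (h | h)
    · exact v0_not_mem_P v₀ h
    · exact v0_not_mem_Q v₀ h

theorem card_tr (hG : G.IsSRGWith 100 22 0 6) {v₀ q : V} (hq : q ∈ Q G v₀) :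
    (tr G v₀ q).card = 6 :=
  card_inter_of_not_adj hG (mem_Q.mp hq).1 (fun h => (mem_Q.mp hq).2 h.symm)

/-- a point has 21 neighbours at distance two from the base vertex -/
theorem card_nbr_P_Q (hG : G.IsSRGWith 100 22 0 6) {v₀ p : V} (hp : p ∈ P G v₀) :
    (G.neighborFinset p ∩ Q G v₀).card = 21 := by
  have h1 : G.neighborFinset p = insert v₀ (G.neighborFinset p ∩ Q G v₀) := by
    ext x
    simp only [Finset.mem_insert, Finset.mem_inter, SimpleGraph.mem_neighborFinset, mem_Q]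
    constructor
    · intro hx
      by_cases h1 : x = v₀
      · exact Or.inl h1
      · refine Or.inr ⟨hx, h1, ?_⟩
        intro h2
        exact P_indep hG hp (mem_P.mpr h2) hx
    · rintro (rfl | h)
      · exact (mem_P.mp hp).symm
      · exact h.1
  have h2 := congrArg Finset.card h1
  rw [card_nbr hG, Finset.card_insert_of_notMem] at h2
  · omega
  · intro h
    exact v0_not_mem_Q v₀ (Finset.mem_inter.mp h).2

/-- two points have 5 common neighbours at distance two from the base vertex -/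
theorem card_nbr_P_P_Q (hG : G.IsSRGWith 100 22 0 6) {v₀ p p' : V} (hp : p ∈ P G v₀)
    (hp' : p' ∈ P G v₀) (hne : p ≠ p') :
    (G.neighborFinset p ∩ G.neighborFinset p' ∩ Q G v₀).card = 5 := by
  have h0 := card_inter_of_not_adj hG hne (P_indep hG hp hp')
  have h1 : G.neighborFinset p ∩ G.neighborFinset p' =
      insert v₀ (G.neighborFinset p ∩ G.neighborFinset p' ∩ Q G v₀) := by
    ext x
    simp only [Finset.mem_insert, Finset.mem_inter, SimpleGraph.mem_neighborFinset, mem_Q]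
    constructor
    · rintro ⟨hx, hx'⟩
      by_cases h1 : x = v₀
      · exact Or.inl h1
      · refine Or.inr ⟨⟨hx, hx'⟩, h1, ?_⟩
        intro h2
        exact P_indep hG hp (mem_P.mpr h2) hx
    · rintro (rfl | h)
      · exact ⟨(mem_P.mp hp).symm, (mem_P.mp hp').symm⟩
      · exact h.1
  have h2 := congrArg Finset.card h1
  rw [h0, Finset.card_insert_of_notMem] at h2
  · omega
  · intro h
    exact v0_not_mem_Q v₀ (Finset.mem_inter.mp h).2

/-- a vertex at distance two has 16 neighbours at distance two -/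
theorem card_nbr_Q_Q (hG : G.IsSRGWith 100 22 0 6) {v₀ q : V} (hq : q ∈ Q G v₀) :
    (G.neighborFinset q ∩ Q G v₀).card = 16 := by
  have h1 : G.neighborFinset q = tr G v₀ q ∪ (G.neighborFinset q ∩ Q G v₀) := by
    ext x
    simp only [Finset.mem_union, mem_tr, Finset.mem_inter, SimpleGraph.mem_neighborFinset, mem_Q]
    constructor
    · intro hx
      by_cases h2 : G.Adj v₀ x
      · exact Or.inl ⟨hx, h2⟩
      · refine Or.inr ⟨hx, ?_, h2⟩
        rintro rfl
        exact (mem_Q.mp hq).2 hx.symm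
    · rintro (h | h)
      · exact h.1
      · exact h.1
  have hd : Disjoint (tr G v₀ q) (G.neighborFinset q ∩ Q G v₀) := by
    rw [Finset.disjoint_left]
    intro x hx hx'
    exact (mem_Q.mp (Finset.mem_inter.mp hx').2).2 (mem_tr.mp hx).2
  have h2 := congrArg Finset.card h1
  rw [card_nbr hG, Finset.card_union_of_disjoint hd, card_tr hG hq] at h2
  omega

/-! ### The variance argument -/

variable (G) in
/-- the number of common points of two vertices at distance two -/
def xc (v₀ q q' : V) : ℕ := ((tr G v₀ q).filter fun p => G.Adj q' p).card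

theorem tr_inter (v₀ q q' : V) :
    tr G v₀ q ∩ tr G v₀ q' = (tr G v₀ q).filter fun p => G.Adj q' p := by
  ext p
  simp only [Finset.mem_inter, Finset.mem_filter, mem_tr]
  tauto

theorem xc_eq (v₀ q q' : V) : xc G v₀ q q' = (tr G v₀ q ∩ tr G v₀ q').card := by
  rw [tr_inter]; rfl

theorem xc_of_adj (hG : G.IsSRGWith 100 22 0 6) {v₀ q q' : V} (h : G.Adj q q') :
    xc G v₀ q q' = 0 := by
  unfold xc
  rw [Finset.card_eq_zero, Finset.filter_eq_empty_iff]
  intro p hp hp'
  exact no_triangle hG (mem_tr.mp hp).1.symm hp'.symm h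

/-- first moment -/
theorem sum_xc (hG : G.IsSRGWith 100 22 0 6) {v₀ q : V} (hq : q ∈ Q G v₀) :
    ∑ q' ∈ (Q G v₀).erase q, xc G v₀ q q' = 120 := by
  unfold xc
  have h := Finset.sum_card_bipartiteAbove_eq_sum_card_bipartiteBelow
    (s := (Q G v₀).erase q) (t := tr G v₀ q) (fun q' p => G.Adj q' p)
  unfold Finset.bipartiteAbove Finset.bipartiteBelow at h
  rw [h]
  have h2 : ∀ p ∈ tr G v₀ q, (((Q G v₀).erase q).filter fun q' => G.Adj q' p).card = 20 := by
    intro p hp
    have hpP : p ∈ P G v₀ := mem_P.mpr (mem_tr.mp hp).2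
    have e : ((Q G v₀).erase q).filter (fun q' => G.Adj q' p) =
        (G.neighborFinset p ∩ Q G v₀).erase q := by
      ext z
      simp only [Finset.mem_filter, Finset.mem_erase, Finset.mem_inter,
        SimpleGraph.mem_neighborFinset]
      constructor
      · rintro ⟨⟨h1, h2⟩, h3⟩
        exact ⟨h1, h3.symm, h2⟩
      · rintro ⟨h1, h2, h3⟩
        exact ⟨⟨h1, h3⟩, h2.symm⟩
    rw [e, Finset.card_erase_of_mem, card_nbr_P_Q hG hpP]
    rw [Finset.mem_inter, SimpleGraph.mem_neighborFinset]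
    exact ⟨(mem_tr.mp hp).1.symm, hq⟩
  rw [Finset.sum_congr rfl h2, Finset.sum_const, card_tr hG hq]
  rfl

/-- second moment -/
theorem sum_xc_sq (hG : G.IsSRGWith 100 22 0 6) {v₀ q : V} (hq : q ∈ Q G v₀) :
    ∑ q' ∈ (Q G v₀).erase q, xc G v₀ q q' ^ 2 = 240 := by
  have h0 : ∀ q', xc G v₀ q q' ^ 2 =
      (((tr G v₀ q) ×ˢ (tr G v₀ q)).filter fun pp => G.Adj q' pp.1 ∧ G.Adj q' pp.2).card := by
    intro q'
    unfold xc
    rw [sq, ← Finset.card_product, Finset.filter_product]
  simp only [h0]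
  have h := Finset.sum_card_bipartiteAbove_eq_sum_card_bipartiteBelow
    (s := (Q G v₀).erase q) (t := (tr G v₀ q) ×ˢ (tr G v₀ q))
    (fun q' pp => G.Adj q' pp.1 ∧ G.Adj q' pp.2)
  unfold Finset.bipartiteAbove Finset.bipartiteBelow at h
  rw [h, Finset.sum_product]
  have hdiag : ∀ p ∈ tr G v₀ q,
      (((Q G v₀).erase q).filter fun q' => G.Adj q' p ∧ G.Adj q' p).card = 20 := by
    intro p hp
    have hpP : p ∈ P G v₀ := mem_P.mpr (mem_tr.mp hp).2
    have e : ((Q G v₀).erase q).filter (fun q' => G.Adj q' p ∧ G.Adj q' p) =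
        (G.neighborFinset p ∩ Q G v₀).erase q := by
      ext z
      simp only [Finset.mem_filter, Finset.mem_erase, Finset.mem_inter,
        SimpleGraph.mem_neighborFinset, and_self]
      constructor
      · rintro ⟨⟨h1, h2⟩, h3⟩
        exact ⟨h1, h3.symm, h2⟩
      · rintro ⟨h1, h2, h3⟩
        exact ⟨⟨h1, h3⟩, h2.symm⟩
    rw [e, Finset.card_erase_of_mem, card_nbr_P_Q hG hpP]
    rw [Finset.mem_inter, SimpleGraph.mem_neighborFinset]
    exact ⟨(mem_tr.mp hp).1.symm, hq⟩
  have hoff : ∀ p ∈ tr G v₀ q, ∀ p' ∈ (tr G v₀ q).erase p,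
      (((Q G v₀).erase q).filter fun q' => G.Adj q' p ∧ G.Adj q' p').card = 4 := by
    intro p hp p' hp'
    rw [Finset.mem_erase] at hp'
    have hpP : p ∈ P G v₀ := mem_P.mpr (mem_tr.mp hp).2
    have hpP' : p' ∈ P G v₀ := mem_P.mpr (mem_tr.mp hp'.2).2
    have e : ((Q G v₀).erase q).filter (fun q' => G.Adj q' p ∧ G.Adj q' p') =
        (G.neighborFinset p ∩ G.neighborFinset p' ∩ Q G v₀).erase q := by
      ext z
      simp only [Finset.mem_filter, Finset.mem_erase, Finset.mem_inter,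
        SimpleGraph.mem_neighborFinset]
      constructor
      · rintro ⟨⟨h1, h2⟩, h3, h4⟩
        exact ⟨h1, ⟨h3.symm, h4.symm⟩, h2⟩
      · rintro ⟨h1, ⟨h2, h3⟩, h4⟩
        exact ⟨⟨h1, h4⟩, h2.symm, h3.symm⟩
    rw [e, Finset.card_erase_of_mem, card_nbr_P_P_Q hG hpP hpP' (Ne.symm hp'.1)]
    rw [Finset.mem_inter, Finset.mem_inter, SimpleGraph.mem_neighborFinset,
      SimpleGraph.mem_neighborFinset]
    exact ⟨⟨(mem_tr.mp hp).1.symm, (mem_tr.mp hp'.2).1.symm⟩, hq⟩
  have hrow : ∀ p ∈ tr G v₀ q, ∑ p' ∈ tr G v₀ q,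
      (((Q G v₀).erase q).filter fun q' => G.Adj q' (p, p').1 ∧ G.Adj q' (p, p').2).card = 40 := by
    intro p hp
    rw [← Finset.add_sum_erase _ _ hp, hdiag p hp, Finset.sum_congr rfl (hoff p hp),
      Finset.sum_const, Finset.card_erase_of_mem hp, card_tr hG hq]
    rfl
  rw [Finset.sum_congr rfl hrow, Finset.sum_const, card_tr hG hq]
  rfl

/-- the weights -/
theorem sum_w (hG : G.IsSRGWith 100 22 0 6) {v₀ q : V} (hq : q ∈ Q G v₀) :
    ∑ q' ∈ (Q G v₀).erase q, (if G.Adj q q' then 0 else 4) = 240 := by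
  rw [Finset.sum_ite, Finset.sum_const_zero, zero_add, Finset.sum_const, smul_eq_mul]
  have e : ((Q G v₀).erase q).filter (fun q' => G.Adj q q') = G.neighborFinset q ∩ Q G v₀ := by
    ext z
    simp only [Finset.mem_filter, Finset.mem_erase, Finset.mem_inter,
      SimpleGraph.mem_neighborFinset]
    constructor
    · rintro ⟨⟨-, h2⟩, h3⟩
      exact ⟨h3, h2⟩
    · rintro ⟨h1, h2⟩
      exact ⟨⟨fun h => G.loopless.irrefl q (h ▸ h1), h2⟩, h1⟩
  have h1 := Finset.card_filter_add_card_filter_not (s := (Q G v₀).erase q)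
    (fun q' => G.Adj q q')
  rw [e, card_nbr_Q_Q hG hq, Finset.card_erase_of_mem hq, card_Q hG] at h1
  omega

/-- two vertices at distance two from the base vertex: adjacent ones have disjoint traces,
non-adjacent ones have exactly two common points -/
theorem xc_of_not_adj (hG : G.IsSRGWith 100 22 0 6) {v₀ q q' : V} (hq : q ∈ Q G v₀)
    (hq' : q' ∈ Q G v₀) (hne : q ≠ q') (h : ¬ G.Adj q q') : xc G v₀ q q' = 2 := by
  have hle : ∀ z ∈ (Q G v₀).erase q,
      4 * xc G v₀ q z ≤ xc G v₀ q z ^ 2 + (if G.Adj q z then 0 else 4) := by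
    intro z _
    by_cases hz : G.Adj q z
    · rw [if_pos hz, xc_of_adj hG hz]
      norm_num
    · rw [if_neg hz]
      nlinarith [sq_nonneg ((xc G v₀ q z : ℤ) - 2)]
  have hsum : ∑ z ∈ (Q G v₀).erase q, 4 * xc G v₀ q z =
      ∑ z ∈ (Q G v₀).erase q, (xc G v₀ q z ^ 2 + (if G.Adj q z then 0 else 4)) := by
    rw [← Finset.mul_sum, sum_xc hG hq, Finset.sum_add_distrib, sum_xc_sq hG hq, sum_w hG hq]
    norm_num
  have := (Finset.sum_eq_sum_iff_of_le hle).mp hsum q' (Finset.mem_erase.mpr ⟨hne.symm, hq'⟩)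
  rw [if_neg h] at this
  nlinarith [sq_nonneg ((xc G v₀ q q' : ℤ) - 2)]

end Cfsg.Agent.Lib.Helper10.Srg100
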