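import Mathlib
import Cfsg.Prelude.Def_Sporadic_a
import Cfsg.Agent.Lib.Helper10.Srg100A

set_option autoImplicit false
set_option linter.unusedSectionVars false

/-! The Steiner system S(3, 6, 22) of a strongly regular graph with parameters (100, 22, 0, 6) at a
vertex, and the isomorphism of the graph with the point-block graph. -/

namespace Cfsg.Agent.Lib.Helper10.Srg100

open Cfsg Finset

variable {V : Type*} [Fintype V] [DecidableEq V] {G : SimpleGraph V} [DecidableRel G.Adj]

variable (G) in
/-- the block of a vertex at distance two, as a set of points -/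
def blk (v₀ q : V) : Finset {x // x ∈ P G v₀} := (tr G v₀ q).subtype (· ∈ P G v₀)

variable (G) in
/-- the blocks -/
def Blk (v₀ : V) : Set (Finset {x // x ∈ P G v₀}) := {b | ∃ q ∈ Q G v₀, b = blk G v₀ q}

theorem tr_subset (v₀ q : V) : tr G v₀ q ⊆ P G v₀ := Finset.inter_subset_right

theorem mem_blk {v₀ q : V} {x : {x // x ∈ P G v₀}} : x ∈ blk G v₀ q ↔ G.Adj q x.1 := by
  unfold blk
  rw [Finset.mem_subtype, mem_tr]
  exact ⟨fun h => h.1, fun h => ⟨h, mem_P.mp x.2⟩⟩

theorem map_blk (v₀ q : V) :
    (blk G v₀ q).map (Function.Embedding.subtype _) = tr G v₀ q := by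
  unfold blk
  rw [Finset.subtype_map, Finset.filter_true_of_mem (fun x hx => tr_subset v₀ q hx)]

theorem card_blk (hG : G.IsSRGWith 100 22 0 6) {v₀ q : V} (hq : q ∈ Q G v₀) :
    (blk G v₀ q).card = 6 := by
  rw [← Finset.card_map (Function.Embedding.subtype _), map_blk, card_tr hG hq]

theorem card_blk_inter (v₀ q q' : V) : (blk G v₀ q ∩ blk G v₀ q').card = xc G v₀ q q' := by
  rw [← Finset.card_map (Function.Embedding.subtype _), Finset.map_inter, map_blk, map_blk, xc_eq]

theorem card_blk_inter_le (hG : G.IsSRGWith 100 22 0 6) {v₀ q q' : V} (hq : q ∈ Q G v₀)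
    (hq' : q' ∈ Q G v₀) (hne : q ≠ q') : (blk G v₀ q ∩ blk G v₀ q').card ≤ 2 := by
  rw [card_blk_inter]
  by_cases h : G.Adj q q'
  · rw [xc_of_adj hG h]; norm_num
  · rw [xc_of_not_adj hG hq hq' hne h]

theorem blk_injOn (hG : G.IsSRGWith 100 22 0 6) {v₀ q q' : V} (hq : q ∈ Q G v₀)
    (hq' : q' ∈ Q G v₀) (h : blk G v₀ q = blk G v₀ q') : q = q' := by
  by_contra hne
  have := card_blk_inter_le hG hq hq' hne
  rw [h, Finset.inter_self, card_blk hG hq'] at this
  omega

theorem card_points (hG : G.IsSRGWith 100 22 0 6) (v₀ : V) :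
    Fintype.card {x // x ∈ P G v₀} = 22 := by
  rw [Fintype.card_coe, card_P hG]

/-- the blocks form a Steiner system -/
theorem isSteiner_Blk (hG : G.IsSRGWith 100 22 0 6) (v₀ : V) :
    IsSteinerSystem 3 6 (Blk G v₀) := by
  constructor
  · rintro b ⟨q, hq, rfl⟩
    exact card_blk hG hq
  · intro T hT
    -- at most one block
    have huniq : ∀ q ∈ Q G v₀, ∀ q' ∈ Q G v₀, T ⊆ blk G v₀ q → T ⊆ blk G v₀ q' → q = q' := by
      intro q hq q' hq' h1 h2
      by_contra hne
      have h3 := card_blk_inter_le hG hq hq' hne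
      have h4 := Finset.card_le_card (Finset.subset_inter h1 h2)
      omega
    -- counting
    have hex : ∃ q ∈ Q G v₀, T ⊆ blk G v₀ q := by
      let S : Finset (Σ _ : V, Finset {x // x ∈ P G v₀}) :=
        (Q G v₀).sigma fun q => (blk G v₀ q).powersetCard 3
      have hS : S.card = 1540 := by
        rw [Finset.card_sigma]
        have : ∀ q ∈ Q G v₀, ((blk G v₀ q).powersetCard 3).card = 20 := by
          intro q hq
          rw [Finset.card_powersetCard, card_blk hG hq]
          rfl
        rw [Finset.sum_congr rfl this, Finset.sum_const, card_Q hG]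
        rfl
      have hT3 : ((Finset.univ : Finset {x // x ∈ P G v₀}).powersetCard 3).card = 1540 := by
        rw [Finset.card_powersetCard, Finset.card_univ, card_points hG]
        rfl
      have := Finset.surj_on_of_inj_on_of_card_le (s := S)
        (t := (Finset.univ : Finset {x // x ∈ P G v₀}).powersetCard 3) (fun a _ => a.2)
        (by
          intro a ha
          rw [Finset.mem_sigma] at ha
          rw [Finset.mem_powersetCard]
          exact ⟨Finset.subset_univ _, (Finset.mem_powersetCard.mp ha.2).2⟩)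
        (by
          intro a b ha hb hab
          rw [Finset.mem_sigma] at ha hb
          have hab' : a.2 = b.2 := hab
          have h1 := Finset.mem_powersetCard.mp ha.2
          have h2 := Finset.mem_powersetCard.mp hb.2
          have e : a.1 = b.1 := by
            by_contra hne
            have h3 := card_blk_inter_le hG ha.1 hb.1 hne
            have h4 := Finset.card_le_card (Finset.subset_inter h1.1 (hab' ▸ h2.1))
            omega
          exact Sigma.ext e (heq_of_eq hab'))
        (by rw [hS, hT3])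
        T (Finset.mem_powersetCard.mpr ⟨Finset.subset_univ _, hT⟩)
      obtain ⟨a, ha, hTa⟩ := this
      rw [Finset.mem_sigma] at ha
      exact ⟨a.1, ha.1, hTa ▸ (Finset.mem_powersetCard.mp ha.2).1⟩
    obtain ⟨q, hq, hTq⟩ := hex
    refine ⟨blk G v₀ q, ⟨⟨q, hq, rfl⟩, hTq⟩, ?_⟩
    rintro b ⟨⟨q', hq', rfl⟩, hTq'⟩
    rw [huniq q' hq' q hq hTq' hTq]

end Cfsg.Agent.Lib.Helper10.Srg100
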