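import Mathlib
import Cfsg.Prelude.Def_Sporadic_a
import Cfsg.Agent.Lib.Helper10.Srg100B
import Cfsg.Agent.S0428

set_option autoImplicit false
set_option linter.unusedSectionVars false

/-! A strongly regular graph with parameters (100, 22, 0, 6) is the point-block graph of its
Steiner system at a vertex. -/

namespace Cfsg.Agent.Lib.Helper10.Srg100

open Cfsg Finset

variable {V : Type*} [Fintype V] [DecidableEq V] {G : SimpleGraph V} [DecidableRel G.Adj]

theorem trichotomy (v₀ v : V) : v = v₀ ∨ v ∈ P G v₀ ∨ v ∈ Q G v₀ := by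
  have := Finset.mem_univ v
  rw [univ_eq (G := G) v₀, Finset.mem_insert, Finset.mem_union] at this
  exact this

theorem not_mem_P_of_mem_Q {v₀ q : V} (hq : q ∈ Q G v₀) : q ∉ P G v₀ := fun h =>
  (Finset.disjoint_left.mp (disjoint_P_Q v₀)) h hq

variable (G) in
/-- the map to the vertices of the point-block graph -/
noncomputable def phi (v₀ v : V) : Option ({x // x ∈ P G v₀} ⊕ ↥(Blk G v₀)) :=
  if h0 : v = v₀ then none
  else if h : v ∈ P G v₀ then some (Sum.inl ⟨v, h⟩)
  else some (Sum.inr ⟨blk G v₀ v, ⟨v, mem_Q.mpr ⟨h0, fun h' => h (mem_P.mpr h')⟩, rfl⟩⟩)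

theorem phi_base (v₀ : V) : phi G v₀ v₀ = none := by simp [phi]

theorem phi_P {v₀ p : V} (hp : p ∈ P G v₀) : phi G v₀ p = some (Sum.inl ⟨p, hp⟩) := by
  have h0 : p ≠ v₀ := fun h => v0_not_mem_P (G := G) v₀ (h ▸ hp)
  simp [phi, h0, hp]

theorem phi_Q {v₀ q : V} (hq : q ∈ Q G v₀) :
    phi G v₀ q = some (Sum.inr ⟨blk G v₀ q, ⟨q, hq, rfl⟩⟩) := by
  have h0 : q ≠ v₀ := (mem_Q.mp hq).1
  simp [phi, h0, not_mem_P_of_mem_Q hq]

theorem phi_injective (hG : G.IsSRGWith 100 22 0 6) (v₀ : V) :
    Function.Injective (phi G v₀) := by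
  intro u v huv
  rcases trichotomy (G := G) v₀ u with hu | hu | hu <;>
    rcases trichotomy (G := G) v₀ v with hv | hv | hv
  · rw [hu, hv]
  · rw [hu, phi_base, phi_P hv] at huv; exact absurd huv (by simp)
  · rw [hu, phi_base, phi_Q hv] at huv; exact absurd huv (by simp)
  · rw [hv, phi_base, phi_P hu] at huv; exact absurd huv (by simp)
  · rw [phi_P hu, phi_P hv] at huv
    simpa using huv
  · rw [phi_P hu, phi_Q hv] at huv; exact absurd huv (by simp)
  · rw [hv, phi_base, phi_Q hu] at huv; exact absurd huv (by simp)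
  · rw [phi_Q hu, phi_P hv] at huv; exact absurd huv (by simp)
  · rw [phi_Q hu, phi_Q hv] at huv
    have h1 := Sum.inr.inj (Option.some.inj huv)
    exact blk_injOn hG hu hv (congrArg Subtype.val h1)

theorem phi_surjective (v₀ : V) : Function.Surjective (phi G v₀) := by
  rintro (_ | ⟨x⟩ | ⟨b, q, hq, rfl⟩)
  · exact ⟨v₀, phi_base v₀⟩
  · exact ⟨x.1, phi_P x.2⟩
  · exact ⟨q, phi_Q hq⟩

theorem phi_adj (hG : G.IsSRGWith 100 22 0 6) (v₀ u v : V) :
    (pointBlockGraph (Blk G v₀)).Adj (phi G v₀ u) (phi G v₀ v) ↔ G.Adj u v := by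
  unfold pointBlockGraph
  rw [SimpleGraph.fromRel_adj]
  rcases trichotomy (G := G) v₀ u with hu | hu | hu <;>
    rcases trichotomy (G := G) v₀ v with hv | hv | hv
  · rw [hu, hv]
    simp
  · rw [hu, phi_base, phi_P hv]
    simp [pointBlockRel, mem_P.mp hv]
  · rw [hu, phi_base, phi_Q hv]
    simp [pointBlockRel, (mem_Q.mp hv).2]
  · rw [hv, phi_base, phi_P hu]
    simp [pointBlockRel, (mem_P.mp hu).symm]
  · rw [phi_P hu, phi_P hv]
    simp [pointBlockRel, P_indep hG hu hv]
  · rw [phi_P hu, phi_Q hv]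
    simp only [pointBlockRel, ne_eq, reduceCtorEq, not_false_eq_true, Option.some.injEq,
      or_false, true_and]
    rw [mem_blk]
    exact ⟨fun h => h.symm, fun h => h.symm⟩
  · rw [hv, phi_base, phi_Q hu]
    simp only [pointBlockRel, or_self, and_false, false_iff]
    exact fun h => (mem_Q.mp hu).2 h.symm
  · rw [phi_Q hu, phi_P hv]
    simp only [pointBlockRel, ne_eq, reduceCtorEq, not_false_eq_true, Option.some.injEq,
      false_or, true_and]
    rw [mem_blk]
  · rw [phi_Q hu, phi_Q hv]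
    simp only [pointBlockRel, ne_eq, Option.some.injEq, Sum.inr.injEq]
    have hsymm : Disjoint (blk G v₀ v) (blk G v₀ u) ↔ Disjoint (blk G v₀ u) (blk G v₀ v) :=
      disjoint_comm
    rw [hsymm, or_self]
    constructor
    · rintro ⟨hne, hd⟩
      by_contra hadj
      have hne' : u ≠ v := by
        rintro rfl
        exact hne rfl
      have h2 := xc_of_not_adj hG hu hv hne' hadj
      rw [← card_blk_inter, Finset.disjoint_iff_inter_eq_empty.mp hd] at h2
      simp at h2
    · intro hadj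
      have h0 := xc_of_adj hG (v₀ := v₀) hadj
      rw [← card_blk_inter, Finset.card_eq_zero] at h0
      refine ⟨?_, Finset.disjoint_iff_inter_eq_empty.mpr h0⟩
      intro h
      have := blk_injOn hG hu hv (congrArg Subtype.val h)
      exact G.loopless.irrefl u (this ▸ hadj)

/-- the graph is isomorphic to the point-block graph of its Steiner system at a vertex -/
noncomputable def isoPB (hG : G.IsSRGWith 100 22 0 6) (v₀ : V) :
    G ≃g pointBlockGraph (Blk G v₀) where
  toEquiv := Equiv.ofBijective (phi G v₀) ⟨phi_injective hG v₀, phi_surjective v₀⟩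
  map_rel_iff' := by
    intro u v
    exact phi_adj hG v₀ u v

theorem isoPB_base (hG : G.IsSRGWith 100 22 0 6) (v₀ : V) : isoPB hG v₀ v₀ = none :=
  phi_base v₀

end Cfsg.Agent.Lib.Helper10.Srg100
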