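import Mathlib
import Cfsg.Prelude.Def_Sporadic_a
import Cfsg.Agent.Lib.Helper10.Srg100C
import Cfsg.Agent.S0410

set_option autoImplicit false
set_option linter.unusedSectionVars false

/-! Uniqueness of the strongly regular graph with parameters (100, 22, 0, 6). -/

namespace Cfsg.Agent.Lib.Helper10.Srg100

open Cfsg Finset

section functor

variable {α β : Type*} [DecidableEq β] {B : Set (Finset α)} {B' : Set (Finset β)}

/-- the bijection of blocks induced by an isomorphism of set systems -/
noncomputable def blockEquiv (e : α ≃ β) (h : (fun b => b.image e) '' B = B') : ↥B ≃ ↥B' :=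
  Equiv.ofBijective (fun b => ⟨b.1.image e, h ▸ ⟨b.1, b.2, rfl⟩⟩) (by
    constructor
    · intro b c hbc
      have h1 : b.1.image e = c.1.image e := congrArg Subtype.val hbc
      exact Subtype.ext (Finset.image_injective e.injective h1)
    · rintro ⟨c, hc⟩
      rw [← h] at hc
      obtain ⟨b, hb, rfl⟩ := hc
      exact ⟨⟨b, hb⟩, rfl⟩)

theorem blockEquiv_val (e : α ≃ β) (h : (fun b => b.image e) '' B = B') (b : ↥B) :
    (blockEquiv e h b).1 = b.1.image e := rfl

/-- the map of vertices of point-block graphs -/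
noncomputable def pbEquiv (e : α ≃ β) (h : (fun b => b.image e) '' B = B') :
    Option (α ⊕ ↥B) ≃ Option (β ⊕ ↥B') :=
  Equiv.optionCongr (Equiv.sumCongr e (blockEquiv e h))

theorem pbRel_iff (e : α ≃ β) (h : (fun b => b.image e) '' B = B') (x y : Option (α ⊕ ↥B)) :
    pointBlockRel B' (pbEquiv e h x) (pbEquiv e h y) ↔ pointBlockRel B x y := by
  rcases x with _ | x | x <;> rcases y with _ | y | y <;>
    simp only [pbEquiv, Equiv.optionCongr_apply, Option.map_none, Option.map_some,
      Equiv.sumCongr_apply, Sum.map_inl, Sum.map_inr, pointBlockRel]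
  · rw [blockEquiv_val, Finset.mem_image]
    constructor
    · rintro ⟨a, ha, hax⟩
      rwa [← e.injective hax]
    · intro hx
      exact ⟨x, hx, rfl⟩
  · rw [blockEquiv_val, blockEquiv_val, Finset.disjoint_image e.injective]

/-- isomorphic set systems have isomorphic point-block graphs -/
noncomputable def pbIso (e : α ≃ β) (h : (fun b => b.image e) '' B = B') :
    pointBlockGraph B ≃g pointBlockGraph B' where
  toEquiv := pbEquiv e h
  map_rel_iff' := by
    intro x y
    unfold pointBlockGraph
    rw [SimpleGraph.fromRel_adj, SimpleGraph.fromRel_adj, pbRel_iff, pbRel_iff,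
      (pbEquiv e h).injective.ne_iff]

theorem pbIso_none (e : α ≃ β) (h : (fun b => b.image e) '' B = B') : pbIso e h none = none := rfl

end functor

/-- S0430 -/
theorem srg_unique {V W : Type*} [Fintype V] [Fintype W] {G : SimpleGraph V} {H : SimpleGraph W}
    [DecidableRel G.Adj] [DecidableRel H.Adj] (hG : G.IsSRGWith 100 22 0 6)
    (hH : H.IsSRGWith 100 22 0 6) : Nonempty (G ≃g H) := by
  classical
  have hV : Nonempty V := by
    rw [← Fintype.card_pos_iff, hG.card]; norm_num
  have hW : Nonempty W := by
    rw [← Fintype.card_pos_iff, hH.card]; norm_num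
  obtain ⟨v₀⟩ := hV
  obtain ⟨w₀⟩ := hW
  obtain ⟨e, he⟩ := Cfsg.Agent.S0410.result (card_points hG v₀) (card_points hH w₀)
    (isSteiner_Blk hG v₀) (isSteiner_Blk hH w₀)
  exact ⟨(isoPB hG v₀).trans ((pbIso e he).trans (isoPB hH w₀).symm)⟩

end Cfsg.Agent.Lib.Helper10.Srg100
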