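import Mathlib
import Cfsg.Prelude.Def_Sporadic_a
import Cfsg.Agent.Lib.Helper10.Srg100D
import Cfsg.Agent.Lib.Helper28.StabLib
import Cfsg.Agent.S0428

set_option autoImplicit false
set_option linter.unusedSectionVars false

/-! The automorphism group of the point-block graph of an S(3, 6, 22): it is transitive on the
100 vertices and the stabiliser of the extra vertex is the automorphism group of the Steiner
system. -/

namespace Cfsg.Agent.Lib.Helper10.Srg100

open Cfsg Finset
open scoped Pointwise

variable {α : Type*} [Fintype α] [DecidableEq α] {B : Set (Finset α)}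

theorem image_eq_of_aut {σ : Equiv.Perm α} (hσ : σ ∈ setSystemAut B) :
    (fun b => b.image σ) '' B = B := by
  have h1 : σ • B = B := MulAction.mem_stabilizer_iff.mp hσ
  exact h1

theorem aut_of_image_eq {σ : Equiv.Perm α} (h : (fun b => b.image σ) '' B = B) :
    σ ∈ setSystemAut B := by
  rw [MulAction.mem_stabilizer_iff]
  exact h

/-- adjacency to the extra vertex -/
theorem adj_none_iff (y : Option (α ⊕ ↥B)) :
    (pointBlockGraph B).Adj none y ↔ ∃ a, y = some (Sum.inl a) := by
  unfold pointBlockGraph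
  rw [SimpleGraph.fromRel_adj]
  rcases y with _ | a | b
  · simp
  · simp [pointBlockRel]
  · simp [pointBlockRel]

theorem adj_inl_inr (a : α) (b : ↥B) :
    (pointBlockGraph B).Adj (some (Sum.inl a)) (some (Sum.inr b)) ↔ a ∈ b.1 := by
  unfold pointBlockGraph
  rw [SimpleGraph.fromRel_adj]
  simp [pointBlockRel]

/-- the automorphism of the point-block graph induced by an automorphism of the set system -/
noncomputable def ofAut (σ : ↥(setSystemAut B)) : pointBlockGraph B ≃g pointBlockGraph B :=
  pbIso σ.1 (image_eq_of_aut σ.2)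

theorem ofAut_none (σ : ↥(setSystemAut B)) : ofAut σ none = none := rfl

theorem ofAut_inl (σ : ↥(setSystemAut B)) (a : α) :
    ofAut σ (some (Sum.inl a)) = some (Sum.inl (σ.1 a)) := rfl

theorem ofAut_inr (σ : ↥(setSystemAut B)) (b : ↥B) :
    ∃ b' : ↥B, ofAut σ (some (Sum.inr b)) = some (Sum.inr b') ∧ b'.1 = b.1.image σ.1 :=
  ⟨blockEquiv σ.1 (image_eq_of_aut σ.2) b, rfl, rfl⟩

/-- an automorphism fixing the extra vertex comes from an automorphism of the set system -/
theorem exists_ofAut (τ : pointBlockGraph B ≃g pointBlockGraph B) (hτ : τ none = none) :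
    ∃ σ : ↥(setSystemAut B), ofAut σ = τ := by
  -- points go to points
  have hpt : ∀ a : α, ∃ a', τ (some (Sum.inl a)) = some (Sum.inl a') := by
    intro a
    have h1 : (pointBlockGraph B).Adj none (some (Sum.inl a)) := (adj_none_iff _).mpr ⟨a, rfl⟩
    have h2 := τ.map_rel_iff.mpr h1
    rw [hτ] at h2
    exact (adj_none_iff _).mp h2
  choose f hf using hpt
  have hfinj : Function.Injective f := by
    intro a a' h
    have : τ (some (Sum.inl a)) = τ (some (Sum.inl a')) := by rw [hf, hf, h]
    simpa using τ.injective this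
  let σ : Equiv.Perm α := Equiv.ofBijective f (Finite.injective_iff_bijective.mp hfinj)
  have hσ : ∀ a, σ a = f a := fun a => rfl
  -- blocks go to blocks
  have hbl : ∀ b : ↥B, ∃ b' : ↥B, τ (some (Sum.inr b)) = some (Sum.inr b') := by
    intro b
    rcases h : τ (some (Sum.inr b)) with _ | a' | b'
    · exfalso
      rw [← hτ] at h
      exact absurd (τ.injective h) (by simp)
    · exfalso
      have h1 : (pointBlockGraph B).Adj none (τ (some (Sum.inr b))) := by
        rw [h]; exact (adj_none_iff _).mpr ⟨a', rfl⟩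
      rw [← hτ] at h1
      have h2 := τ.map_rel_iff.mp h1
      obtain ⟨a, ha⟩ := (adj_none_iff _).mp h2
      exact absurd ha (by simp)
    · exact ⟨b', rfl⟩
  choose g hg using hbl
  have hgb : ∀ b : ↥B, (g b).1 = b.1.image σ := by
    intro b
    ext a'
    obtain ⟨a, rfl⟩ := σ.surjective a'
    rw [Finset.mem_image]
    have h1 : (pointBlockGraph B).Adj (τ (some (Sum.inl a))) (τ (some (Sum.inr b))) ↔
        (pointBlockGraph B).Adj (some (Sum.inl a)) (some (Sum.inr b)) := τ.map_rel_iff
    rw [hf, hg, adj_inl_inr, adj_inl_inr] at h1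
    rw [hσ, h1]
    constructor
    · intro ha
      exact ⟨a, ha, rfl⟩
    · rintro ⟨a0, ha0, h0⟩
      have : a0 = a := hfinj h0
      rwa [← this]
  have himg : (fun b => b.image σ) '' B = B := by
    have hsub : (fun b => b.image σ) '' B ⊆ B := by
      rintro _ ⟨b, hb, rfl⟩
      have := hgb ⟨b, hb⟩
      show b.image σ ∈ B
      rw [← this]
      exact (g ⟨b, hb⟩).2
    have hfin : B.Finite := Set.toFinite B
    apply Set.eq_of_subset_of_ncard_le hsub _ hfin
    rw [Set.ncard_image_of_injective _ (Finset.image_injective σ.injective)]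
  refine ⟨⟨σ, aut_of_image_eq himg⟩, ?_⟩
  apply RelIso.ext
  rintro (_ | a | b)
  · rw [ofAut_none, hτ]
  · rw [ofAut_inl, hf]
    rfl
  · obtain ⟨b', hb', hb'2⟩ := ofAut_inr ⟨σ, aut_of_image_eq himg⟩ b
    rw [hb', hg]
    congr 2
    apply Subtype.ext
    rw [hb'2, hgb]

/-- the stabiliser of the extra vertex -/
theorem card_stab_none :
    Nat.card ↥(MulAction.stabilizer (pointBlockGraph B ≃g pointBlockGraph B)
      (none : Option (α ⊕ ↥B))) = Nat.card ↥(setSystemAut B) := by
  symm
  apply Nat.card_congr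
  refine Equiv.ofBijective (fun σ => ⟨ofAut σ, ofAut_none σ⟩) ⟨?_, ?_⟩
  · intro σ σ' h
    have h1 : ofAut σ = ofAut σ' := congrArg Subtype.val h
    apply Subtype.ext
    refine Equiv.ext fun a => ?_
    have h2 := congrArg (fun τ : pointBlockGraph B ≃g pointBlockGraph B => τ (some (Sum.inl a))) h1
    simp only [ofAut_inl] at h2
    simpa using h2
  · rintro ⟨τ, hτ⟩
    obtain ⟨σ, hσ⟩ := exists_ofAut τ hτ
    exact ⟨σ, Subtype.ext hσ⟩

/-- transitivity on vertices -/
theorem exists_map_none (hα : Fintype.card α = 22) (hB : IsSteinerSystem 3 6 B)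
    (x : Option (α ⊕ ↥B)) : ∃ σ : pointBlockGraph B ≃g pointBlockGraph B, σ x = none := by
  classical
  letI : Fintype ↥B := Fintype.ofFinite _
  have hΓ : (pointBlockGraph B).IsSRGWith 100 22 0 6 := Cfsg.Agent.S0428.result hα hB
  obtain ⟨e, he⟩ := Cfsg.Agent.S0410.result (card_points hΓ x) hα (isSteiner_Blk hΓ x) hB
  refine ⟨(isoPB hΓ x).trans (pbIso e he), ?_⟩
  show pbIso e he (isoPB hΓ x x) = none
  rw [isoPB_base, pbIso_none]

/-- the order of the automorphism group of the point-block graph -/
theorem card_aut_pb (hα : Fintype.card α = 22) (hB : IsSteinerSystem 3 6 B)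
    (hAut : Nat.card ↥(setSystemAut B) = 887040) :
    Nat.card (pointBlockGraph B ≃g pointBlockGraph B) = 88704000 := by
  classical
  letI : Fintype ↥B := Fintype.ofFinite _
  have hΓ : (pointBlockGraph B).IsSRGWith 100 22 0 6 := Cfsg.Agent.S0428.result hα hB
  have h := Cfsg.Agent.Lib.Helper28.StabLib.card_orbit_mul_card_stabilizer
    (G := pointBlockGraph B ≃g pointBlockGraph B) (none : Option (α ⊕ ↥B))
  have horb : MulAction.orbit (pointBlockGraph B ≃g pointBlockGraph B)
      (none : Option (α ⊕ ↥B)) = Set.univ := by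
    ext x
    simp only [Set.mem_univ, iff_true]
    obtain ⟨σ, hσ⟩ := exists_map_none hα hB x
    refine ⟨σ⁻¹, ?_⟩
    show σ⁻¹ none = x
    rw [← hσ]
    exact RelIso.inv_apply_self σ x
  rw [horb, card_stab_none, hAut, Nat.card_univ, Nat.card_eq_fintype_card, hΓ.card] at h
  rw [← h]

end Cfsg.Agent.Lib.Helper10.Srg100
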