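import Mathlib
import Cfsg.Prelude.Def_Sporadic_a
import Cfsg.Agent.Lib.Helper10.Srg100E
import Cfsg.Agent.Lib.Helper10.StAut

set_option autoImplicit false
set_option linter.unusedSectionVars false

/-!
The homomorphism from the automorphism group of a set system to the automorphism group of its
point-block graph, and the sign character on the vertices.
-/

namespace Cfsg.Agent.Lib.Helper10.Srg100

open Cfsg Finset

variable {α : Type*} [Fintype α] [DecidableEq α] {B : Set (Finset α)}

theorem ofAut_apply_inr (σ : ↥(setSystemAut B)) (b : ↥B) :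
    ofAut σ (some (Sum.inr b)) =
      some (Sum.inr (blockEquiv σ.1 (image_eq_of_aut σ.2) b)) := rfl

theorem ofAut_mul (σ τ : ↥(setSystemAut B)) : ofAut (σ * τ) = ofAut σ * ofAut τ := by
  apply RelIso.ext
  intro x
  rcases x with _ | a | b
  · rfl
  · rfl
  · show ofAut (σ * τ) (some (Sum.inr b)) = ofAut σ (ofAut τ (some (Sum.inr b)))
    rw [ofAut_apply_inr, ofAut_apply_inr, ofAut_apply_inr]
    congr 2
    apply Subtype.ext
    rw [blockEquiv_val, blockEquiv_val, blockEquiv_val, Finset.image_image]
    rfl

/-- `ofAut` as a group homomorphism -/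
noncomputable def ofAutHom :
    ↥(setSystemAut B) →* (pointBlockGraph B ≃g pointBlockGraph B) :=
  MonoidHom.mk' ofAut ofAut_mul

theorem ofAutHom_apply (σ : ↥(setSystemAut B)) : ofAutHom σ = ofAut σ := rfl

theorem ofAutHom_injective : Function.Injective (ofAutHom (B := B)) := by
  intro σ σ' h1
  apply Subtype.ext
  refine Equiv.ext fun a => ?_
  have h2 := congrArg (fun τ : pointBlockGraph B ≃g pointBlockGraph B => τ (some (Sum.inl a))) h1
  simp only [ofAutHom_apply, ofAut_inl] at h2
  simpa using h2

section sign

variable [Fintype ↥B] [DecidableEq ↥B]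

/-- the permutation of the vertices given by an automorphism -/
def toPermHom' : (pointBlockGraph B ≃g pointBlockGraph B) →* Equiv.Perm (Option (α ⊕ ↥B)) where
  toFun g := g.toEquiv
  map_one' := rfl
  map_mul' _ _ := rfl

/-- the sign of the permutation of the 100 vertices -/
noncomputable def signHom : (pointBlockGraph B ≃g pointBlockGraph B) →* ℤˣ :=
  Equiv.Perm.sign.comp toPermHom'

theorem signHom_ofAut (σ : ↥(setSystemAut B)) :
    signHom (ofAut σ) = Equiv.Perm.sign σ.1 *
      Equiv.Perm.sign (blockEquiv σ.1 (image_eq_of_aut σ.2)) := by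
  show Equiv.Perm.sign (pbEquiv σ.1 (image_eq_of_aut σ.2)) = _
  unfold pbEquiv
  rw [Equiv.optionCongr_sign, Equiv.Perm.sign_sumCongr]

end sign

/-- the sign of an involution -/
theorem sign_involution {X : Type*} [Fintype X] [DecidableEq X] (τ : Equiv.Perm X)
    (hτ : τ * τ = 1) : Equiv.Perm.sign τ = (-1) ^ (τ.support.card / 2) := by
  by_cases h1 : τ = 1
  · subst h1
    simp
  · have ho : orderOf τ = 2 := orderOf_eq_prime (by rw [pow_two]; exact hτ) h1
    have hp : (orderOf τ).Prime := by rw [ho]; exact Nat.prime_two
    obtain ⟨n, hn⟩ := Equiv.Perm.cycleType_prime_order hp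
    rw [ho] at hn
    have hs : τ.support.card = (n + 1) * 2 := by
      rw [← Equiv.Perm.sum_cycleType, hn, Multiset.sum_replicate, smul_eq_mul]
    rw [Equiv.Perm.sign_of_cycleType, hn, Multiset.sum_replicate, Multiset.card_replicate, hs,
      smul_eq_mul, Nat.mul_div_cancel _ (by norm_num : 0 < 2), pow_add, pow_mul]
    simp

/-- the number of points moved -/
theorem card_support_eq {X : Type*} [Fintype X] [DecidableEq X] (τ : Equiv.Perm X) :
    τ.support.card = Fintype.card X - (Finset.univ.filter fun x => τ x = x).card := by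
  have h := Finset.card_filter_add_card_filter_not (s := (Finset.univ : Finset X))
    (fun x => τ x = x)
  have h2 : τ.support = Finset.univ.filter fun x => ¬ τ x = x := by
    ext x
    simp [Equiv.Perm.mem_support]
  rw [h2]
  rw [Finset.card_univ] at h
  omega

section transport

variable {β : Type*} [Fintype β] [DecidableEq β] {B' : Set (Finset β)}
variable [Fintype ↥B] [DecidableEq ↥B] [Fintype ↥B'] [DecidableEq ↥B']

/-- transporting an automorphism along an isomorphism of set systems: the image condition -/
theorem image_eq_of_iso (e : α ≃ β) (he : (fun b => b.image e) '' B = B') (σ' : Equiv.Perm β)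
    (hσ' : (fun b => b.image σ') '' B' = B') :
    (fun b => b.image (e.symm.permCongr σ')) '' B = B := by
  have h1 : σ' ∈ setSystemAut B' := aut_of_image_eq hσ'
  have h2 := Cfsg.Agent.Lib.Helper10.StCert.permCongr_mem_aut e.symm h1
  have h3 : Cfsg.Agent.Lib.Helper28.SteinerDerived.imgSys e.symm B' = B := by
    rw [← he]
    exact Cfsg.Agent.Lib.Helper28.SteinerDerived.imgSys_symm e B
  rw [h3] at h2
  exact image_eq_of_aut h2

theorem sign_blockEquiv_of_iso (e : α ≃ β) (he : (fun b => b.image e) '' B = B')
    (σ' : Equiv.Perm β) (hσ' : (fun b => b.image σ') '' B' = B')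
    (hσ : (fun b => b.image (e.symm.permCongr σ')) '' B = B) :
    Equiv.Perm.sign (blockEquiv (e.symm.permCongr σ') hσ) =
      Equiv.Perm.sign (blockEquiv σ' hσ') := by
  apply Equiv.Perm.sign_eq_sign_of_equiv _ _ (blockEquiv e he)
  intro b
  apply Subtype.ext
  rw [blockEquiv_val, blockEquiv_val, blockEquiv_val, blockEquiv_val, Finset.image_image,
    Finset.image_image]
  congr 1
  funext x
  simp [Equiv.permCongr_apply]

end transport

end Cfsg.Agent.Lib.Helper10.Srg100
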