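import Cfsg.Agent.Lib.Helper10.HSOdd
import Cfsg.Agent.Lib.Helper10.Srg100F
import Cfsg.Agent.Lib.Helper28.S3622

set_option autoImplicit false
set_option linter.unusedSectionVars false

/-!
The automorphism `sig` of the standard S(3, 6, 22) induces an odd permutation of the 100 vertices
of the point-block graph; hence so does some automorphism of any S(3, 6, 22).
-/

namespace Cfsg.Agent.Lib.Helper10.HSOdd

open Cfsg
open Cfsg.Agent.Lib.Helper28.FinMask Cfsg.Agent.Lib.Helper28.Plane4Model
open Cfsg.Agent.Lib.Helper10.Srg100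

theorem mem_E0_iff (s : Finset (Fin 22)) : s ∈ E 0 ↔ ∃ m ∈ blk, s = fset 22 m := by
  constructor
  · rintro (⟨m, hm, rfl⟩ | ⟨p, hp, hp0, rfl⟩)
    · exact ⟨_, blk_of_line m hm, rfl⟩
    · exact ⟨_, blk_of_hyp p hp hp0, rfl⟩
  · rintro ⟨m, hm, rfl⟩
    rcases blk_cases m hm with ⟨m', hm', rfl⟩ | ⟨p, hp, hp0, rfl⟩
    · exact Or.inl ⟨m', hm', rfl⟩
    · exact Or.inr ⟨p, hp, hp0, rfl⟩

theorem image_sig {m : ℕ} (hm : m ∈ blk) : (fset 22 m).image sig = fset 22 (permMask m) :=
  image_fset_eq sig (blk_bits m hm)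

theorem sig_sig (x : Fin 22) : sig (sig x) = x := by
  have := congrArg (fun τ : Equiv.Perm (Fin 22) => τ x) sig_sq
  simpa using this

theorem image_sig_sig (s : Finset (Fin 22)) : (s.image sig).image sig = s := by
  rw [Finset.image_image]
  have : (sig ∘ sig : Fin 22 → Fin 22) = id := by
    funext x
    exact sig_sig x
  rw [this, Finset.image_id]

theorem sig_image_E0 : (fun b => b.image sig) '' E 0 = E 0 := by
  have hsub : ∀ s ∈ E 0, s.image sig ∈ E 0 := by
    intro s hs
    obtain ⟨m, hm, rfl⟩ := (mem_E0_iff s).mp hs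
    rw [image_sig hm, mem_E0_iff]
    exact ⟨_, blk_closed m hm, rfl⟩
  ext s
  constructor
  · rintro ⟨b, hb, rfl⟩
    exact hsub b hb
  · intro hs
    exact ⟨s.image sig, hsub s hs, image_sig_sig s⟩

theorem fset_inj_blk : ∀ x ∈ blk, ∀ y ∈ blk, fset 22 x = fset 22 y → x = y :=
  fun x hx y hy h => fset_inj x y (blk_lt x hx) (blk_lt y hy) h

theorem E0_eq : E 0 = ↑((blk.map (fset 22)).toFinset) := by
  ext s
  rw [mem_E0_iff]
  simp only [Finset.mem_coe, List.mem_toFinset, List.mem_map]
  constructor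
  · rintro ⟨m, hm, rfl⟩
    exact ⟨m, hm, rfl⟩
  · rintro ⟨m, hm, rfl⟩
    exact ⟨m, hm, rfl⟩

theorem ncard_E0 : (E 0).ncard = 77 := by
  rw [E0_eq, Set.ncard_coe_finset, List.toFinset_card_of_nodup, List.length_map, blk_length]
  exact List.Nodup.map_on fset_inj_blk blk_nodup

theorem fixed_eq : {s | s ∈ E 0 ∧ s.image sig = s} = ↑((fixMasks.map (fset 22)).toFinset) := by
  ext s
  simp only [Set.mem_setOf_eq, Finset.mem_coe, List.mem_toFinset, List.mem_map]
  constructor
  · rintro ⟨hs, hfix⟩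
    obtain ⟨m, hm, rfl⟩ := (mem_E0_iff s).mp hs
    rw [image_sig hm] at hfix
    have h1 : permMask m = m := fset_inj_blk _ (blk_closed m hm) _ hm hfix
    exact ⟨m, (fix_iff m hm).mp h1, rfl⟩
  · rintro ⟨m, hm, rfl⟩
    have hmb := fix_sub m hm
    refine ⟨(mem_E0_iff _).mpr ⟨m, hmb, rfl⟩, ?_⟩
    rw [image_sig hmb, (fix_iff m hmb).mpr hm]

theorem ncard_fixed : {s | s ∈ E 0 ∧ s.image sig = s}.ncard = 21 := by
  rw [fixed_eq, Set.ncard_coe_finset, List.toFinset_card_of_nodup, List.length_map, fix_length]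
  exact List.Nodup.map_on
    (fun x hx y hy h => fset_inj_blk x (fix_sub x hx) y (fix_sub y hy) h) fix_nodup

theorem sign_sig : Equiv.Perm.sign sig = -1 := by
  rw [sign_involution sig sig_sq, card_support_eq, sig_fixed]
  rfl

section blocks

variable [Fintype ↥(E 0)] [DecidableEq ↥(E 0)]

theorem sign_blockEquiv_sig :
    Equiv.Perm.sign (blockEquiv sig sig_image_E0) = 1 := by
  have hsq : blockEquiv sig sig_image_E0 * blockEquiv sig sig_image_E0 = 1 := by
    apply Equiv.ext
    intro b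
    apply Subtype.ext
    show ((b.1.image sig).image sig) = b.1
    exact image_sig_sig b.1
  have hcard : Fintype.card ↥(E 0) = 77 := by
    rw [← Nat.card_eq_fintype_card, Nat.card_coe_set_eq, ncard_E0]
  have hfix : (Finset.univ.filter fun b : ↥(E 0) => blockEquiv sig sig_image_E0 b = b).card
      = 21 := by
    rw [← Fintype.card_subtype, ← Nat.card_eq_fintype_card, ← ncard_fixed,
      ← Nat.card_coe_set_eq]
    apply Nat.card_congr
    refine (Equiv.subtypeEquivRight ?_).trans
      (Equiv.subtypeSubtypeEquivSubtypeInter (fun s => s ∈ E 0) (fun s => s.image sig = s))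
    intro b
    rw [Subtype.ext_iff, blockEquiv_val]
  rw [sign_involution _ hsq, card_support_eq, hcard, hfix]
  rfl

end blocks

/-- every S(3, 6, 22) has an automorphism acting as an odd permutation on the vertices of the
point-block graph -/
theorem exists_odd {α : Type*} [Fintype α] [DecidableEq α] {B : Set (Finset α)}
    [Fintype ↥B] [DecidableEq ↥B] (hα : Fintype.card α = 22) (hB : IsSteinerSystem 3 6 B) :
    ∃ σ : ↥(setSystemAut B), signHom (ofAut σ) = -1 := by
  classical
  letI : Fintype ↥(E 0) := Fintype.ofFinite _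
  obtain ⟨e, he⟩ := Cfsg.Agent.Lib.Helper28.S3622.iso_standard hα hB
  have hσ := image_eq_of_iso e he sig sig_image_E0
  refine ⟨⟨e.symm.permCongr sig, aut_of_image_eq hσ⟩, ?_⟩
  rw [signHom_ofAut]
  show Equiv.Perm.sign (e.symm.permCongr sig) * Equiv.Perm.sign (blockEquiv _ _) = -1
  rw [Equiv.Perm.sign_permCongr, sign_sig, sign_blockEquiv_of_iso e he sig sig_image_E0,
    sign_blockEquiv_sig]
  rfl

end Cfsg.Agent.Lib.Helper10.HSOdd
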