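import Cfsg.Agent.Lib.Helper28.Plane4Model

set_option autoImplicit false

/-!
An explicit automorphism of the standard S(3, 6, 22) (`E 0` of `Plane4Model`): the map
`x ↦ 8 x` modulo 21 on the plane points, fixing the extra point.  It is an involution with 8 fixed
points, and it fixes 21 of the 77 blocks.
-/

namespace Cfsg.Agent.Lib.Helper10.HSOdd

open Cfsg
open Cfsg.Agent.Lib.Helper28.FinMask Cfsg.Agent.Lib.Helper28.Plane4Model

/-- the table of `x ↦ 8 x` -/
def sigTab : List (Fin 22) := [0, 8, 16, 3, 11, 19, 6, 14, 1, 9, 17, 4, 12, 20, 7, 15, 2, 10, 18, 5, 13, 21]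

/-- the map `x ↦ 8 x` modulo 21, fixing 21 -/
def sigFun (i : Fin 22) : Fin 22 := sigTab.getD i.val 0

/-- the involution -/
def sig : Equiv.Perm (Fin 22) :=
  ⟨sigFun, sigFun, by intro x; revert x; decide, by intro x; revert x; decide⟩

/-- the 77 blocks as bitmasks -/
def blk : List ℕ := [
  0x214013, 0x228026, 0x25004c, 0x2a0098, 0x340130, 0x280261, 0x3004c2, 0x200985,
  0x20130a, 0x202614, 0x204c28, 0x209850, 0x2130a0, 0x226140, 0x24c280, 0x298500,
  0x330a00, 0x261401, 0x2c2802, 0x385004, 0x30a009, 0x1564, 0x207a, 0x4a46,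
  0x50c9, 0x84b1, 0xab20, 0xc11c, 0xf402, 0x103d0, 0x12c41, 0x1888a,
  0x19205, 0x20d12, 0x22283, 0x2380c, 0x25230, 0x28648, 0x30129, 0x34484,
  0x40a19, 0x41096, 0x42588, 0x46025, 0x48143, 0x50622, 0x55900, 0x608e0,
  0x7a010, 0x8040f, 0x81e80, 0x83111, 0x841a2, 0x8a0c4, 0x90834, 0x96208,
  0xac801, 0xb1042, 0xc4450, 0xc9028, 0xe0304, 0x1002ac, 0x101823, 0x104701,
  0x106890, 0x111418, 0x112106, 0x11c060, 0x120055, 0x129180, 0x143240, 0x148c04,
  0x16400a, 0x180948, 0x188212, 0x1a2420, 0x1d0081]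

/-- image of a bitmask under `sig` -/
def permMask (m : ℕ) : ℕ :=
  (List.finRange 22).foldl (fun acc i => if m.testBit i.val then acc ||| (1 <<< (sigFun i).val) else acc) 0

/-- the blocks fixed by `sig` -/
def fixMasks : List ℕ := [
  0x25004c, 0x280261, 0x20130a, 0x209850, 0x24c280, 0x261401, 0x30a009, 0x50c9,
  0x19205, 0x20d12, 0x28648, 0x34484, 0x40a19, 0x48143, 0x841a2, 0x90834,
  0xc9028, 0x106890, 0x112106, 0x143240, 0x1a2420]

end Cfsg.Agent.Lib.Helper10.HSOdd
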