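import Cfsg.Agent.Lib.Helper10.HeOBasic
import Cfsg.Agent.Lib.Helper3.TCX.HeTower
import Cfsg.Agent.Lib.Helper3.TCX.HeKMain

set_option autoImplicit false
set_option maxRecDepth 100000

/-!
The centraliser of the first generator of the Held group has order at least 161280: it contains the
subgroup of order 80640 generated by six of the generators, properly.
-/

namespace Cfsg.Agent.Lib.Helper10.HeO
open Cfsg.Agent.Lib.Helper28.TC2Upper Cfsg.Agent.Lib.Helper28.TC2Lower Cfsg.Agent.Lib.Helper28.TC2Range
open Cfsg.Agent.Lib.Helper28.TC2Bsgs Cfsg.Agent.Lib.Helper28.TC2Simple Cfsg.Agent.Lib.Helper28.TC2Glue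
open Cfsg.Agent.Lib.Helper3.TCX

noncomputable section

theorem comm_chk : ([2, 3, 4, 5, 6].all fun l => sigEq ([0] ++ [l]) ([l] ++ [0])) = true := by
  decide +kernel

theorem comm_z : sigEq ([0] ++ [1, 0, 1]) ([1, 0, 1] ++ [0]) = true := by
  decide +kernel

theorem walk_z : HeKTable.table.walkT (pathOf HeKLink.lw
    [(Cfsg.Spor.He.Gen.b, true), (Cfsg.Spor.He.Gen.a, true), (Cfsg.Spor.He.Gen.b, true)]) 0 ≠ 0 := by
  decide +kernel

theorem comm_letter {l : ℕ} (hl : l ∈ [2, 3, 4, 5, 6]) : gw [0] * gw [l] = gw [l] * gw [0] := by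
  have h := comm_chk
  rw [List.all_eq_true] at h
  have := (sigEq_iff _ _).mp (h l hl)
  rw [gw_append, gw_append] at this
  exact this.symm

/-- the order of the centraliser of the first generator -/
theorem card_centralizer_ge : 161280 ≤ Nat.card ↥(Subgroup.centralizer ({gw [0]} : Set ↥G)) := by
  obtain ⟨e, he⟩ := exists_iso
  set KH : Subgroup (PresentedGroup HeBLink.rels) :=
    (Subgroup.closure HeKLink.S).map (PresentedGroup.mk HeKLink.rels) with hKH
  have hidx : KH.index = 49980 := HeKMain.main.1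
  haveI : Finite ↥KH := HeTower.cardK.1
  have hK : Nat.card ↥KH ≤ 80640 := HeTower.cardK.2
  have hHe : Nat.card (PresentedGroup HeBLink.rels) = 4030387200 := Cfsg.Agent.S1695.result.2
  have hcardK : Nat.card ↥KH = 80640 := by
    have := KH.index_mul_card
    rw [hidx, hHe] at this
    omega
  set K' : Subgroup ↥G := KH.map e.toMonoidHom with hK'
  have hcardK' : Nat.card ↥K' = 80640 := by
    rw [hK', Subgroup.card_map_of_injective e.injective]
    exact hcardK
  have hgen : ∀ x : Cfsg.Spor.He.Gen,
      e (PresentedGroup.mk HeBLink.rels (FreeGroup.of x)) = gw [HeBLink.lw (x, true)] := by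
    intro x
    exact he [(x, true)]
  have hle : K' ≤ Subgroup.centralizer ({gw [0]} : Set ↥G) := by
    rw [hK', hKH, Subgroup.map_map, MonoidHom.map_closure, Subgroup.closure_le]
    rintro _ ⟨s, hs, rfl⟩
    rw [SetLike.mem_coe, Subgroup.mem_centralizer_iff]
    intro h hh
    rw [Set.mem_singleton_iff] at hh
    subst hh
    have key : ∀ x : Cfsg.Spor.He.Gen,
        (e.toMonoidHom.comp (PresentedGroup.mk HeKLink.rels)) (FreeGroup.of x) =
          gw [HeBLink.lw (x, true)] := fun x => hgen x
    simp only [HeKLink.S, Set.mem_insert_iff, Set.mem_singleton_iff] at hs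
    rcases hs with rfl | rfl | rfl | rfl | rfl | rfl
    · rw [key]
      rfl
    · rw [key]
      show gw [0] * gw [2] = gw [2] * gw [0]
      exact comm_letter (l := 2) (by simp)
    · rw [key]
      show gw [0] * gw [3] = gw [3] * gw [0]
      exact comm_letter (l := 3) (by simp)
    · rw [key]
      show gw [0] * gw [4] = gw [4] * gw [0]
      exact comm_letter (l := 4) (by simp)
    · rw [key]
      show gw [0] * gw [5] = gw [5] * gw [0]
      exact comm_letter (l := 5) (by simp)
    · rw [key]
      show gw [0] * gw [6] = gw [6] * gw [0]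
      exact comm_letter (l := 6) (by simp)
  -- the element `b a b`
  set L : List (Cfsg.Spor.He.Gen × Bool) :=
    [(Cfsg.Spor.He.Gen.b, true), (Cfsg.Spor.He.Gen.a, true), (Cfsg.Spor.He.Gen.b, true)] with hL
  set zH : PresentedGroup HeBLink.rels := PresentedGroup.mk HeBLink.rels (FreeGroup.mk L) with hzH
  have hz : e zH = gw [1, 0, 1] := he L
  have hzC : gw [1, 0, 1] ∈ Subgroup.centralizer ({gw [0]} : Set ↥G) := by
    rw [Subgroup.mem_centralizer_iff]
    intro h hh
    rw [Set.mem_singleton_iff] at hh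
    subst hh
    have := (sigEq_iff _ _).mp comm_z
    rw [gw_append, gw_append] at this
    exact this.symm
  have hzK : gw [1, 0, 1] ∉ K' := by
    rintro ⟨k, hk, hkz⟩
    have hkz' : e k = e zH := by rw [hz]; exact hkz
    have hk' : zH ∈ KH := by rw [← e.injective hkz']; exact hk
    obtain ⟨φK, hφK, f, hbij, hequiv, h0⟩ := HeKMain.main.2
    have hfix : zH • (QuotientGroup.mk 1 : PresentedGroup HeBLink.rels ⧸ KH) = QuotientGroup.mk 1 := by
      rw [MulAction.Quotient.smul_mk, QuotientGroup.eq]
      simpa using KH.inv_mem hk'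
    have h1 := hequiv zH (QuotientGroup.mk 1)
    rw [hfix, h0] at h1
    have h2 := phi_mk_apply HeKLink.link HeKMain.hT φK hφK L ⟨0, HeKMain.hn⟩
    rw [← hzH, ← h1] at h2
    exact walk_z h2.symm
  have hne : K' ≠ Subgroup.centralizer ({gw [0]} : Set ↥G) := by
    intro h
    rw [h] at hzK
    exact hzK hzC
  have hdvd : Nat.card ↥K' ∣ Nat.card ↥(Subgroup.centralizer ({gw [0]} : Set ↥G)) :=
    Subgroup.card_dvd_of_le hle
  obtain ⟨m, hm⟩ := hdvd
  rw [hcardK'] at hm
  have hpos : 0 < Nat.card ↥(Subgroup.centralizer ({gw [0]} : Set ↥G)) := Nat.card_pos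
  have hm1 : m ≠ 1 := by
    intro h1
    apply hne
    apply Subgroup.eq_of_le_of_card_ge hle
    rw [hm, hcardK', h1]
  have hm0 : m ≠ 0 := by
    intro h0
    rw [h0] at hm
    omega
  rw [hm]
  have : 2 ≤ m := by omega
  nlinarith

end

end Cfsg.Agent.Lib.Helper10.HeO
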