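import Cfsg.Agent.Lib.Helper10.HeOClsAData0
import Cfsg.Agent.Lib.Helper10.HeOClsAData1
import Cfsg.Agent.Lib.Helper10.HeOClsAData2
import Cfsg.Agent.Lib.Helper10.HeOClsAData3
import Cfsg.Agent.Lib.Helper10.HeOClsAData4
import Mathlib.Data.Nat.Notation
set_option autoImplicit false
set_option maxRecDepth 100000

/-! Generated data for the Held group on 2058 points. -/

namespace Cfsg.Agent.Lib.Helper10.HeO

/-- the conjugating words for the class of the first generator, in chunks -/
def LAs : List (List (List ℕ)) := [LA0, LA1, LA2, LA3, LA4, LA5, LA6, LA7, LA8, LA9, LA10, LA11, LA12, LA13, LA14, LA15, LA16, LA17, LA18, LA19, LA20, LA21, LA22, LA23, LA24]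

/-- the codes of the conjugates, in chunks -/
def CAs : List (List ℕ) := [CA0, CA1, CA2, CA3, CA4, CA5, CA6, CA7, CA8, CA9, CA10, CA11, CA12, CA13, CA14, CA15, CA16, CA17, CA18, CA19, CA20, CA21, CA22, CA23, CA24]

/-- the codes of the conjugates of the first generator by the powers of the element of order 17 -/
def EXC1 : List ℕ := [
  283742753017865, 282711960887305, 7047594991951881, 151104530265869082633, 616948230125686309334, 916679581464834240521,
  176676002852318528915, 382051925324757971978, 997348674200965531228, 1879275353515418896000, 534984669027383566520, 286247386208959854188,
  1789534621208040363816, 765712987417145374195, 243266720187194597965, 282712111861769, 282711960866836]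

/-- the codes of the images of these under the outer automorphism -/
def EXC3 : List ℕ := [
  1780142904073834651826, 134215818766811439113, 549128803727222596143, 922369301044744827677, 134175309459917627463, 868382170644701550127,
  864723217865508947458, 134189580090045907011, 1460141424687245140995, 1874943449989547853291, 2105783959882356617225, 929695365384330360442,
  620676354671252637186, 867459548886796711037, 920510713817812981673, 1620176778278338794622, 1929262522469174904367]

/-- the conjugating word of the image of the first generator under the outer automorphism -/
def W2 : List ℕ := [7, 3, 8, 2, 3, 7, 6, 3]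

end Cfsg.Agent.Lib.Helper10.HeO
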