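import Cfsg.Agent.Lib.Helper10.HeOClsBData0
import Cfsg.Agent.Lib.Helper10.HeOClsBData1
import Cfsg.Agent.Lib.Helper10.HeOClsBData2
import Cfsg.Agent.Lib.Helper10.HeOClsBData3
import Cfsg.Agent.Lib.Helper10.HeOClsBData4
import Mathlib.Data.Nat.Notation
set_option autoImplicit false
set_option maxRecDepth 100000

/-! Generated data for the Held group on 2058 points. -/

namespace Cfsg.Agent.Lib.Helper10.HeO

/-- conjugating words for 24991 conjugates of the fourth generator, in chunks -/
def LBs : List (List (List ℕ)) := [LB0, LB1, LB2, LB3, LB4, LB5, LB6, LB7, LB8, LB9, LB10, LB11, LB12, LB13, LB14, LB15, LB16, LB17, LB18, LB19, LB20, LB21, LB22, LB23, LB24]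

/-- the codes of the conjugates, in chunks -/
def CBs : List (List ℕ) := [CB0, CB1, CB2, CB3, CB4, CB5, CB6, CB7, CB8, CB9, CB10, CB11, CB12, CB13, CB14, CB15, CB16, CB17, CB18, CB19, CB20, CB21, CB22, CB23, CB24]

end Cfsg.Agent.Lib.Helper10.HeO
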