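import Cfsg.Agent.Lib.Helper10.HeOClsDef

set_option autoImplicit false
set_option maxRecDepth 100000
set_option maxHeartbeats 0

/-! Generated checks for the conjugates of the generators of the Held group on 2058 points. -/

namespace Cfsg.Agent.Lib.Helper10.HeO
open Cfsg.Agent.Lib.Helper28.TC2Upper Cfsg.Agent.Lib.Helper28.TC2Lower

noncomputable section

theorem cdA20 : eqL (LA20.map codeA) CA20 = true := by
  decide +kernel

theorem cdA21 : eqL (LA21.map codeA) CA21 = true := by
  decide +kernel

theorem cdA22 : eqL (LA22.map codeA) CA22 = true := by
  decide +kernel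

theorem cdA23 : eqL (LA23.map codeA) CA23 = true := by
  decide +kernel

theorem cdA24 : eqL (LA24.map codeA) CA24 = true := by
  decide +kernel

end

end Cfsg.Agent.Lib.Helper10.HeO
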