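import Cfsg.Agent.Lib.Helper10.HeOClsDef

set_option autoImplicit false
set_option maxRecDepth 100000
set_option maxHeartbeats 0

/-! Generated checks for the conjugates of the generators of the Held group on 2058 points. -/

namespace Cfsg.Agent.Lib.Helper10.HeO
open Cfsg.Agent.Lib.Helper28.TC2Upper Cfsg.Agent.Lib.Helper28.TC2Lower

noncomputable section

theorem cdB0 : eqL (LB0.map codeB) CB0 = true := by
  decide +kernel

theorem cdB1 : eqL (LB1.map codeB) CB1 = true := by
  decide +kernel

theorem cdB2 : eqL (LB2.map codeB) CB2 = true := by
  decide +kernel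

theorem cdB3 : eqL (LB3.map codeB) CB3 = true := by
  decide +kernel

theorem cdB4 : eqL (LB4.map codeB) CB4 = true := by
  decide +kernel

end

end Cfsg.Agent.Lib.Helper10.HeO
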