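import Cfsg.Agent.Lib.Helper10.HeOClsDef

set_option autoImplicit false
set_option maxRecDepth 100000
set_option maxHeartbeats 0

/-! Generated checks for the conjugates of the generators of the Held group on 2058 points. -/

namespace Cfsg.Agent.Lib.Helper10.HeO
open Cfsg.Agent.Lib.Helper28.TC2Upper Cfsg.Agent.Lib.Helper28.TC2Lower

noncomputable section

theorem cdB5 : eqL (LB5.map codeB) CB5 = true := by
  decide +kernel

theorem cdB6 : eqL (LB6.map codeB) CB6 = true := by
  decide +kernel

theorem cdB7 : eqL (LB7.map codeB) CB7 = true := by
  decide +kernel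

theorem cdB8 : eqL (LB8.map codeB) CB8 = true := by
  decide +kernel

theorem cdB9 : eqL (LB9.map codeB) CB9 = true := by
  decide +kernel

end

end Cfsg.Agent.Lib.Helper10.HeO
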