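import Cfsg.Agent.Lib.Helper10.HeOClsDef

set_option autoImplicit false
set_option maxRecDepth 100000
set_option maxHeartbeats 0

/-! Generated checks for the conjugates of the generators of the Held group on 2058 points. -/

namespace Cfsg.Agent.Lib.Helper10.HeO
open Cfsg.Agent.Lib.Helper28.TC2Upper Cfsg.Agent.Lib.Helper28.TC2Lower

noncomputable section

theorem cdB15 : eqL (LB15.map codeB) CB15 = true := by
  decide +kernel

theorem cdB16 : eqL (LB16.map codeB) CB16 = true := by
  decide +kernel

theorem cdB17 : eqL (LB17.map codeB) CB17 = true := by
  decide +kernel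

theorem cdB18 : eqL (LB18.map codeB) CB18 = true := by
  decide +kernel

theorem cdB19 : eqL (LB19.map codeB) CB19 = true := by
  decide +kernel

end

end Cfsg.Agent.Lib.Helper10.HeO
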