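import Cfsg.Agent.Lib.Helper10.HeOClsDef

set_option autoImplicit false
set_option maxRecDepth 100000
set_option maxHeartbeats 0

/-! Generated checks for the conjugates of the generators of the Held group on 2058 points. -/

namespace Cfsg.Agent.Lib.Helper10.HeO
open Cfsg.Agent.Lib.Helper28.TC2Upper Cfsg.Agent.Lib.Helper28.TC2Lower

noncomputable section

theorem r1_15 : (LA15.all fun w => relFail1 w || memB (codeA w) EXC1) = true := by
  decide +kernel

theorem r1_16 : (LA16.all fun w => relFail1 w || memB (codeA w) EXC1) = true := by
  decide +kernel

theorem r1_17 : (LA17.all fun w => relFail1 w || memB (codeA w) EXC1) = true := by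
  decide +kernel

theorem r1_18 : (LA18.all fun w => relFail1 w || memB (codeA w) EXC1) = true := by
  decide +kernel

theorem r1_19 : (LA19.all fun w => relFail1 w || memB (codeA w) EXC1) = true := by
  decide +kernel

end

end Cfsg.Agent.Lib.Helper10.HeO
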