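import Cfsg.Agent.Lib.Helper10.HeOClsChkA0
import Cfsg.Agent.Lib.Helper10.HeOClsChkP0
import Cfsg.Agent.Lib.Helper10.HeOClsChkQ0
import Cfsg.Agent.Lib.Helper10.HeOClsChkA1
import Cfsg.Agent.Lib.Helper10.HeOClsChkP1
import Cfsg.Agent.Lib.Helper10.HeOClsChkQ1
import Cfsg.Agent.Lib.Helper10.HeOClsChkA2
import Cfsg.Agent.Lib.Helper10.HeOClsChkP2
import Cfsg.Agent.Lib.Helper10.HeOClsChkQ2
import Cfsg.Agent.Lib.Helper10.HeOClsChkA3
import Cfsg.Agent.Lib.Helper10.HeOClsChkP3
import Cfsg.Agent.Lib.Helper10.HeOClsChkQ3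
import Cfsg.Agent.Lib.Helper10.HeOClsChkA4
import Cfsg.Agent.Lib.Helper10.HeOClsChkP4
import Cfsg.Agent.Lib.Helper10.HeOClsChkQ4
import Cfsg.Agent.Lib.Helper10.HeOClsChkB0
import Cfsg.Agent.Lib.Helper10.HeOClsChkB1
import Cfsg.Agent.Lib.Helper10.HeOClsChkB2
import Cfsg.Agent.Lib.Helper10.HeOClsChkB3
import Cfsg.Agent.Lib.Helper10.HeOClsChkB4

set_option autoImplicit false
set_option maxRecDepth 100000
set_option maxHeartbeats 0

/-! The checks for the conjugates of the generators of the Held group on 2058 points, put together. -/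

namespace Cfsg.Agent.Lib.Helper10.HeO
open Cfsg.Agent.Lib.Helper28.TC2Upper Cfsg.Agent.Lib.Helper28.TC2Lower

noncomputable section

theorem codesA_eq : ∀ p ∈ List.zip LAs CAs, p.1.map codeA = p.2 := by
  intro p hp
  simp only [LAs, CAs, List.zip_cons_cons, List.zip_nil_right, List.mem_cons, List.not_mem_nil, or_false] at hp
  rcases hp with rfl | rfl | rfl | rfl | rfl | rfl | rfl | rfl | rfl | rfl | rfl | rfl | rfl | rfl | rfl | rfl | rfl | rfl | rfl | rfl | rfl | rfl | rfl | rfl | rfl
  · exact eq_of_eqL cdA0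
  · exact eq_of_eqL cdA1
  · exact eq_of_eqL cdA2
  · exact eq_of_eqL cdA3
  · exact eq_of_eqL cdA4
  · exact eq_of_eqL cdA5
  · exact eq_of_eqL cdA6
  · exact eq_of_eqL cdA7
  · exact eq_of_eqL cdA8
  · exact eq_of_eqL cdA9
  · exact eq_of_eqL cdA10
  · exact eq_of_eqL cdA11
  · exact eq_of_eqL cdA12
  · exact eq_of_eqL cdA13
  · exact eq_of_eqL cdA14
  · exact eq_of_eqL cdA15
  · exact eq_of_eqL cdA16
  · exact eq_of_eqL cdA17
  · exact eq_of_eqL cdA18
  · exact eq_of_eqL cdA19
  · exact eq_of_eqL cdA20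
  · exact eq_of_eqL cdA21
  · exact eq_of_eqL cdA22
  · exact eq_of_eqL cdA23
  · exact eq_of_eqL cdA24

theorem codesB_eq : ∀ p ∈ List.zip LBs CBs, p.1.map codeB = p.2 := by
  intro p hp
  simp only [LBs, CBs, List.zip_cons_cons, List.zip_nil_right, List.mem_cons, List.not_mem_nil, or_false] at hp
  rcases hp with rfl | rfl | rfl | rfl | rfl | rfl | rfl | rfl | rfl | rfl | rfl | rfl | rfl | rfl | rfl | rfl | rfl | rfl | rfl | rfl | rfl | rfl | rfl | rfl | rfl
  · exact eq_of_eqL cdB0
  · exact eq_of_eqL cdB1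
  · exact eq_of_eqL cdB2
  · exact eq_of_eqL cdB3
  · exact eq_of_eqL cdB4
  · exact eq_of_eqL cdB5
  · exact eq_of_eqL cdB6
  · exact eq_of_eqL cdB7
  · exact eq_of_eqL cdB8
  · exact eq_of_eqL cdB9
  · exact eq_of_eqL cdB10
  · exact eq_of_eqL cdB11
  · exact eq_of_eqL cdB12
  · exact eq_of_eqL cdB13
  · exact eq_of_eqL cdB14
  · exact eq_of_eqL cdB15
  · exact eq_of_eqL cdB16
  · exact eq_of_eqL cdB17
  · exact eq_of_eqL cdB18
  · exact eq_of_eqL cdB19
  · exact eq_of_eqL cdB20
  · exact eq_of_eqL cdB21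
  · exact eq_of_eqL cdB22
  · exact eq_of_eqL cdB23
  · exact eq_of_eqL cdB24

theorem rel_one : ∀ l ∈ LAs, ∀ w ∈ l, relFail1 w = true ∨ codeA w ∈ EXC1 := by
  intro l hl w hw
  have key : (l.all fun w => relFail1 w || memB (codeA w) EXC1) = true := by
    simp only [LAs, List.mem_cons, List.not_mem_nil, or_false] at hl
    rcases hl with rfl | rfl | rfl | rfl | rfl | rfl | rfl | rfl | rfl | rfl | rfl | rfl | rfl | rfl | rfl | rfl | rfl | rfl | rfl | rfl | rfl | rfl | rfl | rfl | rfl
    · exact r1_0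
    · exact r1_1
    · exact r1_2
    · exact r1_3
    · exact r1_4
    · exact r1_5
    · exact r1_6
    · exact r1_7
    · exact r1_8
    · exact r1_9
    · exact r1_10
    · exact r1_11
    · exact r1_12
    · exact r1_13
    · exact r1_14
    · exact r1_15
    · exact r1_16
    · exact r1_17
    · exact r1_18
    · exact r1_19
    · exact r1_20
    · exact r1_21
    · exact r1_22
    · exact r1_23
    · exact r1_24
  rw [List.all_eq_true] at key
  have := key w hw
  rw [Bool.or_eq_true] at this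
  rcases this with h | h
  · exact Or.inl h
  · exact Or.inr ((memB_iff _ _).mp h)

theorem rel_three : ∀ l ∈ LAs, ∀ w ∈ l, relFail3 w = true ∨ codeA w ∈ EXC3 := by
  intro l hl w hw
  have key : (l.all fun w => relFail3 w || memB (codeA w) EXC3) = true := by
    simp only [LAs, List.mem_cons, List.not_mem_nil, or_false] at hl
    rcases hl with rfl | rfl | rfl | rfl | rfl | rfl | rfl | rfl | rfl | rfl | rfl | rfl | rfl | rfl | rfl | rfl | rfl | rfl | rfl | rfl | rfl | rfl | rfl | rfl | rfl
    · exact r3_0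
    · exact r3_1
    · exact r3_2
    · exact r3_3
    · exact r3_4
    · exact r3_5
    · exact r3_6
    · exact r3_7
    · exact r3_8
    · exact r3_9
    · exact r3_10
    · exact r3_11
    · exact r3_12
    · exact r3_13
    · exact r3_14
    · exact r3_15
    · exact r3_16
    · exact r3_17
    · exact r3_18
    · exact r3_19
    · exact r3_20
    · exact r3_21
    · exact r3_22
    · exact r3_23
    · exact r3_24
  rw [List.all_eq_true] at key
  have := key w hw
  rw [Bool.or_eq_true] at this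
  rcases this with h | h
  · exact Or.inl h
  · exact Or.inr ((memB_iff _ _).mp h)

theorem incrA : incrAll 0 CAs = true := by
  decide +kernel

theorem incrB : incrAll 0 CBs = true := by
  decide +kernel

theorem lenA : (CAs.map List.length).sum = 24990 := by
  decide +kernel

theorem lenB : (CBs.map List.length).sum = 24991 := by
  decide +kernel

theorem lenLA : LAs.length = CAs.length := by
  decide +kernel

theorem lenLB : LBs.length = CBs.length := by
  decide +kernel

end

end Cfsg.Agent.Lib.Helper10.HeO
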