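import Cfsg.Agent.Lib.Helper10.HeOSyl
import Cfsg.Agent.Lib.Helper10.HeOClsAData
import Cfsg.Agent.Lib.Helper10.HeOClsBData

set_option autoImplicit false
set_option maxRecDepth 100000

/-!
Conjugates of the first and of the fourth generator of the Held group on 2058 points, given by
conjugating words, with their codes; the two relations of the generating pair.
-/

namespace Cfsg.Agent.Lib.Helper10.HeO
open Cfsg.Agent.Lib.Helper28.TC2Upper Cfsg.Agent.Lib.Helper28.TC2Lower

noncomputable section

/-- equality of lists of numbers -/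
def eqL : List ℕ → List ℕ → Bool
  | [], [] => true
  | a :: l, b :: l' => Nat.beq a b && eqL l l'
  | _, _ => false

theorem eq_of_eqL : ∀ {l l' : List ℕ}, eqL l l' = true → l = l'
  | [], [], _ => rfl
  | a :: l, b :: l', h => by
    rw [eqL, Bool.and_eq_true] at h
    rw [Nat.eq_of_beq_eq_true h.1, eq_of_eqL h.2]
  | [], _ :: _, h => by simp [eqL] at h
  | _ :: _, [], h => by simp [eqL] at h

/-- the parts increase, each from the last entry of the one before -/
def incrAll : ℕ → List (List ℕ) → Bool
  | _, [] => true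
  | lo, l :: L => incrFrom lo l && incrAll (l.getLastD lo) L

theorem incrFrom_append : ∀ (l m : List ℕ) (lo : ℕ),
    incrFrom lo (l ++ m) = (incrFrom lo l && incrFrom (l.getLastD lo) m)
  | [], m, lo => by simp [incrFrom]
  | a :: l, m, lo => by
    rw [List.cons_append, incrFrom, incrFrom, incrFrom_append l m a, List.getLastD_cons,
      Bool.and_assoc]

theorem incrFrom_flatten : ∀ (L : List (List ℕ)) (lo : ℕ), incrAll lo L = true →
    incrFrom lo L.flatten = true
  | [], _, _ => rfl
  | l :: L, lo, h => by
    rw [incrAll, Bool.and_eq_true] at h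
    rw [List.flatten_cons, incrFrom_append, Bool.and_eq_true]
    exact ⟨h.1, incrFrom_flatten L _ h.2⟩

theorem map_eq_of_zip {α β : Type*} (f : α → β) :
    ∀ (Ls : List (List α)) (Cs : List (List β)), Ls.length = Cs.length →
      (∀ p ∈ List.zip Ls Cs, p.1.map f = p.2) → Ls.map (List.map f) = Cs
  | [], [], _, _ => rfl
  | l :: Ls, c :: Cs, hlen, h => by
    rw [List.map_cons, h (l, c) (by simp)]
    congr 1
    exact map_eq_of_zip f Ls Cs (by simpa using hlen) fun p hp => h p (by simp [hp])
  | [], _ :: _, hlen, _ => by simp at hlen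
  | _ :: _, [], hlen, _ => by simp at hlen

/-- the code of the conjugate of the first generator by the element of a word -/
def codeA (w : List ℕ) : ℕ := codeW (cj w [0])

/-- the code of the conjugate of the fourth generator by the element of a word -/
def codeB (w : List ℕ) : ℕ := codeW (cj w [3])

/-- one of the two relations fails -/
def relFailAY (A Y4 Y3 : List ℕ) : Bool :=
  !(sigEq (rpt 7 (A ++ Y4)) []) || !(sigEq (rpt 8 (A ++ Y3)) [])

/-- one of the relations fails for the conjugate of the first generator and the element of order 17 -/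
def relFail1 (w : List ℕ) : Bool := relFailAY (cj w [0]) [13] [11]

/-- one of the relations fails for the conjugate of the first generator and the cube of the element
of order 17 -/
def relFail3 (w : List ℕ) : Bool := relFailAY (cj w [0]) [15] [17]

/-- the relations of the generating pair -/
def Rel (t y : ↥G) : Prop := (y ^ 4 * t) ^ 7 = 1 ∧ (y ^ 3 * t) ^ 8 = 1

theorem rel_of_not_fail {A Y4 Y3 : List ℕ} {y : ↥G} (h4 : gw Y4 = y ^ 4) (h3 : gw Y3 = y ^ 3)
    (h : relFailAY A Y4 Y3 = false) : Rel (gw A) y := by
  unfold relFailAY at h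
  simp only [Bool.or_eq_false_iff, Bool.not_eq_false'] at h
  obtain ⟨h1, h2⟩ := h
  rw [sigEq_iff, gw_rpt, gw_append, gw_nil] at h1 h2
  rw [h4] at h1
  rw [h3] at h2
  exact ⟨h1, h2⟩

theorem not_rel_of_fail {A Y4 Y3 : List ℕ} {y : ↥G} (h4 : gw Y4 = y ^ 4) (h3 : gw Y3 = y ^ 3)
    (h : relFailAY A Y4 Y3 = true) : ¬ Rel (gw A) y := by
  rintro ⟨r1, r2⟩
  unfold relFailAY at h
  have e1 : sigEq (rpt 7 (A ++ Y4)) [] = true := by
    rw [sigEq_iff, gw_rpt, gw_append, gw_nil, h4]
    exact r1
  have e2 : sigEq (rpt 8 (A ++ Y3)) [] = true := by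
    rw [sigEq_iff, gw_rpt, gw_append, gw_nil, h3]
    exact r2
  rw [e1, e2] at h
  simp at h

/-- the relations are preserved by homomorphisms -/
theorem Rel.map {t y : ↥G} (h : Rel t y) (f : ↥G →* ↥G) : Rel (f t) (f y) := by
  obtain ⟨r1, r2⟩ := h
  refine ⟨?_, ?_⟩
  · rw [← map_pow f y 4, ← map_mul, ← map_pow, r1, map_one]
  · rw [← map_pow f y 3, ← map_mul, ← map_pow, r2, map_one]

end

end Cfsg.Agent.Lib.Helper10.HeO
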