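import Mathlib.Data.Nat.Notation
set_option autoImplicit false

/-! Generated data for the Held group on 2058 points: the generators as words in the first generator
and the element of order 17. -/

namespace Cfsg.Agent.Lib.Helper10.HeO

/-- the generators other than the first, as words in the letters 0, 7, 8 -/
def MWs : List (ℕ × List ℕ) := [
  (1, [8, 8, 8, 0, 8, 8, 8, 8, 8, 8, 8, 0, 7, 7, 0, 7, 0, 7, 0, 0, 7, 0, 8, 8, 8, 0, 8, 8, 0, 7, 7, 7, 7, 7, 7, 7, 0, 7, 7, 7]),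
  (2, [8, 8, 8, 8, 8, 8, 8, 8, 0, 7, 7, 7, 7, 7, 7, 7, 0, 7, 7, 7, 7, 0, 7, 0, 7, 0, 0, 8, 8, 8, 8, 8, 0, 8, 8, 8, 8, 8, 8, 8, 0, 8, 8, 8, 8, 8, 8, 0, 7, 7, 7, 7, 7, 7, 0, 7, 7, 7, 7]),
  (3, [7, 7, 7, 7, 7, 0, 7, 7, 7, 7, 7, 0, 7, 7, 0, 7, 7, 0, 7, 0, 0, 7, 7, 7, 7, 7, 0, 8, 8, 8, 8, 8, 8, 8, 0, 7, 7, 7, 7, 7, 7, 7, 7, 0, 7, 7, 7, 7, 7, 7, 7, 7, 0, 8, 8, 8]),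
  (4, [7, 7, 0, 8, 8, 0, 7, 7, 0, 7, 0, 7, 0, 0, 8, 8, 8, 8, 8, 0, 7, 7, 7, 7, 0, 8, 8, 8, 8, 0, 7, 7, 7, 7, 0, 8, 8, 8]),
  (5, [8, 8, 8, 8, 8, 8, 0, 7, 7, 7, 0, 7, 7, 7, 7, 7, 7, 7, 7, 0, 7, 0, 7, 0, 0, 7, 7, 7, 7, 7, 7, 7, 0, 7, 7, 7, 0, 7, 7, 7, 7, 7, 0, 7, 7, 7, 7, 7, 7, 0, 8, 8, 8, 8, 8, 8]),
  (6, [7, 0, 7, 7, 7, 7, 0, 8, 8, 8, 8, 8, 0, 7, 7, 7, 0, 7, 0, 0, 7, 7, 7, 7, 0, 8, 8, 8, 8, 8, 0, 8, 8, 8, 0, 7, 7, 7, 7, 7, 0, 8, 8, 8, 8, 8])]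

end Cfsg.Agent.Lib.Helper10.HeO
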