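import Cfsg.Agent.Lib.Helper10.HeOClsDef
import Cfsg.Agent.Lib.Helper10.HeOMainData

set_option autoImplicit false
set_option maxRecDepth 100000
set_option maxHeartbeats 0

/-!
Further checks for the Held group on 2058 points: the element of order 17, the element normalising
it, the exceptional conjugates, the generators as words in the generating pair, the permutation
inducing the outer automorphism.
-/

namespace Cfsg.Agent.Lib.Helper10.HeO
open Cfsg.Agent.Lib.Helper28.TC2Upper Cfsg.Agent.Lib.Helper28.TC2Lower

noncomputable section

theorem chk_y17 : sigEq (rpt 17 [7]) [] = true := by decide +kernel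

theorem chk_y1 : sigEq [7] [] = false := by decide +kernel

theorem chk_yinv : sigEq [7, 8] [] = true := by decide +kernel

theorem chk_t2 : sigEq [0, 0] [] = true := by decide +kernel

theorem chk_t1 : sigEq [0] [] = false := by decide +kernel

theorem chk_n : sigEq (cj [9] [7]) [7, 7] = true := by decide +kernel

theorem chk_y4 : sigEq [13] (rpt 4 [7]) = true := by decide +kernel

theorem chk_y3 : sigEq [11] (rpt 3 [7]) = true := by decide +kernel

theorem chk_y12 : sigEq [15] (rpt 12 [7]) = true := by decide +kernel

theorem chk_y9 : sigEq [17] (rpt 9 [7]) = true := by decide +kernel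

theorem chk_rel : relFail1 [] = false := by decide +kernel

theorem chk_rel2 : relFail3 W2 = false := by decide +kernel

theorem chk_exc1 : eqL ((List.range 17).map fun i => codeA (rpt i [7])) EXC1 = true := by
  decide +kernel

theorem chk_exc3 : eqL ((List.range 17).map fun i => codeA (W2 ++ rpt i [7])) EXC3 = true := by
  decide +kernel

theorem chk_mw : (MWs.all fun p => sigEq [p.1] p.2 && p.2.all fun l => memB l [0, 7, 8]) = true := by
  decide +kernel

theorem chk_mw_letters : MWs.map Prod.fst = [1, 2, 3, 4, 5, 6] := by decide +kernel

/-- the conjugate of the first generator by the outer permutation -/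
def pTconjA : Bool :=
  allLoop (fun p => Nat.beq (PT.tau 0 (XT.tau 0 (PT.tau 1 p))) (wk (cj W2 [0]) p)) 2058

/-- the conjugate of the element of order 17 by the outer permutation -/
def pTconjY : Bool :=
  allLoop (fun p => Nat.beq (PT.tau 0 (XT.tau 7 (PT.tau 1 p))) (XT.tau 11 p)) 2058

theorem chk_pTA : pTconjA = true := by decide +kernel

theorem chk_pTY : pTconjY = true := by decide +kernel

end

end Cfsg.Agent.Lib.Helper10.HeO
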