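import Cfsg.Agent.Lib.Helper10.HeOClsChk
import Cfsg.Agent.Lib.Helper10.HeOMainChk
import Cfsg.Agent.Lib.Helper10.HeOCent

set_option autoImplicit false
set_option maxRecDepth 100000

/-!
The Held group on 2058 points has two classes of outer automorphisms: every automorphism maps a
generating pair (an involution of the small class, an element of order 17) to a conjugate of one of
two pairs, and conjugation by an explicit permutation is not inner.
-/

namespace Cfsg.Agent.Lib.Helper10.HeO
open Cfsg.Agent.Lib.Helper28.TC2Upper Cfsg.Agent.Lib.Helper28.TC2Lower Cfsg.Agent.Lib.Helper28.TC2Bsgs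
open Cfsg.Agent.Lib.Helper10.OutG

attribute [local irreducible] wk gwp codeW hcode sigEq

noncomputable section

/-- the first generator, an involution of the small class -/
def t : ↥G := gw [0]

/-- the fourth generator, an involution of the large class -/
def d : ↥G := gw [3]

/-- the element of order 17 -/
def y : ↥G := gw [7]

/-- an element normalising the subgroup of order 17 -/
def nn : ↥G := gw [9]

/-- the image of the first generator under an outer automorphism -/
def a2 : ↥G := gw (cj W2 [0])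

/-! ### the generating pair -/

theorem y_pow : y ^ 17 = 1 := by
  have := (sigEq_iff _ _).mp chk_y17
  rwa [gw_rpt, gw_nil] at this

theorem y_ne : y ≠ 1 := by
  have := (sigEq_eq_false_iff [7] []).mp chk_y1
  rwa [gw_nil] at this

theorem orderOf_y : orderOf y = 17 := by
  haveI : Fact (Nat.Prime 17) := ⟨by norm_num⟩
  exact orderOf_eq_prime y_pow y_ne

theorem t_sq : t ^ 2 = 1 := by
  have := (sigEq_iff _ _).mp chk_t2
  have e : ([0, 0] : List ℕ) = rpt 2 [0] := rfl
  rwa [e, gw_rpt, gw_nil] at this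

theorem t_ne : t ≠ 1 := by
  have := (sigEq_eq_false_iff [0] []).mp chk_t1
  rwa [gw_nil] at this

theorem orderOf_t : orderOf t = 2 := by
  haveI : Fact (Nat.Prime 2) := ⟨Nat.prime_two⟩
  exact orderOf_eq_prime t_sq t_ne

theorem gw_rpt_y (i : ℕ) : gw (rpt i [7]) = y ^ i := gw_rpt i [7]

theorem gw_yinv : gw [8] = y⁻¹ := by
  have := (sigEq_iff _ _).mp chk_yinv
  have e : ([7, 8] : List ℕ) = [7] ++ [8] := rfl
  rw [e, gw_append, gw_nil] at this
  exact eq_inv_of_mul_eq_one_left this

theorem gw_y4 : gw [13] = y ^ 4 := ((sigEq_iff _ _).mp chk_y4).trans (gw_rpt_y 4)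

theorem gw_y3 : gw [11] = y ^ 3 := ((sigEq_iff _ _).mp chk_y3).trans (gw_rpt_y 3)

theorem gw_y12 : gw [15] = (y ^ 3) ^ 4 := by
  rw [← pow_mul]
  exact ((sigEq_iff _ _).mp chk_y12).trans (gw_rpt_y 12)

theorem gw_y9 : gw [17] = (y ^ 3) ^ 3 := by
  rw [← pow_mul]
  exact ((sigEq_iff _ _).mp chk_y9).trans (gw_rpt_y 9)

theorem nn_conj : nn * y * nn⁻¹ = y ^ 2 := by
  have := (sigEq_iff _ _).mp chk_n
  rw [gw_cj] at this
  exact this.trans (gw_rpt_y 2)

theorem nn_pow_conj (i m : ℕ) : nn ^ i * y ^ m * (nn ^ i)⁻¹ = y ^ (m * 2 ^ i) := by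
  induction i generalizing m with
  | zero => rw [pow_zero, one_mul, inv_one, mul_one, pow_zero, mul_one]
  | succ i ih =>
    have e : nn ^ (i + 1) * y ^ m * (nn ^ (i + 1))⁻¹ =
        nn * (nn ^ i * y ^ m * (nn ^ i)⁻¹) * nn⁻¹ := by
      rw [pow_succ']
      group
    rw [e, ih, ← conj_pow, nn_conj, ← pow_mul, pow_succ]
    congr 1
    ring

theorem exists_conj_pow (y' : ↥G) (hy' : orderOf y' = 17) :
    ∃ g : ↥G, g * y' * g⁻¹ = y ∨ g * y' * g⁻¹ = y ^ 3 := by
  haveI : Fact (Nat.Prime 17) := ⟨by norm_num⟩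
  obtain ⟨g0, hg0⟩ := exists_conj_mem_zpowers 17 (by rw [card_G]; norm_num) y y' orderOf_y hy'
  have ho : orderOf (g0 * y' * g0⁻¹) = 17 := by
    rw [← MulAut.conj_apply, MulEquiv.orderOf_eq]
    exact hy'
  rw [← mem_powers_iff_mem_zpowers, Submonoid.mem_powers_iff] at hg0
  obtain ⟨m, hm⟩ := hg0
  have hm' : y ^ (m % 17) = g0 * y' * g0⁻¹ := by
    rw [← hm, ← orderOf_y, pow_mod_orderOf]
  have hm0 : m % 17 ≠ 0 := by
    intro h0
    rw [h0, pow_zero] at hm'
    rw [← hm', orderOf_one] at ho
    omega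
  have hdec : ∀ r < 17, r ≠ 0 → ∃ i < 8, (r * 2 ^ i) % 17 = 1 ∨ (r * 2 ^ i) % 17 = 3 := by
    decide
  obtain ⟨i, -, hi⟩ := hdec (m % 17) (Nat.mod_lt _ (by norm_num)) hm0
  refine ⟨nn ^ i * g0, ?_⟩
  have e : nn ^ i * g0 * y' * (nn ^ i * g0)⁻¹ = nn ^ i * (g0 * y' * g0⁻¹) * (nn ^ i)⁻¹ := by
    group
  rw [e, ← hm', nn_pow_conj]
  have hp : y ^ (m % 17 * 2 ^ i) = y ^ ((m % 17 * 2 ^ i) % 17) := by
    rw [← orderOf_y, pow_mod_orderOf]
  rw [hp]
  rcases hi with hi | hi
  · left
    rw [hi, pow_one]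
  · right
    rw [hi]

theorem rel_ty : Rel t y := rel_of_not_fail (A := cj [] [0]) gw_y4 gw_y3 chk_rel

/-! ### the two classes of involutions -/

/-- the conjugating words for the small class -/
def LA : List (List ℕ) := LAs.flatten

/-- the involutions of the small class -/
def invsA : List ↥G := LA.map fun w => gw (cj w [0])

theorem codesA_flatten : LA.map codeA = CAs.flatten := by
  unfold LA
  rw [List.map_flatten, map_eq_of_zip codeA LAs CAs lenLA codesA_eq]

theorem invsA_nodup : invsA.Nodup := by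
  apply List.Nodup.of_map hcode
  have : invsA.map hcode = LA.map codeA := by
    unfold invsA
    rw [List.map_map]
    apply List.map_congr_left
    intro w _
    show hcode (gw (cj w [0])) = codeW (cj w [0])
    exact (codeW_eq _).symm
  rw [this, codesA_flatten]
  exact nodup_of_incrFrom _ 0 (incrFrom_flatten CAs 0 incrA)

theorem invsA_length : invsA.length = 24990 := by
  have h1 : invsA.length = LA.length := List.length_map _
  have h2 : (LA.map codeA).length = LA.length := List.length_map _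
  have h3 : (CAs.flatten).length = (CAs.map List.length).sum := List.length_flatten
  rw [h1, ← h2, codesA_flatten, h3]
  exact lenA

theorem card_class_t : {x : ↥G | IsConj t x}.ncard ≤ 24990 := by
  have h := ncard_isConj t
  rw [card_G] at h
  have hc : 161280 ≤ Nat.card ↥(Subgroup.centralizer ({t} : Set ↥G)) := card_centralizer_ge
  by_contra hlt
  push Not at hlt
  have : 24991 * 161280 ≤ {x : ↥G | IsConj t x}.ncard *
      Nat.card ↥(Subgroup.centralizer ({t} : Set ↥G)) := Nat.mul_le_mul hlt hc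
  omega

theorem mem_invsA_of_conj (x : ↥G) (hx : IsConj t x) : x ∈ invsA := by
  have hsub : (↑invsA.toFinset : Set ↥G) ⊆ {a | IsConj t a} := by
    intro z hz
    rw [Finset.mem_coe, List.mem_toFinset] at hz
    obtain ⟨w, -, rfl⟩ := List.mem_map.mp hz
    rw [Set.mem_ofPred_eq, gw_cj, isConj_iff]
    exact ⟨gw w, rfl⟩
  have heq : (↑invsA.toFinset : Set ↥G) = {a | IsConj t a} := by
    refine Set.eq_of_subset_of_ncard_le hsub ?_ (Set.toFinite _)
    rw [Set.ncard_coe_finset, List.toFinset_card_of_nodup invsA_nodup, invsA_length]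
    exact card_class_t
  have hmem : x ∈ (↑invsA.toFinset : Set ↥G) := by rw [heq]; exact hx
  rwa [Finset.mem_coe, List.mem_toFinset] at hmem

/-- the conjugating words for 24991 involutions of the large class -/
def LB : List (List ℕ) := LBs.flatten

/-- 24991 involutions of the large class -/
def invsB : List ↥G := LB.map fun w => gw (cj w [3])

theorem codesB_flatten : LB.map codeB = CBs.flatten := by
  unfold LB
  rw [List.map_flatten, map_eq_of_zip codeB LBs CBs lenLB codesB_eq]

theorem invsB_nodup : invsB.Nodup := by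
  apply List.Nodup.of_map hcode
  have : invsB.map hcode = LB.map codeB := by
    unfold invsB
    rw [List.map_map]
    apply List.map_congr_left
    intro w _
    show hcode (gw (cj w [3])) = codeW (cj w [3])
    exact (codeW_eq _).symm
  rw [this, codesB_flatten]
  exact nodup_of_incrFrom _ 0 (incrFrom_flatten CBs 0 incrB)

theorem invsB_length : invsB.length = 24991 := by
  have h1 : invsB.length = LB.length := List.length_map _
  have h2 : (LB.map codeB).length = LB.length := List.length_map _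
  have h3 : (CBs.flatten).length = (CBs.map List.length).sum := List.length_flatten
  rw [h1, ← h2, codesB_flatten, h3]
  exact lenB

theorem card_class_d : 24991 ≤ {x : ↥G | IsConj d x}.ncard := by
  have hsub : (↑invsB.toFinset : Set ↥G) ⊆ {a | IsConj d a} := by
    intro z hz
    rw [Finset.mem_coe, List.mem_toFinset] at hz
    obtain ⟨w, -, rfl⟩ := List.mem_map.mp hz
    rw [Set.mem_ofPred_eq, gw_cj, isConj_iff]
    exact ⟨gw w, rfl⟩
  have := Set.ncard_le_ncard hsub (Set.toFinite _)
  rwa [Set.ncard_coe_finset, List.toFinset_card_of_nodup invsB_nodup, invsB_length] at this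

theorem ncard_conj_map (β : MulAut ↥G) (x : ↥G) :
    {z : ↥G | IsConj (β x) z}.ncard = {z : ↥G | IsConj x z}.ncard := by
  have : {z : ↥G | IsConj (β x) z} = β '' {z : ↥G | IsConj x z} := by
    ext z
    constructor
    · intro hz
      rw [Set.mem_ofPred_eq, isConj_iff] at hz
      obtain ⟨c, hc⟩ := hz
      refine ⟨β.symm z, ?_, β.apply_symm_apply z⟩
      rw [Set.mem_ofPred_eq, isConj_iff]
      refine ⟨β.symm c, ?_⟩
      apply β.injective
      rw [map_mul, map_mul, map_inv, β.apply_symm_apply, β.apply_symm_apply]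
      exact hc
    · rintro ⟨z0, hz0, rfl⟩
      rw [Set.mem_ofPred_eq, isConj_iff] at hz0 ⊢
      obtain ⟨c, hc⟩ := hz0
      exact ⟨β c, by rw [← hc, map_mul, map_mul, map_inv]⟩
  rw [this, Set.ncard_image_of_injective _ β.injective]

/-- an automorphism maps the first generator to a conjugate -/
theorem aut_t_conj (β : MulAut ↥G) : IsConj t (β t) := by
  have ho : orderOf (β t) = 2 := by
    rw [MulEquiv.orderOf_eq]
    exact orderOf_t
  rcases invol_conj (β t) ho with h | h
  · exact h
  · exfalso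
    have h1 : {z : ↥G | IsConj (β t) z} = {z : ↥G | IsConj d z} := by
      ext z
      exact ⟨fun hz => IsConj.trans h hz, fun hz => IsConj.trans h.symm hz⟩
    have h2 := ncard_conj_map β t
    rw [h1] at h2
    have h3 := card_class_d
    have h4 := card_class_t
    omega

/-! ### the images of the generating pair under automorphisms -/

theorem exc1_spec {c : ℕ} (hc : c ∈ EXC1) : ∃ i : ℕ, c = codeA (rpt i [7]) := by
  rw [← eq_of_eqL chk_exc1, List.mem_map] at hc
  obtain ⟨i, -, hi⟩ := hc
  exact ⟨i, hi.symm⟩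

theorem exc3_spec {c : ℕ} (hc : c ∈ EXC3) : ∃ i : ℕ, c = codeA (W2 ++ rpt i [7]) := by
  rw [← eq_of_eqL chk_exc3, List.mem_map] at hc
  obtain ⟨i, -, hi⟩ := hc
  exact ⟨i, hi.symm⟩

theorem y_pow_comm (i : ℕ) (k : ℕ) : y ^ i * y ^ k * (y ^ i)⁻¹ = y ^ k := by
  rw [← pow_add, add_comm, pow_add, mul_inv_cancel_right]

theorem aut_images (α : MulAut ↥G) :
    ∃ h : ↥G, (α t = h * t * h⁻¹ ∧ α y = h * y * h⁻¹) ∨
      (α t = h * a2 * h⁻¹ ∧ α y = h * y ^ 3 * h⁻¹) := by
  have hαy : orderOf (α y) = 17 := by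
    rw [MulEquiv.orderOf_eq]
    exact orderOf_y
  obtain ⟨g, hg⟩ := exists_conj_pow (α y) hαy
  let β : MulAut ↥G := MulAut.conj g * α
  have hβt : β t = g * α t * g⁻¹ := rfl
  have hβy : β y = g * α y * g⁻¹ := rfl
  have hrel : Rel (β t) (β y) := rel_ty.map β.toMonoidHom
  have hmem := mem_invsA_of_conj (β t) (aut_t_conj β)
  obtain ⟨w, hwm, hw⟩ := List.mem_map.mp hmem
  obtain ⟨l, hl, hwl⟩ := List.mem_flatten.mp hwm
  have back : ∀ (h0 u v : ↥G), g * α t * g⁻¹ = h0 * u * h0⁻¹ → g * α y * g⁻¹ = h0 * v * h0⁻¹ →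
      α t = (g⁻¹ * h0) * u * (g⁻¹ * h0)⁻¹ ∧ α y = (g⁻¹ * h0) * v * (g⁻¹ * h0)⁻¹ := by
    intro h0 u v h1 h2
    constructor
    · calc α t = g⁻¹ * (g * α t * g⁻¹) * g := by group
        _ = g⁻¹ * (h0 * u * h0⁻¹) * g := by rw [h1]
        _ = _ := by group
    · calc α y = g⁻¹ * (g * α y * g⁻¹) * g := by group
        _ = g⁻¹ * (h0 * v * h0⁻¹) * g := by rw [h2]
        _ = _ := by group
  rcases hg with hg | hg
  · rcases rel_one l hl w hwl with hf | hex
    · exfalso
      apply not_rel_of_fail (y := y) gw_y4 gw_y3 hf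
      rw [hw, ← hg, ← hβy]
      exact hrel
    · obtain ⟨i, hi⟩ := exc1_spec hex
      have hvw : gw (cj w [0]) = gw (cj (rpt i [7]) [0]) := gw_eq_of_code hi
      rw [hw, gw_cj, gw_rpt_y] at hvw
      refine ⟨g⁻¹ * y ^ i, Or.inl ?_⟩
      apply back (y ^ i) t y
      · rw [← hβt]; exact hvw
      · rw [hg]
        have := y_pow_comm i 1
        rw [pow_one] at this
        exact this.symm
  · rcases rel_three l hl w hwl with hf | hex
    · exfalso
      apply not_rel_of_fail (y := y ^ 3) gw_y12 gw_y9 hf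
      rw [hw, ← hg, ← hβy]
      exact hrel
    · obtain ⟨i, hi⟩ := exc3_spec hex
      have hvw : gw (cj w [0]) = gw (cj (W2 ++ rpt i [7]) [0]) := gw_eq_of_code hi
      rw [hw, gw_cj, gw_append, gw_rpt_y] at hvw
      refine ⟨g⁻¹ * y ^ i, Or.inr ?_⟩
      apply back (y ^ i) a2 (y ^ 3)
      · rw [← hβt, hvw]
        unfold a2
        rw [gw_cj]
        group
      · rw [hg]
        exact (y_pow_comm i 3).symm

/-- when every automorphism maps a generating pair to a conjugate of one of two pairs, there are at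
most twice as many automorphisms as elements -/
theorem card_mulAut_le2 {J : Type*} [Group J] [Finite J] (t y t2 y2 : J)
    (hgen : Subgroup.closure ({t, y} : Set J) = ⊤)
    (h : ∀ α : MulAut J, ∃ g : J, (α t = g * t * g⁻¹ ∧ α y = g * y * g⁻¹) ∨
      (α t = g * t2 * g⁻¹ ∧ α y = g * y2 * g⁻¹)) :
    Nat.card (MulAut J) ≤ 2 * Nat.card J := by
  let Φ : MulAut J → J × J := fun α => (α t, α y)
  have hΦ : Function.Injective Φ := by
    intro α β hab
    exact mulAut_ext_of_closure t y hgen α β (congrArg Prod.fst hab) (congrArg Prod.snd hab)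
  let Ψ : J × Bool → J × J := fun x =>
    (x.1 * (if x.2 then t2 else t) * x.1⁻¹, x.1 * (if x.2 then y2 else y) * x.1⁻¹)
  have hsub : Set.range Φ ⊆ Set.range Ψ := by
    rintro _ ⟨α, rfl⟩
    obtain ⟨g, ⟨h1, h2⟩ | ⟨h1, h2⟩⟩ := h α
    · exact ⟨(g, false), by simp only [Ψ, Φ, Bool.false_eq_true, if_false, h1, h2]⟩
    · exact ⟨(g, true), by simp only [Ψ, Φ, if_true, h1, h2]⟩
  have hfin : Finite (MulAut J) := Finite.of_injective Φ hΦ
  calc Nat.card (MulAut J) = Nat.card (Set.range Φ) := (Nat.card_range_of_injective hΦ).symm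
    _ ≤ Nat.card (Set.range Ψ) := Nat.card_mono (Set.finite_range Ψ) hsub
    _ ≤ Nat.card (J × Bool) :=
        Nat.card_le_card_of_surjective (Set.rangeFactorization Ψ) Set.rangeFactorization_surjective
    _ = 2 * Nat.card J := by
        rw [Nat.card_prod, Nat.card_eq_fintype_card (α := Bool), Fintype.card_bool, mul_comm]

/-! ### generation -/

theorem gw_mem_closure (w : List ℕ) (hw : ∀ l ∈ w, l ∈ [0, 7, 8]) :
    gw w ∈ Subgroup.closure ({t, y} : Set ↥G) := by
  induction w with
  | nil =>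
    rw [gw_nil]
    exact (Subgroup.closure ({t, y} : Set ↥G)).one_mem
  | cons l w ih =>
    have e : l :: w = [l] ++ w := rfl
    rw [e, gw_append]
    apply Subgroup.mul_mem _ (ih fun x hx => hw x (List.mem_cons_of_mem _ hx))
    have hl := hw l List.mem_cons_self
    simp only [List.mem_cons, List.not_mem_nil, or_false] at hl
    rcases hl with rfl | rfl | rfl
    · exact Subgroup.subset_closure (by simp [t])
    · exact Subgroup.subset_closure (by simp [y])
    · rw [gw_yinv]
      exact Subgroup.inv_mem _ (Subgroup.subset_closure (by simp [y]))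

theorem gw_letter_mem (l : ℕ) (hl : l < 7) : gw [l] ∈ Subgroup.closure ({t, y} : Set ↥G) := by
  rcases Nat.eq_zero_or_pos l with rfl | hpos
  · exact Subgroup.subset_closure (by simp [t])
  · have hmem : l ∈ MWs.map Prod.fst := by
      rw [chk_mw_letters]
      simp only [List.mem_cons, List.not_mem_nil, or_false]
      omega
    obtain ⟨p, hp, rfl⟩ := List.mem_map.mp hmem
    have h := chk_mw
    rw [List.all_eq_true] at h
    have h1 := h p hp
    rw [Bool.and_eq_true, List.all_eq_true] at h1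
    rw [(sigEq_iff _ _).mp h1.1]
    exact gw_mem_closure p.2 fun x hx => (memB_iff x _).mp (h1.2 x hx)

theorem gen_ty : Subgroup.closure ({t, y} : Set ↥G) = ⊤ := by
  rw [eq_top_iff]
  have hle : G ≤ (Subgroup.closure ({t, y} : Set ↥G)).map G.subtype := by
    unfold G baseGroup
    rw [Subgroup.closure_le]
    rintro π ⟨l, hl, rfl⟩
    refine ⟨gw [l], gw_letter_mem l hl, ?_⟩
    show gwp [l] = Table.sigma hXT l
    rw [gwp_singleton, nl_of_lt (by omega)]
    rfl
  intro g _
  obtain ⟨m, hm, hmg⟩ := hle g.2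
  have : m = g := Subtype.ext hmg
  rw [← this]
  exact hm

theorem card_mulAut_G : Nat.card (MulAut ↥G) ≤ 2 * Nat.card ↥G :=
  card_mulAut_le2 t y a2 (y ^ 3) gen_ty aut_images

theorem center_G : Subgroup.center ↥G = ⊥ := by
  rcases (Subgroup.center ↥G).normal_of_characteristic.eq_bot_or_eq_top with h | h
  · exact h
  · exfalso
    have hy : y ∈ Subgroup.center ↥G := by rw [h]; exact Subgroup.mem_top y
    have hc := Subgroup.mem_center_iff.mp hy nn
    have h2 : nn * y * nn⁻¹ = y := by rw [hc]; group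
    rw [nn_conj, pow_two] at h2
    exact y_ne (mul_left_cancel (h2.trans (mul_one y).symm))

/-! ### the outer automorphism -/

/-- the identification of the permutations of the points of the two tables -/
def ΦP : Equiv.Perm (Fin PT.n) ≃* Equiv.Perm (Fin XT.n) :=
  (finCongr (rfl : PT.n = XT.n)).permCongrHom

theorem ΦP_apply_val (π : Equiv.Perm (Fin PT.n)) (p : Fin XT.n) :
    ((ΦP π) p).val = (π ((finCongr (rfl : PT.n = XT.n)).symm p)).val := rfl

/-- the permutation inducing the outer automorphism -/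
def pT : Equiv.Perm (Fin XT.n) := ΦP (Table.sigma hPT 0)

theorem pT_apply_val (p : Fin XT.n) : (pT p).val = PT.tau 0 p.val := by
  unfold pT
  rw [ΦP_apply_val, Table.sigma_apply hPT (show 0 < PT.k by decide)]
  rfl

theorem pT_inv_apply_val (p : Fin XT.n) : (pT⁻¹ p).val = PT.tau 1 p.val := by
  have e : pT⁻¹ = ΦP (Table.sigma hPT 1) := by
    unfold pT
    rw [← map_inv, ← Table.sigma_inv hPT (show 0 < PT.k by decide)]
    rfl
  rw [e, ΦP_apply_val, Table.sigma_apply hPT (show 1 < PT.k by decide)]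
  rfl

theorem wk_singleton (l : ℕ) (hl : l < 24) (p : ℕ) : wk [l] p = XT.tau l p := by
  unfold wk nw
  rw [List.map_cons, List.map_nil, nl_of_lt hl, Table.walkT_cons, Table.walkT_nil]

theorem pT_conj_t : pT * gwp [0] * pT⁻¹ = gwp (cj W2 [0]) := by
  apply Equiv.ext
  intro p
  apply Fin.ext
  rw [Equiv.Perm.mul_apply, Equiv.Perm.mul_apply, pT_apply_val, gwp_apply, pT_inv_apply_val,
    gwp_apply, wk_singleton 0 (by norm_num)]
  have h := chk_pTA
  unfold pTconjA at h
  rw [allLoop_eq_true] at h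
  exact Nat.eq_of_beq_eq_true (h p.val p.2)

theorem pT_conj_y : pT * gwp [7] * pT⁻¹ = gwp [11] := by
  apply Equiv.ext
  intro p
  apply Fin.ext
  rw [Equiv.Perm.mul_apply, Equiv.Perm.mul_apply, pT_apply_val, gwp_apply, pT_inv_apply_val,
    gwp_apply, wk_singleton 7 (by norm_num), wk_singleton 11 (by norm_num)]
  have h := chk_pTY
  unfold pTconjY at h
  rw [allLoop_eq_true] at h
  exact Nat.eq_of_beq_eq_true (h p.val p.2)

/-- the elements whose conjugates by the outer permutation lie in the group -/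
def NT : Subgroup ↥G where
  carrier := {g | pT * g.val * pT⁻¹ ∈ G}
  one_mem' := by
    show pT * (1 : ↥G).val * pT⁻¹ ∈ G
    rw [Subgroup.coe_one, mul_one, mul_inv_cancel]
    exact G.one_mem
  mul_mem' := by
    intro a b ha hb
    show pT * (a * b).val * pT⁻¹ ∈ G
    have e : pT * (a * b).val * pT⁻¹ = (pT * a.val * pT⁻¹) * (pT * b.val * pT⁻¹) := by
      rw [Subgroup.coe_mul]
      group
    rw [e]
    exact G.mul_mem ha hb
  inv_mem' := by
    intro a ha
    show pT * (a⁻¹).val * pT⁻¹ ∈ G
    have e : pT * (a⁻¹).val * pT⁻¹ = (pT * a.val * pT⁻¹)⁻¹ := by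
      rw [Subgroup.coe_inv]
      group
    rw [e]
    exact G.inv_mem ha

theorem NT_top : NT = ⊤ := by
  rw [eq_top_iff, ← gen_ty, Subgroup.closure_le]
  rintro x (rfl | rfl)
  · show pT * gwp [0] * pT⁻¹ ∈ G
    rw [pT_conj_t]
    exact gwp_mem _
  · show pT * gwp [7] * pT⁻¹ ∈ G
    rw [pT_conj_y]
    exact gwp_mem _

theorem conj_mem (g : ↥G) : pT * g.val * pT⁻¹ ∈ G := by
  have : g ∈ NT := by rw [NT_top]; exact Subgroup.mem_top g
  exact this

/-- conjugation by the outer permutation, as an endomorphism -/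
def phiH : ↥G →* ↥G where
  toFun g := ⟨pT * g.val * pT⁻¹, conj_mem g⟩
  map_one' := by
    apply Subtype.ext
    show pT * (1 : ↥G).val * pT⁻¹ = 1
    rw [Subgroup.coe_one, mul_one, mul_inv_cancel]
  map_mul' a b := by
    apply Subtype.ext
    show pT * (a * b).val * pT⁻¹ = (pT * a.val * pT⁻¹) * (pT * b.val * pT⁻¹)
    rw [Subgroup.coe_mul]
    group

theorem phiH_injective : Function.Injective phiH := by
  intro a b h
  have h1 : pT * a.val * pT⁻¹ = pT * b.val * pT⁻¹ := congrArg Subtype.val h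
  apply Subtype.ext
  exact mul_left_cancel (mul_right_cancel h1)

/-- conjugation by the outer permutation -/
def phiT : MulAut ↥G :=
  MulEquiv.ofBijective phiH ⟨phiH_injective, Finite.injective_iff_surjective.mp phiH_injective⟩

theorem phiT_y : phiT y = y ^ 3 := by
  apply Subtype.ext
  show pT * gwp [7] * pT⁻¹ = (y ^ 3).val
  rw [pT_conj_y, ← gw_y3]
  rfl

theorem orderOf_three : orderOf (3 : ZMod 17) = 16 := by
  rw [orderOf_eq_iff (by norm_num)]
  decide

theorem not_conj_cube (g : ↥G) (h : g * y * g⁻¹ = y ^ 3) : False := by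
  have hpow : ∀ j : ℕ, g ^ j * y * (g ^ j)⁻¹ = y ^ (3 ^ j) := by
    intro j
    induction j with
    | zero => rw [pow_zero, one_mul, inv_one, mul_one, pow_zero, pow_one]
    | succ j ih =>
      have e : g ^ (j + 1) * y * (g ^ (j + 1))⁻¹ = g * (g ^ j * y * (g ^ j)⁻¹) * g⁻¹ := by
        rw [pow_succ']
        group
      rw [e, ih, ← conj_pow, h, ← pow_mul, pow_succ, mul_comm]
  have hm := hpow (orderOf g)
  rw [pow_orderOf_eq_one, one_mul, inv_one, mul_one] at hm
  have hmod : 3 ^ orderOf g ≡ 1 [MOD 17] := by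
    have := (pow_eq_pow_iff_modEq (x := y) (n := 3 ^ orderOf g) (m := 1)).mp (by rw [pow_one]; exact hm.symm)
    rwa [orderOf_y] at this
  have hz : (3 : ZMod 17) ^ orderOf g = 1 := by
    have := (ZMod.natCast_eq_natCast_iff _ _ _).mpr hmod
    push_cast at this
    exact this
  have hdvd : 16 ∣ orderOf g := by
    rw [← orderOf_three]
    exact orderOf_dvd_of_pow_eq_one hz
  obtain ⟨k, hk⟩ := hdvd
  have hpos : 0 < orderOf g := orderOf_pos g
  have hk0 : k ≠ 0 := by
    intro h0
    rw [h0, mul_zero] at hk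
    omega
  apply no_order16 (g ^ k)
  rw [orderOf_pow' g hk0, hk, Nat.gcd_mul_left_left, Nat.mul_div_cancel _ (Nat.pos_of_ne_zero hk0)]

theorem phiT_not_inner : phiT ∉ Cfsg.Inn ↥G := by
  rintro ⟨g, hg⟩
  have h1 : (MulAut.conj g) y = phiT y := by rw [hg]
  rw [MulAut.conj_apply, phiT_y] at h1
  exact not_conj_cube g h1

/-- the Held group on 2058 points has two classes of outer automorphisms -/
theorem card_out_G : Nat.card (Cfsg.Out ↥G) = 2 :=
  card_out_eq_two center_G card_mulAut_G phiT phiT_not_inner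

/-- the presented Held group has two classes of outer automorphisms -/
theorem card_out_He : Nat.card (Cfsg.Out Cfsg.Spor.He) = 2 := by
  obtain ⟨e, -⟩ := exists_iso
  exact (card_out_congr e).trans card_out_G

end

end Cfsg.Agent.Lib.Helper10.HeO
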