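import Cfsg.Agent.Lib.Helper10.HeOSylChk

set_option autoImplicit false
set_option maxRecDepth 100000

/-!
A Sylow 2-subgroup of the Held group on 2058 points: its involutions are conjugate to the first or
to the fourth generator of the presentation, and it has exponent 8.
-/

namespace Cfsg.Agent.Lib.Helper10.HeO
open Cfsg.Agent.Lib.Helper28.TC2Upper Cfsg.Agent.Lib.Helper28.TC2Lower

noncomputable section

theorem incrFrom_lt : ∀ (l : List ℕ) (lo : ℕ), incrFrom lo l = true → ∀ b ∈ l, lo < b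
  | [], _, _, b, hb => absurd hb List.not_mem_nil
  | a :: l, lo, h, b, hb => by
    rw [incrFrom, Bool.and_eq_true] at h
    have h1 : lo < a := by simpa [Nat.blt] using h.1
    rcases List.mem_cons.mp hb with rfl | hb
    · exact h1
    · exact lt_trans h1 (incrFrom_lt l a h.2 b hb)

theorem nodup_of_incrFrom : ∀ (l : List ℕ) (lo : ℕ), incrFrom lo l = true → l.Nodup
  | [], _, _ => List.nodup_nil
  | a :: l, lo, h => by
    rw [incrFrom, Bool.and_eq_true] at h
    refine List.nodup_cons.mpr ⟨?_, nodup_of_incrFrom l a h.2⟩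
    intro ha
    exact lt_irrefl a (incrFrom_lt l a h.2 a ha)

/-! ### the set of the elements of the words -/

theorem code_wdS {i : ℕ} (hi : i < 1024) : codeW (wdS i) = SCs.getD i 0 := by
  have h := sylCodes
  unfold sylCodesB at h
  rw [allLoop_eq_true] at h
  exact Nat.eq_of_beq_eq_true (h i hi)

theorem wdS_inj {i j : ℕ} (hi : i < 1024) (hj : j < 1024) (h : gw (wdS i) = gw (wdS j)) : i = j := by
  have hc : SCs.getD i 0 = SCs.getD j 0 := by
    rw [← code_wdS hi, ← code_wdS hj, codeW_eq, codeW_eq, h]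
  have hnd : SCs.Nodup := nodup_of_incrFrom _ 0 sylIncr
  have hi' : i < SCs.length := by rw [sylLen.2]; exact hi
  have hj' : j < SCs.length := by rw [sylLen.2]; exact hj
  rw [List.getD_eq_getElem _ _ hi', List.getD_eq_getElem _ _ hj'] at hc
  exact (hnd.getElem_inj_iff).mp hc

/-- the elements of the words -/
def X : Set ↥G := {g | ∃ i, i < 1024 ∧ g = gw (wdS i)}

theorem one_mem_X : (1 : ↥G) ∈ X := ⟨SOne, sylOne.1, by rw [sylOne.2]; rfl⟩

theorem mem_SLs {l : ℕ} (hl : l ∈ SLs) : ∃ k, k < 7 ∧ SLs.getD k 0 = l := by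
  simp only [SLs, List.mem_cons, List.not_mem_nil, or_false] at hl
  rcases hl with rfl | rfl | rfl | rfl | rfl | rfl | rfl
  exacts [⟨0, by norm_num, rfl⟩, ⟨1, by norm_num, rfl⟩, ⟨2, by norm_num, rfl⟩, ⟨3, by norm_num, rfl⟩,
    ⟨4, by norm_num, rfl⟩, ⟨5, by norm_num, rfl⟩, ⟨6, by norm_num, rfl⟩]

theorem mul_mem_X {l : ℕ} (hl : l ∈ SLs) {g : ↥G} (hg : g ∈ X) : gw [l] * g ∈ X := by
  obtain ⟨i, hi, rfl⟩ := hg
  obtain ⟨k, hk, rfl⟩ := mem_SLs hl
  have h := sylTable
  unfold sylTableB at h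
  rw [allLoop_eq_true] at h
  have h1 := h i hi
  rw [allLoop_eq_true] at h1
  have h2 := h1 k hk
  rw [Bool.and_eq_true] at h2
  refine ⟨mtS i k, by simpa [Nat.blt] using h2.1, ?_⟩
  rw [← gw_append]
  exact (sigEq_iff _ _).mp h2.2

theorem pow_mul_mem_X {l : ℕ} (hl : l ∈ SLs) {g : ↥G} (hg : g ∈ X) (m : ℕ) : gw [l] ^ m * g ∈ X := by
  induction m with
  | zero => rw [pow_zero, one_mul]; exact hg
  | succ m ih =>
    rw [pow_succ', mul_assoc]
    exact mul_mem_X hl ih

theorem inv_mul_mem_X {l : ℕ} (hl : l ∈ SLs) {g : ↥G} (hg : g ∈ X) : (gw [l])⁻¹ * g ∈ X := by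
  have ho : 0 < orderOf (gw [l]) := orderOf_pos _
  have e : (gw [l])⁻¹ = gw [l] ^ (orderOf (gw [l]) - 1) := by
    rw [inv_eq_iff_mul_eq_one, ← pow_succ']
    have : orderOf (gw [l]) - 1 + 1 = orderOf (gw [l]) := by omega
    rw [this, pow_orderOf_eq_one]
  rw [e]
  exact pow_mul_mem_X hl hg _

/-- the Sylow 2-subgroup -/
def P : Subgroup ↥G := Subgroup.closure {g | ∃ l ∈ SLs, g = gw [l]}

theorem P_le_X {g : ↥G} (hg : g ∈ P) : g ∈ X := by
  unfold P at hg
  induction hg using Subgroup.closure_induction_left with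
  | one => exact one_mem_X
  | mul_left x hx y _ ih =>
    obtain ⟨l, hl, rfl⟩ := hx
    exact mul_mem_X hl ih
  | inv_mul_cancel x hx y _ ih =>
    obtain ⟨l, hl, rfl⟩ := hx
    exact inv_mul_mem_X hl ih

theorem gw_mem_P (w : List ℕ) (hw : ∀ l ∈ w, l ∈ SLs) : gw w ∈ P := by
  induction w with
  | nil => exact P.one_mem
  | cons l w ih =>
    have e : l :: w = [l] ++ w := rfl
    rw [e, gw_append]
    exact P.mul_mem (ih fun x hx => hw x (List.mem_cons_of_mem _ hx))
      (Subgroup.subset_closure ⟨l, hw l List.mem_cons_self, rfl⟩)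

theorem X_le_P {g : ↥G} (hg : g ∈ X) : g ∈ P := by
  obtain ⟨i, hi, rfl⟩ := hg
  apply gw_mem_P
  have h := sylLetters
  unfold sylLettersB at h
  rw [allLoop_eq_true] at h
  have h1 := h i hi
  rw [List.all_eq_true] at h1
  intro l hl
  exact (memB_iff l SLs).mp (h1 l hl)

theorem mem_P_iff (g : ↥G) : g ∈ P ↔ ∃ i, i < 1024 ∧ g = gw (wdS i) :=
  ⟨fun h => P_le_X h, fun h => X_le_P h⟩

theorem card_P : Nat.card ↥P = 1024 := by
  let f : Fin 1024 → ↥P := fun i => ⟨gw (wdS i.val), X_le_P ⟨i.val, i.isLt, rfl⟩⟩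
  have hf : Function.Bijective f := by
    constructor
    · intro i j h
      exact Fin.ext (wdS_inj i.isLt j.isLt (congrArg Subtype.val h))
    · rintro ⟨g, hg⟩
      obtain ⟨i, hi, rfl⟩ := P_le_X hg
      exact ⟨⟨i, hi⟩, rfl⟩
  rw [← Nat.card_congr (Equiv.ofBijective f hf), Nat.card_fin]

/-! ### conjugation into the Sylow subgroup -/

/-- an element generating a 2-group is conjugate to an element of the Sylow subgroup -/
theorem exists_conj_mem_P (x : ↥G) (hx : IsPGroup 2 (Subgroup.zpowers x)) :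
    ∃ g : ↥G, g * x * g⁻¹ ∈ P := by
  haveI : Fact (Nat.Prime 2) := ⟨Nat.prime_two⟩
  have hP : IsPGroup 2 ↥P := IsPGroup.of_card (n := 10) (by rw [card_P]; norm_num)
  obtain ⟨Q0, hQ0⟩ := hP.exists_le_sylow
  obtain ⟨Q1, hQ1⟩ := hx.exists_le_sylow
  have hQ0P : (Q0 : Subgroup ↥G) = P := by
    obtain ⟨n, hn⟩ := IsPGroup.iff_card.mp Q0.isPGroup'
    have hdvd : 2 ^ n ∣ Nat.card ↥G := by
      rw [← hn]
      exact Subgroup.card_subgroup_dvd_card _
    have hn10 : n ≤ 10 := by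
      by_contra hlt
      push Not at hlt
      have h11 : 2 ^ 11 ∣ Nat.card ↥G := (pow_dvd_pow 2 hlt).trans hdvd
      rw [card_G] at h11
      norm_num at h11
    have hle : Nat.card (Q0 : Subgroup ↥G) ≤ Nat.card ↥P := by
      rw [hn, card_P]
      calc 2 ^ n ≤ 2 ^ 10 := Nat.pow_le_pow_right (by norm_num) hn10
        _ = 1024 := by norm_num
    exact (Subgroup.eq_of_le_of_card_ge hQ0 hle).symm
  obtain ⟨g, hg⟩ := MulAction.exists_smul_eq ↥G Q1 Q0
  refine ⟨g, ?_⟩
  rw [← hQ0P, ← hg, Sylow.coe_subgroup_smul]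
  exact ⟨x, hQ1 (Subgroup.mem_zpowers x), rfl⟩

theorem isPGroup_zpowers_of_orderOf {x : ↥G} {k : ℕ} (h : orderOf x = 2 ^ k) :
    IsPGroup 2 (Subgroup.zpowers x) :=
  IsPGroup.of_card (n := k) (by rw [Nat.card_zpowers, h])

/-- an involution is conjugate to the first or to the fourth generator -/
theorem invol_conj (x : ↥G) (hx : orderOf x = 2) : IsConj (gw [0]) x ∨ IsConj (gw [3]) x := by
  obtain ⟨g, hg⟩ := exists_conj_mem_P x (isPGroup_zpowers_of_orderOf (k := 1) (by rw [hx, pow_one]))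
  obtain ⟨i, hi, hgi⟩ := P_le_X hg
  have ho : orderOf (gw (wdS i)) = 2 := by
    rw [← hgi, ← MulAut.conj_apply, MulEquiv.orderOf_eq]
    exact hx
  have h := sylInv
  unfold sylInvB at h
  rw [allLoop_eq_true] at h
  have h1 := h i hi
  have key : ∀ (c : List ℕ) (t : List ℕ), gw (cj c t) = gw (wdS i) → IsConj (gw t) x := by
    intro c t hc
    rw [gw_cj, ← hgi] at hc
    rw [isConj_iff]
    refine ⟨g⁻¹ * gw c, ?_⟩
    calc g⁻¹ * gw c * gw t * (g⁻¹ * gw c)⁻¹ = g⁻¹ * (gw c * gw t * (gw c)⁻¹) * g := by group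
      _ = g⁻¹ * (g * x * g⁻¹) * g := by rw [hc]
      _ = x := by group
  cases h0 : Nat.beq (SCl.getD i 0) 0
  · rw [h0, cond_false] at h1
    cases h01 : Nat.beq (SCl.getD i 0) 1
    · rw [h01, cond_false] at h1
      exact Or.inr (key _ _ ((sigEq_iff _ _).mp h1))
    · rw [h01, cond_true] at h1
      exact Or.inl (key _ _ ((sigEq_iff _ _).mp h1))
  · exfalso
    rw [h0, cond_true, Bool.or_eq_true, Bool.not_eq_true', sigEq_eq_false_iff, sigEq_iff, gw_append,
      gw_nil] at h1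
    rcases h1 with h1 | h1
    · apply h1
      rw [← pow_two, ← ho, pow_orderOf_eq_one]
    · rw [h1, orderOf_one] at ho
      omega

/-- there is no element of order 16 -/
theorem no_order16 (x : ↥G) : orderOf x ≠ 16 := by
  intro hx
  obtain ⟨g, hg⟩ := exists_conj_mem_P x (isPGroup_zpowers_of_orderOf (k := 4) (by rw [hx]; norm_num))
  obtain ⟨i, hi, hgi⟩ := P_le_X hg
  have ho : orderOf (gw (wdS i)) = 16 := by
    rw [← hgi, ← MulAut.conj_apply, MulEquiv.orderOf_eq]
    exact hx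
  have h := sylExp
  unfold sylExpB at h
  rw [allLoop_eq_true] at h
  have h1 := (sigEq_iff _ _).mp (h i hi)
  rw [gw_rpt, gw_nil] at h1
  have := orderOf_dvd_of_pow_eq_one h1
  rw [ho] at this
  norm_num at this

end

end Cfsg.Agent.Lib.Helper10.HeO
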