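import Cfsg.Agent.Lib.Helper10.HeOBasic
import Cfsg.Agent.Lib.Helper10.HeOSylData

set_option autoImplicit false
set_option maxRecDepth 100000
set_option maxHeartbeats 0

/-!
Checks for a Sylow 2-subgroup of the Held group on 2058 points, given by 1024 words.
-/

namespace Cfsg.Agent.Lib.Helper10.HeO
open Cfsg.Agent.Lib.Helper28.TC2Upper Cfsg.Agent.Lib.Helper28.TC2Lower

noncomputable section

/-- strictly increasing list of numbers above a bound -/
def incrFrom : ℕ → List ℕ → Bool
  | _, [] => true
  | lo, a :: l => Nat.blt lo a && incrFrom a l

/-- membership of a number in a list -/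
def memB (a : ℕ) : List ℕ → Bool
  | [] => false
  | b :: l => Nat.beq a b || memB a l

theorem memB_iff (a : ℕ) : ∀ l : List ℕ, memB a l = true ↔ a ∈ l
  | [] => by simp [memB]
  | b :: l => by
    rw [memB, Bool.or_eq_true, memB_iff a l, List.mem_cons]
    constructor
    · rintro (h | h)
      · exact Or.inl (Nat.eq_of_beq_eq_true h)
      · exact Or.inr h
    · rintro (h | h)
      · exact Or.inl (by rw [h]; exact Nat.beq_refl _)
      · exact Or.inr h

/-- the word of the Sylow subgroup with a given index -/
def wdS (i : ℕ) : List ℕ := SWs.getD i []

/-- the codes of the words -/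
def sylCodesB : Bool := allLoop (fun i => Nat.beq (codeW (wdS i)) (SCs.getD i 0)) 1024

/-- the letters of the words -/
def sylLettersB : Bool := allLoop (fun i => (wdS i).all fun l => memB l SLs) 1024

/-- the entry of the table of the products with the generators -/
def mtS (i k : ℕ) : ℕ := (SMT.getD i []).getD k 0

/-- the products with the generators -/
def sylTableB : Bool :=
  allLoop (fun i => allLoop (fun k =>
    Nat.blt (mtS i k) 1024 && sigEq (wdS i ++ [SLs.getD k 0]) (wdS (mtS i k))) 7) 1024

/-- the involutions are conjugate to the first or to the fourth generator -/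
def sylInvB : Bool :=
  allLoop (fun i =>
    cond (Nat.beq (SCl.getD i 0) 0) (!(sigEq (wdS i ++ wdS i) []) || sigEq (wdS i) [])
      (cond (Nat.beq (SCl.getD i 0) 1) (sigEq (cj (SCw.getD i []) [0]) (wdS i))
        (sigEq (cj (SCw.getD i []) [3]) (wdS i)))) 1024

/-- the eighth powers are trivial -/
def sylExpB : Bool := allLoop (fun i => sigEq (rpt 8 (wdS i)) []) 1024

theorem sylCodes : sylCodesB = true := by decide +kernel

theorem sylIncr : incrFrom 0 SCs = true := by decide +kernel

theorem sylLetters : sylLettersB = true := by decide +kernel

theorem sylTable : sylTableB = true := by decide +kernel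

theorem sylInv : sylInvB = true := by decide +kernel

theorem sylExp : sylExpB = true := by decide +kernel

theorem sylLen : SWs.length = 1024 ∧ SCs.length = 1024 := by decide +kernel

theorem sylOne : SOne < 1024 ∧ wdS SOne = [] := by decide +kernel

end

end Cfsg.Agent.Lib.Helper10.HeO
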