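import Cfsg.Agent.Lib.Helper10.EnumGroup

set_option autoImplicit false

/-!
The centraliser of an involution with a normal extraspecial subgroup of order 32 and a complement
isomorphic to the alternating group of degree 5, from enumerations of the two subgroups; conjugacy of
all involutions from the involutions of such a centraliser containing a Sylow 2-subgroup.
-/

namespace Cfsg.Agent.Lib.Helper10.EnumG

variable {J : Type*} [Group J]

/-- when the centraliser of `t` contains a Sylow 2-subgroup and all its involutions are conjugate to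
`t`, all involutions of the group are conjugate -/
theorem isConj_involutions [Finite J] (t : J) (m k : ℕ) (hm : Odd m)
    (hJ : Nat.card J = 2 ^ k * m)
    (hC : 2 ^ k ∣ Nat.card (Subgroup.centralizer ({t} : Set J)))
    (hinv : ∀ y ∈ Subgroup.centralizer ({t} : Set J), orderOf y = 2 → IsConj t y) :
    ∀ x y : J, orderOf x = 2 → orderOf y = 2 → IsConj x y := by
  have : Fact (Nat.Prime 2) := ⟨Nat.prime_two⟩
  obtain ⟨K, hK⟩ := Sylow.exists_subgroup_card_pow_prime 2 hC
  have hK' : Nat.card (K.map (Subgroup.centralizer ({t} : Set J)).subtype) = 2 ^ k := by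
    rw [Subgroup.card_map_of_injective (Subgroup.subtype_injective _)]
    exact hK
  have hK'p : IsPGroup 2 (K.map (Subgroup.centralizer ({t} : Set J)).subtype) :=
    IsPGroup.of_card hK'
  obtain ⟨P', hP'⟩ := hK'p.exists_le_sylow
  have hP'card : Nat.card P' = 2 ^ k := by
    obtain ⟨n, hn⟩ := IsPGroup.iff_card.mp P'.isPGroup'
    have hdvd : 2 ^ n ∣ 2 ^ k * m := by
      rw [← hn, ← hJ]
      exact Subgroup.card_subgroup_dvd_card _
    have hcop : Nat.Coprime (2 ^ n) m := Nat.Coprime.pow_left n (Nat.coprime_two_left.mpr hm)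
    have h1 : 2 ^ n ∣ 2 ^ k := hcop.dvd_of_dvd_mul_right hdvd
    have h2 : 2 ^ k ≤ 2 ^ n := by
      rw [← hn, ← hK']
      exact Subgroup.card_le_of_le hP'
    exact hn.trans (Nat.le_antisymm (Nat.le_of_dvd (by positivity) h1) h2)
  have hKP : K.map (Subgroup.centralizer ({t} : Set J)).subtype = ↑P' :=
    Subgroup.eq_of_le_of_card_ge hP' (by rw [hK', hP'card])
  have key : ∀ x : J, orderOf x = 2 → IsConj t x := by
    intro x hx
    have hxp : IsPGroup 2 (Subgroup.zpowers x) :=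
      IsPGroup.of_card (n := 1) (by rw [Nat.card_zpowers, hx, pow_one])
    obtain ⟨P, hP⟩ := hxp.exists_le_sylow
    obtain ⟨g, hg⟩ := MulAction.exists_smul_eq J P P'
    have hxP : x ∈ (P : Subgroup J) := hP (Subgroup.mem_zpowers x)
    have hmem : g * x * g⁻¹ ∈ (P' : Subgroup J) := by
      rw [← hg, Sylow.coe_subgroup_smul]
      exact ⟨x, hxP, rfl⟩
    rw [← hKP] at hmem
    obtain ⟨c, -, hc⟩ := hmem
    have hyC : g * x * g⁻¹ ∈ Subgroup.centralizer ({t} : Set J) := by
      rw [← hc]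
      exact c.2
    have hy2 : orderOf (g * x * g⁻¹) = 2 := by
      rw [← MulAut.conj_apply, MulEquiv.orderOf_eq]
      exact hx
    have h1 := hinv _ hyC hy2
    exact h1.trans (isConj_iff.mpr ⟨g⁻¹, by group⟩)
  intro x y hx hy
  exact (key x hx).symm.trans (key y hy)

/-- the structure of the centraliser of an involution from enumerations of a normal subgroup of
order 32 and of a complement of order 60 -/
theorem centralizer_structure [Finite J] (t : J) (SQ SH : Subgroup J)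
    (hQC : SQ ≤ Subgroup.centralizer ({t} : Set J))
    (hHC : SH ≤ Subgroup.centralizer ({t} : Set J))
    (hdisj : Disjoint SQ SH)
    (hcard : Nat.card (Subgroup.centralizer ({t} : Set J)) = 1920)
    (hnorm : ∀ h ∈ SH, ∀ q ∈ SQ, h * q * h⁻¹ ∈ SQ)
    (EQ : Enum ↥SQ 32) (o z : Fin 32) (ho : EQ.e o = 1) (hz : z ≠ o)
    (hcen : ∀ i, (∀ j, EQ.mt i j = EQ.mt j i) ↔ (i = o ∨ i = z))
    (hcomm : ∀ i j, EQ.mt i j = EQ.mt j i ∨ EQ.mt i j = EQ.mt z (EQ.mt j i))
    (hsq : ∃ s, EQ.mt s s = z)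
    (h3 : ∀ a b c : Fin 32, EQ.mt a a = o → EQ.mt b b = o → EQ.mt c c = o →
      EQ.mt a b = EQ.mt b a → EQ.mt a c = EQ.mt c a → EQ.mt b c = EQ.mt c b →
      (a = o ∨ b = o ∨ b = a ∨ c = o ∨ c = a ∨ c = b ∨ c = EQ.mt a b))
    (EH : Enum ↥SH 60) (φ : Fin 60 → Equiv.Perm (Fin 5))
    (hφ : ∀ i j, φ (EH.mt i j) = φ i * φ j) (hinj : Function.Injective φ) :
    ∃ (Q : Subgroup ↥(Subgroup.centralizer ({t} : Set J))) (_ : Q.Normal),
      Cfsg.IsExtraspecial 2 Q ∧ Nat.card Q = 32 ∧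
      (∀ E : Subgroup Q, Cfsg.IsElementaryAbelian 2 E → Nat.card E ≤ 2 ^ 2) ∧
      (∃ H : Subgroup ↥(Subgroup.centralizer ({t} : Set J)), Q.IsComplement' H) ∧
      Nonempty (↥(Subgroup.centralizer ({t} : Set J)) ⧸ Q ≃* ↥(alternatingGroup (Fin 5))) := by
  let eQ : ↥(SQ.subgroupOf (Subgroup.centralizer ({t} : Set J))) ≃* ↥SQ :=
    Subgroup.subgroupOfEquivOfLe hQC
  let eH : ↥(SH.subgroupOf (Subgroup.centralizer ({t} : Set J))) ≃* ↥SH :=
    Subgroup.subgroupOfEquivOfLe hHC
  have hcQ : Nat.card (SQ.subgroupOf (Subgroup.centralizer ({t} : Set J))) = 32 :=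
    (EQ.map eQ.symm).card
  have hcH : Nat.card (SH.subgroupOf (Subgroup.centralizer ({t} : Set J))) = 60 :=
    (EH.map eH.symm).card
  have hdisj' : Disjoint (SQ.subgroupOf (Subgroup.centralizer ({t} : Set J)))
      (SH.subgroupOf (Subgroup.centralizer ({t} : Set J))) := by
    rw [Subgroup.disjoint_def]
    intro x hx hy
    rw [Subgroup.mem_subgroupOf] at hx hy
    exact Subtype.ext (Subgroup.disjoint_def.mp hdisj hx hy)
  have hcompl : (SQ.subgroupOf (Subgroup.centralizer ({t} : Set J))).IsComplement'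
      (SH.subgroupOf (Subgroup.centralizer ({t} : Set J))) :=
    Subgroup.isComplement'_of_card_mul_and_disjoint (by rw [hcQ, hcH, hcard]) hdisj'
  have hnormal : (SQ.subgroupOf (Subgroup.centralizer ({t} : Set J))).Normal := by
    constructor
    intro n hn c
    rw [Subgroup.mem_subgroupOf] at hn ⊢
    obtain ⟨⟨⟨q, hq⟩, ⟨h, hh⟩⟩, rfl⟩ := hcompl.2 c
    have h1 := hnorm h.val (Subgroup.mem_subgroupOf.mp hh) n.val hn
    have hq' : q.val ∈ SQ := Subgroup.mem_subgroupOf.mp hq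
    have e : ((q * h * n * (q * h)⁻¹ : ↥(Subgroup.centralizer ({t} : Set J))) : J) =
        q.val * (h.val * n.val * h.val⁻¹) * q.val⁻¹ := by
      simp only [Subgroup.coe_mul, Subgroup.coe_inv]
      group
    show ((q * h * n * (q * h)⁻¹ : ↥(Subgroup.centralizer ({t} : Set J))) : J) ∈ SQ
    rw [e]
    exact SQ.mul_mem (SQ.mul_mem hq' h1) (SQ.inv_mem hq')
  refine ⟨SQ.subgroupOf (Subgroup.centralizer ({t} : Set J)), hnormal, ?_, hcQ, ?_,
    ⟨SH.subgroupOf (Subgroup.centralizer ({t} : Set J)), hcompl⟩, ?_⟩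
  · refine extraspecial_of_table (EQ.map eQ.symm) o z ?_ hz hcen hcomm hsq
    show eQ.symm (EQ.e o) = 1
    rw [ho, map_one]
  · intro E hE
    have := card_le_four_of_table (EQ.map eQ.symm) o (by
      show eQ.symm (EQ.e o) = 1
      rw [ho, map_one]) h3 E hE
    norm_num
    exact this
  · obtain ⟨f⟩ := nonempty_mulEquiv_alt5 (EH.map eH.symm) φ hφ hinj
    exact ⟨(hcompl.symm.QuotientMulEquiv).trans f⟩

/-! ### transport along an isomorphism -/

theorem isConj_involutions_map {J' : Type*} [Group J'] (e : J ≃* J')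
    (h : ∀ x y : J, orderOf x = 2 → orderOf y = 2 → IsConj x y) :
    ∀ x y : J', orderOf x = 2 → orderOf y = 2 → IsConj x y := by
  intro x y hx hy
  have h1 := h (e.symm x) (e.symm y) (by rw [MulEquiv.orderOf_eq]; exact hx)
    (by rw [MulEquiv.orderOf_eq]; exact hy)
  obtain ⟨c, hc⟩ := isConj_iff.mp h1
  refine isConj_iff.mpr ⟨e c, ?_⟩
  have h2 := congrArg e hc
  rw [map_mul, map_mul, map_inv, e.apply_symm_apply, e.apply_symm_apply] at h2
  exact h2

theorem centralizer_map {J' : Type*} [Group J'] (e : J ≃* J') (t : J) :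
    Subgroup.centralizer ({e t} : Set J') =
      (Subgroup.centralizer ({t} : Set J)).map e.toMonoidHom := by
  ext x
  rw [Subgroup.mem_map_equiv, Subgroup.mem_centralizer_singleton_iff,
    Subgroup.mem_centralizer_singleton_iff]
  constructor
  · intro h
    apply e.injective
    rw [map_mul, map_mul, e.apply_symm_apply]
    exact h
  · intro h
    have h1 := congrArg e h
    rw [map_mul, map_mul, e.apply_symm_apply] at h1
    exact h1

theorem centralizer_structure_map {J' : Type*} [Group J'] [Finite J] (e : J ≃* J') (t : J)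
    (SQ SH : Subgroup J)
    (hQC : SQ ≤ Subgroup.centralizer ({t} : Set J))
    (hHC : SH ≤ Subgroup.centralizer ({t} : Set J))
    (hdisj : Disjoint SQ SH)
    (hcard : Nat.card (Subgroup.centralizer ({t} : Set J)) = 1920)
    (hnorm : ∀ h ∈ SH, ∀ q ∈ SQ, h * q * h⁻¹ ∈ SQ)
    (EQ : Enum ↥SQ 32) (o z : Fin 32) (ho : EQ.e o = 1) (hz : z ≠ o)
    (hcen : ∀ i, (∀ j, EQ.mt i j = EQ.mt j i) ↔ (i = o ∨ i = z))
    (hcomm : ∀ i j, EQ.mt i j = EQ.mt j i ∨ EQ.mt i j = EQ.mt z (EQ.mt j i))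
    (hsq : ∃ s, EQ.mt s s = z)
    (h3 : ∀ a b c : Fin 32, EQ.mt a a = o → EQ.mt b b = o → EQ.mt c c = o →
      EQ.mt a b = EQ.mt b a → EQ.mt a c = EQ.mt c a → EQ.mt b c = EQ.mt c b →
      (a = o ∨ b = o ∨ b = a ∨ c = o ∨ c = a ∨ c = b ∨ c = EQ.mt a b))
    (EH : Enum ↥SH 60) (φ : Fin 60 → Equiv.Perm (Fin 5))
    (hφ : ∀ i j, φ (EH.mt i j) = φ i * φ j) (hinj : Function.Injective φ) :
    ∃ (Q : Subgroup ↥(Subgroup.centralizer ({e t} : Set J'))) (_ : Q.Normal),
      Cfsg.IsExtraspecial 2 Q ∧ Nat.card Q = 32 ∧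
      (∀ E : Subgroup Q, Cfsg.IsElementaryAbelian 2 E → Nat.card E ≤ 2 ^ 2) ∧
      (∃ H : Subgroup ↥(Subgroup.centralizer ({e t} : Set J')), Q.IsComplement' H) ∧
      Nonempty (↥(Subgroup.centralizer ({e t} : Set J')) ⧸ Q ≃* ↥(alternatingGroup (Fin 5))) := by
  have : Finite J' := Finite.of_equiv _ e.toEquiv
  refine centralizer_structure (e t) (SQ.map e.toMonoidHom) (SH.map e.toMonoidHom) ?_ ?_ ?_ ?_ ?_
    (EQ.map (e.subgroupMap SQ)) o z ?_ hz hcen hcomm hsq h3 (EH.map (e.subgroupMap SH)) φ hφ hinj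
  · rw [centralizer_map]
    exact Subgroup.map_mono hQC
  · rw [centralizer_map]
    exact Subgroup.map_mono hHC
  · rw [Subgroup.disjoint_def]
    rintro _ ⟨q, hq, rfl⟩ ⟨h, hh, hqh⟩
    have h1 : h = q := e.injective hqh
    rw [h1] at hh
    have h2 : q = 1 := Subgroup.disjoint_def.mp hdisj hq hh
    rw [h2]
    exact map_one _
  · rw [centralizer_map, Subgroup.card_map_of_injective e.injective]
    exact hcard
  · rintro _ ⟨h, hh, rfl⟩ _ ⟨q, hq, rfl⟩
    exact ⟨h * q * h⁻¹, hnorm h hh q hq, by simp⟩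
  · show (e.subgroupMap SQ) (EQ.e o) = 1
    rw [ho, map_one]

end Cfsg.Agent.Lib.Helper10.EnumG
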