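import Cfsg.Agent.Lib.Helper10.J2Data

set_option autoImplicit false

/-!
The certificates of `J2Data`, checked by kernel evaluation.
-/

namespace Cfsg.Agent.Lib.Helper10.J2

open Cfsg.Agent.Lib.Helper10.SS

theorem chain_ok : chainOk 100 lv = true := by decide +kernel

theorem card_lv : cardProd lv = 604800 := by decide +kernel

theorem card_tail2 : cardProd [lv2, lv3] = 96 := by decide +kernel

theorem bases : lv0.b = 0 ∧ lv1.b = 37 := by decide +kernel

/-- the two generators -/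
def gAB : List ℕ := [cA, cB]

theorem e1_ok : slpOk 100 gAB E1 = true := by decide +kernel

/-- the codes defined by `E1` -/
def out1 : List ℕ := slpOut gAB E1

theorem gens_in_out1 : ∀ c ∈ allGens lv, c ∈ out1 := by decide +kernel

theorem ab_in_gens : cA ∈ allGens lv ∧ cB ∈ allGens lv := by decide +kernel

theorem kGens_eq : allGens [lv1, lv2, lv3] = kGens := by decide +kernel

theorem kyGens_eq : allGens [lv2, lv3] = kyGens := by decide +kernel

theorem t1_ok : ∀ e ∈ T1, e.2 ∈ out1 ∧ ap 100 e.2 0 = e.1 := by decide +kernel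

theorem t1_pts : T1.map Prod.fst = List.range' 1 99 := by decide +kernel

theorem tw_ok : ∀ e ∈ TW, e.2 ∈ out1 ∧ ap 100 e.2 0 = 0 ∧ ap 100 e.2 1 = e.1 := by
  decide +kernel

theorem tw_pts : TW.map Prod.fst = List.range' 2 35 := by decide +kernel

theorem ty_ok : ∀ e ∈ TY, e.2 ∈ out1 ∧ ap 100 e.2 0 = 0 ∧ ap 100 e.2 37 = e.1 := by
  decide +kernel

theorem ty_pts : TY.map Prod.fst = List.range' 38 62 := by decide +kernel

theorem kgens_Y : ∀ c ∈ kGens, ∀ x < 100, 37 ≤ x → 37 ≤ ap 100 c x := by decide +kernel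

theorem kgens_fix : ∀ c ∈ kGens, ap 100 c 0 = 0 := by decide +kernel

theorem kygens_fix : ∀ c ∈ kyGens, ap 100 c 0 = 0 ∧ ap 100 c 37 = 37 := by decide +kernel

theorem kygens_in : ∀ c ∈ kyGens, c ∈ out1 := by decide +kernel

theorem fy_ok : ∀ e ∈ FY, e.2.2 ∈ out1 ∧ ap 100 e.2.2 0 = 0 ∧ ap 100 e.2.2 37 = 37 ∧
    ap 100 e.2.2 e.1 = e.2.1 ∧ (e.2.1 = root0.1 ∨ e.2.1 = root1.1 ∨ e.2.1 = root2.1) := by
  decide +kernel

theorem fy_pts : ∀ x < 100, 38 ≤ x →
    x = root0.1 ∨ x = root1.1 ∨ x = root2.1 ∨ ∃ e ∈ FY, e.1 = x := by decide +kernel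

theorem root0_ok : root0.2 ∈ out1 ∧ ap 100 root0.2 0 = 0 ∧ ap 100 root0.2 37 = root0.1 := by
  decide +kernel

theorem root1_ok : root1.2 ∈ out1 ∧ ap 100 root1.2 0 = 0 ∧ ap 100 root1.2 37 = root1.1 := by
  decide +kernel

theorem root2_ok : root2.2 ∈ out1 ∧ ap 100 root2.2 0 = 0 ∧ ap 100 root2.2 37 = root2.1 := by
  decide +kernel

theorem er0_ok : slpOk 100 (kyGens ++ [root0.2]) ER0 = true := by decide +kernel

theorem er1_ok : slpOk 100 (kyGens ++ [root1.2]) ER1 = true := by decide +kernel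

theorem er2_ok : slpOk 100 (kyGens ++ [root2.2]) ER2 = true := by decide +kernel

theorem tr0_ok : ∀ e ∈ TR0, e.2 ∈ slpOut (kyGens ++ [root0.2]) ER0 ∧ ap 100 e.2 37 = e.1 := by
  decide +kernel

theorem tr1_ok : ∀ e ∈ TR1, e.2 ∈ slpOut (kyGens ++ [root1.2]) ER1 ∧ ap 100 e.2 37 = e.1 := by
  decide +kernel

theorem tr2_ok : ∀ e ∈ TR2, e.2 ∈ slpOut (kyGens ++ [root2.2]) ER2 ∧ ap 100 e.2 37 = e.1 := by
  decide +kernel

theorem tr0_pts : TR0.map Prod.fst = List.range' 38 62 := by decide +kernel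

theorem tr1_pts : TR1.map Prod.fst = List.range' 38 62 := by decide +kernel

theorem tr2_pts : TR2.map Prod.fst = List.range' 38 62 := by decide +kernel

theorem cv_ok : ∀ e ∈ CV, e.2.1 ∈ out1 ∧ 37 ≤ ap 100 e.2.1 0 ∧ 37 ≤ e.2.2 ∧ e.2.2 < 100 ∧
    ap 100 e.2.1 e.2.2 = e.1 := by decide +kernel

theorem cv_pts : CV.map (fun e => e.1) = List.range' 1 36 := by decide +kernel

theorem order_a : ∀ x < 100, evalL 100 [cA, cA] x = x := by decide +kernel

theorem order_b : ∀ x < 100, evalL 100 [cB, cB, cB] x = x := by decide +kernel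

theorem order_ab : ∀ x < 100,
    evalL 100 [cA, cB, cA, cB, cA, cB, cA, cB, cA, cB, cA, cB, cA, cB] x = x := by
  decide +kernel

end Cfsg.Agent.Lib.Helper10.J2
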