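import Cfsg.Agent.Lib.Helper10.J2Check
import Cfsg.Agent.Lib.Helper10.ChainSimple
import Cfsg.Prelude.Def_Sporadic

set_option autoImplicit false
set_option linter.style.haveILetI false

/-!
The group generated by `cA`, `cB` on 100 points is simple of order 604800.
-/

namespace Cfsg.Agent.Lib.Helper10.J2

open Cfsg MulAction
open Cfsg.Agent.Lib.Helper10.SS Cfsg.Agent.Lib.Helper10.ChainSimple

/-- the group -/
noncomputable def G : Subgroup (Equiv.Perm (Fin 100)) := grp 100 gAB

theorem chainOk_tail {n : ℕ} {L : Level} {rest : List Level} (h : chainOk n (L :: rest) = true) :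
    chainOk n rest = true := by
  unfold chainOk at h
  rw [Bool.and_eq_true] at h
  exact h.1

theorem inv0 : ChainInv 100 lv := chain_sound 100 lv chain_ok

theorem inv1 : ChainInv 100 [lv1, lv2, lv3] :=
  chain_sound 100 _ (chainOk_tail (L := lv0) chain_ok)

theorem inv2 : ChainInv 100 [lv2, lv3] :=
  chain_sound 100 _ (chainOk_tail (L := lv1) (chainOk_tail (L := lv0) chain_ok))

theorem valid_A : Valid 100 cA := inv0.valid cA ab_in_gens.1

theorem valid_B : Valid 100 cB := inv0.valid cB ab_in_gens.2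

/-- everything defined by `E1` lies in `G` -/
theorem inG : ∀ c ∈ out1, Valid 100 c ∧ perm 100 c ∈ G := by
  apply slp_sound G E1 gAB _ e1_ok
  intro c hc
  have hc' : c = cA ∨ c = cB := by simpa [gAB] using hc
  rcases hc' with rfl | rfl
  · exact ⟨valid_A, perm_mem_grp hc⟩
  · exact ⟨valid_B, perm_mem_grp hc⟩

theorem G_eq : G = grp 100 (allGens lv) := by
  apply le_antisymm
  · apply grp_le_iff.mpr
    intro c hc
    have hc' : c = cA ∨ c = cB := by simpa [gAB] using hc
    rcases hc' with rfl | rfl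
    · exact perm_mem_grp ab_in_gens.1
    · exact perm_mem_grp ab_in_gens.2
  · apply grp_le_iff.mpr
    intro c hc
    exact (inG c (gens_in_out1 c hc)).2

theorem card_G : Nat.card ↥G = 604800 := by
  rw [G_eq, inv0.card, card_lv]

/-- elements of `G` fixing 0 lie in the group generated by `kGens` -/
theorem mem_K_of_fix {g : Equiv.Perm (Fin 100)} (hg : g ∈ G) (h0 : g 0 = 0) :
    g ∈ grp 100 kGens := by
  rw [G_eq] at hg
  have := inv0.stab lv0 [lv1, lv2, lv3] rfl (by decide) g hg h0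
  rwa [kGens_eq] at this

/-- elements of `G` fixing 0 and 37 lie in the group generated by `kyGens` -/
theorem mem_Ky_of_fix {g : Equiv.Perm (Fin 100)} (hg : g ∈ G) (h0 : g 0 = 0) (h37 : g 37 = 37) :
    g ∈ grp 100 kyGens := by
  have h1 := mem_K_of_fix hg h0
  rw [← kGens_eq] at h1
  have := inv1.stab lv1 [lv2, lv3] rfl (by decide) g h1 h37
  rwa [kyGens_eq] at this

theorem card_Ky : Nat.card ↥(grp 100 kyGens) = 96 := by
  rw [← kyGens_eq, inv2.card, card_tail2]

theorem valid_kGens : ∀ c ∈ kGens, Valid 100 c := by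
  intro c hc
  rw [← kGens_eq] at hc
  exact inv1.valid c hc

theorem valid_kyGens : ∀ c ∈ kyGens, Valid 100 c := by
  intro c hc
  rw [← kyGens_eq] at hc
  exact inv2.valid c hc

/-! ### elements and orbits -/

/-- the second orbit of the stabiliser of 0 -/
def Y : Set (Fin 100) := {x | 37 ≤ x.val}

/-- the first orbit of the stabiliser of 0 -/
def W : Set (Fin 100) := {x | 1 ≤ x.val ∧ x.val ≤ 36}

theorem smul_eq (g : ↥G) (x : Fin 100) : g • x = g.1 x := rfl

theorem inv_eq_pow' (a : Equiv.Perm (Fin 100)) : a⁻¹ = a ^ (orderOf a - 1) := by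
  rw [inv_eq_iff_mul_eq_one, ← pow_succ']
  have : orderOf a - 1 + 1 = orderOf a := Nat.sub_add_cancel (orderOf_pos a)
  rw [this, pow_orderOf_eq_one]

theorem K_preserves_Y {g : Equiv.Perm (Fin 100)} (hg : g ∈ grp 100 kGens) :
    ∀ x : Fin 100, 37 ≤ x.val → 37 ≤ (g x).val := by
  unfold grp at hg
  induction hg using Subgroup.closure_induction with
  | mem s hs =>
    obtain ⟨c, hc, rfl⟩ := hs
    intro x hx
    rw [perm_apply_val (valid_kGens c hc)]
    exact kgens_Y c hc x.val x.isLt hx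
  | one => intro x hx; exact hx
  | mul a b _ _ iha ihb => intro x hx; exact iha _ (ihb x hx)
  | inv a _ iha =>
    have hpow : ∀ k : ℕ, ∀ x : Fin 100, 37 ≤ x.val → 37 ≤ ((a ^ k) x).val := by
      intro k
      induction k with
      | zero => intro x hx; exact hx
      | succ k ihk =>
        intro x hx
        rw [pow_succ', Equiv.Perm.mul_apply]
        exact iha _ (ihk x hx)
    rw [inv_eq_pow']
    exact hpow _

/-- the element of `G` given by a code defined by `E1` -/
noncomputable def elt (c : ℕ) (hc : c ∈ out1) : ↥G := ⟨perm 100 c, (inG c hc).2⟩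

theorem elt_smul_val (c : ℕ) (hc : c ∈ out1) (x : Fin 100) :
    ((elt c hc) • x).val = ap 100 c x.val := perm_apply_val (inG c hc).1 x

theorem elt_mem_stab0 (c : ℕ) (hc : c ∈ out1) (h0 : ap 100 c 0 = 0) :
    elt c hc ∈ stabilizer ↥G (0 : Fin 100) := by
  rw [mem_stabilizer_iff]
  apply Fin.ext
  rw [elt_smul_val]
  exact h0

theorem elt_mem_stab37 (c : ℕ) (hc : c ∈ out1) (h37 : ap 100 c 37 = 37) :
    elt c hc ∈ stabilizer ↥G (37 : Fin 100) := by
  rw [mem_stabilizer_iff]
  apply Fin.ext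
  rw [elt_smul_val]
  exact h37

theorem exists_map0 (p : Fin 100) : ∃ g : ↥G, g • (0 : Fin 100) = p := by
  by_cases hp : p.val = 0
  · exact ⟨1, by rw [one_smul]; exact Fin.ext hp.symm⟩
  · have hmem : p.val ∈ T1.map Prod.fst := by
      rw [t1_pts, List.mem_range'_1]
      have := p.isLt
      omega
    obtain ⟨e, he, hep⟩ := List.mem_map.mp hmem
    obtain ⟨h1, h2⟩ := t1_ok e he
    refine ⟨elt e.2 h1, Fin.ext ?_⟩
    rw [elt_smul_val]
    show ap 100 e.2 0 = p.val
    rw [h2, hep]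

instance : IsPretransitive ↥G (Fin 100) := by
  refine ⟨fun x y => ?_⟩
  obtain ⟨g, hg⟩ := exists_map0 x
  obtain ⟨g', hg'⟩ := exists_map0 y
  refine ⟨g' * g⁻¹, ?_⟩
  rw [mul_smul, ← hg, inv_smul_smul, hg']

theorem exists_mapW (p : Fin 100) (hp : p ∈ W) :
    ∃ k ∈ stabilizer ↥G (0 : Fin 100), k • (1 : Fin 100) = p := by
  by_cases hp1 : p.val = 1
  · exact ⟨1, one_mem _, by rw [one_smul]; exact Fin.ext hp1.symm⟩
  · have hmem : p.val ∈ TW.map Prod.fst := by
      rw [tw_pts, List.mem_range'_1]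
      have := hp.1
      have := hp.2
      omega
    obtain ⟨e, he, hep⟩ := List.mem_map.mp hmem
    obtain ⟨h1, h2, h3⟩ := tw_ok e he
    refine ⟨elt e.2 h1, elt_mem_stab0 _ _ h2, Fin.ext ?_⟩
    rw [elt_smul_val]
    show ap 100 e.2 1 = p.val
    rw [h3, hep]

theorem exists_mapY (p : Fin 100) (hp : p ∈ Y) :
    ∃ k ∈ stabilizer ↥G (0 : Fin 100), k • (37 : Fin 100) = p := by
  by_cases hp1 : p.val = 37
  · exact ⟨1, one_mem _, by rw [one_smul]; exact Fin.ext hp1.symm⟩
  · have hmem : p.val ∈ TY.map Prod.fst := by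
      rw [ty_pts, List.mem_range'_1]
      have : 37 ≤ p.val := hp
      have := p.isLt
      omega
    obtain ⟨e, he, hep⟩ := List.mem_map.mp hmem
    obtain ⟨h1, h2, h3⟩ := ty_ok e he
    refine ⟨elt e.2 h1, elt_mem_stab0 _ _ h2, Fin.ext ?_⟩
    rw [elt_smul_val]
    show ap 100 e.2 37 = p.val
    rw [h3, hep]

/-- the stabiliser of 0 preserves `Y` -/
theorem stab_preserves_Y {k : ↥G} (hk : k ∈ stabilizer ↥G (0 : Fin 100)) {x : Fin 100}
    (hx : x ∈ Y) : k • x ∈ Y := by
  have h0 : k.1 0 = 0 := mem_stabilizer_iff.mp hk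
  exact K_preserves_Y (mem_K_of_fix k.2 h0) x hx

/-- the stabiliser of 0 preserves `W` -/
theorem stab_preserves_W {k : ↥G} (hk : k ∈ stabilizer ↥G (0 : Fin 100)) {x : Fin 100}
    (hx : x ∈ W) : k • x ∈ W := by
  have h0 : k • (0 : Fin 100) = 0 := mem_stabilizer_iff.mp hk
  have hxY : x ∉ Y := by
    intro h
    have h1 : 37 ≤ x.val := h
    have := hx.2
    omega
  have hx0 : x ≠ 0 := by
    intro h
    have := hx.1
    rw [h] at this
    simp at this
  have h1 : k • x ∉ Y := by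
    intro h
    have h2 := stab_preserves_Y (inv_mem hk) h
    rw [inv_smul_smul] at h2
    exact hxY h2
  have h2 : k • x ≠ 0 := by
    intro h
    apply hx0
    rw [← h0] at h
    exact MulAction.injective k h
  have h3 : ¬ 37 ≤ (k • x).val := h1
  have h4 : (k • x).val ≠ 0 := fun h => h2 (Fin.ext h)
  constructor <;> omega

theorem hinv100 (Δ : Set (Fin 100)) (h0 : (0 : Fin 100) ∈ Δ)
    (hΔ : ∀ k ∈ stabilizer ↥G (0 : Fin 100), ∀ x ∈ Δ, k • x ∈ Δ) (hdvd : Δ.ncard ∣ 100) :
    Δ = {0} ∨ Δ = Set.univ := by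
  -- if `Δ` meets an orbit it contains it
  have hWall : (∃ w ∈ W, w ∈ Δ) → ∀ w ∈ W, w ∈ Δ := by
    rintro ⟨w, hwW, hwΔ⟩ w' hw'
    obtain ⟨k, hk, hkw⟩ := exists_mapW w hwW
    obtain ⟨k', hk', hkw'⟩ := exists_mapW w' hw'
    have : (k' * k⁻¹) • w = w' := by rw [mul_smul, ← hkw, inv_smul_smul, hkw']
    rw [← this]
    exact hΔ _ (mul_mem hk' (inv_mem hk)) w hwΔ
  have hYall : (∃ w ∈ Y, w ∈ Δ) → ∀ w ∈ Y, w ∈ Δ := by
    rintro ⟨w, hwW, hwΔ⟩ w' hw'
    obtain ⟨k, hk, hkw⟩ := exists_mapY w hwW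
    obtain ⟨k', hk', hkw'⟩ := exists_mapY w' hw'
    have : (k' * k⁻¹) • w = w' := by rw [mul_smul, ← hkw, inv_smul_smul, hkw']
    rw [← this]
    exact hΔ _ (mul_mem hk' (inv_mem hk)) w hwΔ
  have hcases : ∀ x : Fin 100, x = 0 ∨ x ∈ W ∨ x ∈ Y := by
    intro x
    by_cases h1 : x.val = 0
    · exact Or.inl (Fin.ext h1)
    · by_cases h2 : 37 ≤ x.val
      · exact Or.inr (Or.inr h2)
      · exact Or.inr (Or.inl ⟨by omega, by omega⟩)
  by_cases cW : ∃ w ∈ W, w ∈ Δ
  · by_cases cY : ∃ w ∈ Y, w ∈ Δ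
    · right
      ext x
      simp only [Set.mem_univ, iff_true]
      rcases hcases x with rfl | hx | hx
      · exact h0
      · exact hWall cW x hx
      · exact hYall cY x hx
    · exfalso
      have hΔeq : Δ = ↑(Finset.univ.filter fun x : Fin 100 => x.val ≤ 36) := by
        ext x
        simp only [Finset.coe_filter, Finset.mem_univ, true_and, Set.mem_ofPred_eq]
        constructor
        · intro hx
          by_contra hcon
          exact cY ⟨x, by show 37 ≤ x.val; omega, hx⟩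
        · intro hx
          rcases hcases x with rfl | hxW | hxY
          · exact h0
          · exact hWall cW x hxW
          · have : 37 ≤ x.val := hxY
            omega
      rw [hΔeq, Set.ncard_coe_finset] at hdvd
      revert hdvd
      decide
  · by_cases cY : ∃ w ∈ Y, w ∈ Δ
    · exfalso
      have hΔeq : Δ = ↑(Finset.univ.filter fun x : Fin 100 => x.val = 0 ∨ 37 ≤ x.val) := by
        ext x
        simp only [Finset.coe_filter, Finset.mem_univ, true_and, Set.mem_ofPred_eq]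
        constructor
        · intro hx
          by_contra hcon
          exact cW ⟨x, ⟨by omega, by omega⟩, hx⟩
        · intro hx
          rcases hcases x with rfl | hxW | hxY
          · exact h0
          · have := hxW.1
            have := hxW.2
            omega
          · exact hYall cY x hxY
      rw [hΔeq, Set.ncard_coe_finset] at hdvd
      revert hdvd
      decide
    · left
      ext x
      simp only [Set.mem_singleton_iff]
      constructor
      · intro hx
        rcases hcases x with rfl | hxW | hxY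
        · rfl
        · exact absurd ⟨x, hxW, hx⟩ cW
        · exact absurd ⟨x, hxY, hx⟩ cY
      · rintro rfl
        exact h0

/-! ### maximality of the two-point stabiliser -/

/-- the generators fixing 0 and 37, as elements of `G` -/
theorem kyGen_mem (c : ℕ) (hc : c ∈ kyGens) :
    elt c (kygens_in c hc) ∈ stabilizer ↥G (0 : Fin 100) ⊓ stabilizer ↥G (37 : Fin 100) :=
  Subgroup.mem_inf.mpr ⟨elt_mem_stab0 _ _ (kygens_fix c hc).1, elt_mem_stab37 _ _ (kygens_fix c hc).2⟩

/-- a subgroup between the two-point stabiliser and the stabiliser of 0 that contains a root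
element is the whole stabiliser of 0 -/
theorem eq_K_of_root (L : Subgroup ↥G)
    (hKyL : stabilizer ↥G (0 : Fin 100) ⊓ stabilizer ↥G (37 : Fin 100) ≤ L)
    (hLK : L ≤ stabilizer ↥G (0 : Fin 100))
    (gc : ℕ) (ER : List (ℕ × ℕ × ℕ)) (TR : List (ℕ × ℕ))
    (hg1 : gc ∈ out1)
    (her : slpOk 100 (kyGens ++ [gc]) ER = true)
    (htr : ∀ e ∈ TR, e.2 ∈ slpOut (kyGens ++ [gc]) ER ∧ ap 100 e.2 37 = e.1)
    (hpts : TR.map Prod.fst = List.range' 38 62)
    (hgL : elt gc hg1 ∈ L) : L = stabilizer ↥G (0 : Fin 100) := by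
  apply le_antisymm hLK
  -- the image of `L` in the symmetric group contains everything defined by `ER`
  have hL' : ∀ c ∈ slpOut (kyGens ++ [gc]) ER,
      Valid 100 c ∧ perm 100 c ∈ L.map G.subtype := by
    apply slp_sound (L.map G.subtype) ER (kyGens ++ [gc]) _ her
    intro c hc
    rcases List.mem_append.mp hc with hc | hc
    · refine ⟨valid_kyGens c hc, ?_⟩
      exact ⟨elt c (kygens_in c hc), hKyL (kyGen_mem c hc), rfl⟩
    · have : c = gc := by simpa using hc
      subst this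
      exact ⟨(inG c hg1).1, ⟨elt c hg1, hgL, rfl⟩⟩
  -- `L` is transitive on `Y`
  have htrans : ∀ x : Fin 100, x ∈ Y → ∃ l ∈ L, l • (37 : Fin 100) = x := by
    intro x hx
    by_cases hx1 : x.val = 37
    · exact ⟨1, one_mem _, by rw [one_smul]; exact Fin.ext hx1.symm⟩
    · have hmem : x.val ∈ TR.map Prod.fst := by
        rw [hpts, List.mem_range'_1]
        have : 37 ≤ x.val := hx
        have := x.isLt
        omega
      obtain ⟨e, he, hep⟩ := List.mem_map.mp hmem
      obtain ⟨h1, h2⟩ := htr e he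
      obtain ⟨hv, l, hl, hle⟩ := hL' e.2 h1
      refine ⟨l, hl, Fin.ext ?_⟩
      show (l.1 37).val = x.val
      have : l.1 = perm 100 e.2 := hle
      rw [this, perm_apply_val hv]
      show ap 100 e.2 37 = x.val
      rw [h2, hep]
  intro k hk
  have hkY : k • (37 : Fin 100) ∈ Y := stab_preserves_Y hk (by show (37 : ℕ) ≤ 37; norm_num)
  obtain ⟨l, hl, hl37⟩ := htrans _ hkY
  have h1 : l⁻¹ * k ∈ stabilizer ↥G (0 : Fin 100) ⊓ stabilizer ↥G (37 : Fin 100) := by
    refine Subgroup.mem_inf.mpr ⟨mul_mem (inv_mem (hLK hl)) hk, ?_⟩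
    rw [mem_stabilizer_iff, mul_smul, ← hl37, inv_smul_smul]
  have h2 : l * (l⁻¹ * k) ∈ L := mul_mem hl (hKyL h1)
  rwa [mul_inv_cancel_left] at h2

theorem hKymax (L : Subgroup ↥G)
    (hKyL : stabilizer ↥G (0 : Fin 100) ⊓ stabilizer ↥G (37 : Fin 100) ≤ L)
    (hLK : L ≤ stabilizer ↥G (0 : Fin 100)) :
    L = stabilizer ↥G (0 : Fin 100) ⊓ stabilizer ↥G (37 : Fin 100) ∨
      L = stabilizer ↥G (0 : Fin 100) := by
  by_cases hle : L ≤ stabilizer ↥G (0 : Fin 100) ⊓ stabilizer ↥G (37 : Fin 100)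
  · exact Or.inl (le_antisymm hle hKyL)
  right
  rw [SetLike.not_le_iff_exists] at hle
  obtain ⟨l, hlL, hlKy⟩ := hle
  have hl0 : l ∈ stabilizer ↥G (0 : Fin 100) := hLK hlL
  have hl37 : l • (37 : Fin 100) ≠ 37 := by
    intro h
    exact hlKy (Subgroup.mem_inf.mpr ⟨hl0, mem_stabilizer_iff.mpr h⟩)
  set x := l • (37 : Fin 100) with hx
  have hxY : x ∈ Y := stab_preserves_Y hl0 (by show (37 : ℕ) ≤ 37; norm_num)
  have hx38 : 38 ≤ x.val := by
    have h1 : 37 ≤ x.val := hxY
    have h2 : x.val ≠ 37 := fun h => hl37 (Fin.ext h)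
    omega
  -- an element of the two-point stabiliser mapping `x` to a root
  have key : ∃ k ∈ stabilizer ↥G (0 : Fin 100) ⊓ stabilizer ↥G (37 : Fin 100),
      (k • x).val = root0.1 ∨ (k • x).val = root1.1 ∨ (k • x).val = root2.1 := by
    rcases fy_pts x.val x.isLt hx38 with h | h | h | ⟨e, he, hex⟩
    · exact ⟨1, one_mem _, Or.inl (by rw [one_smul]; exact h)⟩
    · exact ⟨1, one_mem _, Or.inr (Or.inl (by rw [one_smul]; exact h))⟩
    · exact ⟨1, one_mem _, Or.inr (Or.inr (by rw [one_smul]; exact h))⟩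
    · obtain ⟨h1, h2, h3, h4, h5⟩ := fy_ok e he
      refine ⟨elt e.2.2 h1, Subgroup.mem_inf.mpr ⟨elt_mem_stab0 _ _ h2, elt_mem_stab37 _ _ h3⟩, ?_⟩
      rw [elt_smul_val, ← hex, h4]
      exact h5
  obtain ⟨k, hk, hkx⟩ := key
  -- the root element lies in `L`
  have hroot : ∀ (r gc : ℕ) (hg1 : gc ∈ out1), ap 100 gc 0 = 0 → ap 100 gc 37 = r →
      (k • x).val = r → elt gc hg1 ∈ L := by
    intro r gc hg1 h0 h37 hr
    have hg0 : elt gc hg1 ∈ stabilizer ↥G (0 : Fin 100) := elt_mem_stab0 _ _ h0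
    have hg37 : elt gc hg1 • (37 : Fin 100) = k • x := by
      apply Fin.ext
      rw [elt_smul_val, hr]
      exact h37
    have h1 : (elt gc hg1)⁻¹ * (k * l) ∈
        stabilizer ↥G (0 : Fin 100) ⊓ stabilizer ↥G (37 : Fin 100) := by
      refine Subgroup.mem_inf.mpr ⟨mul_mem (inv_mem hg0)
        (mul_mem (Subgroup.mem_inf.mp hk).1 hl0), ?_⟩
      rw [mem_stabilizer_iff, mul_smul, mul_smul, ← hx, ← hg37, inv_smul_smul]
    have h2 : k * l ∈ L := mul_mem (hKyL hk) hlL
    have h3 : (k * l) * ((elt gc hg1)⁻¹ * (k * l))⁻¹ ∈ L := mul_mem h2 (inv_mem (hKyL h1))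
    have h4 : (k * l) * ((elt gc hg1)⁻¹ * (k * l))⁻¹ = elt gc hg1 := by group
    rwa [h4] at h3
  rcases hkx with h | h | h
  · exact eq_K_of_root L hKyL hLK root0.2 ER0 TR0 root0_ok.1 er0_ok tr0_ok tr0_pts
      (hroot root0.1 root0.2 root0_ok.1 root0_ok.2.1 root0_ok.2.2 h)
  · exact eq_K_of_root L hKyL hLK root1.2 ER1 TR1 root1_ok.1 er1_ok tr1_ok tr1_pts
      (hroot root1.1 root1.2 root1_ok.1 root1_ok.2.1 root1_ok.2.2 h)
  · exact eq_K_of_root L hKyL hLK root2.2 ER2 TR2 root2_ok.1 er2_ok tr2_ok tr2_pts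
      (hroot root2.1 root2.2 root2_ok.1 root2_ok.2.1 root2_ok.2.2 h)

/-! ### the covering condition -/

theorem hcover (x : Fin 100) :
    x = 0 ∨ x ∈ Y ∨ ∃ g : ↥G, g • (0 : Fin 100) ∈ Y ∧ ∃ x' ∈ Y, g • x' = x := by
  by_cases h1 : x.val = 0
  · exact Or.inl (Fin.ext h1)
  by_cases h2 : 37 ≤ x.val
  · exact Or.inr (Or.inl h2)
  right; right
  have hmem : x.val ∈ CV.map (fun e => e.1) := by
    rw [cv_pts, List.mem_range'_1]
    omega
  obtain ⟨e, he, hex⟩ := List.mem_map.mp hmem
  obtain ⟨h3, h4, h5, h6, h7⟩ := cv_ok e he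
  refine ⟨elt e.2.1 h3, ?_, ⟨e.2.2, h6⟩, h5, ?_⟩
  · show 37 ≤ ((elt e.2.1 h3) • (0 : Fin 100)).val
    rw [elt_smul_val]
    exact h4
  · apply Fin.ext
    rw [elt_smul_val]
    show ap 100 e.2.1 e.2.2 = x.val
    rw [h7]
    exact hex

/-! ### the two-point stabiliser is solvable -/

theorem grp_kyGens_le : grp 100 kyGens ≤ G := by
  apply grp_le_iff.mpr
  intro c hc
  exact (inG c (kygens_in c hc)).2

theorem grp_kyGens_fix {g : Equiv.Perm (Fin 100)} (hg : g ∈ grp 100 kyGens) :
    g 0 = 0 ∧ g 37 = 37 := by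
  have h : grp 100 kyGens ≤ stabilizer (Equiv.Perm (Fin 100)) (0 : Fin 100) ⊓
      stabilizer (Equiv.Perm (Fin 100)) (37 : Fin 100) := by
    apply grp_le_iff.mpr
    intro c hc
    refine Subgroup.mem_inf.mpr ⟨?_, ?_⟩
    · rw [mem_stabilizer_iff]
      apply Fin.ext
      show (perm 100 c 0).val = 0
      rw [perm_apply_val (valid_kyGens c hc)]
      exact (kygens_fix c hc).1
    · rw [mem_stabilizer_iff]
      apply Fin.ext
      show (perm 100 c 37).val = 37
      rw [perm_apply_val (valid_kyGens c hc)]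
      exact (kygens_fix c hc).2
  have := Subgroup.mem_inf.mp (h hg)
  exact ⟨mem_stabilizer_iff.mp this.1, mem_stabilizer_iff.mp this.2⟩

theorem card_stab2 :
    Nat.card ↥(stabilizer ↥G (0 : Fin 100) ⊓ stabilizer ↥G (37 : Fin 100)) = 96 := by
  rw [← card_Ky]
  apply Nat.card_congr
  refine Equiv.ofBijective (fun k => ⟨k.1.1, ?_⟩) ⟨?_, ?_⟩
  · have hk := Subgroup.mem_inf.mp k.2
    exact mem_Ky_of_fix k.1.2 (mem_stabilizer_iff.mp hk.1) (mem_stabilizer_iff.mp hk.2)
  · intro k k' h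
    apply Subtype.ext
    apply Subtype.ext
    have h' := congrArg Subtype.val h
    exact h'
  · rintro ⟨g, hg⟩
    obtain ⟨h0, h37⟩ := grp_kyGens_fix hg
    refine ⟨⟨⟨g, grp_kyGens_le hg⟩, Subgroup.mem_inf.mpr ⟨?_, ?_⟩⟩, rfl⟩
    · exact mem_stabilizer_iff.mpr h0
    · exact mem_stabilizer_iff.mpr h37

theorem hsolv :
    Group.IsSolvable ↥(stabilizer ↥G (0 : Fin 100) ⊓ stabilizer ↥G (37 : Fin 100)) :=
  isSolvable_of_card 5 (by rw [card_stab2]; norm_num)

/-! ### the group is perfect -/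

theorem prodL_eq_one {L : List ℕ} (hv : ∀ c ∈ L, Valid 100 c)
    (h : ∀ x < 100, evalL 100 L x = x) : prodL 100 L = 1 := by
  apply Equiv.ext
  intro i
  apply Fin.ext
  rw [prodL_apply_val L hv]
  exact h i.val i.isLt

theorem valid_nil : ∀ d ∈ ([] : List ℕ), Valid 100 d := by
  intro d hd
  exact absurd hd List.not_mem_nil

theorem valid_cons {c : ℕ} {L : List ℕ} (hc : Valid 100 c) (hL : ∀ d ∈ L, Valid 100 d) :
    ∀ d ∈ c :: L, Valid 100 d := by
  intro d hd
  rcases List.mem_cons.mp hd with rfl | hd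
  · exact hc
  · exact hL d hd

theorem prodL_cons (c : ℕ) (L : List ℕ) : prodL 100 (c :: L) = perm 100 c * prodL 100 L := by
  simp only [prodL, List.map_cons, List.prod_cons]

theorem prodL_nil : prodL 100 [] = 1 := by
  simp only [prodL, List.map_nil, List.prod_nil]

theorem mem_gAB_A : cA ∈ gAB := List.mem_cons_self

theorem mem_gAB_B : cB ∈ gAB := List.mem_cons_of_mem _ List.mem_cons_self

/-- the generator `a` as an element of `G` -/
noncomputable def gA : ↥G := ⟨perm 100 cA, perm_mem_grp mem_gAB_A⟩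

/-- the generator `b` as an element of `G` -/
noncomputable def gB : ↥G := ⟨perm 100 cB, perm_mem_grp mem_gAB_B⟩

theorem gA_val : (gA : Equiv.Perm (Fin 100)) = perm 100 cA := by
  unfold gA
  exact Subtype.coe_mk _ _

theorem gB_val : (gB : Equiv.Perm (Fin 100)) = perm 100 cB := by
  unfold gB
  exact Subtype.coe_mk _ _

theorem hperf : commutator ↥G = ⊤ := by
  have hA2 : perm 100 cA * perm 100 cA = 1 := by
    have := prodL_eq_one (L := [cA, cA]) (valid_cons valid_A (valid_cons valid_A valid_nil)) order_a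
    rw [prodL_cons, prodL_cons, prodL_nil, mul_one] at this
    exact this
  have hB3 : perm 100 cB * (perm 100 cB * perm 100 cB) = 1 := by
    have := prodL_eq_one (L := [cB, cB, cB])
      (valid_cons valid_B (valid_cons valid_B (valid_cons valid_B valid_nil))) order_b
    rw [prodL_cons, prodL_cons, prodL_cons, prodL_nil, mul_one] at this
    exact this
  have hAB7 : (perm 100 cA * perm 100 cB) ^ 7 = 1 := by
    have hv2 : ∀ {L : List ℕ}, (∀ d ∈ L, Valid 100 d) → ∀ d ∈ cA :: cB :: L, Valid 100 d :=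
      fun h => valid_cons valid_A (valid_cons valid_B h)
    have := prodL_eq_one (L := [cA, cB, cA, cB, cA, cB, cA, cB, cA, cB, cA, cB, cA, cB])
      (hv2 (hv2 (hv2 (hv2 (hv2 (hv2 (hv2 valid_nil))))))) order_ab
    rw [← this]
    simp only [prodL_cons, prodL_nil, mul_one]
    simp only [pow_succ, pow_zero, one_mul, mul_assoc]
  -- the generators as elements of `G`
  have ha2 : gA ^ 2 = 1 := by
    apply Subtype.ext
    rw [Subgroup.coe_pow, Subgroup.coe_one, gA_val, pow_two]
    exact hA2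
  have hb3 : gB ^ 3 = 1 := by
    apply Subtype.ext
    rw [Subgroup.coe_pow, Subgroup.coe_one, gB_val, pow_succ, pow_two, mul_assoc]
    exact hB3
  have hab7 : (gA * gB) ^ 7 = 1 := by
    apply Subtype.ext
    rw [Subgroup.coe_pow, Subgroup.coe_one, Subgroup.coe_mul, gA_val, gB_val]
    exact hAB7
  set a : ↥G := gA with ha_def
  set b : ↥G := gB with hb_def
  -- in the abelianisation the images are trivial
  let q : ↥G →* Abelianization ↥G := Abelianization.of
  have hqa2 : q a ^ 2 = 1 := by rw [← map_pow, ha2, map_one]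
  have hqb3 : q b ^ 3 = 1 := by rw [← map_pow, hb3, map_one]
  have hqab7 : (q a * q b) ^ 7 = 1 := by rw [← map_mul, ← map_pow, hab7, map_one]
  have hqab : q a * q b = 1 := by
    have h1 : (q a * q b) ^ 7 = q a * q b := by
      rw [mul_pow]
      have e1 : q a ^ 7 = q a := by
        calc q a ^ 7 = (q a ^ 2) ^ 3 * q a := by rw [← pow_mul, ← pow_succ]
          _ = q a := by rw [hqa2, one_pow, one_mul]
      have e2 : q b ^ 7 = q b := by
        calc q b ^ 7 = (q b ^ 3) ^ 2 * q b := by rw [← pow_mul, ← pow_succ]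
          _ = q b := by rw [hqb3, one_pow, one_mul]
      rw [e1, e2]
    rw [← h1, hqab7]
  have hqa : q a = 1 := by
    have h1 : q a = (q b)⁻¹ := eq_inv_of_mul_eq_one_left hqab
    have h2 : q a ^ 3 = 1 := by rw [h1, inv_pow, hqb3, inv_one]
    calc q a = q a ^ 3 * (q a ^ 2)⁻¹ := by group
      _ = 1 := by rw [h2, hqa2, inv_one, mul_one]
  have hqb : q b = 1 := by rw [hqa, one_mul] at hqab; exact hqab
  have hamem : a ∈ commutator ↥G := by
    rw [← Abelianization.ker_of]; exact MonoidHom.mem_ker.mpr hqa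
  have hbmem : b ∈ commutator ↥G := by
    rw [← Abelianization.ker_of]; exact MonoidHom.mem_ker.mpr hqb
  -- the generators generate
  rw [eq_top_iff]
  have hcl := Subgroup.closure_closure_coe_preimage (k := {g | ∃ c ∈ gAB, g = perm 100 c})
  show (⊤ : Subgroup ↥G) ≤ commutator ↥G
  have hcl' : (⊤ : Subgroup ↥G) = Subgroup.closure
      (((↑) : ↥G → Equiv.Perm (Fin 100)) ⁻¹' {g | ∃ c ∈ gAB, g = perm 100 c}) := hcl.symm
  rw [hcl', Subgroup.closure_le]
  rintro ⟨g, hg⟩ ⟨c, hc, hgc⟩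
  have hc' : c = cA ∨ c = cB := by
    rcases List.mem_cons.mp hc with h | hc
    · exact Or.inl h
    rcases List.mem_cons.mp hc with h | hc
    · exact Or.inr h
    exact absurd hc List.not_mem_nil
  rcases hc' with rfl | rfl
  · have : (⟨g, hg⟩ : ↥G) = gA := Subtype.ext (by rw [gA_val]; exact hgc)
    rw [this]; exact hamem
  · have : (⟨g, hg⟩ : ↥G) = gB := Subtype.ext (by rw [gB_val]; exact hgc)
    rw [this]; exact hbmem

/-! ### the result -/

theorem isSimpleGroup_G : IsSimpleGroup ↥G :=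
  isSimpleGroup_of_chain (H := ↥G) (V := Fin 100) (by simp) (0 : Fin 100) (37 : Fin 100) Y
    hinv100 exists_mapY hKymax hcover hsolv hperf

theorem isJ2_G : IsJ2 ↥G := ⟨isSimpleGroup_G, card_G⟩

theorem j2_exists : ∃ G : Subgroup (Equiv.Perm (Fin 100)), IsJ2 G := ⟨G, isJ2_G⟩

end Cfsg.Agent.Lib.Helper10.J2
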