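import Cfsg.Agent.Lib.Helper10.J3Data
import Cfsg.Agent.Lib.Helper10.J3ChkLow3

set_option autoImplicit false

/-!
Level 2 of the chain.
-/

namespace Cfsg.Agent.Lib.Helper10.J3

open Cfsg.Agent.Lib.Helper10.SW

theorem ok2 : levelOk 6156 RB lv2 [lv3, lv4] = true := by decide +kernel

end Cfsg.Agent.Lib.Helper10.J3
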