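import Cfsg.Agent.Lib.Helper10.J3GraphData
import Cfsg.Agent.Lib.Helper10.J3ChkLow

set_option autoImplicit false

/-!
The rows of the graph are increasing lists of points.
-/

namespace Cfsg.Agent.Lib.Helper10.J3

open Cfsg.Agent.Lib.Helper10.SW

theorem rows85F : rowsOkF 6156 gr85 = true := by
  decide +kernel

theorem rows85 : rowsOk 6156 gr85 = true := rowsOk_of_fast rows85F

end Cfsg.Agent.Lib.Helper10.J3
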