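import Cfsg.Agent.Lib.Helper10.J3GraphData
import Cfsg.Agent.Lib.Helper10.J3ChkGraphX

set_option autoImplicit false

/-!
The generator of order 17 preserves the graph.
-/

namespace Cfsg.Agent.Lib.Helper10.J3

open Cfsg.Agent.Lib.Helper10.SW

theorem autYF : autOkF 6156 gr85 cY = true := by
  decide +kernel

theorem autY : autOk 6156 gr85 cY = true := autOk_of_fast autYF

end Cfsg.Agent.Lib.Helper10.J3
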