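import Cfsg.Agent.Lib.Helper10.J3GraphData
import Cfsg.Agent.Lib.Helper10.J3ChkGraph

set_option autoImplicit false

/-!
Colour refinement from the base points: round 1.
-/

namespace Cfsg.Agent.Lib.Helper10.J3

open Cfsg.Agent.Lib.Helper10.SW

theorem round1F : roundOkF 6156 gr85 (c0fun RB) col1 = true := by
  decide +kernel

theorem round1 : roundOk 6156 gr85 (c0fun RB) col1 = true := roundOk_of_fast round1F

end Cfsg.Agent.Lib.Helper10.J3
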