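import Cfsg.Agent.Lib.Helper10.J3GraphData
import Cfsg.Agent.Lib.Helper10.J3ChkWL1

set_option autoImplicit false

/-!
Colour refinement from the base points: round 2.
-/

namespace Cfsg.Agent.Lib.Helper10.J3

open Cfsg.Agent.Lib.Helper10.SW

theorem round2F : roundOkF 6156 gr85 (cimgF col1) col2 = true := by
  decide +kernel

theorem round2 : roundOk 6156 gr85 (cimg col1) col2 = true := roundOk_of_fast round2F

end Cfsg.Agent.Lib.Helper10.J3
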