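import Cfsg.Agent.Lib.Helper10.J3Cert
import Cfsg.Agent.Lib.Helper10.J3ChkWL

set_option autoImplicit false

/-!
The certificates for the maximality of the point stabiliser: forest and cover.
-/

namespace Cfsg.Agent.Lib.Helper10.J3

open Cfsg.Agent.Lib.Helper10.SW

theorem forestA : treeOk 6156 mv2 fA = true := by
  decide +kernel

theorem coverA : coverChk 6156 fA 0 (fun _ => true) (rootsA.map Prod.fst) = true := by
  decide +kernel

end Cfsg.Agent.Lib.Helper10.J3
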