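import Cfsg.Agent.Lib.Helper10.J3Cert
import Cfsg.Agent.Lib.Helper10.J3ChkCertA1

set_option autoImplicit false

/-!
The certificates for the maximality of the point stabiliser: roots 1 to 4.
-/

namespace Cfsg.Agent.Lib.Helper10.J3

open Cfsg.Agent.Lib.Helper10.SW

theorem rootA1 : rootChk 6156 mv2 mv1 0 (fun _ => true) eA1 wA1 = true := by
  decide +kernel

theorem rootA2 : rootChk 6156 mv2 mv1 0 (fun _ => true) eA2 wA2 = true := by
  decide +kernel

theorem rootA3 : rootChk 6156 mv2 mv1 0 (fun _ => true) eA3 wA3 = true := by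
  decide +kernel

theorem rootA4 : rootChk 6156 mv2 mv1 0 (fun _ => true) eA4 wA4 = true := by
  decide +kernel


end Cfsg.Agent.Lib.Helper10.J3
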