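import Cfsg.Agent.Lib.Helper10.J3Cert
import Cfsg.Agent.Lib.Helper10.J3ChkCertA

set_option autoImplicit false

/-!
The certificates for the maximality of the two-point stabiliser.
-/

namespace Cfsg.Agent.Lib.Helper10.J3

open Cfsg.Agent.Lib.Helper10.SW

theorem forestB : treeOk 6156 mv3 fB = true := by
  decide +kernel

theorem coverB : coverChk 6156 fB 88 (fun p => (pathOf tr2 fuel p).isSome) (rootsB.map Prod.fst) = true := by
  decide +kernel

theorem rootB1 : rootChk 6156 mv3 mv2 88 (fun p => (pathOf tr2 fuel p).isSome) eB1 wB1 = true := by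
  decide +kernel

theorem rootB2 : rootChk 6156 mv3 mv2 88 (fun p => (pathOf tr2 fuel p).isSome) eB2 wB2 = true := by
  decide +kernel

theorem rootB3 : rootChk 6156 mv3 mv2 88 (fun p => (pathOf tr2 fuel p).isSome) eB3 wB3 = true := by
  decide +kernel

theorem rootB4 : rootChk 6156 mv3 mv2 88 (fun p => (pathOf tr2 fuel p).isSome) eB4 wB4 = true := by
  decide +kernel

theorem rootB5 : rootChk 6156 mv3 mv2 88 (fun p => (pathOf tr2 fuel p).isSome) eB5 wB5 = true := by
  decide +kernel


end Cfsg.Agent.Lib.Helper10.J3
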