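import Cfsg.Agent.Lib.Helper10.J3Cert
import Cfsg.Agent.Lib.Helper10.J3ChkCertB

set_option autoImplicit false

/-!
Orders of the generators on the base, and an element of the normal closure of the element of
order 19 fixing a point.
-/

namespace Cfsg.Agent.Lib.Helper10.J3

open Cfsg.Agent.Lib.Helper10.SW

theorem ordX : (RB.all fun x => evalL 6156 (List.replicate 19 cX) x == x) = true := by
  decide +kernel

theorem ordY : (RB.all fun x => evalL 6156 (List.replicate 17 cY) x == x) = true := by
  decide +kernel

theorem ordXY : (RB.all fun x => evalL 6156 (List.replicate 10 [cX, cY]).flatten x == x) = true := by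
  decide +kernel

theorem regFix : evalL 6156 regW 0 = 0 := by
  decide +kernel

theorem regMove : evalL 6156 regW 1 ≠ 1 := by
  decide +kernel

theorem base3 : (pathOf tr2 fuel 192).isSome = true := by
  decide +kernel

theorem base4 : (pathOf tr2 fuel 123).isSome = true := by
  decide +kernel

end Cfsg.Agent.Lib.Helper10.J3
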