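import Cfsg.Agent.Lib.Helper10.J3Data

set_option autoImplicit false

/-!
Checks of level 1 of the chain other than the Schreier conditions.
-/

namespace Cfsg.Agent.Lib.Helper10.J3

open Cfsg.Agent.Lib.Helper10.SW

theorem pre1 : levelPre 6156 lv1 [lv2, lv3, lv4] = true := by
  decide +kernel

end Cfsg.Agent.Lib.Helper10.J3
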