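import Cfsg.Agent.Lib.Helper10.J3ChkX3

set_option autoImplicit false

/-!
The Schreier conditions of level 1 for the generator of order 19.
-/

namespace Cfsg.Agent.Lib.Helper10.J3

open Cfsg.Agent.Lib.Helper10.SW

theorem schX : schAll 6156 RB lv1 [lv2, lv3, lv4] cX = true := by
  apply allLt_of_chunks 513 12 (by norm_num)
  intro k hk
  interval_cases k
  · exact schX_c0
  · exact schX_c1
  · exact schX_c2
  · exact schX_c3
  · exact schX_c4
  · exact schX_c5
  · exact schX_c6
  · exact schX_c7
  · exact schX_c8
  · exact schX_c9
  · exact schX_c10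
  · exact schX_c11

end Cfsg.Agent.Lib.Helper10.J3
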