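import Cfsg.Agent.Lib.Helper10.J3Data
import Cfsg.Agent.Lib.Helper10.SWChunk
import Cfsg.Agent.Lib.Helper10.J3ChkX

set_option autoImplicit false

/-!
The Schreier conditions of level 1 for the generator of order 17: part 1.
-/

namespace Cfsg.Agent.Lib.Helper10.J3

open Cfsg.Agent.Lib.Helper10.SW

theorem schY_c0 : allRange (0 * 513) 513 (fun p => schreierOk 6156 RB lv1 [lv2, lv3, lv4] cY p) = true := by
  decide +kernel

theorem schY_c1 : allRange (1 * 513) 513 (fun p => schreierOk 6156 RB lv1 [lv2, lv3, lv4] cY p) = true := by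
  decide +kernel

theorem schY_c2 : allRange (2 * 513) 513 (fun p => schreierOk 6156 RB lv1 [lv2, lv3, lv4] cY p) = true := by
  decide +kernel

theorem schY_c3 : allRange (3 * 513) 513 (fun p => schreierOk 6156 RB lv1 [lv2, lv3, lv4] cY p) = true := by
  decide +kernel


end Cfsg.Agent.Lib.Helper10.J3
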