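import Cfsg.Agent.Lib.Helper10.J3Graph
import Cfsg.Agent.Lib.Helper10.J3Data
import Cfsg.Agent.Lib.Helper10.SWFast
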