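import Cfsg.Agent.Lib.Helper10.J3MGraphData

set_option autoImplicit false

/-!
The rows of the digraph are increasing: part 1.
-/

namespace Cfsg.Agent.Lib.Helper10.J3M

open Cfsg.Agent.Lib.Helper10.SX

noncomputable section

theorem rows_c0 : allRange (0 * 1026) 1026 (fun x => rowInc 20520 gr102.val (row gr102 x) 0) = true := by
  decide +kernel

theorem rows_c1 : allRange (1 * 1026) 1026 (fun x => rowInc 20520 gr102.val (row gr102 x) 0) = true := by
  decide +kernel

theorem rows_c2 : allRange (2 * 1026) 1026 (fun x => rowInc 20520 gr102.val (row gr102 x) 0) = true := by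
  decide +kernel

theorem rows_c3 : allRange (3 * 1026) 1026 (fun x => rowInc 20520 gr102.val (row gr102 x) 0) = true := by
  decide +kernel

theorem rows_c4 : allRange (4 * 1026) 1026 (fun x => rowInc 20520 gr102.val (row gr102 x) 0) = true := by
  decide +kernel


end

end Cfsg.Agent.Lib.Helper10.J3M
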