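import Cfsg.Agent.Lib.Helper10.J3MChkRows1
import Cfsg.Agent.Lib.Helper10.J3MChkRows2
import Cfsg.Agent.Lib.Helper10.J3MChkRows3
import Cfsg.Agent.Lib.Helper10.J3MChkRows4

set_option autoImplicit false

/-!
The rows of the digraph are increasing.
-/

namespace Cfsg.Agent.Lib.Helper10.J3M

open Cfsg.Agent.Lib.Helper10.SX

noncomputable section

theorem rows102F : rowsOkF 20520 gr102 = true := by
  apply allLt_of_chunks 1026 20 (by norm_num)
  intro k hk
  interval_cases k
  · exact rows_c0
  · exact rows_c1
  · exact rows_c2
  · exact rows_c3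
  · exact rows_c4
  · exact rows_c5
  · exact rows_c6
  · exact rows_c7
  · exact rows_c8
  · exact rows_c9
  · exact rows_c10
  · exact rows_c11
  · exact rows_c12
  · exact rows_c13
  · exact rows_c14
  · exact rows_c15
  · exact rows_c16
  · exact rows_c17
  · exact rows_c18
  · exact rows_c19

theorem rows102 : rowsOk 20520 gr102 = true := rowsOk_of_fast rows102F

end

end Cfsg.Agent.Lib.Helper10.J3M
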