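import Cfsg.Agent.Lib.Helper10.J3MGraphData
import Cfsg.Agent.Lib.Helper10.J3MChkAutY3

set_option autoImplicit false

/-!
The generator `Y` preserves the digraph: part 4.
-/

namespace Cfsg.Agent.Lib.Helper10.J3M

open Cfsg.Agent.Lib.Helper10.SX

noncomputable section

theorem autY_c15 : allRange (15 * 1026) 1026 (fun x => Nat.beq (maskRow (ap 20520 cY) gr102.val (row gr102 x))
      (maskRow id gr102.val (row gr102 (ap 20520 cY x)))) = true := by
  decide +kernel

theorem autY_c16 : allRange (16 * 1026) 1026 (fun x => Nat.beq (maskRow (ap 20520 cY) gr102.val (row gr102 x))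
      (maskRow id gr102.val (row gr102 (ap 20520 cY x)))) = true := by
  decide +kernel

theorem autY_c17 : allRange (17 * 1026) 1026 (fun x => Nat.beq (maskRow (ap 20520 cY) gr102.val (row gr102 x))
      (maskRow id gr102.val (row gr102 (ap 20520 cY x)))) = true := by
  decide +kernel

theorem autY_c18 : allRange (18 * 1026) 1026 (fun x => Nat.beq (maskRow (ap 20520 cY) gr102.val (row gr102 x))
      (maskRow id gr102.val (row gr102 (ap 20520 cY x)))) = true := by
  decide +kernel

theorem autY_c19 : allRange (19 * 1026) 1026 (fun x => Nat.beq (maskRow (ap 20520 cY) gr102.val (row gr102 x))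
      (maskRow id gr102.val (row gr102 (ap 20520 cY x)))) = true := by
  decide +kernel


end

end Cfsg.Agent.Lib.Helper10.J3M
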