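import Cfsg.Agent.Lib.Helper10.J3MData

set_option autoImplicit false

/-!
Checks of level 1 of the chain other than the Schreier conditions: part A.
-/

namespace Cfsg.Agent.Lib.Helper10.J3M

open Cfsg.Agent.Lib.Helper10.SX

noncomputable section

theorem pre1_a : decide (lv1.b < 20520) = true := by
  decide +kernel

theorem pre1_b : (lv1.gens.all fun e => invB 20520 e.1 e.2 && invB 20520 e.2 e.1) = true := by
  decide +kernel

theorem pre1_c : ((allGens [lv2, lv3]).all fun c => ap 20520 c lv1.b == lv1.b) = true := by
  decide +kernel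

theorem pre1_d : (lv1.sgens.all fun c => decide (c ∈ allGens (lv1 :: [lv2, lv3]))) = true := by
  decide +kernel

theorem pre1_f : (lv1.moves.all fun e => decide (e.1 ∈ lv1.sgens ∨ e.2 ∈ lv1.sgens) &&
    invB 20520 e.1 e.2 && invB 20520 e.2 e.1) = true := by
  decide +kernel

theorem pre1_h : decide (ent lv1.tree lv1.b = 1) = true := by
  decide +kernel

end

end Cfsg.Agent.Lib.Helper10.J3M
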