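import Cfsg.Agent.Lib.Helper10.J3MData
import Cfsg.Agent.Lib.Helper10.J3MChkPreA

set_option autoImplicit false

/-!
Checks of level 1 of the chain other than the Schreier conditions: part B.
-/

namespace Cfsg.Agent.Lib.Helper10.J3M

open Cfsg.Agent.Lib.Helper10.SX

noncomputable section

theorem pre1_eX : (decide (cX ∈ lv1.sgens) ||
    lv1.wds.any fun e => e.1 == cX && wordOk 20520 lv1.moves cX e.2) = true := by
  decide +kernel

theorem pre1_eY : (decide (cY ∈ lv1.sgens) ||
    lv1.wds.any fun e => e.1 == cY && wordOk 20520 lv1.moves cY e.2) = true := by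
  decide +kernel

theorem pre1_eK1 : (decide (cK1 ∈ lv1.sgens) ||
    lv1.wds.any fun e => e.1 == cK1 && wordOk 20520 lv1.moves cK1 e.2) = true := by
  decide +kernel

theorem pre1_eK2 : (decide (cK2 ∈ lv1.sgens) ||
    lv1.wds.any fun e => e.1 == cK2 && wordOk 20520 lv1.moves cK2 e.2) = true := by
  decide +kernel

end

end Cfsg.Agent.Lib.Helper10.J3M
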