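import Cfsg.Agent.Lib.Helper10.J3MData
import Cfsg.Agent.Lib.Helper10.J3MChkPreB

set_option autoImplicit false

/-!
Checks of level 1 of the chain other than the Schreier conditions: part C.
-/

namespace Cfsg.Agent.Lib.Helper10.J3M

open Cfsg.Agent.Lib.Helper10.SX

noncomputable section

theorem pre1_eH1 : (decide (cH1 ∈ lv1.sgens) ||
    lv1.wds.any fun e => e.1 == cH1 && wordOk 20520 lv1.moves cH1 e.2) = true := by
  decide +kernel

theorem pre1_eH2 : (decide (cH2 ∈ lv1.sgens) ||
    lv1.wds.any fun e => e.1 == cH2 && wordOk 20520 lv1.moves cH2 e.2) = true := by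
  decide +kernel

end

end Cfsg.Agent.Lib.Helper10.J3M
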