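import Cfsg.Agent.Lib.Helper10.J3MData
import Cfsg.Agent.Lib.Helper10.J3MChkPreC

set_option autoImplicit false

/-!
Checks of level 1 of the chain other than the Schreier conditions: part D.
-/

namespace Cfsg.Agent.Lib.Helper10.J3M

open Cfsg.Agent.Lib.Helper10.SX

noncomputable section

theorem pre1_g : treeOk 20520 lv1.moves lv1.tree = true := by
  decide +kernel

theorem pre1_i : (allLt 20520 fun p => decide (ent lv1.tree p = 1 → p = lv1.b)) = true := by
  decide +kernel

theorem pre1_j : sizeOk 20520 lv1 = true := by
  decide +kernel

end

end Cfsg.Agent.Lib.Helper10.J3M
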