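import Cfsg.Agent.Lib.Helper10.J3MChkPreA
import Cfsg.Agent.Lib.Helper10.J3MChkPreB
import Cfsg.Agent.Lib.Helper10.J3MChkPreC
import Cfsg.Agent.Lib.Helper10.J3MChkPreD

set_option autoImplicit false

/-!
Checks of level 1 of the chain other than the Schreier conditions.
-/

namespace Cfsg.Agent.Lib.Helper10.J3M

open Cfsg.Agent.Lib.Helper10.SX

noncomputable section

theorem pre1_e : ((allGens (lv1 :: [lv2, lv3])).all fun c => decide (c ∈ lv1.sgens) ||
    lv1.wds.any fun e => e.1 == c && wordOk 20520 lv1.moves c e.2) = true := by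
  rw [List.all_eq_true]
  intro c hc
  have hl : allGens (lv1 :: [lv2, lv3]) = [cX, cY, cK1, cK2, cH1, cH2] := by
    simp [allGens, genCodes, lv1, lv2, lv3]
  have hc' : c ∈ [cX, cY, cK1, cK2, cH1, cH2] := hl ▸ hc
  simp only [List.mem_cons, List.not_mem_nil, or_false] at hc'
  rcases hc' with rfl | rfl | rfl | rfl | rfl | rfl
  · exact pre1_eX
  · exact pre1_eY
  · exact pre1_eK1
  · exact pre1_eK2
  · exact pre1_eH1
  · exact pre1_eH2

theorem pre1 : levelPre 20520 lv1 [lv2, lv3] = true := by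
  unfold levelPre
  simp only [Bool.and_eq_true]
  exact ⟨⟨⟨⟨⟨⟨⟨⟨⟨pre1_a, pre1_b⟩, pre1_c⟩, pre1_d⟩, pre1_e⟩, pre1_f⟩, pre1_g⟩, pre1_h⟩, pre1_i⟩, pre1_j⟩

end

end Cfsg.Agent.Lib.Helper10.J3M
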