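import Cfsg.Agent.Lib.Helper10.J3MData
import Cfsg.Agent.Lib.Helper10.J3MChkPre

set_option autoImplicit false

/-!
The lower levels of the chain.
-/

namespace Cfsg.Agent.Lib.Helper10.J3M

open Cfsg.Agent.Lib.Helper10.SX

noncomputable section

theorem ok3 : levelOk 20520 RB lv3 [] = true := by
  decide +kernel

theorem ok2 : levelOk 20520 RB lv2 [lv3] = true := by
  decide +kernel

end

end Cfsg.Agent.Lib.Helper10.J3M
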