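import Cfsg.Agent.Lib.Helper10.J3MCert
import Cfsg.Agent.Lib.Helper10.J3MChkLow

set_option autoImplicit false

/-!
The certificates for the maximality of the point stabiliser and of the two-point stabiliser.
-/

namespace Cfsg.Agent.Lib.Helper10.J3M

open Cfsg.Agent.Lib.Helper10.SX

noncomputable section

theorem forestA : treeOk 20520 mv2 fA = true := by
  decide +kernel

theorem coverA : coverChk 20520 fA 0 (fun _ => true) (rootsA.map Prod.fst) = true := by
  decide +kernel

theorem rootsA_ok : rootsOk 20520 mv1 0 rootsA = true := by
  decide +kernel

theorem closeA : closeOk 20520 fA mv1 rootsA certsA = true := by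
  decide +kernel

theorem forestB : treeOk 20520 mv3 fB = true := by
  decide +kernel

theorem coverB : coverChk 20520 fB 10155 (fun p => (pathOf tr2 fuel p).isSome) (rootsB.map Prod.fst) = true := by
  decide +kernel

theorem rootsB_ok : rootsOk 20520 mv2 10155 rootsB = true := by
  decide +kernel

theorem closeB : closeOk 20520 fB mv2 rootsB certsB = true := by
  decide +kernel

end

end Cfsg.Agent.Lib.Helper10.J3M
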