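import Cfsg.Agent.Lib.Helper10.J3MChkRows
import Cfsg.Agent.Lib.Helper10.J3MChkAutX1
import Cfsg.Agent.Lib.Helper10.J3MChkAutX2
import Cfsg.Agent.Lib.Helper10.J3MChkAutX3
import Cfsg.Agent.Lib.Helper10.J3MChkAutX4
import Cfsg.Agent.Lib.Helper10.J3MChkAutY1
import Cfsg.Agent.Lib.Helper10.J3MChkAutY2
import Cfsg.Agent.Lib.Helper10.J3MChkAutY3
import Cfsg.Agent.Lib.Helper10.J3MChkAutY4

set_option autoImplicit false

/-!
The generators preserve the digraph.
-/

namespace Cfsg.Agent.Lib.Helper10.J3M

open Cfsg.Agent.Lib.Helper10.SX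

noncomputable section

theorem autXF : autOkF 20520 gr102 cX = true := by
  apply allLt_of_chunks 1026 20 (by norm_num)
  intro k hk
  interval_cases k
  · exact autX_c0
  · exact autX_c1
  · exact autX_c2
  · exact autX_c3
  · exact autX_c4
  · exact autX_c5
  · exact autX_c6
  · exact autX_c7
  · exact autX_c8
  · exact autX_c9
  · exact autX_c10
  · exact autX_c11
  · exact autX_c12
  · exact autX_c13
  · exact autX_c14
  · exact autX_c15
  · exact autX_c16
  · exact autX_c17
  · exact autX_c18
  · exact autX_c19

theorem autX : autOk 20520 gr102 cX = true := autOk_of_fast autXF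

theorem autYF : autOkF 20520 gr102 cY = true := by
  apply allLt_of_chunks 1026 20 (by norm_num)
  intro k hk
  interval_cases k
  · exact autY_c0
  · exact autY_c1
  · exact autY_c2
  · exact autY_c3
  · exact autY_c4
  · exact autY_c5
  · exact autY_c6
  · exact autY_c7
  · exact autY_c8
  · exact autY_c9
  · exact autY_c10
  · exact autY_c11
  · exact autY_c12
  · exact autY_c13
  · exact autY_c14
  · exact autY_c15
  · exact autY_c16
  · exact autY_c17
  · exact autY_c18
  · exact autY_c19

theorem autY : autOk 20520 gr102 cY = true := autOk_of_fast autYF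


end

end Cfsg.Agent.Lib.Helper10.J3M
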