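import Cfsg.Agent.Lib.Helper10.SXRigid

set_option autoImplicit false

/-!
Versions of the graph checks written with raw recursors and primitive operations, which the kernel
evaluates several times faster, and their agreement with the specifications.
-/

namespace Cfsg.Agent.Lib.Helper10.SX

/-- the packed row of a point, cut to its length -/
def row (Γ : Gr) (x : ℕ) : ℕ :=
  Nat.land (Nat.shiftRight (Γ.chunks.getD (Nat.div x Γ.per) 0)
    (Nat.mul (Nat.mul 15 Γ.val) (Nat.mod x Γ.per))) (Nat.sub (Nat.shiftLeft 1 (Nat.mul 15 Γ.val)) 1)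

theorem decodeRow_mask (k : ℕ) : ∀ R : ℕ,
    decodeRow k (Nat.land R (Nat.sub (Nat.shiftLeft 1 (Nat.mul 15 k)) 1)) = decodeRow k R := by
  have hm : ∀ R m : ℕ, Nat.land R (Nat.sub (Nat.shiftLeft 1 m) 1) = R % 2 ^ m := by
    intro R m
    show R &&& (1 <<< m - 1) = R % 2 ^ m
    rw [Nat.one_shiftLeft, Nat.and_two_pow_sub_one_eq_mod]
  induction k with
  | zero => intro R; rfl
  | succ k ih =>
    intro R
    have hd : ∀ R' : ℕ, decodeRow (k + 1) R' = (R' &&& 32767) :: decodeRow k (R' >>> 15) :=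
      fun _ => rfl
    rw [hd, hd, hm]
    have h8 : ∀ a : ℕ, a &&& 32767 = a % 2 ^ 15 := by
      intro a
      have : (32767 : ℕ) = 2 ^ 15 - 1 := by norm_num
      rw [this, Nat.and_two_pow_sub_one_eq_mod]
    have e1 : Nat.mul 15 (k + 1) = 15 + 15 * k := by
      show 15 * (k + 1) = 15 + 15 * k
      ring
    rw [e1, h8, h8, Nat.pow_add, Nat.mod_mul_right_mod]
    congr 1
    rw [Nat.shiftRight_eq_div_pow, Nat.mod_mul_right_div_self, ← Nat.shiftRight_eq_div_pow]
    have := ih (R >>> 15)
    rw [hm] at this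
    exact this

theorem nb_eq (Γ : Gr) (x : ℕ) : nb Γ x = decodeRow Γ.val (row Γ x) := by
  unfold row
  rw [decodeRow_mask]
  rfl

/-- fold over the fields of a packed row -/
def foldRow (step : ℕ → ℕ → ℕ) (k R acc : ℕ) : ℕ :=
  Nat.rec (motive := fun _ => ℕ → ℕ → ℕ) (fun _ acc => acc)
    (fun _ ih R acc => ih (Nat.shiftRight R 15) (forceNat (Nat.land R 32767) fun y => step y acc))
    k R acc

theorem foldRow_zero (step : ℕ → ℕ → ℕ) (R acc : ℕ) : foldRow step 0 R acc = acc := rfl

theorem foldRow_succ (step : ℕ → ℕ → ℕ) (k R acc : ℕ) :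
    foldRow step (k + 1) R acc = foldRow step k (R >>> 15) (step (R &&& 32767) acc) := by
  have : foldRow step (k + 1) R acc =
      foldRow step k (R >>> 15) (forceNat (R &&& 32767) fun y => step y acc) := rfl
  rw [this, forceNat_eq]

theorem foldRow_eq (step : ℕ → ℕ → ℕ) (k : ℕ) : ∀ R acc : ℕ,
    foldRow step k R acc = (decodeRow k R).foldl (fun a y => step y a) acc := by
  induction k with
  | zero => intro R acc; rfl
  | succ k ih =>
    intro R acc
    rw [foldRow_succ, ih]
    rfl

/-! ### rows -/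

/-- the fields are strictly increasing, at least `lo` and below `n` -/
def rowInc (n k R lo : ℕ) : Bool :=
  Nat.rec (motive := fun _ => ℕ → ℕ → Bool) (fun _ _ => true)
    (fun _ ih R lo => Nat.ble lo (Nat.land R 32767) && Nat.blt (Nat.land R 32767) n &&
      ih (Nat.shiftRight R 15) (Nat.succ (Nat.land R 32767))) k R lo

theorem rowInc_succ (n k R lo : ℕ) :
    rowInc n (k + 1) R lo = (Nat.ble lo (R &&& 32767) && Nat.blt (R &&& 32767) n &&
      rowInc n k (R >>> 15) ((R &&& 32767) + 1)) := rfl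

theorem rowInc_sound (n k : ℕ) : ∀ R lo : ℕ, rowInc n k R lo = true →
    (∀ a ∈ decodeRow k R, lo ≤ a ∧ a < n) ∧ (decodeRow k R).Pairwise (· < ·) := by
  induction k with
  | zero =>
    intro R lo _
    simp [decodeRow]
  | succ k ih =>
    intro R lo h
    rw [rowInc_succ, Bool.and_eq_true, Bool.and_eq_true, Nat.ble_eq, Nat.blt_eq] at h
    obtain ⟨⟨h1, h2⟩, h3⟩ := h
    obtain ⟨h4, h5⟩ := ih _ _ h3
    have hd : decodeRow (k + 1) R = (R &&& 32767) :: decodeRow k (R >>> 15) := rfl
    rw [hd]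
    refine ⟨?_, ?_⟩
    · intro a ha
      rcases List.mem_cons.mp ha with rfl | ha
      · exact ⟨h1, h2⟩
      · exact ⟨by have := (h4 a ha).1; omega, (h4 a ha).2⟩
    · rw [List.pairwise_cons]
      refine ⟨?_, h5⟩
      intro a ha
      have := (h4 a ha).1
      omega

theorem incLt_of (n : ℕ) : ∀ L : List ℕ, (∀ a ∈ L, a < n) → L.Pairwise (· < ·) →
    incLt n L = true := by
  intro L
  induction L with
  | nil => intro _ _; rfl
  | cons a L ih =>
    cases L with
    | nil =>
      intro h _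
      simp only [incLt, decide_eq_true_eq]
      exact h a List.mem_cons_self
    | cons b L =>
      intro h hp
      simp only [incLt, Bool.and_eq_true, decide_eq_true_eq]
      rw [List.pairwise_cons] at hp
      refine ⟨hp.1 b List.mem_cons_self, ih (fun c hc => h c (List.mem_cons_of_mem _ hc)) hp.2⟩

/-- fast version of `rowsOk` -/
def rowsOkF (n : ℕ) (Γ : Gr) : Bool := allLt n fun x => rowInc n Γ.val (row Γ x) 0

theorem rowsOk_of_fast {n : ℕ} {Γ : Gr} (h : rowsOkF n Γ = true) : rowsOk n Γ = true := by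
  unfold rowsOkF at h
  unfold rowsOk
  rw [allLt_iff] at h ⊢
  intro x hx
  obtain ⟨h1, h2⟩ := rowInc_sound n _ _ _ (h x hx)
  rw [nb_eq]
  exact incLt_of n _ (fun a ha => (h1 a ha).2) h2

/-! ### automorphisms -/

/-- the bit mask of the images of the fields -/
def maskRow (f : ℕ → ℕ) (k R : ℕ) : ℕ :=
  foldRow (fun y acc => Nat.lor acc (Nat.shiftLeft 1 (f y))) k R 0

theorem foldl_mask (f : ℕ → ℕ) : ∀ (L : List ℕ) (acc : ℕ),
    L.foldl (fun a y => Nat.lor a (Nat.shiftLeft 1 (f y))) acc = acc ||| maskOf (L.map f) := by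
  intro L
  induction L with
  | nil => intro acc; simp [maskOf]
  | cons a L ih =>
    intro acc
    rw [List.foldl_cons, ih, List.map_cons]
    have e : Nat.shiftLeft 1 (f a) = 2 ^ f a := by
      show 1 <<< f a = 2 ^ f a
      rw [Nat.one_shiftLeft]
    have e' : Nat.lor acc (Nat.shiftLeft 1 (f a)) = acc ||| 2 ^ f a := by rw [e]; rfl
    have e'' : maskOf (f a :: List.map f L) = maskOf (List.map f L) ||| 2 ^ f a := rfl
    rw [e', e'', Nat.or_assoc, Nat.or_comm (2 ^ f a)]

theorem maskRow_eq (f : ℕ → ℕ) (k R : ℕ) : maskRow f k R = maskOf ((decodeRow k R).map f) := by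
  unfold maskRow
  rw [foldRow_eq, foldl_mask, Nat.zero_or]

/-- fast version of `autOk` -/
def autOkF (n : ℕ) (Γ : Gr) (c : ℕ) : Bool :=
  allLt n fun x => Nat.beq (maskRow (ap n c) Γ.val (row Γ x)) (maskRow id Γ.val (row Γ (ap n c x)))

theorem autOk_of_fast {n : ℕ} {Γ : Gr} {c : ℕ} (h : autOkF n Γ c = true) :
    autOk n Γ c = true := by
  unfold autOkF at h
  unfold autOk
  rw [allLt_iff] at h ⊢
  intro x hx
  have := Nat.eq_of_beq_eq_true (h x hx)
  rw [maskRow_eq, maskRow_eq, List.map_id] at this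
  rw [beq_iff_eq, nb_eq, nb_eq]
  exact this

/-! ### colour refinement -/

/-- primitive form of `cimg` -/
def cimgF (C x : ℕ) : ℕ := cimg C x

theorem cimgF_eq : cimgF = cimg := rfl

/-- the sum over the fields of a row -/
def sumRow (col : ℕ → ℕ) (k R : ℕ) : ℕ :=
  foldRow (fun y acc => Nat.add acc (Nat.add (Nat.mul (col y) (col y)) (Nat.mul 12345 (col y)))) k R 0

theorem foldl_sum (g : ℕ → ℕ) : ∀ (L : List ℕ) (acc : ℕ),
    L.foldl (fun a y => Nat.add a (g y)) acc = acc + (L.map g).sum := by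
  intro L
  induction L with
  | nil => intro acc; simp
  | cons a L ih =>
    intro acc
    rw [List.foldl_cons, ih, List.map_cons, List.sum_cons]
    show acc + g a + _ = _
    rw [Nat.add_assoc]

theorem sumRow_eq (col : ℕ → ℕ) (k R : ℕ) :
    sumRow col k R = ((decodeRow k R).map fun y => col y * col y + 12345 * col y).sum := by
  unfold sumRow
  rw [foldRow_eq]
  have := foldl_sum (fun y => col y * col y + 12345 * col y) (decodeRow k R) 0
  rw [Nat.zero_add] at this
  exact this

/-- fast version of `newCol` -/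
def newColF (Γ : Gr) (col : ℕ → ℕ) (x : ℕ) : ℕ :=
  Nat.mod (Nat.add (Nat.mul (col x) 1000003) (sumRow col Γ.val (row Γ x))) 4294967291

theorem newColF_eq (Γ : Gr) (col : ℕ → ℕ) (x : ℕ) : newColF Γ col x = newCol Γ col x := by
  unfold newColF newCol
  rw [sumRow_eq, nb_eq]
  rfl

/-- fast version of `roundOk` -/
def roundOkF (n : ℕ) (Γ : Gr) (col : ℕ → ℕ) (C' : ℕ) : Bool :=
  allLt n fun x => Nat.beq (cimgF C' x) (newColF Γ col x)

theorem roundOk_of_fast {n : ℕ} {Γ : Gr} {col : ℕ → ℕ} {C' : ℕ}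
    (h : roundOkF n Γ col C' = true) : roundOk n Γ col C' = true := by
  unfold roundOkF at h
  unfold roundOk
  rw [allLt_iff] at h ⊢
  intro x hx
  have := Nat.eq_of_beq_eq_true (h x hx)
  rw [newColF_eq, cimgF_eq] at this
  rw [beq_iff_eq]
  exact this

/-- assemble a check on `x < 4 q` from four ranges of length `q` -/
theorem allLt_of_quarters (q : ℕ) {f : ℕ → Bool} (h1 : allRange 0 q f = true)
    (h2 : allRange q q f = true) (h3 : allRange (2 * q) q f = true)
    (h4 : allRange (3 * q) q f = true) : allLt (4 * q) f = true := by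
  rw [allLt_iff]
  rw [allRange_iff] at h1 h2 h3 h4
  intro x hx
  by_cases ha : x < q
  · exact h1 x (Nat.zero_le x) (by omega)
  by_cases hb : x < 2 * q
  · exact h2 x (by omega) (by omega)
  by_cases hc : x < 3 * q
  · exact h3 x (by omega) (by omega)
  · exact h4 x (by omega) (by omega)

end Cfsg.Agent.Lib.Helper10.SX
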