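import Cfsg.Agent.Lib.Helper10.J3MMat
import Cfsg.Agent.Lib.Helper10.J3MData
import Cfsg.Agent.Lib.Helper10.SXFast

set_option autoImplicit false

/-!
The matrix `X` induces the permutation `X` on the points.
-/

namespace Cfsg.Agent.Lib.Helper10.J3M

open Matrix Cfsg.Agent.Lib.Helper10.SX Cfsg.Agent.Lib.Helper10.SXM

noncomputable section

theorem linkX_1 : allRange 0 5130 (linkF 20520 ptsP [tX1, tX2, tX3] cX) = true := by
  decide +kernel

theorem linkX_2 : allRange 5130 5130 (linkF 20520 ptsP [tX1, tX2, tX3] cX) = true := by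
  decide +kernel

theorem linkX_3 : allRange (2 * 5130) 5130 (linkF 20520 ptsP [tX1, tX2, tX3] cX) = true := by
  decide +kernel

theorem linkX_4 : allRange (3 * 5130) 5130 (linkF 20520 ptsP [tX1, tX2, tX3] cX) = true := by
  decide +kernel

theorem linkX : linkOk 20520 ptsP [tX1, tX2, tX3] cX = true :=
  allLt_of_quarters 5130 linkX_1 linkX_2 linkX_3 linkX_4

end

end Cfsg.Agent.Lib.Helper10.J3M
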