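import Cfsg.Agent.Lib.Helper10.J3MMat
import Cfsg.Agent.Lib.Helper10.J3MData

set_option autoImplicit false

/-!
Checks on the matrices: the tables, unitarity, the orders, a scalar word, the frame.
-/

namespace Cfsg.Agent.Lib.Helper10.J3M

open Matrix Cfsg.Agent.Lib.Helper10.SX Cfsg.Agent.Lib.Helper10.SXM

noncomputable section

theorem tabX1 : TabOk mX tX1 := by
  decide +kernel

theorem tabX2 : TabOk (om • mX) tX2 := by
  decide +kernel

theorem tabX3 : TabOk (om ^ 2 • mX) tX3 := by
  decide +kernel

theorem tabY1 : TabOk mY tY1 := by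
  decide +kernel

theorem tabY2 : TabOk (om • mY) tY2 := by
  decide +kernel

theorem tabY3 : TabOk (om ^ 2 • mY) tY3 := by
  decide +kernel

theorem uniX : mXᵀ * mX.map (fun x => x ^ 2) = 1 := by
  decide +kernel

theorem uniY : mYᵀ * mY.map (fun x => x ^ 2) = 1 := by
  decide +kernel

theorem powX : ∀ j : Fin 9, evalP ((List.replicate 19 (mX, tX1)).map Prod.snd) (basisP j.val) =
    sbasisP (1 : Fin 4).val j.val := by
  decide +kernel

theorem powY : ∀ j : Fin 9, evalP ((List.replicate 17 (mY, tY1)).map Prod.snd) (basisP j.val) =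
    sbasisP (1 : Fin 4).val j.val := by
  decide +kernel

/-- the word whose eighth power is a scalar -/
def wdZ : List (Matrix (Fin 9) (Fin 9) K4 × ℕ) :=
  [(mX, tX1), (mX, tX1), (mX, tX1), (mY, tY1), (mY, tY1)]

theorem powZ : ∀ j : Fin 9,
    evalP (((List.replicate 8 wdZ).flatten).map Prod.snd) (basisP j.val) =
      sbasisP (2 : Fin 4).val j.val := by
  decide +kernel

theorem frame_inv : frB * frB' = 1 := by
  decide +kernel

theorem frame_idx : ∀ k i, pt (frIdx k) i = frB i k := by
  decide +kernel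

theorem frame_c : ∀ k, frC k ≠ 0 := by
  decide +kernel

theorem frame_ten : pt (16 : Fin 20520) = frB *ᵥ frC := by
  decide +kernel

theorem apart_1 : vec9 (ptc ptsP 0) 2 = 0 := by
  decide +kernel

theorem apart_2 : vec9 (ptc ptsP (ap 20520 cX 0)) 2 ≠ 0 := by
  decide +kernel

end

end Cfsg.Agent.Lib.Helper10.J3M
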