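import Cfsg.Agent.Lib.Helper10.SXTree

set_option autoImplicit false

/-!
Assembling a Boolean check on all numbers below `n` from checks on consecutive ranges, so that each
range is evaluated by the kernel on its own.
-/

namespace Cfsg.Agent.Lib.Helper10.SX

theorem allLt_of_chunks (q m : ℕ) {n : ℕ} (hn : n = m * q) {f : ℕ → Bool}
    (h : ∀ k < m, allRange (k * q) q f = true) : allLt n f = true := by
  subst hn
  rw [allLt_iff]
  intro x hx
  have hq : 0 < q := by
    rcases Nat.eq_zero_or_pos q with h0 | h0
    · subst h0
      simp at hx
    · exact h0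
  have hk : x / q < m := Nat.div_lt_of_lt_mul (by rwa [Nat.mul_comm] at hx)
  have h1 := (allRange_iff _ _ _).mp (h (x / q) hk) x
  apply h1
  · exact Nat.div_mul_le_self x q
  · have := Nat.lt_div_mul_add hq (a := x)
    omega

end Cfsg.Agent.Lib.Helper10.SX
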