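import Cfsg.Agent.Lib.Helper10.J3MData
import Cfsg.Agent.Lib.Helper10.SXChunk
import Cfsg.Agent.Lib.Helper10.J3MChkSX3

set_option autoImplicit false

/-!
The Schreier conditions of level 1 for the generator of order 19: part 4.
-/

namespace Cfsg.Agent.Lib.Helper10.J3M

open Cfsg.Agent.Lib.Helper10.SX

noncomputable section

theorem schX_c12 : allRange (12 * 1026) 1026 (fun p => schreierOk 20520 RB lv1 [lv2, lv3] cX p) = true := by
  decide +kernel

theorem schX_c13 : allRange (13 * 1026) 1026 (fun p => schreierOk 20520 RB lv1 [lv2, lv3] cX p) = true := by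
  decide +kernel

theorem schX_c14 : allRange (14 * 1026) 1026 (fun p => schreierOk 20520 RB lv1 [lv2, lv3] cX p) = true := by
  decide +kernel

theorem schX_c15 : allRange (15 * 1026) 1026 (fun p => schreierOk 20520 RB lv1 [lv2, lv3] cX p) = true := by
  decide +kernel


end

end Cfsg.Agent.Lib.Helper10.J3M
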