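import Cfsg.Agent.Lib.Helper10.J3MChkSX1
import Cfsg.Agent.Lib.Helper10.J3MChkSX2
import Cfsg.Agent.Lib.Helper10.J3MChkSX3
import Cfsg.Agent.Lib.Helper10.J3MChkSX4
import Cfsg.Agent.Lib.Helper10.J3MChkSX5

set_option autoImplicit false

/-!
The Schreier conditions of level 1 for the generator of order 19.
-/

namespace Cfsg.Agent.Lib.Helper10.J3M

open Cfsg.Agent.Lib.Helper10.SX

noncomputable section

theorem schX : schAll 20520 RB lv1 [lv2, lv3] cX = true := by
  apply allLt_of_chunks 1026 20 (by norm_num)
  intro k hk
  interval_cases k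
  · exact schX_c0
  · exact schX_c1
  · exact schX_c2
  · exact schX_c3
  · exact schX_c4
  · exact schX_c5
  · exact schX_c6
  · exact schX_c7
  · exact schX_c8
  · exact schX_c9
  · exact schX_c10
  · exact schX_c11
  · exact schX_c12
  · exact schX_c13
  · exact schX_c14
  · exact schX_c15
  · exact schX_c16
  · exact schX_c17
  · exact schX_c18
  · exact schX_c19

end

end Cfsg.Agent.Lib.Helper10.J3M
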