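import Cfsg.Agent.Lib.Helper10.J3MGraphData
import Cfsg.Agent.Lib.Helper10.J3MChkWL1p2

set_option autoImplicit false

/-!
Round 2 of the colour refinement: part 1.
-/

namespace Cfsg.Agent.Lib.Helper10.J3M

open Cfsg.Agent.Lib.Helper10.SX

noncomputable section

theorem round2_c0 : allRange (0 * 2052) 2052 (fun x => Nat.beq (cimgF col2 x) (newColF gr102 (cimgF col1) x)) = true := by
  decide +kernel

theorem round2_c1 : allRange (1 * 2052) 2052 (fun x => Nat.beq (cimgF col2 x) (newColF gr102 (cimgF col1) x)) = true := by
  decide +kernel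

theorem round2_c2 : allRange (2 * 2052) 2052 (fun x => Nat.beq (cimgF col2 x) (newColF gr102 (cimgF col1) x)) = true := by
  decide +kernel

theorem round2_c3 : allRange (3 * 2052) 2052 (fun x => Nat.beq (cimgF col2 x) (newColF gr102 (cimgF col1) x)) = true := by
  decide +kernel

theorem round2_c4 : allRange (4 * 2052) 2052 (fun x => Nat.beq (cimgF col2 x) (newColF gr102 (cimgF col1) x)) = true := by
  decide +kernel


end

end Cfsg.Agent.Lib.Helper10.J3M
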