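import Cfsg.Agent.Lib.Helper10.J3MGraphData
import Cfsg.Agent.Lib.Helper10.J3MChkWL2p1

set_option autoImplicit false

/-!
Round 2 of the colour refinement: part 2.
-/

namespace Cfsg.Agent.Lib.Helper10.J3M

open Cfsg.Agent.Lib.Helper10.SX

noncomputable section

theorem round2_c5 : allRange (5 * 2052) 2052 (fun x => Nat.beq (cimgF col2 x) (newColF gr102 (cimgF col1) x)) = true := by
  decide +kernel

theorem round2_c6 : allRange (6 * 2052) 2052 (fun x => Nat.beq (cimgF col2 x) (newColF gr102 (cimgF col1) x)) = true := by
  decide +kernel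

theorem round2_c7 : allRange (7 * 2052) 2052 (fun x => Nat.beq (cimgF col2 x) (newColF gr102 (cimgF col1) x)) = true := by
  decide +kernel

theorem round2_c8 : allRange (8 * 2052) 2052 (fun x => Nat.beq (cimgF col2 x) (newColF gr102 (cimgF col1) x)) = true := by
  decide +kernel

theorem round2_c9 : allRange (9 * 2052) 2052 (fun x => Nat.beq (cimgF col2 x) (newColF gr102 (cimgF col1) x)) = true := by
  decide +kernel


end

end Cfsg.Agent.Lib.Helper10.J3M
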