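import Cfsg.Agent.Lib.Helper10.J3MChkWL1p1
import Cfsg.Agent.Lib.Helper10.J3MChkWL1p2
import Cfsg.Agent.Lib.Helper10.J3MChkWL2p1
import Cfsg.Agent.Lib.Helper10.J3MChkWL2p2
import Cfsg.Agent.Lib.Helper10.J3MChkWL3p1
import Cfsg.Agent.Lib.Helper10.J3MChkWL3p2
import Cfsg.Agent.Lib.Helper10.J3MChkWL4p1
import Cfsg.Agent.Lib.Helper10.J3MChkWL4p2

set_option autoImplicit false

/-!
Colour refinement from the base points ends in a discrete colouring.
-/

namespace Cfsg.Agent.Lib.Helper10.J3M

open Cfsg.Agent.Lib.Helper10.SX

noncomputable section

theorem round1F : roundOkF 20520 gr102 (c0fun RB) col1 = true := by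
  apply allLt_of_chunks 2052 10 (by norm_num)
  intro k hk
  interval_cases k
  · exact round1_c0
  · exact round1_c1
  · exact round1_c2
  · exact round1_c3
  · exact round1_c4
  · exact round1_c5
  · exact round1_c6
  · exact round1_c7
  · exact round1_c8
  · exact round1_c9

theorem round1 : roundOk 20520 gr102 (c0fun RB) col1 = true := roundOk_of_fast round1F

theorem round2F : roundOkF 20520 gr102 (cimgF col1) col2 = true := by
  apply allLt_of_chunks 2052 10 (by norm_num)
  intro k hk
  interval_cases k
  · exact round2_c0
  · exact round2_c1
  · exact round2_c2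
  · exact round2_c3
  · exact round2_c4
  · exact round2_c5
  · exact round2_c6
  · exact round2_c7
  · exact round2_c8
  · exact round2_c9

theorem round2 : roundOk 20520 gr102 (cimg col1) col2 = true := roundOk_of_fast round2F

theorem round3F : roundOkF 20520 gr102 (cimgF col2) col3 = true := by
  apply allLt_of_chunks 2052 10 (by norm_num)
  intro k hk
  interval_cases k
  · exact round3_c0
  · exact round3_c1
  · exact round3_c2
  · exact round3_c3
  · exact round3_c4
  · exact round3_c5
  · exact round3_c6
  · exact round3_c7
  · exact round3_c8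
  · exact round3_c9

theorem round3 : roundOk 20520 gr102 (cimg col2) col3 = true := roundOk_of_fast round3F

theorem round4F : roundOkF 20520 gr102 (cimgF col3) col4 = true := by
  apply allLt_of_chunks 2052 10 (by norm_num)
  intro k hk
  interval_cases k
  · exact round4_c0
  · exact round4_c1
  · exact round4_c2
  · exact round4_c3
  · exact round4_c4
  · exact round4_c5
  · exact round4_c6
  · exact round4_c7
  · exact round4_c8
  · exact round4_c9

theorem round4 : roundOk 20520 gr102 (cimg col3) col4 = true := roundOk_of_fast round4F

theorem sorted4 : sortedOk 20520 col4 cSort cSorti = true := by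
  decide +kernel

end

end Cfsg.Agent.Lib.Helper10.J3M
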