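import Cfsg.Agent.Lib.Helper10.J3MChkSY1
import Cfsg.Agent.Lib.Helper10.J3MChkSY2
import Cfsg.Agent.Lib.Helper10.J3MChkSY3
import Cfsg.Agent.Lib.Helper10.J3MChkSY4
import Cfsg.Agent.Lib.Helper10.J3MChkSY5

set_option autoImplicit false

/-!
The Schreier conditions of level 1 for the generator of order 17.
-/

namespace Cfsg.Agent.Lib.Helper10.J3M

open Cfsg.Agent.Lib.Helper10.SX

noncomputable section

theorem schY : schAll 20520 RB lv1 [lv2, lv3] cY = true := by
  apply allLt_of_chunks 1026 20 (by norm_num)
  intro k hk
  interval_cases k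
  · exact schY_c0
  · exact schY_c1
  · exact schY_c2
  · exact schY_c3
  · exact schY_c4
  · exact schY_c5
  · exact schY_c6
  · exact schY_c7
  · exact schY_c8
  · exact schY_c9
  · exact schY_c10
  · exact schY_c11
  · exact schY_c12
  · exact schY_c13
  · exact schY_c14
  · exact schY_c15
  · exact schY_c16
  · exact schY_c17
  · exact schY_c18
  · exact schY_c19

end

end Cfsg.Agent.Lib.Helper10.J3M
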