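import Cfsg.Agent.Lib.Helper10.SXExtra

set_option autoImplicit false

/-!
A cheaper certificate for the maximality of `K ⊓ stabilizer y` in `K`: a forest for the orbits of
the stabiliser, for each root a word mapping the point to it, and for each root a list of
deductions showing that a subgroup containing the stabiliser and the element of that root contains
the elements of all roots.  Also rigidity from four rounds of colour refinement.
-/

namespace Cfsg.Agent.Lib.Helper10.SX

open MulAction

/-- the point of root `j` -/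
def rootPt (roots : List (ℕ × List ℕ)) (j : ℕ) : ℕ := (roots.getD j (0, [])).1

/-- the word of root `j` -/
def rootWd (roots : List (ℕ × List ℕ)) (j : ℕ) : List ℕ := (roots.getD j (0, [])).2

/-- the words are valid and map the point to the roots -/
def rootsOk (n : ℕ) (W : List (ℕ × ℕ)) (y : ℕ) (roots : List (ℕ × List ℕ)) : Bool :=
  roots.all fun e => (e.2.all fun i => decide (i < W.length)) && (evalL n (codes W e.2) y == e.1)

/-- one deduction `(a, c, p, b)`: the point `p` lies in the orbit of root `a`, the element of root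
`c` maps it into the orbit of root `b` -/
def stepOk (n F : ℕ) (W : List (ℕ × ℕ)) (roots : List (ℕ × List ℕ)) (S : List ℕ)
    (st : ℕ × ℕ × ℕ × ℕ) : Bool :=
  S.contains st.1 && S.contains st.2.1 && decide (st.2.2.2 < roots.length) &&
    decide (st.2.2.1 < n) && rootIs F st.2.2.1 (rootPt roots st.1) &&
    rootIs F (evalL n (codes W (rootWd roots st.2.1)) st.2.2.1) (rootPt roots st.2.2.2)

/-- run the deductions -/
def runSteps (n F : ℕ) (W : List (ℕ × ℕ)) (roots : List (ℕ × List ℕ)) :
    List ℕ → List (ℕ × ℕ × ℕ × ℕ) → Option (List ℕ)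
  | S, [] => some S
  | S, st :: rest =>
    if stepOk n F W roots S st then runSteps n F W roots (st.2.2.2 :: S) rest else none

/-- from every root all roots are reached -/
def closeOk (n F : ℕ) (W : List (ℕ × ℕ)) (roots : List (ℕ × List ℕ))
    (certs : List (List (ℕ × ℕ × ℕ × ℕ))) : Bool :=
  (List.range roots.length).all fun i =>
    match runSteps n F W roots [i] (certs.getD i []) with
    | some S => (List.range roots.length).all fun j => S.contains j
    | none => false

section sound

variable {n : ℕ} (K : Subgroup (Equiv.Perm (Fin n))) (y : Fin n) (M W : List (ℕ × ℕ))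
  (hM : MovesIn n M (K ⊓ stabilizer (Equiv.Perm (Fin n)) y)) (hW : MovesIn n W K)
  (F : ℕ) (hF : treeOk n M F = true) (roots : List (ℕ × List ℕ))
  (hroots : rootsOk n W y.val roots = true)

include hW hroots in
theorem root_facts {j : ℕ} (hj : j < roots.length) :
    prodL n (codes W (rootWd roots j)) ∈ K ∧
      (prodL n (codes W (rootWd roots j)) y).val = rootPt roots j := by
  unfold rootsOk at hroots
  rw [List.all_eq_true] at hroots
  have hmem : roots.getD j (0, []) ∈ roots := by
    rw [List.getD_eq_getElem _ _ hj]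
    exact List.getElem_mem hj
  have h := hroots _ hmem
  rw [Bool.and_eq_true, List.all_eq_true, beq_iff_eq] at h
  obtain ⟨h1, h2⟩ := h
  have hwl : ∀ i ∈ rootWd roots j, i < W.length := fun i hi => by
    have := h1 i hi
    rwa [decide_eq_true_eq] at this
  refine ⟨prodL_mem fun c hc => (codes_valid hW hwl c hc).2, ?_⟩
  rw [prodL_apply_val _ (fun c hc => (codes_valid hW hwl c hc).1)]
  exact h2

/-- an element of `L` mapping `y` into the orbit of a root puts the element of the root in `L` -/
theorem mem_of_map (L : Subgroup (Equiv.Perm (Fin n)))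
    (hKyL : K ⊓ stabilizer (Equiv.Perm (Fin n)) y ≤ L) (hLK : L ≤ K)
    {x g k : Equiv.Perm (Fin n)} (hx : x ∈ L) (hg : g ∈ K)
    (hk : k ∈ K ⊓ stabilizer (Equiv.Perm (Fin n)) y) (h : x y = k (g y)) : g ∈ L := by
  have h1 : (k * g)⁻¹ * x ∈ K ⊓ stabilizer (Equiv.Perm (Fin n)) y := by
    refine Subgroup.mem_inf.mpr ⟨?_, ?_⟩
    · exact K.mul_mem (K.inv_mem (K.mul_mem (Subgroup.mem_inf.mp hk).1 hg)) (hLK hx)
    · rw [mem_stabilizer_iff, mul_smul, inv_smul_eq_iff, mul_smul]
      exact h
  have h2 : g = k⁻¹ * (x * ((k * g)⁻¹ * x)⁻¹) := by group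
  rw [h2]
  exact L.mul_mem (L.inv_mem (hKyL hk)) (L.mul_mem hx (L.inv_mem (hKyL h1)))

/-- conversely -/
theorem mem_of_root (L : Subgroup (Equiv.Perm (Fin n)))
    (hKyL : K ⊓ stabilizer (Equiv.Perm (Fin n)) y ≤ L)
    {x g k : Equiv.Perm (Fin n)} (hx : x ∈ K) (hg : g ∈ L) (hgK : g ∈ K)
    (hk : k ∈ K ⊓ stabilizer (Equiv.Perm (Fin n)) y) (h : x y = k (g y)) : x ∈ L := by
  have h1 : (k * g)⁻¹ * x ∈ K ⊓ stabilizer (Equiv.Perm (Fin n)) y := by
    refine Subgroup.mem_inf.mpr ⟨?_, ?_⟩
    · exact K.mul_mem (K.inv_mem (K.mul_mem (Subgroup.mem_inf.mp hk).1 hgK)) hx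
    · rw [mem_stabilizer_iff, mul_smul, inv_smul_eq_iff, mul_smul]
      exact h
  have h2 : x = k * g * ((k * g)⁻¹ * x) := by group
  rw [h2]
  exact L.mul_mem (L.mul_mem (hKyL hk) hg) (hKyL h1)

include hM hW hF hroots in
theorem step_sound (L : Subgroup (Equiv.Perm (Fin n)))
    (hKyL : K ⊓ stabilizer (Equiv.Perm (Fin n)) y ≤ L) (hLK : L ≤ K) (S : List ℕ)
    (hS : ∀ j ∈ S, j < roots.length ∧ prodL n (codes W (rootWd roots j)) ∈ L)
    (st : ℕ × ℕ × ℕ × ℕ) (h : stepOk n F W roots S st = true) :
    ∀ j ∈ st.2.2.2 :: S, j < roots.length ∧ prodL n (codes W (rootWd roots j)) ∈ L := by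
  unfold stepOk at h
  simp only [Bool.and_eq_true, List.contains_iff_mem, decide_eq_true_eq] at h
  obtain ⟨⟨⟨⟨⟨ha, hc⟩, hb⟩, hp⟩, h1⟩, h2⟩ := h
  intro j hj
  rcases List.mem_cons.mp hj with rfl | hj
  · refine ⟨hb, ?_⟩
    obtain ⟨haL, hgaL⟩ := hS _ ha
    obtain ⟨hcL, hgcL⟩ := hS _ hc
    obtain ⟨hgaK, hgay⟩ := root_facts K y W hW roots hroots haL
    obtain ⟨hgcK, -⟩ := root_facts K y W hW roots hroots hcL
    obtain ⟨hgbK, hgby⟩ := root_facts K y W hW roots hroots hb
    obtain ⟨w1, hw1⟩ := rootIs_iff.mp h1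
    obtain ⟨hr1, k, hk, hkp⟩ := exists_of_path hF hM hp hw1
    -- the image point
    have hq : evalL n (codes W (rootWd roots st.2.1)) st.2.2.1 < n := evalL_lt _ hp
    obtain ⟨w2, hw2⟩ := rootIs_iff.mp h2
    obtain ⟨hr2, k', hk', hkq⟩ := exists_of_path hF hM hq hw2
    have hcw : ∀ d ∈ codes W (rootWd roots st.2.1), Valid n d := by
      unfold rootsOk at hroots
      rw [List.all_eq_true] at hroots
      have hmem : roots.getD st.2.1 (0, []) ∈ roots := by
        rw [List.getD_eq_getElem _ _ hcL]
        exact List.getElem_mem hcL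
      have h := hroots _ hmem
      rw [Bool.and_eq_true, List.all_eq_true] at h
      have hwl : ∀ i ∈ rootWd roots st.2.1, i < W.length := fun i hi => by
        have := h.1 i hi
        rwa [decide_eq_true_eq] at this
      exact fun d hd => (codes_valid hW hwl d hd).1
    have hgay' : prodL n (codes W (rootWd roots st.1)) y = ⟨rootPt roots st.1, hr1⟩ :=
      Fin.ext hgay
    have hgby' : prodL n (codes W (rootWd roots st.2.2.2)) y = ⟨rootPt roots st.2.2.2, hr2⟩ :=
      Fin.ext hgby
    have hgcp : prodL n (codes W (rootWd roots st.2.1)) ⟨st.2.2.1, hp⟩ =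
        ⟨evalL n (codes W (rootWd roots st.2.1)) st.2.2.1, hq⟩ := by
      apply Fin.ext
      rw [prodL_apply_val _ hcw]
    apply mem_of_map K y L hKyL hLK
      (x := prodL n (codes W (rootWd roots st.2.1)) * (k * prodL n (codes W (rootWd roots st.1))))
      (L.mul_mem hgcL (L.mul_mem (hKyL hk) hgaL)) hgbK hk'
    show prodL n (codes W (rootWd roots st.2.1))
      (k (prodL n (codes W (rootWd roots st.1)) y)) = k' (prodL n (codes W (rootWd roots st.2.2.2)) y)
    rw [hgay', hkp, hgcp, hgby', hkq]
  · exact hS j hj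

include hM hW hF hroots in
theorem run_sound (L : Subgroup (Equiv.Perm (Fin n)))
    (hKyL : K ⊓ stabilizer (Equiv.Perm (Fin n)) y ≤ L) (hLK : L ≤ K) :
    ∀ (steps : List (ℕ × ℕ × ℕ × ℕ)) (S S' : List ℕ),
      (∀ j ∈ S, j < roots.length ∧ prodL n (codes W (rootWd roots j)) ∈ L) →
      runSteps n F W roots S steps = some S' →
      ∀ j ∈ S', j < roots.length ∧ prodL n (codes W (rootWd roots j)) ∈ L := by
  intro steps
  induction steps with
  | nil =>
    intro S S' hS h
    unfold runSteps at h
    rw [Option.some.injEq] at h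
    rw [← h]
    exact hS
  | cons st rest ih =>
    intro S S' hS h
    unfold runSteps at h
    split_ifs at h with hst
    exact ih _ _ (step_sound K y M W hM hW F hF roots hroots L hKyL hLK S hS st hst) h

include hM hW hF hroots in
/-- maximality from a closure certificate -/
theorem rel_max_close (certs : List (List (ℕ × ℕ × ℕ × ℕ)))
    (hclose : closeOk n F W roots certs = true)
    (hcover : ∀ g ∈ K, g y ≠ y → ∃ r w, pathOf F fuel (g y).val = some (r, w) ∧
      r ∈ roots.map Prod.fst) :
    ∀ L : Subgroup (Equiv.Perm (Fin n)), K ⊓ stabilizer (Equiv.Perm (Fin n)) y ≤ L → L ≤ K →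
      L = K ⊓ stabilizer (Equiv.Perm (Fin n)) y ∨ L = K := by
  intro L hKyL hLK
  by_cases hLKy : L ≤ K ⊓ stabilizer (Equiv.Perm (Fin n)) y
  · exact Or.inl (le_antisymm hLKy hKyL)
  right
  apply le_antisymm hLK
  -- a root index for every moved image
  have hidx : ∀ g ∈ K, g y ≠ y → ∃ j, j < roots.length ∧
      ∃ k ∈ K ⊓ stabilizer (Equiv.Perm (Fin n)) y,
        g y = k (prodL n (codes W (rootWd roots j)) y) := by
    intro g hg hgy
    obtain ⟨r, w, hpath, hr⟩ := hcover g hg hgy
    obtain ⟨e, he, rfl⟩ := List.mem_map.mp hr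
    obtain ⟨j, hj, hje⟩ := List.getElem_of_mem he
    obtain ⟨hr', k, hk, hkr⟩ := exists_of_path hF hM (g y).isLt hpath
    refine ⟨j, hj, k, hk, ?_⟩
    obtain ⟨-, hgy'⟩ := root_facts K y W hW roots hroots hj
    have : prodL n (codes W (rootWd roots j)) y = ⟨e.1, hr'⟩ := by
      apply Fin.ext
      rw [hgy']
      unfold rootPt
      rw [List.getD_eq_getElem _ _ hj, hje]
    rw [this, hkr]
  rw [SetLike.not_le_iff_exists] at hLKy
  obtain ⟨l, hl, hlKy⟩ := hLKy
  have hlK : l ∈ K := hLK hl
  have hly : l y ≠ y := by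
    intro h
    exact hlKy (Subgroup.mem_inf.mpr ⟨hlK, mem_stabilizer_iff.mpr h⟩)
  obtain ⟨i, hi, k, hk, hlk⟩ := hidx l hlK hly
  have hgi : prodL n (codes W (rootWd roots i)) ∈ L :=
    mem_of_map K y L hKyL hLK hl (root_facts K y W hW roots hroots hi).1 hk hlk
  -- all roots
  have hall : ∀ j, j < roots.length → prodL n (codes W (rootWd roots j)) ∈ L := by
    unfold closeOk at hclose
    rw [List.all_eq_true] at hclose
    have h := hclose i (List.mem_range.mpr hi)
    split at h
    · rename_i S hrun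
      rw [List.all_eq_true] at h
      have hS := run_sound K y M W hM hW F hF roots hroots L hKyL hLK _ [i] S
        (fun j hj => by
          rw [List.mem_singleton] at hj
          rw [hj]
          exact ⟨hi, hgi⟩) hrun
      intro j hj
      have := h j (List.mem_range.mpr hj)
      rw [List.contains_iff_mem] at this
      exact (hS j this).2
    · exact absurd h (by simp)
  intro x hx
  by_cases hxy : x y = y
  · exact hKyL (Subgroup.mem_inf.mpr ⟨hx, mem_stabilizer_iff.mpr hxy⟩)
  · obtain ⟨j, hj, k, hk, hxk⟩ := hidx x hx hxy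
    exact mem_of_root K y L hKyL hx (hall j hj) (root_facts K y W hW roots hroots hj).1 hk hxk

end sound

/-! ### rigidity from four rounds of colour refinement -/

theorem rigid_of_rounds4 {n : ℕ} {Γ : Gr} (hrows : rowsOk n Γ = true) (RB : List ℕ)
    {C1 C2 C3 C4 m : ℕ} (h1 : roundOk n Γ (c0fun RB) C1 = true)
    (h2 : roundOk n Γ (cimg C1) C2 = true) (h3 : roundOk n Γ (cimg C2) C3 = true)
    (h4 : roundOk n Γ (cimg C3) C4 = true)
    (hd : distinctOk n m C4 = true) : Rigid n RB (autGroup n Γ) := by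
  intro g hg hfix
  have e0 := c0_inv RB hfix
  have e1 := round_inv hrows hg e0 h1
  have e2 := round_inv hrows hg e1 h2
  have e3 := round_inv hrows hg e2 h3
  have e4 := round_inv hrows hg e3 h4
  exact eq_one_of_discrete hd e4

/-! ### distinct colours from a sorting permutation -/

/-- the colours are strictly increasing along a packed permutation -/
def sortedOk (n C P Q : ℕ) : Bool :=
  invB n P Q && allLt (n - 1) fun i => Nat.blt (cimg C (ap n P i)) (cimg C (ap n P (i + 1)))

theorem sorted_inj {n C P Q : ℕ} (h : sortedOk n C P Q = true) {x y : ℕ} (hx : x < n)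
    (hy : y < n) (hxy : cimg C x = cimg C y) : x = y := by
  unfold sortedOk at h
  rw [Bool.and_eq_true, invB_iff, allLt_iff] at h
  obtain ⟨hinv, hinc⟩ := h
  have hmono : ∀ d i : ℕ, i + d + 1 < n →
      cimg C (ap n P i) < cimg C (ap n P (i + d + 1)) := by
    intro d
    induction d with
    | zero =>
      intro i hi
      have := hinc i (by omega)
      rwa [Nat.blt_eq] at this
    | succ d ih =>
      intro i hi
      have h1 := ih i (by omega)
      have h2 := hinc (i + d + 1) (by omega)
      rw [Nat.blt_eq] at h2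
      exact lt_trans h1 h2
  have hlt : ∀ i j : ℕ, i < j → j < n → cimg C (ap n P i) < cimg C (ap n P j) := by
    intro i j hij hj
    obtain ⟨d, rfl⟩ : ∃ d, j = i + d + 1 := ⟨j - i - 1, by omega⟩
    exact hmono d i hj
  have hx' := hinv x hx
  have hy' := hinv y hy
  have hqx : ap n Q x < n := ap_lt hx
  have hqy : ap n Q y < n := ap_lt hy
  rcases Nat.lt_trichotomy (ap n Q x) (ap n Q y) with hlt' | heq | hgt
  · have := hlt _ _ hlt' hqy
    rw [hx', hy', hxy] at this
    exact absurd this (lt_irrefl _)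
  · rw [← hx', ← hy', heq]
  · have := hlt _ _ hgt hqx
    rw [hx', hy', hxy] at this
    exact absurd this (lt_irrefl _)

theorem eq_one_of_sorted {n C P Q : ℕ} (h : sortedOk n C P Q = true) {σ : Equiv.Perm (Fin n)}
    (hσ : ∀ x : Fin n, cimg C (σ x).val = cimg C x.val) : σ = 1 := by
  apply Equiv.ext
  intro x
  apply Fin.ext
  exact sorted_inj h (σ x).isLt x.isLt (hσ x)

theorem rigid_of_rounds4' {n : ℕ} {Γ : Gr} (hrows : rowsOk n Γ = true) (RB : List ℕ)
    {C1 C2 C3 C4 P Q : ℕ} (h1 : roundOk n Γ (c0fun RB) C1 = true)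
    (h2 : roundOk n Γ (cimg C1) C2 = true) (h3 : roundOk n Γ (cimg C2) C3 = true)
    (h4 : roundOk n Γ (cimg C3) C4 = true)
    (hd : sortedOk n C4 P Q = true) : Rigid n RB (autGroup n Γ) := by
  intro g hg hfix
  have e0 := c0_inv RB hfix
  have e1 := round_inv hrows hg e0 h1
  have e2 := round_inv hrows hg e1 h2
  have e3 := round_inv hrows hg e2 h3
  have e4 := round_inv hrows hg e3 h4
  exact eq_one_of_sorted hd e4

end Cfsg.Agent.Lib.Helper10.SX
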