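import Cfsg.Agent.Lib.Helper10.SXFinal
import Cfsg.Agent.Lib.Helper10.J3MMain
import Cfsg.Agent.Lib.Helper10.J3MChkMat
import Cfsg.Agent.Lib.Helper10.J3MChkLinkX
import Cfsg.Agent.Lib.Helper10.J3MChkLinkY

set_option autoImplicit false

/-!
The triple cover of the Janko group J3 as a subgroup of the special unitary group of dimension 9
over the field with four elements.
-/

namespace Cfsg.Agent.Lib.Helper10.J3M

open Matrix Cfsg.Agent.Lib.Helper10.SX Cfsg.Agent.Lib.Helper10.SXM

open Cfsg.Agent.Lib.Helper16.PSU32 (mkSU)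

attribute [local irreducible] perm

theorem mX_pow : mX ^ 19 = 1 := by
  have h := prod_eq_smul_one (Ms := List.replicate 19 (mX, tX1))
    (fun e he => by rw [List.eq_of_mem_replicate he]; exact tabX1) 1 powX
  rw [List.map_replicate, List.prod_replicate] at h
  rw [h]
  exact (congrArg (· • (1 : Matrix (Fin 9) (Fin 9) K4)) dec_one).trans (one_smul _ _)

theorem mY_pow : mY ^ 17 = 1 := by
  have h := prod_eq_smul_one (Ms := List.replicate 17 (mY, tY1))
    (fun e he => by rw [List.eq_of_mem_replicate he]; exact tabY1) 1 powY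
  rw [List.map_replicate, List.prod_replicate] at h
  rw [h]
  exact (congrArg (· • (1 : Matrix (Fin 9) (Fin 9) K4)) dec_one).trans (one_smul _ _)

theorem mX_det : mX.det = 1 := det_eq_one_of_pow (k := 19) (by norm_num) mX_pow

theorem mY_det : mY.det = 1 := det_eq_one_of_pow (k := 17) (by norm_num) mY_pow

/-- the generator of order 19 -/
noncomputable def hA : ↥(Cfsg.SU 9 K4 2) := mkSU card_K4' mX mX_det uniX

/-- the generator of order 17 -/
noncomputable def hB : ↥(Cfsg.SU 9 K4 2) := mkSU card_K4' mY mY_det uniY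

theorem hA_mat : matHom hA = mX := rfl

theorem hB_mat : matHom hB = mY := rfl

/-- the triple cover -/
noncomputable def H3 : Subgroup ↥(Cfsg.SU 9 K4 2) := Subgroup.closure {hA, hB}

theorem hA_mem : hA ∈ H3 := Subgroup.subset_closure (Or.inl rfl)

theorem hB_mem : hB ∈ H3 := Subgroup.subset_closure (Or.inr rfl)

theorem actsX : Acts pt (matHom hA) (perm 20520 cX) := by
  have hTs : ∀ e ∈ [((1 : K4), tX1), (om, tX2), (om ^ 2, tX3)],
      e.1 ≠ 0 ∧ TabOk (e.1 • mX) e.2 := by
    intro e he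
    rcases List.mem_cons.mp he with rfl | he
    · exact ⟨one_ne_zero, by rw [one_smul]; exact tabX1⟩
    rcases List.mem_cons.mp he with rfl | he
    · exact ⟨om_ne_zero, tabX2⟩
    rcases List.mem_cons.mp he with rfl | he
    · exact ⟨pow_ne_zero 2 om_ne_zero, tabX3⟩
    exact absurd he List.not_mem_nil
  exact link_sound _ hTs valid_X linkX

theorem actsY : Acts pt (matHom hB) (perm 20520 cY) := by
  have hTs : ∀ e ∈ [((1 : K4), tY1), (om, tY2), (om ^ 2, tY3)],
      e.1 ≠ 0 ∧ TabOk (e.1 • mY) e.2 := by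
    intro e he
    rcases List.mem_cons.mp he with rfl | he
    · exact ⟨one_ne_zero, by rw [one_smul]; exact tabY1⟩
    rcases List.mem_cons.mp he with rfl | he
    · exact ⟨om_ne_zero, tabY2⟩
    rcases List.mem_cons.mp he with rfl | he
    · exact ⟨pow_ne_zero 2 om_ne_zero, tabY3⟩
    exact absurd he List.not_mem_nil
  exact link_sound _ hTs valid_Y linkY

theorem hHG : ∀ h ∈ H3, ∃ σ ∈ G, Acts pt (matHom h) σ := by
  apply exists_acts_of_closure pt matHom H3 G {hA, hB} rfl
  rintro h (rfl | rfl)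
  · exact ⟨perm 20520 cX, perm_mem_grp mem_X, actsX⟩
  · exact ⟨perm 20520 cY, perm_mem_grp mem_Y, actsY⟩

theorem hGH : ∀ σ ∈ G, ∃ h ∈ H3, Acts pt (matHom h) σ := by
  apply exists_acts_of_closure' pt matHom H3 G {perm 20520 cX, perm 20520 cY} G_eq_closure
  rintro σ (rfl | rfl)
  · exact ⟨hA, hA_mem, actsX⟩
  · exact ⟨hB, hB_mem, actsY⟩

theorem hne : ∃ σ ∈ G, ¬ Acts pt (1 : Matrix (Fin 9) (Fin 9) K4) σ := by
  refine ⟨perm 20520 cX, perm_mem_grp mem_X, ?_⟩
  intro h
  obtain ⟨s, hs, e⟩ := h ⟨0, by norm_num⟩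
  rw [Matrix.one_mulVec] at e
  have e2 := congrFun e 2
  have h1 : pt ⟨0, by norm_num⟩ 2 = 0 := apart_1
  have h2 : pt (perm 20520 cX ⟨0, by norm_num⟩) 2 ≠ 0 := by
    show vec9 (ptc ptsP (perm 20520 cX ⟨0, by norm_num⟩).val) 2 ≠ 0
    rw [perm_apply_val valid_X]
    exact apart_2
  rw [h1, Pi.smul_apply, smul_eq_mul] at e2
  exact (mul_ne_zero hs h2) e2.symm

theorem hframe : ∀ M : Matrix (Fin 9) (Fin 9) K4, Acts pt M 1 →
    ∃ s : K4, s ≠ 0 ∧ M = s • (1 : Matrix (Fin 9) (Fin 9) K4) :=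
  fun M hM => scalar_of_frame pt frB frB' frame_inv frIdx frame_idx 16 frC frame_c frame_ten M hM

/-- an element of the centre -/
noncomputable def hZ : ↥(Cfsg.SU 9 K4 2) := (hA * (hA * (hA * (hB * hB)))) ^ 8

theorem hZ_mem : hZ ∈ H3 :=
  pow_mem (mul_mem hA_mem (mul_mem hA_mem (mul_mem hA_mem (mul_mem hB_mem hB_mem)))) 8

theorem wdZ_tab : ∀ e ∈ (List.replicate 8 wdZ).flatten, TabOk e.1 e.2 := by
  intro e he
  obtain ⟨L, hL, heL⟩ := List.mem_flatten.mp he
  rw [List.eq_of_mem_replicate hL] at heL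
  unfold wdZ at heL
  rcases List.mem_cons.mp heL with rfl | heL
  · exact tabX1
  rcases List.mem_cons.mp heL with rfl | heL
  · exact tabX1
  rcases List.mem_cons.mp heL with rfl | heL
  · exact tabX1
  rcases List.mem_cons.mp heL with rfl | heL
  · exact tabY1
  rcases List.mem_cons.mp heL with rfl | heL
  · exact tabY1
  exact absurd heL List.not_mem_nil

theorem dec_two : dec (2 : Fin 4).val = om := by decide

theorem wdZ_prod : (wdZ.map Prod.fst).prod = mX * (mX * (mX * (mY * mY))) := by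
  unfold wdZ
  simp only [List.map_cons, List.map_nil, List.prod_cons, List.prod_nil, mul_one]

theorem hZ_mat : matHom hZ = om • (1 : Matrix (Fin 9) (Fin 9) K4) := by
  have h := prod_eq_smul_one wdZ_tab 2 powZ
  rw [List.map_flatten, List.map_replicate, List.prod_flatten, List.map_replicate,
    List.prod_replicate, wdZ_prod, dec_two] at h
  unfold hZ
  rw [map_pow, map_mul, map_mul, map_mul, map_mul, hA_mat, hB_mat, h]

theorem j3_triple_cover : ∃ H : Subgroup (Cfsg.SU 9 K4 2),
    Nat.card (Subgroup.center H) = 3 ∧ Cfsg.IsJ3 (H ⧸ Subgroup.center H) := by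
  have := isSimpleGroup_G
  obtain ⟨hc, ⟨e⟩⟩ := triple_cover pt G matHom matHom_injective H3 hperf hHG hGH hne hframe hZ hZ_mem hZ_mat
  refine ⟨H3, hc, ?_, ?_⟩
  · exact e.isSimpleGroup
  · rw [Nat.card_congr e.toEquiv]
    exact card_G

end Cfsg.Agent.Lib.Helper10.J3M
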