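import Cfsg.Agent.Lib.Helper10.SWExtra
import Cfsg.Agent.Lib.Helper10.J3ChkPre
import Cfsg.Agent.Lib.Helper10.J3ChkX
import Cfsg.Agent.Lib.Helper10.J3ChkY
import Cfsg.Agent.Lib.Helper10.J3ChkLow
import Cfsg.Agent.Lib.Helper10.J3ChkGraph
import Cfsg.Agent.Lib.Helper10.J3ChkWL
import Cfsg.Agent.Lib.Helper10.J3ChkCertA
import Cfsg.Agent.Lib.Helper10.J3ChkCertB
import Cfsg.Agent.Lib.Helper10.J3ChkMisc
import Cfsg.Prelude.Def_Sporadic

set_option autoImplicit false

/-!
The Janko group J3 as a permutation group on 6156 points: order, transitivity, point stabiliser,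
simplicity.
-/

namespace Cfsg.Agent.Lib.Helper10.J3

open Cfsg.Agent.Lib.Helper10.SW Cfsg.Agent.Lib.Helper10.SWSimple MulAction

attribute [local irreducible] perm

/-! ### validity and the group -/

theorem pre2 : levelPre 6156 lv2 [lv3, lv4] = true := levelPre_of_levelOk ok2

theorem pre3 : levelPre 6156 lv3 [lv4] = true := levelPre_of_levelOk ok3

theorem pre4 : levelPre 6156 lv4 [] = true := levelPre_of_levelOk ok4

theorem valid4 : ∀ c ∈ allGens [lv4], Valid 6156 c :=
  valid_cons_of_pre pre4 (fun _ hc => absurd hc List.not_mem_nil)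

theorem valid3 : ∀ c ∈ allGens [lv3, lv4], Valid 6156 c := valid_cons_of_pre pre3 valid4

theorem valid2 : ∀ c ∈ allGens [lv2, lv3, lv4], Valid 6156 c := valid_cons_of_pre pre2 valid3

theorem valid1 : ∀ c ∈ allGens [lv1, lv2, lv3, lv4], Valid 6156 c :=
  valid_cons_of_pre pre1 valid2

/-- the group -/
noncomputable def G : Subgroup (Equiv.Perm (Fin 6156)) := grp 6156 (allGens [lv1, lv2, lv3, lv4])

/-- the point stabiliser -/
noncomputable def K : Subgroup (Equiv.Perm (Fin 6156)) := grp 6156 (allGens [lv2, lv3, lv4])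

/-- the two-point stabiliser -/
noncomputable def Ky : Subgroup (Equiv.Perm (Fin 6156)) := grp 6156 (allGens [lv3, lv4])

theorem G_eq : G = grp 6156 [cX, cY] := levelPre_grp pre1 valid1

theorem K_eq : K = grp 6156 [cS2, cX17, cZ, cT] := levelPre_grp pre2 valid2

theorem Ky_eq : Ky = grp 6156 [cX17, cZ, cT] := levelPre_grp pre3 valid3

theorem mem_X : cX ∈ allGens [lv1, lv2, lv3, lv4] :=
  List.mem_append_left _ (show cX ∈ [cX, cY] from List.mem_cons_self)

theorem mem_Y : cY ∈ allGens [lv1, lv2, lv3, lv4] :=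
  List.mem_append_left _ (show cY ∈ [cX, cY] from List.mem_cons_of_mem _ List.mem_cons_self)

theorem valid_X : Valid 6156 cX := valid1 cX mem_X

theorem valid_Y : Valid 6156 cY := valid1 cY mem_Y

theorem mem_XY {c : ℕ} (hc : c ∈ [cX, cY]) : c = cX ∨ c = cY := by
  rcases List.mem_cons.mp hc with h | hc
  · exact Or.inl h
  rcases List.mem_cons.mp hc with h | hc
  · exact Or.inr h
  exact absurd hc List.not_mem_nil

/-! ### rigidity -/

theorem G_le_aut : G ≤ autGroup 6156 gr85 := by
  rw [G_eq]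
  apply grp_le_autGroup rows85
  · intro c hc
    rcases mem_XY hc with rfl | rfl
    · exact valid_X
    · exact valid_Y
  · intro c hc
    rcases mem_XY hc with rfl | rfl
    · exact autX
    · exact autY

theorem rigid : Rigid 6156 RB (autGroup 6156 gr85) :=
  rigid_of_rounds rows85 RB round1 round2 round3 distinct3

/-! ### the chain -/

theorem htop1 : ∀ c ∈ allGens [lv1, lv2, lv3, lv4], perm 6156 c ∈ autGroup 6156 gr85 :=
  fun _ hc => G_le_aut (perm_mem_grp hc)

theorem htop2 : ∀ c ∈ allGens [lv2, lv3, lv4], perm 6156 c ∈ autGroup 6156 gr85 :=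
  fun c hc => htop1 c (allGens_sub_cons lv1 _ c hc)

theorem htop3 : ∀ c ∈ allGens [lv3, lv4], perm 6156 c ∈ autGroup 6156 gr85 :=
  fun c hc => htop2 c (allGens_sub_cons lv2 _ c hc)

theorem ok1 : levelOk 6156 RB lv1 [lv2, lv3, lv4] = true := by
  unfold levelOk
  rw [Bool.and_eq_true]
  refine ⟨pre1, ?_⟩
  show ([cX, cY].all fun s => schAll 6156 RB lv1 [lv2, lv3, lv4] s) = true
  rw [List.all_cons, List.all_cons, List.all_nil, schX, schY]
  rfl

theorem chain4 : chainOk 6156 RB [lv4] = true := chainOk_cons (chainOk_nil _ _) ok4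

theorem chain3 : chainOk 6156 RB [lv3, lv4] = true := chainOk_cons chain4 ok3

theorem chain2 : chainOk 6156 RB [lv2, lv3, lv4] = true := chainOk_cons chain3 ok2

theorem chain1 : chainOk 6156 RB [lv1, lv2, lv3, lv4] = true := chainOk_cons chain2 ok1

theorem inv1 : ChainInv 6156 RB (autGroup 6156 gr85) [lv1, lv2, lv3, lv4] :=
  chain_sound 6156 RB _ rigid _ htop1 chain1

theorem inv2 : ChainInv 6156 RB (autGroup 6156 gr85) [lv2, lv3, lv4] :=
  chain_sound 6156 RB _ rigid _ htop2 chain2

theorem inv3 : ChainInv 6156 RB (autGroup 6156 gr85) [lv3, lv4] :=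
  chain_sound 6156 RB _ rigid _ htop3 chain3

theorem card_G : Nat.card ↥G = 50232960 := inv1.card

theorem card_K : Nat.card ↥K = 8160 := inv2.card

theorem card_Ky : Nat.card ↥Ky = 68 := inv3.card

/-! ### the base points and stabilisers -/

theorem hb1 : lv1.b < 6156 := (inv1.fixb lv1 _ rfl).1

theorem hb2 : lv2.b < 6156 := (inv2.fixb lv2 _ rfl).1

/-- the first base point -/
def v0 : Fin 6156 := ⟨lv1.b, hb1⟩

/-- the second base point -/
def y0 : Fin 6156 := ⟨lv2.b, hb2⟩

theorem v0_eq : v0 = 0 := Fin.ext rfl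

theorem v0_val : v0.val = 0 := rfl

theorem y0_val : y0.val = 88 := rfl

theorem stabG : G ⊓ stabilizer (Equiv.Perm (Fin 6156)) v0 = K := stab_eq inv1 hb1

theorem stabK : K ⊓ stabilizer (Equiv.Perm (Fin 6156)) y0 = Ky := stab_eq inv2 hb2

theorem K_le_G : K ≤ G := by rw [← stabG]; exact inf_le_left

theorem card_stab : Nat.card ↥(stabilizer ↥G v0) = 8160 := by
  rw [card_stabilizer_subtype, stabG]
  exact card_K

theorem card_stab2 : Nat.card ↥(stabilizer ↥G v0 ⊓ stabilizer ↥G y0) = 68 := by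
  rw [card_stabilizer₂_subtype, stabG, stabK]
  exact card_Ky

/-! ### transitivity -/

theorem exists_map (p : Fin 6156) : ∃ g ∈ G, g • v0 = p :=
  exists_map_of_path inv1 hb1 p (levelPre_full pre1 rfl p.val p.isLt)

theorem pretransitive_G : IsPretransitive ↥G (Fin 6156) :=
  isPretransitive_subtype G v0 exists_map

/-! ### maximality of the point stabiliser -/

theorem moves1 : MovesIn 6156 mv1 G := by
  rw [G_eq]
  exact levelPre_moves pre1

theorem moves2 : MovesIn 6156 mv2 K := by
  rw [K_eq]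
  exact levelPre_moves pre2

theorem moves3 : MovesIn 6156 mv3 Ky := by
  rw [Ky_eq]
  exact levelPre_moves pre3

theorem rootsA_ok : ∀ e ∈ rootsA, RootOk 6156 G mv2 v0 e := by
  have hdom : ∀ g ∈ G, (fun _ : ℕ => true) (g v0).val = true := fun _ _ => rfl
  intro e he
  unfold rootsA at he
  rcases List.mem_cons.mp he with rfl | he
  · exact rootChk_sound moves1 v0 hdom rootA1
  rcases List.mem_cons.mp he with rfl | he
  · exact rootChk_sound moves1 v0 hdom rootA2
  rcases List.mem_cons.mp he with rfl | he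
  · exact rootChk_sound moves1 v0 hdom rootA3
  rcases List.mem_cons.mp he with rfl | he
  · exact rootChk_sound moves1 v0 hdom rootA4
  rcases List.mem_cons.mp he with rfl | he
  · exact rootChk_sound moves1 v0 hdom rootA5
  rcases List.mem_cons.mp he with rfl | he
  · exact rootChk_sound moves1 v0 hdom rootA6
  rcases List.mem_cons.mp he with rfl | he
  · exact rootChk_sound moves1 v0 hdom rootA7
  exact absurd he List.not_mem_nil

theorem maxA : ∀ L : Subgroup (Equiv.Perm (Fin 6156)),
    G ⊓ stabilizer (Equiv.Perm (Fin 6156)) v0 ≤ L → L ≤ G →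
      L = G ⊓ stabilizer (Equiv.Perm (Fin 6156)) v0 ∨ L = G := by
  apply rel_max G v0 mv2 _ fA forestA rootsA rootsA_ok
  · exact coverChk_sound v0 (dom := fun _ => true) (fun _ _ => rfl) coverA
  · rw [stabG]
    exact moves2

theorem y0_ne_v0 : y0 ≠ v0 := by
  intro h
  have := congrArg Fin.val h
  rw [v0_val, y0_val] at this
  omega

theorem hmax : IsCoatom (stabilizer ↥G v0) := by
  apply isCoatom_stabilizer_subtype G v0 maxA
  obtain ⟨g, hg, hgy⟩ := exists_map y0
  refine ⟨g, hg, ?_⟩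
  rw [hgy]
  exact y0_ne_v0

/-! ### maximality of the two-point stabiliser -/

theorem domB : ∀ g ∈ K, (fun p => (pathOf tr2 fuel p).isSome) (g y0).val = true :=
  fun g hg => inv2.orbmem lv2 _ rfl hb2 g hg

theorem rootsB_ok : ∀ e ∈ rootsB, RootOk 6156 K mv3 y0 e := by
  intro e he
  unfold rootsB at he
  rcases List.mem_cons.mp he with rfl | he
  · exact rootChk_sound moves2 y0 domB rootB1
  rcases List.mem_cons.mp he with rfl | he
  · exact rootChk_sound moves2 y0 domB rootB2
  rcases List.mem_cons.mp he with rfl | he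
  · exact rootChk_sound moves2 y0 domB rootB3
  rcases List.mem_cons.mp he with rfl | he
  · exact rootChk_sound moves2 y0 domB rootB4
  rcases List.mem_cons.mp he with rfl | he
  · exact rootChk_sound moves2 y0 domB rootB5
  exact absurd he List.not_mem_nil

theorem maxB : ∀ L : Subgroup (Equiv.Perm (Fin 6156)),
    K ⊓ stabilizer (Equiv.Perm (Fin 6156)) y0 ≤ L → L ≤ K →
      L = K ⊓ stabilizer (Equiv.Perm (Fin 6156)) y0 ∨ L = K := by
  apply rel_max K y0 mv3 _ fB forestB rootsB rootsB_ok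
  · exact coverChk_sound y0 domB coverB
  · rw [stabK]
    exact moves3

theorem hKymax : ∀ L : Subgroup ↥G, stabilizer ↥G v0 ⊓ stabilizer ↥G y0 ≤ L →
    L ≤ stabilizer ↥G v0 → L = stabilizer ↥G v0 ⊓ stabilizer ↥G y0 ∨ L = stabilizer ↥G v0 :=
  rel_max_stabilizer_subtype G K v0 y0 stabG maxB

/-! ### the core of the two-point stabiliser -/

theorem exists_K_map (p : Fin 6156) (hp : (pathOf tr2 fuel p.val).isSome = true) :
    ∃ k ∈ stabilizer ↥G v0, k • y0 = p := by
  obtain ⟨g, hg, hgp⟩ := exists_map_of_path inv2 hb2 p hp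
  have hgK : g ∈ G ⊓ stabilizer (Equiv.Perm (Fin 6156)) v0 := by rw [stabG]; exact hg
  obtain ⟨hgG, hgs⟩ := Subgroup.mem_inf.mp hgK
  exact ⟨⟨g, hgG⟩, (mem_stabilizer_subtype v0 _).mpr hgs, hgp⟩

theorem hcore : ∀ k ∈ stabilizer ↥G v0,
    (∀ k' ∈ stabilizer ↥G v0, k • (k' • y0) = k' • y0) → k = 1 := by
  intro k hk hfix
  have hk0 : k.1 v0 = v0 := mem_stabilizer_iff.mp ((mem_stabilizer_subtype v0 k).mp hk)
  have hk1 : k.1 y0 = y0 := by
    have := hfix 1 (one_mem _)
    rw [one_smul] at this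
    exact this
  have hk2 : k.1 ⟨192, by norm_num⟩ = ⟨192, by norm_num⟩ := by
    obtain ⟨k', hk', h⟩ := exists_K_map ⟨192, by norm_num⟩ base3
    have := hfix k' hk'
    rw [h] at this
    exact this
  have hk3 : k.1 ⟨123, by norm_num⟩ = ⟨123, by norm_num⟩ := by
    obtain ⟨k', hk', h⟩ := exists_K_map ⟨123, by norm_num⟩ base4
    have := hfix k' hk'
    rw [h] at this
    exact this
  apply Subtype.ext
  apply rigid k.1 (G_le_aut k.2)
  intro x hx hxn
  unfold RB at hx
  rcases List.mem_cons.mp hx with rfl | hx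
  · exact hk0
  rcases List.mem_cons.mp hx with rfl | hx
  · exact hk1
  rcases List.mem_cons.mp hx with rfl | hx
  · exact hk2
  rcases List.mem_cons.mp hx with rfl | hx
  · exact hk3
  exact absurd hx List.not_mem_nil

/-! ### the generators as elements of the group -/

/-- the generator of order 19 -/
noncomputable def gX : ↥G := ⟨perm 6156 cX, perm_mem_grp mem_X⟩

/-- the generator of order 17 -/
noncomputable def gY : ↥G := ⟨perm 6156 cY, perm_mem_grp mem_Y⟩

theorem valid_aut_XY : ∀ c ∈ [cX, cY], Valid 6156 c ∧ perm 6156 c ∈ autGroup 6156 gr85 := by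
  intro c hc
  rcases mem_XY hc with rfl | rfl
  · exact ⟨valid_X, htop1 _ mem_X⟩
  · exact ⟨valid_Y, htop1 _ mem_Y⟩

theorem pow_X : perm 6156 cX ^ 19 = 1 := by
  rw [← prodL_replicate]
  apply prodL_eq_one_of_rigid rigid _ ordX
  intro c hc
  rw [List.eq_of_mem_replicate hc]
  exact ⟨valid_X, htop1 _ mem_X⟩

theorem pow_Y : perm 6156 cY ^ 17 = 1 := by
  rw [← prodL_replicate]
  apply prodL_eq_one_of_rigid rigid _ ordY
  intro c hc
  rw [List.eq_of_mem_replicate hc]
  exact ⟨valid_Y, htop1 _ mem_Y⟩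

theorem pow_XY : (perm 6156 cX * perm 6156 cY) ^ 10 = 1 := by
  have h : prodL 6156 [cX, cY] = perm 6156 cX * perm 6156 cY := by
    rw [prodL_cons, prodL_cons, prodL_nil, mul_one]
  rw [← h, ← prodL_flatten_replicate]
  apply prodL_eq_one_of_rigid rigid _ ordXY
  intro c hc
  obtain ⟨L, hL, hcL⟩ := List.mem_flatten.mp hc
  rw [List.eq_of_mem_replicate hL] at hcL
  exact valid_aut_XY c hcL

theorem gX_val : (gX : Equiv.Perm (Fin 6156)) = perm 6156 cX := rfl

theorem gY_val : (gY : Equiv.Perm (Fin 6156)) = perm 6156 cY := rfl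

theorem gX_pow : gX ^ 19 = 1 :=
  Subtype.ext ((Subgroup.coe_pow G gX 19).trans (pow_X.trans (Subgroup.coe_one G).symm))

theorem gY_pow : gY ^ 17 = 1 :=
  Subtype.ext ((Subgroup.coe_pow G gY 17).trans (pow_Y.trans (Subgroup.coe_one G).symm))

theorem gXY_pow : (gX * gY) ^ 10 = 1 :=
  Subtype.ext ((Subgroup.coe_pow G (gX * gY) 10).trans (pow_XY.trans (Subgroup.coe_one G).symm))

theorem closure_gXY : Subgroup.closure ({gX, gY} : Set ↥G) = ⊤ := by
  have hG : G = Subgroup.closure {g : Equiv.Perm (Fin 6156) | ∃ c ∈ [cX, cY], g = perm 6156 c} :=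
    G_eq
  have key : ∀ g : Equiv.Perm (Fin 6156),
      g ∈ Subgroup.closure {g : Equiv.Perm (Fin 6156) | ∃ c ∈ [cX, cY], g = perm 6156 c} →
      ∀ hg : g ∈ G, (⟨g, hg⟩ : ↥G) ∈ Subgroup.closure ({gX, gY} : Set ↥G) := by
    intro g hg'
    induction hg' using Subgroup.closure_induction with
    | mem x hx =>
      intro hg
      obtain ⟨c, hc, rfl⟩ := hx
      apply Subgroup.subset_closure
      rcases mem_XY hc with rfl | rfl
      · exact Or.inl rfl
      · exact Or.inr rfl
    | one => intro hg; exact one_mem _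
    | mul x y hx hy ihx ihy =>
      intro hg
      have hxG : x ∈ G := by rw [hG]; exact hx
      have hyG : y ∈ G := by rw [hG]; exact hy
      exact mul_mem (ihx hxG) (ihy hyG)
    | inv x hx ihx =>
      intro hg
      have hxG : x ∈ G := by rw [hG]; exact hx
      exact inv_mem (ihx hxG)
  rw [eq_top_iff]
  rintro ⟨g, hg⟩ -
  exact key g (by rw [← hG]; exact hg) hg

theorem hperf : commutator ↥G = ⊤ :=
  perfect_of_two_gens gX gY closure_gXY 19 17 10 gX_pow gY_pow gXY_pow (by norm_num) (by norm_num)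

/-! ### no regular normal subgroup -/

theorem hw4 : ∀ i ∈ [1, 2, 0, 3], i < mv1.length := by
  intro i hi
  simp only [List.mem_cons, List.not_mem_nil, or_false] at hi
  have : mv1.length = 4 := rfl
  rw [this]
  omega

theorem regW_valid : ∀ c ∈ regW, Valid 6156 c := by
  intro c hc
  unfold regW at hc
  rcases List.mem_append.mp hc with hc | hc
  · rw [List.eq_of_mem_replicate hc]; exact valid_X
  rcases List.mem_append.mp hc with hc | hc
  · exact (codes_valid moves1 hw4 c hc).1
  rcases List.mem_append.mp hc with hc | hc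
  · rw [List.eq_of_mem_replicate hc]; exact valid_X
  · exact (icodes_valid moves1 hw4 c hc).1

/-- the conjugating element -/
noncomputable def gC : ↥G :=
  ⟨prodL 6156 (codes mv1 [1, 2, 0, 3]), prodL_mem fun c hc => (codes_valid moves1 hw4 c hc).2⟩

/-- a product of two conjugates of powers of the element of order 19 -/
noncomputable def gW : ↥G := gX ^ 17 * (gC * gX ^ 17 * gC⁻¹)

theorem gW_val : (gW : Equiv.Perm (Fin 6156)) = prodL 6156 regW := by
  have h1 : (gW : Equiv.Perm (Fin 6156)) = perm 6156 cX ^ 17 *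
      (prodL 6156 (codes mv1 [1, 2, 0, 3]) * perm 6156 cX ^ 17 *
        (prodL 6156 (codes mv1 [1, 2, 0, 3]))⁻¹) := rfl
  rw [h1]
  unfold regW
  rw [prodL_append, prodL_append, prodL_append, prodL_replicate, prodL_icodes moves1 hw4,
    mul_assoc]

theorem gW_fix : gW • v0 = v0 := by
  show (gW : Equiv.Perm (Fin 6156)) v0 = v0
  rw [gW_val]
  apply Fin.ext
  rw [prodL_apply_val _ regW_valid]
  exact regFix

theorem gW_ne : gW ≠ 1 := by
  intro h
  have h1 : (gW : Equiv.Perm (Fin 6156)) ⟨1, by norm_num⟩ = ⟨1, by norm_num⟩ :=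
    congrArg (fun u : ↥G => (u : Equiv.Perm (Fin 6156)) ⟨1, by norm_num⟩) h
  rw [gW_val] at h1
  have h2 := congrArg Fin.val h1
  rw [prodL_apply_val _ regW_valid] at h2
  exact regMove h2

theorem gW_mem : gW ∈ Subgroup.normalClosure ({gX} : Set ↥G) := by
  have hx : gX ∈ Subgroup.normalClosure ({gX} : Set ↥G) :=
    Subgroup.subset_normalClosure (Set.mem_singleton gX)
  exact mul_mem (pow_mem hx 17) (Subgroup.normalClosure_normal.conj_mem _ (pow_mem hx 17) gC)

theorem hnoreg : ∀ N : Subgroup ↥G, N.Normal → (∀ x : Fin 6156, ∃ n ∈ N, n • v0 = x) →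
    (∀ n ∈ N, n • v0 = v0 → n = 1) → False := by
  intro N hN htr hreg
  have hcop : Nat.Coprime 19 (Nat.card ↥(stabilizer ↥G v0)) := by
    rw [card_stab]
    norm_num
  exact no_regular_normal v0 gX 19 gX_pow hcop gW gW_mem gW_fix gW_ne N htr hreg

/-! ### the result -/

theorem hsolv : Group.IsSolvable ↥(stabilizer ↥G v0 ⊓ stabilizer ↥G y0) :=
  isSolvable_of_card_68 card_stab2

theorem isSimpleGroup_G : IsSimpleGroup ↥G := by
  have := pretransitive_G
  exact isSimpleGroup_of_certificates (H := ↥G) (V := Fin 6156) v0 y0 y0_ne_v0 hmax hKymax hcore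
    hnoreg hsolv hperf

theorem isJ3_G : Cfsg.IsJ3 ↥G := ⟨isSimpleGroup_G, card_G⟩

theorem j3_realization : ∃ H : Subgroup (Equiv.Perm (Fin 6156)), Cfsg.IsJ3 H ∧
    MulAction.IsPretransitive H (Fin 6156) ∧
    Nat.card (MulAction.stabilizer H (0 : Fin 6156)) = 8160 := by
  refine ⟨G, isJ3_G, pretransitive_G, ?_⟩
  rw [← v0_eq]
  exact card_stab

end Cfsg.Agent.Lib.Helper10.J3
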