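import Cfsg.Agent.Lib.Helper10.J3WData

set_option autoImplicit false

/-!
Tools for the automorphisms of the Janko group J3 on 20520 points: codes of the images of the rigidity
points, conjugates of the involution by words, the relations of a generating pair, counting the
points moved by a packed permutation.
-/

namespace Cfsg.Agent.Lib.Helper10.J3O

open Cfsg.Agent.Lib.Helper10.SX Cfsg.Agent.Lib.Helper10.J3M Cfsg.Agent.Lib.Helper10.J3W

attribute [local irreducible] perm

noncomputable section

/-! ### codes of elements -/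

theorem gw_smul_val (w : List ℕ) (p : Fin 20520) :
    (gw w • p).val = evalL 20520 (codesW w) p.val := pw_apply_val w p

/-- the code of the images of the three rigidity points under a word -/
def codeW (w : List ℕ) : ℕ :=
  evalL 20520 (codesW w) 0 * 1073741824 + evalL 20520 (codesW w) 10155 * 32768 +
    evalL 20520 (codesW w) 3

/-- the code of the images of the three rigidity points under an element -/
def hcode (g : ↥G) : ℕ :=
  (g • (⟨0, by norm_num⟩ : Fin 20520)).val * 1073741824 +
    (g • (⟨10155, by norm_num⟩ : Fin 20520)).val * 32768 +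
    (g • (⟨3, by norm_num⟩ : Fin 20520)).val

theorem codeW_eq (w : List ℕ) : codeW w = hcode (gw w) := by
  unfold codeW hcode
  rw [gw_smul_val, gw_smul_val, gw_smul_val]

theorem hcode_injective : Function.Injective hcode := by
  intro g g' h
  unfold hcode at h
  have b0 := (g • (⟨0, by norm_num⟩ : Fin 20520)).isLt
  have b1 := (g • (⟨10155, by norm_num⟩ : Fin 20520)).isLt
  have b2 := (g • (⟨3, by norm_num⟩ : Fin 20520)).isLt
  have c0 := (g' • (⟨0, by norm_num⟩ : Fin 20520)).isLt
  have c1 := (g' • (⟨10155, by norm_num⟩ : Fin 20520)).isLt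
  have c2 := (g' • (⟨3, by norm_num⟩ : Fin 20520)).isLt
  have e0 : (g • (⟨0, by norm_num⟩ : Fin 20520)).val = (g' • (⟨0, by norm_num⟩ : Fin 20520)).val := by
    omega
  have e1 : (g • (⟨10155, by norm_num⟩ : Fin 20520)).val =
      (g' • (⟨10155, by norm_num⟩ : Fin 20520)).val := by omega
  have e2 : (g • (⟨3, by norm_num⟩ : Fin 20520)).val = (g' • (⟨3, by norm_num⟩ : Fin 20520)).val := by
    omega
  have h1 : g'⁻¹ * g = 1 := by
    apply Subtype.ext
    apply rigid _ (G_le_aut (g'⁻¹ * g).2)
    intro x hx hxn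
    have hx' : x = 0 ∨ x = 10155 ∨ x = 3 := by
      simpa [RB] using hx
    have key : ∀ p : Fin 20520, (g • p).val = (g' • p).val → (g'⁻¹ * g) • p = p := by
      intro p hp
      rw [mul_smul, inv_smul_eq_iff]
      exact Fin.ext hp
    rcases hx' with rfl | rfl | rfl
    · exact key _ e0
    · exact key _ e1
    · exact key _ e2
  rw [inv_mul_eq_one] at h1
  exact h1.symm

/-! ### conjugates of the involution -/

/-- the word of the conjugate of the involution by a word -/
def conjW (w : List ℕ) : List ℕ := w ++ (tw ++ winv w)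

theorem gw_conjW (w : List ℕ) : gw (conjW w) = gw w * (gw tw * (gw w)⁻¹) := by
  rw [conjW, gw_append, gw_append, gw_winv]

/-- the code of the conjugate of the involution by a word -/
def codeInv (w : List ℕ) : ℕ := codeW (conjW w)

theorem codeInv_eq (w : List ℕ) : codeInv w = hcode (gw (conjW w)) := codeW_eq _

/-! ### powers of words and the relations -/

/-- the power of a word -/
def rpt : ℕ → List ℕ → List ℕ
  | 0, _ => []
  | m + 1, l => l ++ rpt m l

theorem gw_rpt (m : ℕ) (l : List ℕ) : gw (rpt m l) = gw l ^ m := by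
  induction m with
  | zero => rfl
  | succ m ih => rw [rpt, gw_append, ih, pow_succ']

def rel1 (A Y : List ℕ) : List ℕ := rpt 5 (A ++ Y)

def rel2 (A Y : List ℕ) : List ℕ := rpt 9 (A ++ rpt 2 Y)

def rel3 (A Y : List ℕ) : List ℕ := rpt 10 (A ++ rpt 3 Y)

def rel4 (A Y : List ℕ) : List ℕ := rpt 8 (A ++ (Y ++ (A ++ (rpt 2 Y ++ (A ++ rpt 5 Y)))))

/-- some relation fails for the pair of words -/
def relFailAY (A Y : List ℕ) : Bool :=
  !(sigEq (rel1 A Y) []) || !(sigEq (rel2 A Y) []) || !(sigEq (rel3 A Y) []) ||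
    !(sigEq (rel4 A Y) [])

/-- some relation fails for the conjugate of the involution by the word `w` and the power `k` of
the generator of order 17 -/
def relFail (k : ℕ) (w : List ℕ) : Bool := relFailAY (conjW w) (rpt k [2])

/-- the relations of the generating pair -/
def Rel (a y : ↥G) : Prop :=
  (a * y) ^ 5 = 1 ∧ (a * y ^ 2) ^ 9 = 1 ∧ (a * y ^ 3) ^ 10 = 1 ∧
    (a * (y * (a * (y ^ 2 * (a * y ^ 5))))) ^ 8 = 1

theorem rel_of_not_fail {A Y : List ℕ} (h : relFailAY A Y = false) : Rel (gw A) (gw Y) := by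
  unfold relFailAY at h
  simp only [Bool.or_eq_false_iff, Bool.not_eq_false'] at h
  obtain ⟨⟨⟨h1, h2⟩, h3⟩, h4⟩ := h
  rw [sigEq_iff] at h1 h2 h3 h4
  refine ⟨?_, ?_, ?_, ?_⟩
  · rw [rel1, gw_rpt, gw_append] at h1
    exact h1
  · rw [rel2, gw_rpt, gw_append, gw_rpt] at h2
    exact h2
  · rw [rel3, gw_rpt, gw_append, gw_rpt] at h3
    exact h3
  · rw [rel4, gw_rpt, gw_append, gw_append, gw_append, gw_append, gw_append, gw_rpt, gw_rpt] at h4
    exact h4

theorem not_rel_of_fail {A Y : List ℕ} (h : relFailAY A Y = true) : ¬ Rel (gw A) (gw Y) := by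
  rintro ⟨r1, r2, r3, r4⟩
  unfold relFailAY at h
  simp only [Bool.or_eq_true, Bool.not_eq_true'] at h
  have e1 : sigEq (rel1 A Y) [] = true := by
    rw [sigEq_iff, rel1, gw_rpt, gw_append]
    exact r1
  have e2 : sigEq (rel2 A Y) [] = true := by
    rw [sigEq_iff, rel2, gw_rpt, gw_append, gw_rpt]
    exact r2
  have e3 : sigEq (rel3 A Y) [] = true := by
    rw [sigEq_iff, rel3, gw_rpt, gw_append, gw_rpt]
    exact r3
  have e4 : sigEq (rel4 A Y) [] = true := by
    rw [sigEq_iff, rel4, gw_rpt, gw_append, gw_append, gw_append, gw_append, gw_append, gw_rpt,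
      gw_rpt]
    exact r4
  rw [e1, e2, e3, e4] at h
  simp at h

/-- the relations are preserved by homomorphisms -/
theorem Rel.map {a y : ↥G} (h : Rel a y) (f : ↥G →* ↥G) : Rel (f a) (f y) := by
  obtain ⟨r1, r2, r3, r4⟩ := h
  refine ⟨?_, ?_, ?_, ?_⟩
  · rw [← map_mul, ← map_pow, r1, map_one]
  · rw [← map_pow, ← map_mul, ← map_pow, r2, map_one]
  · rw [← map_pow, ← map_mul, ← map_pow, r3, map_one]
  · rw [← map_pow f y 5, ← map_pow f y 2, ← map_mul, ← map_mul, ← map_mul, ← map_mul, ← map_mul,
      ← map_pow, r4, map_one]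

/-! ### counting -/

/-- the number of the numbers below `n` with a property -/
def cntLt : ℕ → (ℕ → Bool) → ℕ
  | 0, _ => 0
  | n + 1, f => (if f n then 1 else 0) + cntLt n f

theorem cntLt_eq (n : ℕ) (f : ℕ → Bool) :
    cntLt n f = ∑ i ∈ Finset.range n, if f i = true then 1 else 0 := by
  induction n with
  | zero => rfl
  | succ n ih => rw [cntLt, Finset.sum_range_succ, ih, add_comm]

/-- the number of points moved by a packed permutation -/
theorem card_support_perm {n P : ℕ} (hP : Valid n P) :
    (perm n P).support.card = cntLt n fun x => !(Nat.beq (ap n P x) x) := by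
  rw [cntLt_eq, ← Fin.sum_univ_eq_sum_range (fun i => if (!(Nat.beq (ap n P i) i)) = true then 1 else 0),
    Finset.card_eq_sum_ones, ← Finset.sum_filter]
  congr 1
  ext i
  rw [Equiv.Perm.mem_support, Finset.mem_filter, Bool.not_eq_true', Ne, Fin.ext_iff,
    perm_apply_val hP]
  constructor
  · intro h
    refine ⟨Finset.mem_univ _, ?_⟩
    rw [← Bool.not_eq_true]
    intro hb
    exact h (Nat.eq_of_beq_eq_true hb)
  · rintro ⟨-, h⟩ he
    rw [he, Nat.beq_refl] at h
    exact absurd h (by decide)

end

end Cfsg.Agent.Lib.Helper10.J3O
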