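import Cfsg.Agent.Lib.Helper10.J3OData

set_option autoImplicit false

/-!
The codes of the conjugates of the involution by the conjugating words.
-/

namespace Cfsg.Agent.Lib.Helper10.J3O

open Cfsg.Agent.Lib.Helper10.SX Cfsg.Agent.Lib.Helper10.J3M Cfsg.Agent.Lib.Helper10.J3W

noncomputable section

/-- equality of lists of numbers -/
def eqL : List ℕ → List ℕ → Bool
  | [], [] => true
  | a :: l, b :: l' => Nat.beq a b && eqL l l'
  | _, _ => false

theorem eq_of_eqL : ∀ {l l' : List ℕ}, eqL l l' = true → l = l'
  | [], [], _ => rfl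
  | a :: l, b :: l', h => by
    rw [eqL, Bool.and_eq_true] at h
    rw [Nat.eq_of_beq_eq_true h.1, eq_of_eqL h.2]
  | [], _ :: _, h => by simp [eqL] at h
  | _ :: _, [], h => by simp [eqL] at h

theorem cd0 : eqL (LW0.map codeInv) CD0 = true := by
  decide +kernel

theorem cd1 : eqL (LW1.map codeInv) CD1 = true := by
  decide +kernel

theorem cd2 : eqL (LW2.map codeInv) CD2 = true := by
  decide +kernel

theorem cd3 : eqL (LW3.map codeInv) CD3 = true := by
  decide +kernel

theorem cd4 : eqL (LW4.map codeInv) CD4 = true := by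
  decide +kernel

theorem cd5 : eqL (LW5.map codeInv) CD5 = true := by
  decide +kernel

theorem cd6 : eqL (LW6.map codeInv) CD6 = true := by
  decide +kernel

theorem cd7 : eqL (LW7.map codeInv) CD7 = true := by
  decide +kernel

theorem cd8 : eqL (LW8.map codeInv) CD8 = true := by
  decide +kernel

theorem cd9 : eqL (LW9.map codeInv) CD9 = true := by
  decide +kernel

theorem cd10 : eqL (LW10.map codeInv) CD10 = true := by
  decide +kernel

theorem cd11 : eqL (LW11.map codeInv) CD11 = true := by
  decide +kernel

theorem cd12 : eqL (LW12.map codeInv) CD12 = true := by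
  decide +kernel

theorem cd13 : eqL (LW13.map codeInv) CD13 = true := by
  decide +kernel

theorem cd14 : eqL (LW14.map codeInv) CD14 = true := by
  decide +kernel

theorem cd15 : eqL (LW15.map codeInv) CD15 = true := by
  decide +kernel

theorem cd16 : eqL (LW16.map codeInv) CD16 = true := by
  decide +kernel

theorem cd17 : eqL (LW17.map codeInv) CD17 = true := by
  decide +kernel

theorem cd18 : eqL (LW18.map codeInv) CD18 = true := by
  decide +kernel

theorem cd19 : eqL (LW19.map codeInv) CD19 = true := by
  decide +kernel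

theorem cd20 : eqL (LW20.map codeInv) CD20 = true := by
  decide +kernel

theorem cd21 : eqL (LW21.map codeInv) CD21 = true := by
  decide +kernel

theorem cd22 : eqL (LW22.map codeInv) CD22 = true := by
  decide +kernel

theorem cd23 : eqL (LW23.map codeInv) CD23 = true := by
  decide +kernel

theorem cd24 : eqL (LW24.map codeInv) CD24 = true := by
  decide +kernel

theorem cd25 : eqL (LW25.map codeInv) CD25 = true := by
  decide +kernel

theorem cd26 : eqL (LW26.map codeInv) CD26 = true := by
  decide +kernel

theorem codes_eq : ∀ p ∈ List.zip LWs CDs, p.1.map codeInv = p.2 := by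
  intro p hp
  simp only [LWs, CDs, List.zip_cons_cons, List.zip_nil_right, List.mem_cons, List.not_mem_nil, or_false] at hp
  rcases hp with rfl | rfl | rfl | rfl | rfl | rfl | rfl | rfl | rfl | rfl | rfl | rfl | rfl | rfl | rfl | rfl | rfl | rfl | rfl | rfl | rfl | rfl | rfl | rfl | rfl | rfl | rfl
  · exact eq_of_eqL cd0
  · exact eq_of_eqL cd1
  · exact eq_of_eqL cd2
  · exact eq_of_eqL cd3
  · exact eq_of_eqL cd4
  · exact eq_of_eqL cd5
  · exact eq_of_eqL cd6
  · exact eq_of_eqL cd7
  · exact eq_of_eqL cd8
  · exact eq_of_eqL cd9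
  · exact eq_of_eqL cd10
  · exact eq_of_eqL cd11
  · exact eq_of_eqL cd12
  · exact eq_of_eqL cd13
  · exact eq_of_eqL cd14
  · exact eq_of_eqL cd15
  · exact eq_of_eqL cd16
  · exact eq_of_eqL cd17
  · exact eq_of_eqL cd18
  · exact eq_of_eqL cd19
  · exact eq_of_eqL cd20
  · exact eq_of_eqL cd21
  · exact eq_of_eqL cd22
  · exact eq_of_eqL cd23
  · exact eq_of_eqL cd24
  · exact eq_of_eqL cd25
  · exact eq_of_eqL cd26

end

end Cfsg.Agent.Lib.Helper10.J3O
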