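import Cfsg.Agent.Lib.Helper10.J3OExc
import Cfsg.Agent.Lib.Helper10.J3OChkB1

set_option autoImplicit false

/-!
For the generator of order 17 itself, the relations fail for all the involutions but 34: part 2.
-/

namespace Cfsg.Agent.Lib.Helper10.J3O

open Cfsg.Agent.Lib.Helper10.SX Cfsg.Agent.Lib.Helper10.J3M Cfsg.Agent.Lib.Helper10.J3W

noncomputable section

theorem ra5 : (LW5.all fun w => relFail 1 w || EXC.contains (codeInv w)) = true := by
  decide +kernel

theorem ra6 : (LW6.all fun w => relFail 1 w || EXC.contains (codeInv w)) = true := by
  decide +kernel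

theorem ra7 : (LW7.all fun w => relFail 1 w || EXC.contains (codeInv w)) = true := by
  decide +kernel

theorem ra8 : (LW8.all fun w => relFail 1 w || EXC.contains (codeInv w)) = true := by
  decide +kernel

theorem ra9 : (LW9.all fun w => relFail 1 w || EXC.contains (codeInv w)) = true := by
  decide +kernel

end

end Cfsg.Agent.Lib.Helper10.J3O
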