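import Cfsg.Agent.Lib.Helper10.J3OExc
import Cfsg.Agent.Lib.Helper10.J3OChkB3

set_option autoImplicit false

/-!
For the generator of order 17 itself, the relations fail for all the involutions but 34: part 4.
-/

namespace Cfsg.Agent.Lib.Helper10.J3O

open Cfsg.Agent.Lib.Helper10.SX Cfsg.Agent.Lib.Helper10.J3M Cfsg.Agent.Lib.Helper10.J3W

noncomputable section

theorem ra15 : (LW15.all fun w => relFail 1 w || EXC.contains (codeInv w)) = true := by
  decide +kernel

theorem ra16 : (LW16.all fun w => relFail 1 w || EXC.contains (codeInv w)) = true := by
  decide +kernel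

theorem ra17 : (LW17.all fun w => relFail 1 w || EXC.contains (codeInv w)) = true := by
  decide +kernel

theorem ra18 : (LW18.all fun w => relFail 1 w || EXC.contains (codeInv w)) = true := by
  decide +kernel

end

end Cfsg.Agent.Lib.Helper10.J3O
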