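import Cfsg.Agent.Lib.Helper10.J3OChkA
import Cfsg.Agent.Lib.Helper10.J3OChkB1
import Cfsg.Agent.Lib.Helper10.J3OChkB2
import Cfsg.Agent.Lib.Helper10.J3OChkB3
import Cfsg.Agent.Lib.Helper10.J3OChkB4
import Cfsg.Agent.Lib.Helper10.J3OChkB5
import Cfsg.Agent.Lib.Helper10.J3OChkB6

set_option autoImplicit false

/-!
For the generator of order 17 itself, the relations fail for all the involutions but 34.
-/

namespace Cfsg.Agent.Lib.Helper10.J3O

open Cfsg.Agent.Lib.Helper10.SX Cfsg.Agent.Lib.Helper10.J3M Cfsg.Agent.Lib.Helper10.J3W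

noncomputable section

theorem rel_one : ∀ l ∈ LWs, ∀ w ∈ l, relFail 1 w = true ∨ codeInv w ∈ EXC := by
  intro l hl w hw
  have key : (l.all fun w => relFail 1 w || EXC.contains (codeInv w)) = true := by
    simp only [LWs, List.mem_cons, List.not_mem_nil, or_false] at hl
    rcases hl with rfl | rfl | rfl | rfl | rfl | rfl | rfl | rfl | rfl | rfl | rfl | rfl | rfl | rfl | rfl | rfl | rfl | rfl | rfl | rfl | rfl | rfl | rfl | rfl | rfl | rfl | rfl
    · exact ra0
    · exact ra1
    · exact ra2
    · exact ra3
    · exact ra4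
    · exact ra5
    · exact ra6
    · exact ra7
    · exact ra8
    · exact ra9
    · exact ra10
    · exact ra11
    · exact ra12
    · exact ra13
    · exact ra14
    · exact ra15
    · exact ra16
    · exact ra17
    · exact ra18
    · exact ra19
    · exact ra20
    · exact ra21
    · exact ra22
    · exact ra23
    · exact ra24
    · exact ra25
    · exact ra26
  rw [List.all_eq_true] at key
  have := key w hw
  rw [Bool.or_eq_true] at this
  rcases this with h | h
  · exact Or.inl h
  · exact Or.inr (List.contains_iff_mem.mp h)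

end

end Cfsg.Agent.Lib.Helper10.J3O
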