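import Cfsg.Agent.Lib.Helper10.J3OData

set_option autoImplicit false

/-!
For the cube of the generator of order 17, the relations fail for all the involutions: part 1.
-/

namespace Cfsg.Agent.Lib.Helper10.J3O

open Cfsg.Agent.Lib.Helper10.SX Cfsg.Agent.Lib.Helper10.J3M Cfsg.Agent.Lib.Helper10.J3W

noncomputable section

theorem rb0 : (LW0.all fun w => relFail 3 w) = true := by
  decide +kernel

theorem rb1 : (LW1.all fun w => relFail 3 w) = true := by
  decide +kernel

theorem rb2 : (LW2.all fun w => relFail 3 w) = true := by
  decide +kernel

theorem rb3 : (LW3.all fun w => relFail 3 w) = true := by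
  decide +kernel

theorem rb4 : (LW4.all fun w => relFail 3 w) = true := by
  decide +kernel

end

end Cfsg.Agent.Lib.Helper10.J3O
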