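import Cfsg.Agent.Lib.Helper10.J3OData
import Cfsg.Agent.Lib.Helper10.J3OChkC1

set_option autoImplicit false

/-!
For the cube of the generator of order 17, the relations fail for all the involutions: part 2.
-/

namespace Cfsg.Agent.Lib.Helper10.J3O

open Cfsg.Agent.Lib.Helper10.SX Cfsg.Agent.Lib.Helper10.J3M Cfsg.Agent.Lib.Helper10.J3W

noncomputable section

theorem rb5 : (LW5.all fun w => relFail 3 w) = true := by
  decide +kernel

theorem rb6 : (LW6.all fun w => relFail 3 w) = true := by
  decide +kernel

theorem rb7 : (LW7.all fun w => relFail 3 w) = true := by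
  decide +kernel

theorem rb8 : (LW8.all fun w => relFail 3 w) = true := by
  decide +kernel

theorem rb9 : (LW9.all fun w => relFail 3 w) = true := by
  decide +kernel

end

end Cfsg.Agent.Lib.Helper10.J3O
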