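import Cfsg.Agent.Lib.Helper10.J3OChkC1
import Cfsg.Agent.Lib.Helper10.J3OChkC2
import Cfsg.Agent.Lib.Helper10.J3OChkC3
import Cfsg.Agent.Lib.Helper10.J3OChkC4
import Cfsg.Agent.Lib.Helper10.J3OChkC5
import Cfsg.Agent.Lib.Helper10.J3OChkC6

set_option autoImplicit false

/-!
For the cube of the generator of order 17, the relations fail for all the involutions.
-/

namespace Cfsg.Agent.Lib.Helper10.J3O

open Cfsg.Agent.Lib.Helper10.SX Cfsg.Agent.Lib.Helper10.J3M Cfsg.Agent.Lib.Helper10.J3W

noncomputable section

theorem rel_three : ∀ l ∈ LWs, ∀ w ∈ l, relFail 3 w = true := by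
  intro l hl w hw
  have key : (l.all fun w => relFail 3 w) = true := by
    simp only [LWs, List.mem_cons, List.not_mem_nil, or_false] at hl
    rcases hl with rfl | rfl | rfl | rfl | rfl | rfl | rfl | rfl | rfl | rfl | rfl | rfl | rfl | rfl | rfl | rfl | rfl | rfl | rfl | rfl | rfl | rfl | rfl | rfl | rfl | rfl | rfl
    · exact rb0
    · exact rb1
    · exact rb2
    · exact rb3
    · exact rb4
    · exact rb5
    · exact rb6
    · exact rb7
    · exact rb8
    · exact rb9
    · exact rb10
    · exact rb11
    · exact rb12
    · exact rb13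
    · exact rb14
    · exact rb15
    · exact rb16
    · exact rb17
    · exact rb18
    · exact rb19
    · exact rb20
    · exact rb21
    · exact rb22
    · exact rb23
    · exact rb24
    · exact rb25
    · exact rb26
  rw [List.all_eq_true] at key
  exact key w hw

end

end Cfsg.Agent.Lib.Helper10.J3O
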