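import Cfsg.Agent.Lib.Helper10.J3OChkB
import Cfsg.Agent.Lib.Helper10.J3OChkC

set_option autoImplicit false

/-!
Further checks for the automorphisms of the Janko group J3 on 20520 points: the codes of the
involutions increase; the 34 exceptions; an element normalising the subgroup of order 17; the
generator of order 19 as a word in the involution and the generator of order 17; the relations of this
pair; the odd involution normalising the group.
-/

namespace Cfsg.Agent.Lib.Helper10.J3O

open Cfsg.Agent.Lib.Helper10.SX Cfsg.Agent.Lib.Helper10.J3M Cfsg.Agent.Lib.Helper10.J3W

noncomputable section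

/-- strictly increasing, from above the bound -/
def incrFrom : ℕ → List ℕ → Bool
  | _, [] => true
  | lo, a :: l => Nat.blt lo a && incrFrom a l

/-- the parts increase, each from the last entry of the one before -/
def incrAll : ℕ → List (List ℕ) → Bool
  | _, [] => true
  | lo, l :: L => incrFrom lo l && incrAll (l.getLastD lo) L

theorem incr_codes : incrAll 0 CDs = true := by
  decide +kernel

theorem len_codes : (CDs.map List.length).sum = 26163 := by
  decide +kernel

/-- the conjugators of the 34 exceptions -/
def EXW : List (List ℕ) := (List.range 17).flatMap fun i => [rpt i [2], rpt i [2] ++ W2]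

theorem exc_codes : eqL (EXW.map codeInv) EXC = true := by
  decide +kernel

theorem normY : sigEq (nW ++ ([2] ++ winv nW)) [2, 2] = true := by
  decide +kernel

/-- the syllables of a word for the generator of order 19 in the involution and the generator of
order 17 -/
def XS : List (List ℕ) :=
  [rpt 5 [2], tw, rpt 12 [2], tw, rpt 8 [2], tw, rpt 10 [2], tw, rpt 3 [2], tw, rpt 10 [2], tw]

theorem wordX : sigEq [0] XS.flatten = true := by
  decide +kernel

theorem relT : relFailAY tw [2] = false := by
  decide +kernel

theorem neY : sigEq [2] [] = false := by
  decide +kernel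

/-! ### the odd involution -/

theorem invT : invB 20520 cT cT = true := by
  decide +kernel

theorem commTY : (allLt 20520 fun x =>
    Nat.beq (ap 20520 cT (ap 20520 cY x)) (ap 20520 cY (ap 20520 cT x))) = true := by
  decide +kernel

/-- the word of the conjugate of the involution by the odd involution -/
def A3 : List ℕ := conjW (rpt 15 [2] ++ W2)

theorem conjT : (allLt 20520 fun x =>
    Nat.beq (ap 20520 cT (evalL 20520 (codesW tw) x))
      (evalL 20520 (codesW A3) (ap 20520 cT x))) = true := by
  decide +kernel

/-- counting with an accumulator, which the kernel evaluates without deep recursion -/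
def cntAcc (f : ℕ → Bool) (n : ℕ) : ℕ → ℕ :=
  Nat.rec (motive := fun _ => ℕ → ℕ) (fun acc => acc)
    (fun k ih acc => forceNat (if f k then acc + 1 else acc) ih) n

theorem cntAcc_eq (f : ℕ → Bool) (n acc : ℕ) : cntAcc f n acc = acc + cntLt n f := by
  induction n generalizing acc with
  | zero => rfl
  | succ k ih =>
    show forceNat (if f k then acc + 1 else acc) (cntAcc f k) = _
    rw [forceNat_eq, ih, cntLt]
    split_ifs <;> omega

theorem movedT : cntAcc (fun x => !(Nat.beq (ap 20520 cT x) x)) 20520 0 = 20366 := by
  decide +kernel

/-- the generator of order 17 fixes one point only -/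
theorem fixY : (allLt 20520 fun x => !(Nat.beq (ap 20520 cY x) x) || Nat.beq x 18467) = true := by
  decide +kernel

end

end Cfsg.Agent.Lib.Helper10.J3O
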