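import Cfsg.Agent.Lib.Helper10.J3OData

set_option autoImplicit false

/-!
The codes of the 34 involutions for which the relations hold.
-/

namespace Cfsg.Agent.Lib.Helper10.J3O

open Cfsg.Agent.Lib.Helper10.SX Cfsg.Agent.Lib.Helper10.J3M Cfsg.Agent.Lib.Helper10.J3W

noncomputable section

/-- the codes of the 34 exceptions -/
def EXC : List ℕ := [516720427, 245096351754, 6453769682968, 18218570748024, 5564305164011, 17657055465367, 14880121932597, 8872463894738, 15566565214021, 1742181118137, 1711059615784, 13866646613142, 13794588004905, 5763047592966, 10719229230632, 11198240562154, 12955093997318, 10170767644323, 6413817944575, 487941490574, 20450856577279, 14356104331233, 4254466781999, 13411309235333, 1272554929512, 17585331049897, 11562706800177, 3431182804355, 1723444802644, 1086665334368, 2063971684707, 16423327403511, 8938136282751, 19108625225230]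

end

end Cfsg.Agent.Lib.Helper10.J3O
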