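import Cfsg.Agent.Lib.Helper10.J3WData

set_option autoImplicit false

/-!
Checks on the multiplication tables of the normal subgroup of order 32 and of the complement of order
60 of the centraliser of an involution of the Janko group J3: the first is extraspecial without
elementary abelian subgroups of order 8, the second acts faithfully on five points.
-/

namespace Cfsg.Agent.Lib.Helper10.J3W

open Cfsg.Agent.Lib.Helper10.SX

theorem cenQ : ∀ i < 32, (∀ j < 32, mtQ i j = mtQ j i) ↔ (i = 0 ∨ i = 1) := by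
  decide +kernel

theorem commQ : ∀ i < 32, ∀ j < 32, mtQ i j = mtQ j i ∨ mtQ i j = mtQ 1 (mtQ j i) := by
  decide +kernel

theorem sqQ : mtQ 12 12 = 1 := by
  decide +kernel

theorem sqT : mtQ 1 1 = 0 := by
  decide +kernel

/-- Boolean form of the absence of elementary abelian subgroups of order 8 -/
def e8B : Bool := allLt 32 fun a => allLt 32 fun b => allLt 32 fun c =>
  !(mtQ a a == 0) || !(mtQ b b == 0) || !(mtQ c c == 0) || !(mtQ a b == mtQ b a) ||
    !(mtQ a c == mtQ c a) || !(mtQ b c == mtQ c b) || a == 0 || b == 0 || b == a || c == 0 ||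
    c == a || c == b || c == mtQ a b

theorem e8B_true : e8B = true := by
  decide +kernel

theorem e8Q : ∀ a < 32, ∀ b < 32, ∀ c < 32, mtQ a a = 0 → mtQ b b = 0 → mtQ c c = 0 →
    mtQ a b = mtQ b a → mtQ a c = mtQ c a → mtQ b c = mtQ c b →
    (a = 0 ∨ b = 0 ∨ b = a ∨ c = 0 ∨ c = a ∨ c = b ∨ c = mtQ a b) := by
  intro a ha b hb c hc h1 h2 h3 h4 h5 h6
  have h := e8B_true
  unfold e8B at h
  rw [allLt_iff] at h
  have h := h a ha
  rw [allLt_iff] at h
  have h := h b hb
  rw [allLt_iff] at h
  have h := h c hc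
  rw [h1, h2, h3, ← h4, ← h5, ← h6] at h
  simp only [beq_self_eq_true, Bool.not_true, Bool.false_or, Bool.or_eq_true, beq_iff_eq] at h
  rw [h4] at h
  omega

theorem imgOK : ∀ i < 60, ∀ x < 5, imgH i x < 5 ∧ imgI i x < 5 ∧ imgI i (imgH i x) = x ∧
    imgH i (imgI i x) = x := by
  decide +kernel

theorem imgHom : ∀ i < 60, ∀ j < 60, ∀ x < 5, imgH (mtH i j) x = imgH i (imgH j x) := by
  decide +kernel

theorem imgInj : ∀ i < 60, ∀ j < 60, (∀ x < 5, imgH i x = imgH j x) → i = j := by
  decide +kernel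

end Cfsg.Agent.Lib.Helper10.J3W
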