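import Cfsg.Agent.Lib.Helper10.J3WChkB
import Cfsg.Agent.Lib.Helper10.J3WChkC
import Cfsg.Agent.Lib.Helper10.InvolGen

set_option autoImplicit false

/-!
The centraliser of an involution of the Janko group J3 on 20520 points: it has order 1920, a normal
subgroup of order 32 and a complement of order 60, and all its involutions are conjugate in J3 to
the central one.
-/

namespace Cfsg.Agent.Lib.Helper10.J3W

open Cfsg.Agent.Lib.Helper10.SX Cfsg.Agent.Lib.Helper10.J3M Cfsg.Agent.Lib.Helper10.EnumG
open MulAction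

attribute [local irreducible] perm

noncomputable section

theorem wgQ : WordGroup 32 Qs mtQ := ⟨by norm_num, rfl, tableQ, distinctQ⟩

theorem wgH : WordGroup 60 Hs mtH := ⟨by norm_num, rfl, tableH, distinctH⟩

/-- the involution -/
def t : ↥G := gw tw

/-- the normal subgroup of order 32 of its centraliser -/
def SQ : Subgroup ↥G := wgQ.subgroup

/-- the complement of order 60 -/
def SH : Subgroup ↥G := wgH.subgroup

theorem t_eq : t = gw (wd Qs 1) := (sigEq_iff _ _).mp tw_eq

theorem gw_Q0 : gw (wd Qs 0) = 1 := by rw [wgQ.one]; rfl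

theorem gw_H0 : gw (wd Hs 0) = 1 := by rw [wgH.one]; rfl

theorem t_sq : t * t = 1 := by
  rw [t_eq, wgQ.mul_eq (by norm_num) (by norm_num), sqT, gw_Q0]

theorem t_ne : t ≠ 1 := by
  rw [t_eq, ← gw_Q0]
  intro h
  exact absurd (wgQ.inj (by norm_num) (by norm_num) h) (by norm_num)

theorem orderOf_t : orderOf t = 2 :=
  orderOf_eq_prime (by rw [pow_two]; exact t_sq) t_ne

theorem comm_of_mem {w : List ℕ} (hw : w ∈ Qs ++ Hs) : gw w * t = t * gw w := by
  have h := centQH
  rw [List.all_eq_true] at h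
  have h1 := (sigEq_iff _ _).mp (h w hw)
  rwa [gw_append, gw_append] at h1

theorem wd_mem {Ws : List (List ℕ)} {i : ℕ} (hi : i < Ws.length) : wd Ws i ∈ Ws := by
  unfold wd
  rw [List.getD_eq_getElem _ _ hi]
  exact List.getElem_mem hi

theorem lenQs : Qs.length = 32 := rfl

theorem lenHs : Hs.length = 60 := rfl

theorem SQ_le : SQ ≤ Subgroup.centralizer ({t} : Set ↥G) := by
  rintro g ⟨i, hi, rfl⟩
  rw [Subgroup.mem_centralizer_singleton_iff]
  exact comm_of_mem (List.mem_append_left _ (wd_mem (by rw [lenQs]; exact hi)))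

theorem SH_le : SH ≤ Subgroup.centralizer ({t} : Set ↥G) := by
  rintro g ⟨i, hi, rfl⟩
  rw [Subgroup.mem_centralizer_singleton_iff]
  exact comm_of_mem (List.mem_append_right _ (wd_mem (by rw [lenHs]; exact hi)))

theorem disj : Disjoint SQ SH := by
  rw [Subgroup.disjoint_def]
  rintro g ⟨i, hi, rfl⟩ ⟨j, hj, e⟩
  have h := disjQH
  rw [allLt_iff] at h
  have h := h i hi
  rw [allLt_iff] at h
  have h := h j hj
  rw [Bool.or_eq_true] at h
  rcases h with h | h
  · have h0 : i = 0 := Nat.eq_of_beq_eq_true h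
    rw [h0]
    exact gw_Q0
  · rw [Bool.not_eq_true', sigEq_eq_false_iff] at h
    exact absurd e h

theorem norm_mem : ∀ h ∈ SH, ∀ q ∈ SQ, h * q * h⁻¹ ∈ SQ := by
  rintro _ ⟨j, hj, rfl⟩ _ ⟨i, hi, rfl⟩
  have h := normQ
  rw [allLt_iff] at h
  have h := h j hj
  rw [allLt_iff] at h
  have h := h i hi
  rw [Bool.and_eq_true] at h
  have h1 : nQ j i < 32 := by simpa [Nat.blt] using h.1
  have h2 := (sigEq_iff _ _).mp h.2
  rw [gw_append, gw_append, gw_winv] at h2
  rw [mul_assoc, h2]
  exact wgQ.gw_mem h1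

/-! ### the order of the centraliser -/

theorem gw_smul_val (w : List ℕ) (p : Fin 20520) :
    (gw w • p).val = evalL 20520 (codesW w) p.val := pw_apply_val w p

theorem t_fix : t • v0 = v0 := by
  apply Fin.ext
  rw [t, gw_smul_val, v0_val]
  exact fixT0

theorem fix_mem (p : Fin 20520) (hp : t • p = p) : p.val ∈ FIX := by
  have h := fixT
  rw [allLt_iff] at h
  have h := h p.val p.isLt
  rw [Bool.or_eq_true] at h
  rcases h with h | h
  · rw [Bool.not_eq_true'] at h
    have h1 : evalL 20520 (codesW tw) p.val = p.val := by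
      rw [← gw_smul_val]
      exact congrArg Fin.val hp
    rw [h1, Nat.beq_refl] at h
    exact absurd h (by decide)
  · exact List.contains_iff_mem.mp h

theorem orbit_le : (orbit ↥(Subgroup.centralizer ({t} : Set ↥G)) v0).ncard ≤ 120 := by
  have hsub : Fin.val '' (orbit ↥(Subgroup.centralizer ({t} : Set ↥G)) v0) ⊆ ↑FIX.toFinset := by
    rintro _ ⟨p, ⟨c, rfl⟩, rfl⟩
    rw [Finset.mem_coe, List.mem_toFinset]
    apply fix_mem
    have hc : c.val * t = t * c.val := Subgroup.mem_centralizer_singleton_iff.mp c.2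
    show t • (c.val • v0) = c.val • v0
    rw [← mul_smul, ← hc, mul_smul, t_fix]
  calc (orbit ↥(Subgroup.centralizer ({t} : Set ↥G)) v0).ncard
      = (Fin.val '' orbit ↥(Subgroup.centralizer ({t} : Set ↥G)) v0).ncard :=
        (Set.ncard_image_of_injective _ Fin.val_injective).symm
    _ ≤ (↑FIX.toFinset : Set ℕ).ncard := Set.ncard_le_ncard hsub (Finset.finite_toSet _)
    _ = FIX.toFinset.card := Set.ncard_coe_finset _
    _ ≤ FIX.length := List.toFinset_card_le _
    _ = 120 := lenFIX

/-- the involution as an element of the stabiliser of the point -/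
def ts : ↥(stabilizer ↥G v0) := ⟨t, t_fix⟩

theorem KS_fix {w : List ℕ} (hw : w ∈ KS) : gw w • v0 = v0 := by
  have h := fixKS
  rw [List.all_eq_true] at h
  apply Fin.ext
  rw [gw_smul_val, v0_val]
  exact Nat.eq_of_beq_eq_true (h w hw)

/-- the 153 elements of the stabiliser of the point -/
def ks (i : Fin 153) : ↥(stabilizer ↥G v0) :=
  ⟨gw (wd KS i.val), KS_fix (wd_mem (by rw [lenKS]; exact i.isLt))⟩

theorem wd_map (f : List ℕ → List ℕ) {i : ℕ} (hi : i < KS.length) :
    wd (KS.map f) i = f (wd KS i) := by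
  unfold wd
  rw [List.getD_eq_getElem _ _ (by rw [List.length_map]; exact hi), List.getD_eq_getElem _ _ hi,
    List.getElem_map]

theorem ks_conj_ne {i j : ℕ} (hi : i < 153) (hj : j < i) :
    gw (wd KS i) * (t * (gw (wd KS i))⁻¹) ≠ gw (wd KS j) * (t * (gw (wd KS j))⁻¹) := by
  have h := distinctKS
  unfold distinctB at h
  rw [allLt_iff] at h
  have h := h i hi
  rw [allLt_iff] at h
  have h := h j hj
  rw [Bool.not_eq_true', sigEq_eq_false_iff, wd_map _ (by rw [lenKS]; exact hi),
    wd_map _ (by rw [lenKS]; omega)] at h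
  rw [gw_append, gw_append, gw_winv, gw_append, gw_append, gw_winv] at h
  exact h

theorem ks_conj_inj {i j : Fin 153}
    (h : (ks i : ↥G) * (t * (ks i : ↥G)⁻¹) = (ks j : ↥G) * (t * (ks j : ↥G)⁻¹)) : i = j := by
  by_contra hne
  rcases Nat.lt_or_gt_of_ne (fun e => hne (Fin.ext e)) with hlt | hgt
  · exact ks_conj_ne j.isLt hlt h.symm
  · exact ks_conj_ne i.isLt hgt h

theorem index_ge : 153 ≤ (Subgroup.centralizer ({ts} : Set ↥(stabilizer ↥G v0))).index := by
  have hinj : Function.Injective fun i : Fin 153 =>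
      (QuotientGroup.mk (ks i) :
        ↥(stabilizer ↥G v0) ⧸ Subgroup.centralizer ({ts} : Set ↥(stabilizer ↥G v0))) := by
    intro i j hij
    rw [QuotientGroup.eq, Subgroup.mem_centralizer_singleton_iff] at hij
    apply ks_conj_inj
    have h1 : ((ks i)⁻¹ * ks j * ts : ↥(stabilizer ↥G v0)) = ts * ((ks i)⁻¹ * ks j) := hij
    have h2 := congrArg Subtype.val h1
    simp only [Subgroup.coe_mul, Subgroup.coe_inv] at h2
    have h3 : (ts : ↥G) = t := rfl
    rw [h3] at h2
    calc (ks i : ↥G) * (t * (ks i : ↥G)⁻¹)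
        = (ks i : ↥G) * (t * ((ks i : ↥G)⁻¹ * (ks j : ↥G))) * (ks j : ↥G)⁻¹ := by group
      _ = (ks i : ↥G) * ((ks i : ↥G)⁻¹ * (ks j : ↥G) * t) * (ks j : ↥G)⁻¹ := by rw [h2]
      _ = (ks j : ↥G) * (t * (ks j : ↥G)⁻¹) := by group
  have := Nat.card_le_card_of_injective _ hinj
  rw [Nat.card_eq_fintype_card, Fintype.card_fin] at this
  exact this

theorem card_cent_stab :
    Nat.card (Subgroup.centralizer ({ts} : Set ↥(stabilizer ↥G v0))) ≤ 16 := by
  have h1 := Subgroup.index_mul_card (Subgroup.centralizer ({ts} : Set ↥(stabilizer ↥G v0)))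
  rw [card_stab] at h1
  have h2 := index_ge
  have h3 : 153 * Nat.card (Subgroup.centralizer ({ts} : Set ↥(stabilizer ↥G v0))) ≤ 2448 := by
    rw [← h1]
    exact Nat.mul_le_mul_right _ h2
  omega

theorem card_stab_cent :
    Nat.card (stabilizer ↥(Subgroup.centralizer ({t} : Set ↥G)) v0) ≤ 16 := by
  let f : ↥(stabilizer ↥(Subgroup.centralizer ({t} : Set ↥G)) v0) →
      ↥(Subgroup.centralizer ({ts} : Set ↥(stabilizer ↥G v0))) := fun c =>
    ⟨⟨c.val.val, c.2⟩, by
      rw [Subgroup.mem_centralizer_singleton_iff]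
      apply Subtype.ext
      exact Subgroup.mem_centralizer_singleton_iff.mp c.val.2⟩
  have hf : Function.Injective f := by
    intro a b hab
    apply Subtype.ext
    apply Subtype.ext
    exact congrArg (fun x : ↥(Subgroup.centralizer ({ts} : Set ↥(stabilizer ↥G v0))) => x.val.val) hab
  exact (Nat.card_le_card_of_injective f hf).trans card_cent_stab

theorem card_C_le : Nat.card ↥(Subgroup.centralizer ({t} : Set ↥G)) ≤ 1920 := by
  have h1 := Subgroup.index_mul_card (stabilizer ↥(Subgroup.centralizer ({t} : Set ↥G)) v0)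
  rw [index_stabilizer] at h1
  rw [← h1]
  calc _ ≤ 120 * 16 := Nat.mul_le_mul orbit_le card_stab_cent
    _ = 1920 := by norm_num

/-- the product map of the two subgroups into the centraliser -/
def prodC (x : ↥SQ × ↥SH) : ↥(Subgroup.centralizer ({t} : Set ↥G)) :=
  ⟨x.1.val * x.2.val, Subgroup.mul_mem _ (SQ_le x.1.2) (SH_le x.2.2)⟩

theorem prodC_injective : Function.Injective prodC := by
  intro a b hab
  exact Subgroup.mul_injective_of_disjoint disj (congrArg Subtype.val hab)

theorem card_SQ : Nat.card ↥SQ = 32 := wgQ.card_subgroup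

theorem card_SH : Nat.card ↥SH = 60 := wgH.card_subgroup

theorem card_C : Nat.card ↥(Subgroup.centralizer ({t} : Set ↥G)) = 1920 := by
  apply le_antisymm card_C_le
  have := Nat.card_le_card_of_injective prodC prodC_injective
  rw [Nat.card_prod, card_SQ, card_SH] at this
  exact this

theorem prodC_surjective : Function.Surjective prodC := by
  have hb : Function.Bijective prodC :=
    prodC_injective.bijective_of_nat_card_le (by
      rw [Nat.card_prod, card_SQ, card_SH, card_C])
  exact hb.2

/-! ### the involutions of the centraliser -/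

theorem invol_conj : ∀ y ∈ Subgroup.centralizer ({t} : Set ↥G), orderOf y = 2 → IsConj t y := by
  intro y hy hy2
  obtain ⟨⟨⟨_, i, hi, rfl⟩, ⟨_, j, hj, rfl⟩⟩, hqh⟩ := prodC_surjective ⟨y, hy⟩
  have hy' : gw (wd Qs i ++ wd Hs j) = y := by
    rw [gw_append]
    exact congrArg Subtype.val hqh
  have h := involQH
  rw [allLt_iff] at h
  have h := h i hi
  rw [allLt_iff] at h
  have h := h j hj
  unfold involF at h
  rw [Bool.or_eq_true, Bool.or_eq_true] at h
  rcases h with h | h | h
  · exfalso
    rw [Bool.and_eq_true] at h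
    have hi0 : i = 0 := Nat.eq_of_beq_eq_true h.1
    have hj0 : j = 0 := Nat.eq_of_beq_eq_true h.2
    rw [hi0, hj0, gw_append, gw_Q0, gw_H0, mul_one] at hy'
    rw [← hy', orderOf_one] at hy2
    omega
  · exfalso
    rw [Bool.not_eq_true', sigEq_eq_false_iff, gw_append, hy'] at h
    apply h
    rw [← pow_two, ← hy2, pow_orderOf_eq_one]
    rfl
  · have h1 := (sigEq_iff _ _).mp h
    rw [hy', gw_append, gw_append, gw_winv] at h1
    exact isConj_iff.mpr ⟨gw (conjW i j), by rw [mul_assoc]; exact h1⟩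

theorem finite_G : Finite ↥G := Nat.finite_of_card_ne_zero (by rw [card_G]; norm_num)

/-- all involutions of the group are conjugate -/
theorem G_involutions_conj : ∀ x y : ↥G, orderOf x = 2 → orderOf y = 2 → IsConj x y := by
  have := finite_G
  exact isConj_involutions t 392445 7 (by decide) (by rw [card_G]; norm_num) (by rw [card_C]; norm_num)
    invol_conj

end

end Cfsg.Agent.Lib.Helper10.J3W
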