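import Cfsg.Agent.Lib.Helper10.J3OChkD
import Cfsg.Agent.Lib.Helper10.J3WMain
import Cfsg.Agent.Lib.Helper10.OutGen

set_option autoImplicit false

/-!
The Janko group J3 on 20520 points has exactly two classes of outer automorphisms.
-/

namespace Cfsg.Agent.Lib.Helper10.J3O

open Cfsg.Agent.Lib.Helper10.SX Cfsg.Agent.Lib.Helper10.J3M Cfsg.Agent.Lib.Helper10.J3W
  Cfsg.Agent.Lib.Helper10.OutG
open MulAction

attribute [local irreducible] perm

noncomputable section

/-! ### the generator of order 17 -/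

/-- the generator of order 17 as a word -/
def y : ↥G := gw [2]

theorem y_eq : y = gY := by
  apply Subtype.ext
  show pw [2] = perm 20520 cY
  rw [pw_cons, pw_nil, mul_one]
  rfl

theorem x_eq : gw [0] = gX := by
  apply Subtype.ext
  show pw [0] = perm 20520 cX
  rw [pw_cons, pw_nil, mul_one]
  rfl

theorem y_pow : y ^ 17 = 1 := by rw [y_eq]; exact gY_pow

theorem y_ne : y ≠ 1 := (sigEq_eq_false_iff [2] []).mp neY

instance fact17 : Fact (Nat.Prime 17) := ⟨by norm_num⟩

theorem orderOf_y : orderOf y = 17 := orderOf_eq_prime y_pow y_ne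

theorem gw_rpt_y (i : ℕ) : gw (rpt i [2]) = y ^ i := gw_rpt i [2]

/-- the element of order 8 normalising the subgroup of order 17 -/
def nn : ↥G := gw nW

theorem nn_conj : nn * y * nn⁻¹ = y ^ 2 := by
  have h := (sigEq_iff _ _).mp normY
  rw [gw_append, gw_append, gw_winv] at h
  show gw nW * gw [2] * (gw nW)⁻¹ = gw [2] ^ 2
  rw [mul_assoc, h, pow_two]
  exact gw_append [2] [2]

theorem nn_pow_conj (i m : ℕ) : nn ^ i * y ^ m * (nn ^ i)⁻¹ = y ^ (m * 2 ^ i) := by
  induction i with
  | zero => rw [pow_zero, one_mul, inv_one, mul_one, pow_zero, mul_one]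
  | succ i ih =>
    have e : nn ^ (i + 1) * y ^ m * (nn ^ (i + 1))⁻¹ =
        nn * (nn ^ i * y ^ m * (nn ^ i)⁻¹) * nn⁻¹ := by
      rw [pow_succ']
      group
    rw [e, ih, ← conj_pow, nn_conj, ← pow_mul, pow_succ]
    congr 1
    ring

theorem exists_conj_pow (y' : ↥G) (hy' : orderOf y' = 17) :
    ∃ g : ↥G, g * y' * g⁻¹ = y ∨ g * y' * g⁻¹ = y ^ 3 := by
  have := finite_G
  obtain ⟨g0, hg0⟩ := exists_conj_mem_zpowers 17 (by rw [card_G]; norm_num) y y' orderOf_y hy'
  have ho : orderOf (g0 * y' * g0⁻¹) = 17 := by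
    rw [← MulAut.conj_apply, MulEquiv.orderOf_eq]
    exact hy'
  rw [← mem_powers_iff_mem_zpowers, Submonoid.mem_powers_iff] at hg0
  obtain ⟨m, hm⟩ := hg0
  have hm' : y ^ (m % 17) = g0 * y' * g0⁻¹ := by
    rw [← hm, ← orderOf_y, pow_mod_orderOf]
  have hm0 : m % 17 ≠ 0 := by
    intro h0
    rw [h0, pow_zero] at hm'
    rw [← hm', orderOf_one] at ho
    omega
  have hdec : ∀ r < 17, r ≠ 0 → ∃ i < 8, (r * 2 ^ i) % 17 = 1 ∨ (r * 2 ^ i) % 17 = 3 := by
    decide
  obtain ⟨i, -, hi⟩ := hdec (m % 17) (Nat.mod_lt _ (by norm_num)) hm0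
  refine ⟨nn ^ i * g0, ?_⟩
  have e : nn ^ i * g0 * y' * (nn ^ i * g0)⁻¹ = nn ^ i * (g0 * y' * g0⁻¹) * (nn ^ i)⁻¹ := by
    group
  rw [e, ← hm', nn_pow_conj]
  have hp : y ^ (m % 17 * 2 ^ i) = y ^ ((m % 17 * 2 ^ i) % 17) := by
    rw [← orderOf_y, pow_mod_orderOf]
  rw [hp]
  rcases hi with hi | hi
  · left
    rw [hi, pow_one]
  · right
    rw [hi]

/-! ### the list of the involutions -/

/-- the conjugating words -/
def LW : List (List ℕ) := LWs.flatten

/-- the involutions -/
def invs : List ↥G := LW.map fun w => gw (conjW w)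

theorem map_eq_of_zip {α β : Type*} (f : α → β) :
    ∀ (A : List (List α)) (B : List (List β)), A.length = B.length →
      (∀ p ∈ List.zip A B, p.1.map f = p.2) → A.map (List.map f) = B
  | [], [], _, _ => rfl
  | a :: A, b :: B, hl, h => by
    rw [List.map_cons, h (a, b) (by rw [List.zip_cons_cons]; exact List.mem_cons_self),
      map_eq_of_zip f A B (by simpa using hl) (fun p hp => h p (by
        rw [List.zip_cons_cons]; exact List.mem_cons_of_mem _ hp))]
  | [], _ :: _, hl, _ => by simp at hl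
  | _ :: _, [], hl, _ => by simp at hl

theorem codes_flatten : LW.map codeInv = CDs.flatten := by
  unfold LW
  rw [List.map_flatten, map_eq_of_zip codeInv LWs CDs rfl codes_eq]

theorem incrFrom_lt : ∀ (l : List ℕ) (lo : ℕ), incrFrom lo l = true → ∀ b ∈ l, lo < b
  | [], _, _, b, hb => absurd hb List.not_mem_nil
  | c :: l, a, h, b, hb => by
    rw [incrFrom, Bool.and_eq_true] at h
    have hac : a < c := by simpa [Nat.blt] using h.1
    rcases List.mem_cons.mp hb with rfl | hb'
    · exact hac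
    · exact lt_trans hac (incrFrom_lt l c h.2 b hb')

theorem nodup_of_incrFrom : ∀ (l : List ℕ) (lo : ℕ), incrFrom lo l = true → l.Nodup
  | [], _, _ => List.nodup_nil
  | a :: l, lo, h => by
    rw [incrFrom, Bool.and_eq_true] at h
    rw [List.nodup_cons]
    exact ⟨fun ha => lt_irrefl a (incrFrom_lt l a h.2 a ha), nodup_of_incrFrom l a h.2⟩

theorem incrFrom_append : ∀ (l m : List ℕ) (lo : ℕ),
    incrFrom lo (l ++ m) = (incrFrom lo l && incrFrom (l.getLastD lo) m)
  | [], m, lo => by simp [incrFrom]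
  | a :: l, m, lo => by
    rw [List.cons_append, incrFrom, incrFrom, incrFrom_append l m a, List.getLastD_cons,
      Bool.and_assoc]

theorem incrFrom_flatten : ∀ (L : List (List ℕ)) (lo : ℕ), incrAll lo L = true →
    incrFrom lo L.flatten = true
  | [], _, _ => rfl
  | l :: L, lo, h => by
    rw [incrAll, Bool.and_eq_true] at h
    rw [List.flatten_cons, incrFrom_append, Bool.and_eq_true]
    exact ⟨h.1, incrFrom_flatten L _ h.2⟩

theorem invs_nodup : invs.Nodup := by
  apply List.Nodup.of_map hcode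
  have : invs.map hcode = LW.map codeInv := by
    unfold invs
    rw [List.map_map]
    apply List.map_congr_left
    intro w _
    exact (codeInv_eq w).symm
  rw [this, codes_flatten]
  exact nodup_of_incrFrom _ 0 (incrFrom_flatten CDs 0 incr_codes)

theorem invs_length : invs.length = 26163 := by
  unfold invs
  rw [List.length_map, ← List.length_map (f := codeInv), codes_flatten, List.length_flatten]
  exact len_codes

theorem mem_invs_of_involution (a : ↥G) (ha : orderOf a = 2) : a ∈ invs := by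
  have := finite_G
  have hconj : IsConj t a := G_involutions_conj t a orderOf_t ha
  have hsub : (↑invs.toFinset : Set ↥G) ⊆ {a | IsConj t a} := by
    intro x hx
    rw [Finset.mem_coe, List.mem_toFinset] at hx
    obtain ⟨w, -, rfl⟩ := List.mem_map.mp hx
    rw [Set.mem_ofPred_eq, gw_conjW, isConj_iff]
    exact ⟨gw w, by rw [mul_assoc]; rfl⟩
  have hcard : {a : ↥G | IsConj t a}.ncard = 26163 := by
    have h := ncard_isConj t
    rw [card_C, card_G] at h
    have h3 : (26163 : ℕ) * 1920 = 50232960 := by norm_num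
    exact Nat.eq_of_mul_eq_mul_right (by norm_num : 0 < 1920) (h.trans h3.symm)
  have heq : (↑invs.toFinset : Set ↥G) = {a | IsConj t a} := by
    refine Set.eq_of_subset_of_ncard_le hsub ?_ (Set.toFinite _)
    rw [hcard, Set.ncard_coe_finset, List.toFinset_card_of_nodup invs_nodup, invs_length]
  have hmem : a ∈ (↑invs.toFinset : Set ↥G) := by rw [heq]; exact hconj
  rwa [Finset.mem_coe, List.mem_toFinset] at hmem

/-! ### the images of the generating pair under automorphisms -/

/-- the image of the involution under an outer automorphism -/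
def a2 : ↥G := gw (conjW W2)

theorem mem_EXW {v : List ℕ} (hv : v ∈ EXW) : ∃ i : ℕ, v = rpt i [2] ∨ v = rpt i [2] ++ W2 := by
  obtain ⟨i, -, hi⟩ := List.mem_flatMap.mp hv
  refine ⟨i, ?_⟩
  rcases List.mem_cons.mp hi with h | h
  · exact Or.inl h
  · exact Or.inr (List.mem_singleton.mp h)

theorem gw_conjW_exc {v : List ℕ} (hv : v ∈ EXW) :
    ∃ i : ℕ, gw (conjW v) = y ^ i * t * (y ^ i)⁻¹ ∨ gw (conjW v) = y ^ i * a2 * (y ^ i)⁻¹ := by
  obtain ⟨i, rfl | rfl⟩ := mem_EXW hv
  · refine ⟨i, Or.inl ?_⟩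
    rw [gw_conjW, gw_rpt_y, mul_assoc]
    rfl
  · refine ⟨i, Or.inr ?_⟩
    rw [gw_conjW, gw_append, gw_rpt_y, a2, gw_conjW]
    group

theorem rel_ty : Rel t y := rel_of_not_fail relT

theorem aut_images (α : MulAut ↥G) :
    ∃ h : ↥G, (α t = h * t * h⁻¹ ∨ α t = h * a2 * h⁻¹) ∧ α y = h * y * h⁻¹ := by
  have hαy : orderOf (α y) = 17 := by
    rw [MulEquiv.orderOf_eq]
    exact orderOf_y
  obtain ⟨g, hg⟩ := exists_conj_pow (α y) hαy
  let β : ↥G →* ↥G := (MulAut.conj g).toMonoidHom.comp α.toMonoidHom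
  have hβt : β t = g * α t * g⁻¹ := rfl
  have hβy : β y = g * α y * g⁻¹ := rfl
  have hrel : Rel (β t) (β y) := rel_ty.map β
  have hinv : orderOf (β t) = 2 := by
    rw [hβt, ← MulAut.conj_apply, MulEquiv.orderOf_eq, MulEquiv.orderOf_eq]
    exact orderOf_t
  have hmem := mem_invs_of_involution (β t) hinv
  obtain ⟨w, hwm, hw⟩ := List.mem_map.mp hmem
  obtain ⟨l, hl, hwl⟩ := List.mem_flatten.mp hwm
  rcases hg with hg | hg
  · rcases rel_one l hl w hwl with hf | hex
    · exfalso
      apply not_rel_of_fail hf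
      rw [hw, gw_rpt_y, pow_one, ← hg, ← hβy]
      exact hrel
    · rw [← eq_of_eqL exc_codes, List.mem_map] at hex
      obtain ⟨v, hv, hvc⟩ := hex
      have hvw : gw (conjW v) = gw (conjW w) := by
        apply hcode_injective
        rw [← codeInv_eq, ← codeInv_eq]
        exact hvc
      obtain ⟨i, hi⟩ := gw_conjW_exc hv
      rw [hvw, hw, hβt] at hi
      refine ⟨g⁻¹ * y ^ i, ?_, ?_⟩
      · rcases hi with hi | hi
        · left
          have e : α t = g⁻¹ * (g * α t * g⁻¹) * g := by group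
          rw [e, hi]
          group
        · right
          have e : α t = g⁻¹ * (g * α t * g⁻¹) * g := by group
          rw [e, hi]
          group
      · have e : α y = g⁻¹ * (g * α y * g⁻¹) * g := by group
        rw [e, hg]
        have hc : y ^ i * y = y * y ^ i := pow_mul_comm' y i
        calc g⁻¹ * y * g = g⁻¹ * (y * y ^ i * (y ^ i)⁻¹) * g := by group
          _ = g⁻¹ * (y ^ i * y * (y ^ i)⁻¹) * g := by rw [hc]
          _ = g⁻¹ * y ^ i * y * (g⁻¹ * y ^ i)⁻¹ := by group
  · exfalso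
    apply not_rel_of_fail (rel_three l hl w hwl)
    rw [hw, gw_rpt_y, ← hg, ← hβy]
    exact hrel

/-! ### generation -/

theorem gen_ty : Subgroup.closure ({t, y} : Set ↥G) = ⊤ := by
  have hX : gX ∈ Subgroup.closure ({t, y} : Set ↥G) := by
    rw [← x_eq, (sigEq_iff _ _).mp wordX]
    have hprod : ∀ l : List (List ℕ), gw l.flatten = (l.map gw).prod := by
      intro l
      induction l with
      | nil => rfl
      | cons a l ih => rw [List.flatten_cons, gw_append, ih, List.map_cons, List.prod_cons]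
    rw [hprod]
    apply Subgroup.list_prod_mem
    intro x hx
    obtain ⟨s, hs, rfl⟩ := List.mem_map.mp hx
    have ht : t ∈ Subgroup.closure ({t, y} : Set ↥G) := Subgroup.subset_closure (by simp)
    have hy : ∀ i, gw (rpt i [2]) ∈ Subgroup.closure ({t, y} : Set ↥G) := by
      intro i
      rw [gw_rpt_y]
      exact Subgroup.pow_mem _ (Subgroup.subset_closure (by simp)) i
    simp only [XS, List.mem_cons, List.not_mem_nil, or_false] at hs
    rcases hs with rfl | rfl | rfl | rfl | rfl | rfl | rfl | rfl | rfl | rfl | rfl | rfl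
    all_goals first | exact ht | exact hy _
  rw [eq_top_iff, ← closure_gXY, Subgroup.closure_le]
  rintro x (rfl | rfl)
  · exact hX
  · rw [← y_eq]
    exact Subgroup.subset_closure (by simp)

theorem card_mulAut_G : Nat.card (MulAut ↥G) ≤ 2 * Nat.card ↥G := by
  have := finite_G
  exact card_mulAut_le t y a2 gen_ty aut_images

theorem center_G : Subgroup.center ↥G = ⊥ := by
  have := isSimpleGroup_G
  rcases (Subgroup.center ↥G).normal_of_characteristic.eq_bot_or_eq_top with h | h
  · exact h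
  · exfalso
    have hy : y ∈ Subgroup.center ↥G := by rw [h]; exact Subgroup.mem_top y
    have hc := Subgroup.mem_center_iff.mp hy nn
    have h2 : nn * y * nn⁻¹ = y := by rw [hc]; group
    rw [nn_conj, pow_two] at h2
    exact y_ne (mul_left_cancel (h2.trans (mul_one y).symm))

/-! ### the outer automorphism -/

/-- the odd involution -/
local notation "pT" => perm 20520 cT

theorem validT : Valid 20520 cT := valid_of_invOf ((invB_iff _ _ _).mp invT)

theorem pT_inv : pT = pT⁻¹ := perm_inv_of_invOf ((invB_iff _ _ _).mp invT) validT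

theorem pT_sq : pT * pT = 1 := by
  nth_rewrite 1 [pT_inv]
  exact inv_mul_cancel pT

theorem pT_val (i : Fin 20520) : (pT i).val = ap 20520 cT i.val := perm_apply_val validT i

theorem pT_comm_Y : pT * perm 20520 cY = perm 20520 cY * pT := by
  apply Equiv.ext
  intro i
  apply Fin.ext
  rw [Equiv.Perm.mul_apply, Equiv.Perm.mul_apply, pT_val, perm_apply_val valid_Y,
    perm_apply_val valid_Y, pT_val]
  have h := commTY
  rw [allLt_iff] at h
  exact Nat.eq_of_beq_eq_true (h i.val i.isLt)

theorem pT_conj_t : pT * pw tw = pw A3 * pT := by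
  apply Equiv.ext
  intro i
  apply Fin.ext
  rw [Equiv.Perm.mul_apply, Equiv.Perm.mul_apply, pT_val, pw_apply_val, pw_apply_val, pT_val]
  have h := conjT
  rw [allLt_iff] at h
  exact Nat.eq_of_beq_eq_true (h i.val i.isLt)

/-- the elements whose conjugates by the odd involution lie in the group -/
def NT : Subgroup ↥G where
  carrier := {g | pT * g.val * pT⁻¹ ∈ G}
  one_mem' := by
    show pT * (1 : ↥G).val * pT⁻¹ ∈ G
    rw [Subgroup.coe_one, mul_one, mul_inv_cancel]
    exact G.one_mem
  mul_mem' := by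
    intro a b ha hb
    show pT * (a * b).val * pT⁻¹ ∈ G
    have e : pT * (a * b).val * pT⁻¹ = (pT * a.val * pT⁻¹) * (pT * b.val * pT⁻¹) := by
      rw [Subgroup.coe_mul]
      group
    rw [e]
    exact G.mul_mem ha hb
  inv_mem' := by
    intro a ha
    show pT * (a⁻¹).val * pT⁻¹ ∈ G
    have e : pT * (a⁻¹).val * pT⁻¹ = (pT * a.val * pT⁻¹)⁻¹ := by
      rw [Subgroup.coe_inv]
      group
    rw [e]
    exact G.inv_mem ha

theorem NT_top : NT = ⊤ := by
  rw [eq_top_iff, ← gen_ty, Subgroup.closure_le]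
  rintro x (rfl | rfl)
  · show pT * pw tw * pT⁻¹ ∈ G
    rw [pT_conj_t, mul_inv_cancel_right]
    exact pw_mem A3
  · show pT * y.val * pT⁻¹ ∈ G
    rw [y_eq, gY_val, pT_comm_Y, mul_inv_cancel_right]
    exact gY.2

theorem conj_mem (g : ↥G) : pT * g.val * pT⁻¹ ∈ G := by
  have : g ∈ NT := by rw [NT_top]; exact Subgroup.mem_top g
  exact this

/-- conjugation by the odd involution -/
def phiT : MulAut ↥G where
  toFun g := ⟨pT * g.val * pT⁻¹, conj_mem g⟩
  invFun g := ⟨pT * g.val * pT⁻¹, conj_mem g⟩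
  left_inv g := by
    apply Subtype.ext
    show pT * (pT * g.val * pT⁻¹) * pT⁻¹ = g.val
    rw [← pT_inv]
    calc pT * (pT * g.val * pT) * pT = (pT * pT) * g.val * (pT * pT) := by group
      _ = g.val := by rw [pT_sq, one_mul, mul_one]
  right_inv g := by
    apply Subtype.ext
    show pT * (pT * g.val * pT⁻¹) * pT⁻¹ = g.val
    rw [← pT_inv]
    calc pT * (pT * g.val * pT) * pT = (pT * pT) * g.val * (pT * pT) := by group
      _ = g.val := by rw [pT_sq, one_mul, mul_one]
  map_mul' a b := by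
    apply Subtype.ext
    show pT * (a * b).val * pT⁻¹ = (pT * a.val * pT⁻¹) * (pT * b.val * pT⁻¹)
    rw [Subgroup.coe_mul]
    group

theorem sign_pT : Equiv.Perm.sign pT = -1 := by
  apply sign_of_involution pT pT_sq 10183
  · rw [card_support_perm validT]
    have h1 := cntAcc_eq (fun x => !(Nat.beq (ap 20520 cT x) x)) 20520 0
    have h2 : 0 + cntLt 20520 (fun x => !(Nat.beq (ap 20520 cT x) x)) = 20366 :=
      h1.symm.trans movedT
    exact (Nat.zero_add _).symm.trans h2
  · exact ⟨5091, by norm_num⟩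

theorem fix_Y (p : Fin 20520) (hp : perm 20520 cY p = p) : p.val = 18467 := by
  have h := fixY
  rw [allLt_iff] at h
  have h1 := h p.val p.isLt
  rw [Bool.or_eq_true] at h1
  rcases h1 with h1 | h1
  · exfalso
    rw [Bool.not_eq_true'] at h1
    have h2 : ap 20520 cY p.val = p.val := by
      rw [← perm_apply_val valid_Y, hp]
    rw [h2, Nat.beq_refl] at h1
    exact absurd h1 (by decide)
  · exact Nat.eq_of_beq_eq_true h1

theorem phiT_apply (x : ↥G) : (phiT x).val = pT * x.val * pT⁻¹ := rfl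

theorem conj_val (g x : ↥G) : ((MulAut.conj g) x).val = g.val * x.val * g.val⁻¹ := rfl

/-- the fixed point of the generator of order 17 -/
def p0 : Fin 20520 := ⟨18467, by norm_num⟩

theorem p0_val : p0.val = 18467 := rfl

theorem apY_p0 : ap 20520 cY 18467 = 18467 := by
  decide +kernel

theorem hYp0 : perm 20520 cY p0 = p0 := by
  apply Fin.ext
  rw [perm_apply_val valid_Y, p0_val]
  exact apY_p0

theorem eq_one_of_commute (c : Equiv.Perm (Fin 20520))
    (hc : ∀ x : ↥G, c * x.val = x.val * c) : c = 1 := by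
  have hcp0 : c p0 = p0 := by
    apply Fin.ext
    rw [p0_val]
    apply fix_Y
    have h1 := DFunLike.congr_fun (hc gY) p0
    rw [Equiv.Perm.mul_apply, Equiv.Perm.mul_apply, gY_val, hYp0] at h1
    exact h1.symm
  apply Equiv.ext
  intro q
  obtain ⟨a, ha, haq⟩ := exists_map q
  obtain ⟨b, hb, hbp⟩ := exists_map p0
  rw [Equiv.Perm.smul_def] at haq hbp
  have hb' : b⁻¹ p0 = v0 := Equiv.Perm.inv_eq_iff_eq.mpr hbp.symm
  have hq : q = (a * b⁻¹) p0 := by
    rw [Equiv.Perm.mul_apply, hb', haq]
  have hcomm : c * (a * b⁻¹) = (a * b⁻¹) * c := hc ⟨a * b⁻¹, G.mul_mem ha (G.inv_mem hb)⟩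
  have h2 := DFunLike.congr_fun hcomm p0
  rw [Equiv.Perm.mul_apply, Equiv.Perm.mul_apply _ c, hcp0] at h2
  rw [hq, Equiv.Perm.one_apply]
  exact h2

theorem phiT_not_inner : phiT ∉ Cfsg.Inn ↥G := by
  rintro ⟨g, hg⟩
  have hx : ∀ x : ↥G, g.val * x.val * g.val⁻¹ = pT * x.val * pT⁻¹ := by
    intro x
    rw [← phiT_apply, ← conj_val, hg]
  -- the quotient of the two commutes with the group
  have hc : ∀ x : ↥G, (g.val⁻¹ * pT) * x.val = x.val * (g.val⁻¹ * pT) := by
    intro x
    have h1 := hx x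
    calc (g.val⁻¹ * pT) * x.val = g.val⁻¹ * (pT * x.val * pT⁻¹) * pT := by group
      _ = g.val⁻¹ * (g.val * x.val * g.val⁻¹) * pT := by rw [h1]
      _ = x.val * (g.val⁻¹ * pT) := by group
  have hone : g.val⁻¹ * pT = 1 := eq_one_of_commute _ hc
  have hTg : pT = g.val := by
    rw [inv_mul_eq_one] at hone
    exact hone.symm
  have hs := sign_eq_one_of_perfect G hperf pT (by rw [hTg]; exact g.2)
  rw [sign_pT] at hs
  exact absurd hs (by decide)

/-- the Janko group J3 on 20520 points has two classes of outer automorphisms -/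
theorem card_out_G : Nat.card (Cfsg.Out ↥G) = 2 := by
  have := finite_G
  exact card_out_eq_two center_G card_mulAut_G phiT phiT_not_inner

end

end Cfsg.Agent.Lib.Helper10.J3O
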