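import Cfsg.Agent.Lib.Helper10.J3PData

set_option autoImplicit false

/-!
Each generating matrix of the Prelude is a scalar multiple of a word in the two matrices of orders 19
and 17 and their inverses.
-/

namespace Cfsg.Agent.Lib.Helper10.J3P

open Matrix Cfsg.Spor Cfsg.Agent.Lib.Helper10.SX Cfsg.Agent.Lib.Helper10.SXM Cfsg.Agent.Lib.Helper10.J3M

noncomputable section

theorem cols0 : ∀ j : Fin 9, vec9 (evalP (List.map tabL []) (basisP j.val)) =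
    fun r => dec (1 : Fin 4).val * (Matrix.reindex e9 e9 (j3A K4 om ((0 : ZMod 3), (0 : ZMod 3)))) r j := by
  decide +kernel

theorem cols1 : ∀ j : Fin 9, vec9 (evalP (List.map tabL [0, 0, 0, 0, 3, 0, 3, 0, 3, 0, 2, 2, 1, 3, 3, 1]) (basisP j.val)) =
    fun r => dec (1 : Fin 4).val * (Matrix.reindex e9 e9 (j3A K4 om ((0 : ZMod 3), (1 : ZMod 3)))) r j := by
  decide +kernel

theorem cols2 : ∀ j : Fin 9, vec9 (evalP (List.map tabL [3, 0, 3, 1, 1, 1, 3, 0, 0, 3, 1, 2, 2, 1, 3, 3]) (basisP j.val)) =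
    fun r => dec (3 : Fin 4).val * (Matrix.reindex e9 e9 (j3A K4 om ((0 : ZMod 3), (2 : ZMod 3)))) r j := by
  decide +kernel

theorem cols3 : ∀ j : Fin 9, vec9 (evalP (List.map tabL [2, 0, 3, 0, 2, 1, 3, 0, 0, 3, 0, 0, 3, 0, 0, 2]) (basisP j.val)) =
    fun r => dec (3 : Fin 4).val * (Matrix.reindex e9 e9 (j3A K4 om ((1 : ZMod 3), (0 : ZMod 3)))) r j := by
  decide +kernel

theorem cols4 : ∀ j : Fin 9, vec9 (evalP (List.map tabL [0, 0, 0, 2, 2, 1, 2, 1, 1, 3, 0, 2, 2, 0, 0]) (basisP j.val)) =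
    fun r => dec (3 : Fin 4).val * (Matrix.reindex e9 e9 (j3A K4 om ((1 : ZMod 3), (1 : ZMod 3)))) r j := by
  decide +kernel

theorem cols5 : ∀ j : Fin 9, vec9 (evalP (List.map tabL [1, 2, 1, 1, 1, 1, 1, 2, 2, 2, 1, 1, 2, 0, 2, 1]) (basisP j.val)) =
    fun r => dec (2 : Fin 4).val * (Matrix.reindex e9 e9 (j3A K4 om ((1 : ZMod 3), (2 : ZMod 3)))) r j := by
  decide +kernel

theorem cols6 : ∀ j : Fin 9, vec9 (evalP (List.map tabL [3, 1, 1, 2, 1, 1, 2, 1, 1, 2, 0, 3, 1, 2, 1, 3]) (basisP j.val)) =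
    fun r => dec (2 : Fin 4).val * (Matrix.reindex e9 e9 (j3A K4 om ((2 : ZMod 3), (0 : ZMod 3)))) r j := by
  decide +kernel

theorem cols7 : ∀ j : Fin 9, vec9 (evalP (List.map tabL [0, 3, 1, 3, 0, 0, 3, 3, 3, 0, 0, 0, 0, 0, 3, 0]) (basisP j.val)) =
    fun r => dec (3 : Fin 4).val * (Matrix.reindex e9 e9 (j3A K4 om ((2 : ZMod 3), (1 : ZMod 3)))) r j := by
  decide +kernel

theorem cols8 : ∀ j : Fin 9, vec9 (evalP (List.map tabL [1, 1, 3, 3, 1, 2, 0, 0, 3, 0, 3, 3, 1, 1, 1]) (basisP j.val)) =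
    fun r => dec (2 : Fin 4).val * (Matrix.reindex e9 e9 (j3A K4 om ((2 : ZMod 3), (2 : ZMod 3)))) r j := by
  decide +kernel

theorem cols9 : ∀ j : Fin 9, vec9 (evalP (List.map tabL [2, 2, 2, 0, 0, 2, 1, 3, 3, 3, 0, 3, 3, 0, 2]) (basisP j.val)) =
    fun r => dec (1 : Fin 4).val * (Matrix.reindex e9 e9 (j3E K4 om ((0 : ZMod 3), (0 : ZMod 3)))) r j := by
  decide +kernel

theorem cols10 : ∀ j : Fin 9, vec9 (evalP (List.map tabL [0, 0, 0, 2, 2, 2, 0, 0, 0, 0, 2, 1, 1, 3, 0, 0, 3, 3]) (basisP j.val)) =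
    fun r => dec (3 : Fin 4).val * (Matrix.reindex e9 e9 (j3E K4 om ((0 : ZMod 3), (1 : ZMod 3)))) r j := by
  decide +kernel

theorem cols11 : ∀ j : Fin 9, vec9 (evalP (List.map tabL [2, 1, 1, 2, 2, 1, 1, 1, 2, 2, 0, 3, 3, 1, 2, 0, 3]) (basisP j.val)) =
    fun r => dec (2 : Fin 4).val * (Matrix.reindex e9 e9 (j3E K4 om ((0 : ZMod 3), (2 : ZMod 3)))) r j := by
  decide +kernel

theorem cols12 : ∀ j : Fin 9, vec9 (evalP (List.map tabL [0, 0, 2, 0, 2, 1, 3, 1, 2, 0, 3, 3, 1, 3, 1, 3, 0]) (basisP j.val)) =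
    fun r => dec (2 : Fin 4).val * (Matrix.reindex e9 e9 (j3E K4 om ((1 : ZMod 3), (0 : ZMod 3)))) r j := by
  decide +kernel

theorem cols13 : ∀ j : Fin 9, vec9 (evalP (List.map tabL [2, 1, 2, 0, 2, 1, 1, 1, 1, 3, 1, 1, 3, 0, 2, 1]) (basisP j.val)) =
    fun r => dec (3 : Fin 4).val * (Matrix.reindex e9 e9 (j3E K4 om ((1 : ZMod 3), (1 : ZMod 3)))) r j := by
  decide +kernel

theorem cols14 : ∀ j : Fin 9, vec9 (evalP (List.map tabL [1, 3, 1, 1, 1, 1, 3, 3, 0, 2, 1, 3, 3, 1, 1]) (basisP j.val)) =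
    fun r => dec (1 : Fin 4).val * (Matrix.reindex e9 e9 (j3E K4 om ((1 : ZMod 3), (2 : ZMod 3)))) r j := by
  decide +kernel

theorem cols15 : ∀ j : Fin 9, vec9 (evalP (List.map tabL [1, 1, 2, 2, 1, 3, 1, 2, 2, 1, 3, 1, 3]) (basisP j.val)) =
    fun r => dec (3 : Fin 4).val * (Matrix.reindex e9 e9 (j3E K4 om ((2 : ZMod 3), (0 : ZMod 3)))) r j := by
  decide +kernel

theorem cols16 : ∀ j : Fin 9, vec9 (evalP (List.map tabL [3, 0, 0, 2, 1, 3, 1, 1, 3, 1, 3, 1, 1, 2]) (basisP j.val)) =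
    fun r => dec (2 : Fin 4).val * (Matrix.reindex e9 e9 (j3E K4 om ((2 : ZMod 3), (1 : ZMod 3)))) r j := by
  decide +kernel

theorem cols17 : ∀ j : Fin 9, vec9 (evalP (List.map tabL [0, 2, 0, 2, 2, 0, 3, 1, 1, 2, 1, 2, 2, 0]) (basisP j.val)) =
    fun r => dec (1 : Fin 4).val * (Matrix.reindex e9 e9 (j3E K4 om ((2 : ZMod 3), (2 : ZMod 3)))) r j := by
  decide +kernel

theorem cols18 : ∀ j : Fin 9, vec9 (evalP (List.map tabL []) (basisP j.val)) =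
    fun r => dec (1 : Fin 4).val * (Matrix.reindex e9 e9 (j3D K4 om ((0 : ZMod 3), (0 : ZMod 3)))) r j := by
  decide +kernel

theorem cols19 : ∀ j : Fin 9, vec9 (evalP (List.map tabL [2, 1, 3, 1, 1, 3, 1, 1, 2, 2, 0, 0, 0, 0]) (basisP j.val)) =
    fun r => dec (1 : Fin 4).val * (Matrix.reindex e9 e9 (j3D K4 om ((0 : ZMod 3), (1 : ZMod 3)))) r j := by
  decide +kernel

theorem cols20 : ∀ j : Fin 9, vec9 (evalP (List.map tabL [1, 1, 1, 1, 3, 3, 0, 0, 2, 0, 0, 2, 0, 3]) (basisP j.val)) =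
    fun r => dec (1 : Fin 4).val * (Matrix.reindex e9 e9 (j3D K4 om ((0 : ZMod 3), (2 : ZMod 3)))) r j := by
  decide +kernel

theorem cols21 : ∀ j : Fin 9, vec9 (evalP (List.map tabL [1, 3, 3, 0, 0, 2, 1, 1, 3, 3, 3, 0, 0, 2, 0, 2]) (basisP j.val)) =
    fun r => dec (3 : Fin 4).val * (Matrix.reindex e9 e9 (j3D K4 om ((1 : ZMod 3), (0 : ZMod 3)))) r j := by
  decide +kernel

theorem cols22 : ∀ j : Fin 9, vec9 (evalP (List.map tabL [0, 0, 3, 0, 3, 3, 0, 0, 3, 1, 3, 1, 3, 1, 2]) (basisP j.val)) =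
    fun r => dec (2 : Fin 4).val * (Matrix.reindex e9 e9 (j3D K4 om ((1 : ZMod 3), (1 : ZMod 3)))) r j := by
  decide +kernel

theorem cols23 : ∀ j : Fin 9, vec9 (evalP (List.map tabL [0, 2, 1, 1, 1, 3, 0, 3, 0, 0, 2, 0, 3, 1]) (basisP j.val)) =
    fun r => dec (3 : Fin 4).val * (Matrix.reindex e9 e9 (j3D K4 om ((1 : ZMod 3), (2 : ZMod 3)))) r j := by
  decide +kernel

theorem cols24 : ∀ j : Fin 9, vec9 (evalP (List.map tabL [1, 1, 2, 0, 0, 0, 2, 0, 0, 3, 3, 0, 3, 1, 2, 1]) (basisP j.val)) =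
    fun r => dec (3 : Fin 4).val * (Matrix.reindex e9 e9 (j3D K4 om ((2 : ZMod 3), (0 : ZMod 3)))) r j := by
  decide +kernel

theorem cols25 : ∀ j : Fin 9, vec9 (evalP (List.map tabL [0, 2, 1, 3, 1, 1, 2, 1, 2, 0, 0, 0, 3, 1]) (basisP j.val)) =
    fun r => dec (2 : Fin 4).val * (Matrix.reindex e9 e9 (j3D K4 om ((2 : ZMod 3), (1 : ZMod 3)))) r j := by
  decide +kernel

theorem cols26 : ∀ j : Fin 9, vec9 (evalP (List.map tabL [3, 0, 2, 0, 2, 0, 2, 1, 1, 2, 2, 1, 2, 1, 1]) (basisP j.val)) =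
    fun r => dec (3 : Fin 4).val * (Matrix.reindex e9 e9 (j3D K4 om ((2 : ZMod 3), (2 : ZMod 3)))) r j := by
  decide +kernel

theorem cols27 : ∀ j : Fin 9, vec9 (evalP (List.map tabL [2, 2, 1, 3, 1, 3, 1, 3, 1, 2, 1, 2, 0, 3, 1]) (basisP j.val)) =
    fun r => dec (1 : Fin 4).val * (Matrix.reindex e9 e9 (j3B K4 ((0 : ZMod 3), (1 : ZMod 3)))) r j := by
  decide +kernel

theorem cols28 : ∀ j : Fin 9, vec9 (evalP (List.map tabL [0, 2, 1, 3, 0, 3, 0, 2, 0, 2, 0, 2, 0, 3, 3]) (basisP j.val)) =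
    fun r => dec (1 : Fin 4).val * (Matrix.reindex e9 e9 (j3B K4 ((0 : ZMod 3), (2 : ZMod 3)))) r j := by
  decide +kernel

theorem cols29 : ∀ j : Fin 9, vec9 (evalP (List.map tabL []) (basisP j.val)) =
    fun r => dec (1 : Fin 4).val * (Matrix.reindex e9 e9 (j3B K4 ((1 : ZMod 3), (0 : ZMod 3)))) r j := by
  decide +kernel

theorem cols30 : ∀ j : Fin 9, vec9 (evalP (List.map tabL [3, 3, 0, 2, 0, 3, 1, 3, 0, 0, 2, 1, 1, 3, 1]) (basisP j.val)) =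
    fun r => dec (3 : Fin 4).val * (Matrix.reindex e9 e9 (j3B K4 ((1 : ZMod 3), (1 : ZMod 3)))) r j := by
  decide +kernel

theorem cols31 : ∀ j : Fin 9, vec9 (evalP (List.map tabL [2, 0, 2, 1, 3, 3, 1, 3, 1, 2, 0, 3, 0, 3, 3, 1, 1]) (basisP j.val)) =
    fun r => dec (1 : Fin 4).val * (Matrix.reindex e9 e9 (j3B K4 ((1 : ZMod 3), (2 : ZMod 3)))) r j := by
  decide +kernel

theorem cols32 : ∀ j : Fin 9, vec9 (evalP (List.map tabL [0, 3, 3, 1, 2, 1, 1, 3, 1, 3, 3, 1, 2, 0, 3, 1, 1]) (basisP j.val)) =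
    fun r => dec (1 : Fin 4).val * (Matrix.reindex e9 e9 (j3B K4 ((2 : ZMod 3), (0 : ZMod 3)))) r j := by
  decide +kernel

theorem cols33 : ∀ j : Fin 9, vec9 (evalP (List.map tabL [0, 2, 0, 0, 3, 1, 1, 2, 0, 2, 1, 3, 1, 2, 2]) (basisP j.val)) =
    fun r => dec (2 : Fin 4).val * (Matrix.reindex e9 e9 (j3B K4 ((2 : ZMod 3), (1 : ZMod 3)))) r j := by
  decide +kernel

theorem cols34 : ∀ j : Fin 9, vec9 (evalP (List.map tabL [0, 0, 2, 2, 1, 2, 1, 3, 0, 2, 0, 2, 2, 0, 3, 1, 3]) (basisP j.val)) =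
    fun r => dec (1 : Fin 4).val * (Matrix.reindex e9 e9 (j3B K4 ((2 : ZMod 3), (2 : ZMod 3)))) r j := by
  decide +kernel

theorem cols35 : ∀ j : Fin 9, vec9 (evalP (List.map tabL [2, 1, 2, 1, 1, 2, 2, 2, 0, 2, 2, 0, 2, 1, 3, 1, 1, 2]) (basisP j.val)) =
    fun r => dec (3 : Fin 4).val * (Matrix.reindex e9 e9 (j3C K4 ((0 : ZMod 3), (1 : ZMod 3)))) r j := by
  decide +kernel

theorem cols36 : ∀ j : Fin 9, vec9 (evalP (List.map tabL [0, 0, 2, 0, 0, 3, 1, 2, 0, 3, 3, 1, 3, 1, 3, 1, 3]) (basisP j.val)) =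
    fun r => dec (1 : Fin 4).val * (Matrix.reindex e9 e9 (j3C K4 ((0 : ZMod 3), (2 : ZMod 3)))) r j := by
  decide +kernel

theorem cols37 : ∀ j : Fin 9, vec9 (evalP (List.map tabL [1, 1, 2, 1, 3, 0, 0, 2, 0, 0, 2, 2, 1, 3, 0, 3, 1]) (basisP j.val)) =
    fun r => dec (2 : Fin 4).val * (Matrix.reindex e9 e9 (j3C K4 ((1 : ZMod 3), (0 : ZMod 3)))) r j := by
  decide +kernel

theorem cols38 : ∀ j : Fin 9, vec9 (evalP (List.map tabL [0, 2, 2, 1, 2, 1, 2, 0, 3, 1, 2, 2, 2, 1, 1]) (basisP j.val)) =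
    fun r => dec (2 : Fin 4).val * (Matrix.reindex e9 e9 (j3C K4 ((1 : ZMod 3), (1 : ZMod 3)))) r j := by
  decide +kernel

theorem cols39 : ∀ j : Fin 9, vec9 (evalP (List.map tabL [0, 2, 2, 2, 1, 2, 0, 0, 0, 2, 1, 2, 0, 0, 2, 0, 2, 2, 0]) (basisP j.val)) =
    fun r => dec (1 : Fin 4).val * (Matrix.reindex e9 e9 (j3C K4 ((1 : ZMod 3), (2 : ZMod 3)))) r j := by
  decide +kernel

theorem cols40 : ∀ j : Fin 9, vec9 (evalP (List.map tabL [2, 1, 3, 0, 0, 0, 0, 2, 1, 3, 1, 1, 1, 2, 2, 0]) (basisP j.val)) =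
    fun r => dec (3 : Fin 4).val * (Matrix.reindex e9 e9 (j3C K4 ((2 : ZMod 3), (0 : ZMod 3)))) r j := by
  decide +kernel

theorem cols41 : ∀ j : Fin 9, vec9 (evalP (List.map tabL [3, 3, 1, 1, 2, 2, 0, 0, 0, 2, 2, 2, 0, 2, 0, 0, 0]) (basisP j.val)) =
    fun r => dec (3 : Fin 4).val * (Matrix.reindex e9 e9 (j3C K4 ((2 : ZMod 3), (1 : ZMod 3)))) r j := by
  decide +kernel

theorem cols42 : ∀ j : Fin 9, vec9 (evalP (List.map tabL [2, 2, 1, 2, 0, 0, 3, 1, 1, 3, 3, 0, 2, 1]) (basisP j.val)) =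
    fun r => dec (3 : Fin 4).val * (Matrix.reindex e9 e9 (j3C K4 ((2 : ZMod 3), (2 : ZMod 3)))) r j := by
  decide +kernel


end

end Cfsg.Agent.Lib.Helper10.J3P
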