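import Cfsg.Agent.Lib.Helper10.J3PData

set_option autoImplicit false

/-!
The two matrices of orders 19 and 17 and a scalar matrix as products of generating matrices of the
Prelude.
-/

namespace Cfsg.Agent.Lib.Helper10.J3P

open Matrix Cfsg.Spor Cfsg.Agent.Lib.Helper10.SX Cfsg.Agent.Lib.Helper10.SXM Cfsg.Agent.Lib.Helper10.J3M

noncomputable section

theorem colsX : ∀ j : Fin 9, vec9 (evalP [tG21, tG4, tG35, tG25, tG10, tG37, tG24, tG4] (basisP j.val)) =
    fun r => dec (1 : Fin 4).val * mX r j := by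
  decide +kernel

theorem colsY : ∀ j : Fin 9, vec9 (evalP [tG16, tG16, tG38, tG24, tG1, tG37, tG15, tG15, tG26, tG35, tG8] (basisP j.val)) =
    fun r => dec (3 : Fin 4).val * mY r j := by
  decide +kernel

theorem colsZ : ∀ j : Fin 9, vec9 (evalP [tG9, tG13, tG17] (basisP j.val)) =
    fun r => dec (2 : Fin 4).val * (1 : Matrix (Fin 9) (Fin 9) K4) r j := by
  decide +kernel

end

end Cfsg.Agent.Lib.Helper10.J3P
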