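import Cfsg.Agent.Lib.Helper10.J3PWord
import Cfsg.Agent.Lib.Helper10.J3PChk
import Cfsg.Agent.Lib.Helper10.J3PChk1

set_option autoImplicit false

/-!
The generating matrices of the Prelude induce permutations of the group, and the two generators of the
group are induced by products of generating matrices.
-/

namespace Cfsg.Agent.Lib.Helper10.J3P

open Matrix Cfsg.Spor Cfsg.Agent.Lib.Helper10.SX Cfsg.Agent.Lib.Helper10.SXM Cfsg.Agent.Lib.Helper10.J3M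

attribute [local irreducible] perm

noncomputable section

theorem acts0 : ∃ τ ∈ G, Acts pt (Matrix.reindex e9 e9 (j3A K4 om ((0 : ZMod 3), (0 : ZMod 3)))) τ :=
  gen_acts [] _ (1 : Fin 4) (by decide) cols0

theorem acts1 : ∃ τ ∈ G, Acts pt (Matrix.reindex e9 e9 (j3A K4 om ((0 : ZMod 3), (1 : ZMod 3)))) τ :=
  gen_acts [0, 0, 0, 0, 3, 0, 3, 0, 3, 0, 2, 2, 1, 3, 3, 1] _ (1 : Fin 4) (by decide) cols1

theorem acts2 : ∃ τ ∈ G, Acts pt (Matrix.reindex e9 e9 (j3A K4 om ((0 : ZMod 3), (2 : ZMod 3)))) τ :=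
  gen_acts [3, 0, 3, 1, 1, 1, 3, 0, 0, 3, 1, 2, 2, 1, 3, 3] _ (3 : Fin 4) (by decide) cols2

theorem acts3 : ∃ τ ∈ G, Acts pt (Matrix.reindex e9 e9 (j3A K4 om ((1 : ZMod 3), (0 : ZMod 3)))) τ :=
  gen_acts [2, 0, 3, 0, 2, 1, 3, 0, 0, 3, 0, 0, 3, 0, 0, 2] _ (3 : Fin 4) (by decide) cols3

theorem acts4 : ∃ τ ∈ G, Acts pt (Matrix.reindex e9 e9 (j3A K4 om ((1 : ZMod 3), (1 : ZMod 3)))) τ :=
  gen_acts [0, 0, 0, 2, 2, 1, 2, 1, 1, 3, 0, 2, 2, 0, 0] _ (3 : Fin 4) (by decide) cols4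

theorem acts5 : ∃ τ ∈ G, Acts pt (Matrix.reindex e9 e9 (j3A K4 om ((1 : ZMod 3), (2 : ZMod 3)))) τ :=
  gen_acts [1, 2, 1, 1, 1, 1, 1, 2, 2, 2, 1, 1, 2, 0, 2, 1] _ (2 : Fin 4) (by decide) cols5

theorem acts6 : ∃ τ ∈ G, Acts pt (Matrix.reindex e9 e9 (j3A K4 om ((2 : ZMod 3), (0 : ZMod 3)))) τ :=
  gen_acts [3, 1, 1, 2, 1, 1, 2, 1, 1, 2, 0, 3, 1, 2, 1, 3] _ (2 : Fin 4) (by decide) cols6

theorem acts7 : ∃ τ ∈ G, Acts pt (Matrix.reindex e9 e9 (j3A K4 om ((2 : ZMod 3), (1 : ZMod 3)))) τ :=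
  gen_acts [0, 3, 1, 3, 0, 0, 3, 3, 3, 0, 0, 0, 0, 0, 3, 0] _ (3 : Fin 4) (by decide) cols7

theorem acts8 : ∃ τ ∈ G, Acts pt (Matrix.reindex e9 e9 (j3A K4 om ((2 : ZMod 3), (2 : ZMod 3)))) τ :=
  gen_acts [1, 1, 3, 3, 1, 2, 0, 0, 3, 0, 3, 3, 1, 1, 1] _ (2 : Fin 4) (by decide) cols8

theorem acts9 : ∃ τ ∈ G, Acts pt (Matrix.reindex e9 e9 (j3E K4 om ((0 : ZMod 3), (0 : ZMod 3)))) τ :=
  gen_acts [2, 2, 2, 0, 0, 2, 1, 3, 3, 3, 0, 3, 3, 0, 2] _ (1 : Fin 4) (by decide) cols9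

theorem acts10 : ∃ τ ∈ G, Acts pt (Matrix.reindex e9 e9 (j3E K4 om ((0 : ZMod 3), (1 : ZMod 3)))) τ :=
  gen_acts [0, 0, 0, 2, 2, 2, 0, 0, 0, 0, 2, 1, 1, 3, 0, 0, 3, 3] _ (3 : Fin 4) (by decide) cols10

theorem acts11 : ∃ τ ∈ G, Acts pt (Matrix.reindex e9 e9 (j3E K4 om ((0 : ZMod 3), (2 : ZMod 3)))) τ :=
  gen_acts [2, 1, 1, 2, 2, 1, 1, 1, 2, 2, 0, 3, 3, 1, 2, 0, 3] _ (2 : Fin 4) (by decide) cols11

theorem acts12 : ∃ τ ∈ G, Acts pt (Matrix.reindex e9 e9 (j3E K4 om ((1 : ZMod 3), (0 : ZMod 3)))) τ :=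
  gen_acts [0, 0, 2, 0, 2, 1, 3, 1, 2, 0, 3, 3, 1, 3, 1, 3, 0] _ (2 : Fin 4) (by decide) cols12

theorem acts13 : ∃ τ ∈ G, Acts pt (Matrix.reindex e9 e9 (j3E K4 om ((1 : ZMod 3), (1 : ZMod 3)))) τ :=
  gen_acts [2, 1, 2, 0, 2, 1, 1, 1, 1, 3, 1, 1, 3, 0, 2, 1] _ (3 : Fin 4) (by decide) cols13

theorem acts14 : ∃ τ ∈ G, Acts pt (Matrix.reindex e9 e9 (j3E K4 om ((1 : ZMod 3), (2 : ZMod 3)))) τ :=
  gen_acts [1, 3, 1, 1, 1, 1, 3, 3, 0, 2, 1, 3, 3, 1, 1] _ (1 : Fin 4) (by decide) cols14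

theorem acts15 : ∃ τ ∈ G, Acts pt (Matrix.reindex e9 e9 (j3E K4 om ((2 : ZMod 3), (0 : ZMod 3)))) τ :=
  gen_acts [1, 1, 2, 2, 1, 3, 1, 2, 2, 1, 3, 1, 3] _ (3 : Fin 4) (by decide) cols15

theorem acts16 : ∃ τ ∈ G, Acts pt (Matrix.reindex e9 e9 (j3E K4 om ((2 : ZMod 3), (1 : ZMod 3)))) τ :=
  gen_acts [3, 0, 0, 2, 1, 3, 1, 1, 3, 1, 3, 1, 1, 2] _ (2 : Fin 4) (by decide) cols16

theorem acts17 : ∃ τ ∈ G, Acts pt (Matrix.reindex e9 e9 (j3E K4 om ((2 : ZMod 3), (2 : ZMod 3)))) τ :=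
  gen_acts [0, 2, 0, 2, 2, 0, 3, 1, 1, 2, 1, 2, 2, 0] _ (1 : Fin 4) (by decide) cols17

theorem acts18 : ∃ τ ∈ G, Acts pt (Matrix.reindex e9 e9 (j3D K4 om ((0 : ZMod 3), (0 : ZMod 3)))) τ :=
  gen_acts [] _ (1 : Fin 4) (by decide) cols18

theorem acts19 : ∃ τ ∈ G, Acts pt (Matrix.reindex e9 e9 (j3D K4 om ((0 : ZMod 3), (1 : ZMod 3)))) τ :=
  gen_acts [2, 1, 3, 1, 1, 3, 1, 1, 2, 2, 0, 0, 0, 0] _ (1 : Fin 4) (by decide) cols19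

theorem acts20 : ∃ τ ∈ G, Acts pt (Matrix.reindex e9 e9 (j3D K4 om ((0 : ZMod 3), (2 : ZMod 3)))) τ :=
  gen_acts [1, 1, 1, 1, 3, 3, 0, 0, 2, 0, 0, 2, 0, 3] _ (1 : Fin 4) (by decide) cols20

theorem acts21 : ∃ τ ∈ G, Acts pt (Matrix.reindex e9 e9 (j3D K4 om ((1 : ZMod 3), (0 : ZMod 3)))) τ :=
  gen_acts [1, 3, 3, 0, 0, 2, 1, 1, 3, 3, 3, 0, 0, 2, 0, 2] _ (3 : Fin 4) (by decide) cols21

theorem acts22 : ∃ τ ∈ G, Acts pt (Matrix.reindex e9 e9 (j3D K4 om ((1 : ZMod 3), (1 : ZMod 3)))) τ :=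
  gen_acts [0, 0, 3, 0, 3, 3, 0, 0, 3, 1, 3, 1, 3, 1, 2] _ (2 : Fin 4) (by decide) cols22

theorem acts23 : ∃ τ ∈ G, Acts pt (Matrix.reindex e9 e9 (j3D K4 om ((1 : ZMod 3), (2 : ZMod 3)))) τ :=
  gen_acts [0, 2, 1, 1, 1, 3, 0, 3, 0, 0, 2, 0, 3, 1] _ (3 : Fin 4) (by decide) cols23

theorem acts24 : ∃ τ ∈ G, Acts pt (Matrix.reindex e9 e9 (j3D K4 om ((2 : ZMod 3), (0 : ZMod 3)))) τ :=
  gen_acts [1, 1, 2, 0, 0, 0, 2, 0, 0, 3, 3, 0, 3, 1, 2, 1] _ (3 : Fin 4) (by decide) cols24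

theorem acts25 : ∃ τ ∈ G, Acts pt (Matrix.reindex e9 e9 (j3D K4 om ((2 : ZMod 3), (1 : ZMod 3)))) τ :=
  gen_acts [0, 2, 1, 3, 1, 1, 2, 1, 2, 0, 0, 0, 3, 1] _ (2 : Fin 4) (by decide) cols25

theorem acts26 : ∃ τ ∈ G, Acts pt (Matrix.reindex e9 e9 (j3D K4 om ((2 : ZMod 3), (2 : ZMod 3)))) τ :=
  gen_acts [3, 0, 2, 0, 2, 0, 2, 1, 1, 2, 2, 1, 2, 1, 1] _ (3 : Fin 4) (by decide) cols26

theorem acts27 : ∃ τ ∈ G, Acts pt (Matrix.reindex e9 e9 (j3B K4 ((0 : ZMod 3), (1 : ZMod 3)))) τ :=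
  gen_acts [2, 2, 1, 3, 1, 3, 1, 3, 1, 2, 1, 2, 0, 3, 1] _ (1 : Fin 4) (by decide) cols27

theorem acts28 : ∃ τ ∈ G, Acts pt (Matrix.reindex e9 e9 (j3B K4 ((0 : ZMod 3), (2 : ZMod 3)))) τ :=
  gen_acts [0, 2, 1, 3, 0, 3, 0, 2, 0, 2, 0, 2, 0, 3, 3] _ (1 : Fin 4) (by decide) cols28

theorem acts29 : ∃ τ ∈ G, Acts pt (Matrix.reindex e9 e9 (j3B K4 ((1 : ZMod 3), (0 : ZMod 3)))) τ :=
  gen_acts [] _ (1 : Fin 4) (by decide) cols29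

theorem acts30 : ∃ τ ∈ G, Acts pt (Matrix.reindex e9 e9 (j3B K4 ((1 : ZMod 3), (1 : ZMod 3)))) τ :=
  gen_acts [3, 3, 0, 2, 0, 3, 1, 3, 0, 0, 2, 1, 1, 3, 1] _ (3 : Fin 4) (by decide) cols30

theorem acts31 : ∃ τ ∈ G, Acts pt (Matrix.reindex e9 e9 (j3B K4 ((1 : ZMod 3), (2 : ZMod 3)))) τ :=
  gen_acts [2, 0, 2, 1, 3, 3, 1, 3, 1, 2, 0, 3, 0, 3, 3, 1, 1] _ (1 : Fin 4) (by decide) cols31

theorem acts32 : ∃ τ ∈ G, Acts pt (Matrix.reindex e9 e9 (j3B K4 ((2 : ZMod 3), (0 : ZMod 3)))) τ :=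
  gen_acts [0, 3, 3, 1, 2, 1, 1, 3, 1, 3, 3, 1, 2, 0, 3, 1, 1] _ (1 : Fin 4) (by decide) cols32

theorem acts33 : ∃ τ ∈ G, Acts pt (Matrix.reindex e9 e9 (j3B K4 ((2 : ZMod 3), (1 : ZMod 3)))) τ :=
  gen_acts [0, 2, 0, 0, 3, 1, 1, 2, 0, 2, 1, 3, 1, 2, 2] _ (2 : Fin 4) (by decide) cols33

theorem acts34 : ∃ τ ∈ G, Acts pt (Matrix.reindex e9 e9 (j3B K4 ((2 : ZMod 3), (2 : ZMod 3)))) τ :=
  gen_acts [0, 0, 2, 2, 1, 2, 1, 3, 0, 2, 0, 2, 2, 0, 3, 1, 3] _ (1 : Fin 4) (by decide) cols34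

theorem acts35 : ∃ τ ∈ G, Acts pt (Matrix.reindex e9 e9 (j3C K4 ((0 : ZMod 3), (1 : ZMod 3)))) τ :=
  gen_acts [2, 1, 2, 1, 1, 2, 2, 2, 0, 2, 2, 0, 2, 1, 3, 1, 1, 2] _ (3 : Fin 4) (by decide) cols35

theorem acts36 : ∃ τ ∈ G, Acts pt (Matrix.reindex e9 e9 (j3C K4 ((0 : ZMod 3), (2 : ZMod 3)))) τ :=
  gen_acts [0, 0, 2, 0, 0, 3, 1, 2, 0, 3, 3, 1, 3, 1, 3, 1, 3] _ (1 : Fin 4) (by decide) cols36

theorem acts37 : ∃ τ ∈ G, Acts pt (Matrix.reindex e9 e9 (j3C K4 ((1 : ZMod 3), (0 : ZMod 3)))) τ :=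
  gen_acts [1, 1, 2, 1, 3, 0, 0, 2, 0, 0, 2, 2, 1, 3, 0, 3, 1] _ (2 : Fin 4) (by decide) cols37

theorem acts38 : ∃ τ ∈ G, Acts pt (Matrix.reindex e9 e9 (j3C K4 ((1 : ZMod 3), (1 : ZMod 3)))) τ :=
  gen_acts [0, 2, 2, 1, 2, 1, 2, 0, 3, 1, 2, 2, 2, 1, 1] _ (2 : Fin 4) (by decide) cols38

theorem acts39 : ∃ τ ∈ G, Acts pt (Matrix.reindex e9 e9 (j3C K4 ((1 : ZMod 3), (2 : ZMod 3)))) τ :=
  gen_acts [0, 2, 2, 2, 1, 2, 0, 0, 0, 2, 1, 2, 0, 0, 2, 0, 2, 2, 0] _ (1 : Fin 4) (by decide) cols39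

theorem acts40 : ∃ τ ∈ G, Acts pt (Matrix.reindex e9 e9 (j3C K4 ((2 : ZMod 3), (0 : ZMod 3)))) τ :=
  gen_acts [2, 1, 3, 0, 0, 0, 0, 2, 1, 3, 1, 1, 1, 2, 2, 0] _ (3 : Fin 4) (by decide) cols40

theorem acts41 : ∃ τ ∈ G, Acts pt (Matrix.reindex e9 e9 (j3C K4 ((2 : ZMod 3), (1 : ZMod 3)))) τ :=
  gen_acts [3, 3, 1, 1, 2, 2, 0, 0, 0, 2, 2, 2, 0, 2, 0, 0, 0] _ (3 : Fin 4) (by decide) cols41

theorem acts42 : ∃ τ ∈ G, Acts pt (Matrix.reindex e9 e9 (j3C K4 ((2 : ZMod 3), (2 : ZMod 3)))) τ :=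
  gen_acts [2, 2, 1, 2, 0, 0, 3, 1, 1, 3, 3, 0, 2, 1] _ (3 : Fin 4) (by decide) cols42

theorem actsA (Z : F9) : ∃ τ ∈ G, Acts pt (Matrix.reindex e9 e9 (j3A K4 om Z)) τ := by
  fin_cases Z
  · exact acts0
  · exact acts1
  · exact acts2
  · exact acts3
  · exact acts4
  · exact acts5
  · exact acts6
  · exact acts7
  · exact acts8

theorem actsE (Z : F9) : ∃ τ ∈ G, Acts pt (Matrix.reindex e9 e9 (j3E K4 om Z)) τ := by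
  fin_cases Z
  · exact acts9
  · exact acts10
  · exact acts11
  · exact acts12
  · exact acts13
  · exact acts14
  · exact acts15
  · exact acts16
  · exact acts17

theorem actsD (Z : F9) : ∃ τ ∈ G, Acts pt (Matrix.reindex e9 e9 (j3D K4 om Z)) τ := by
  fin_cases Z
  · exact acts18
  · exact acts19
  · exact acts20
  · exact acts21
  · exact acts22
  · exact acts23
  · exact acts24
  · exact acts25
  · exact acts26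

theorem actsB (Z : F9) (hZ : Z ≠ 0) : ∃ τ ∈ G, Acts pt (Matrix.reindex e9 e9 (j3B K4 Z)) τ := by
  fin_cases Z
  · exact absurd rfl hZ
  · exact acts27
  · exact acts28
  · exact acts29
  · exact acts30
  · exact acts31
  · exact acts32
  · exact acts33
  · exact acts34

theorem actsC (Z : F9) (hZ : Z ≠ 0) : ∃ τ ∈ G, Acts pt (Matrix.reindex e9 e9 (j3C K4 Z)) τ := by
  fin_cases Z
  · exact absurd rfl hZ
  · exact acts35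
  · exact acts36
  · exact acts37
  · exact acts38
  · exact acts39
  · exact acts40
  · exact acts41
  · exact acts42

section gens

variable {F : Type} [Field F] (ω : F) (σ : F →+* K4) (hσ : σ ω = om)

include hσ in
theorem good1 : Good ω σ (j3A F ω ((0 : ZMod 3), (1 : ZMod 3))) (Matrix.reindex e9 e9 (j3A K4 om ((0 : ZMod 3), (1 : ZMod 3)))) tG1 :=
  ⟨Or.inl (Or.inl (Or.inl (Or.inl ⟨((0 : ZMod 3), (1 : ZMod 3)), rfl⟩))), by rw [j3A_map, hσ], tabG1, ⟨_, invG1⟩⟩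

include hσ in
theorem good4 : Good ω σ (j3A F ω ((1 : ZMod 3), (1 : ZMod 3))) (Matrix.reindex e9 e9 (j3A K4 om ((1 : ZMod 3), (1 : ZMod 3)))) tG4 :=
  ⟨Or.inl (Or.inl (Or.inl (Or.inl ⟨((1 : ZMod 3), (1 : ZMod 3)), rfl⟩))), by rw [j3A_map, hσ], tabG4, ⟨_, invG4⟩⟩

include hσ in
theorem good8 : Good ω σ (j3A F ω ((2 : ZMod 3), (2 : ZMod 3))) (Matrix.reindex e9 e9 (j3A K4 om ((2 : ZMod 3), (2 : ZMod 3)))) tG8 :=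
  ⟨Or.inl (Or.inl (Or.inl (Or.inl ⟨((2 : ZMod 3), (2 : ZMod 3)), rfl⟩))), by rw [j3A_map, hσ], tabG8, ⟨_, invG8⟩⟩

include hσ in
theorem good9 : Good ω σ (j3E F ω ((0 : ZMod 3), (0 : ZMod 3))) (Matrix.reindex e9 e9 (j3E K4 om ((0 : ZMod 3), (0 : ZMod 3)))) tG9 :=
  ⟨Or.inl (Or.inl (Or.inl (Or.inr ⟨((0 : ZMod 3), (0 : ZMod 3)), rfl⟩))), by rw [j3E_map, hσ], tabG9, ⟨_, invG9⟩⟩

include hσ in
theorem good10 : Good ω σ (j3E F ω ((0 : ZMod 3), (1 : ZMod 3))) (Matrix.reindex e9 e9 (j3E K4 om ((0 : ZMod 3), (1 : ZMod 3)))) tG10 :=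
  ⟨Or.inl (Or.inl (Or.inl (Or.inr ⟨((0 : ZMod 3), (1 : ZMod 3)), rfl⟩))), by rw [j3E_map, hσ], tabG10, ⟨_, invG10⟩⟩

include hσ in
theorem good13 : Good ω σ (j3E F ω ((1 : ZMod 3), (1 : ZMod 3))) (Matrix.reindex e9 e9 (j3E K4 om ((1 : ZMod 3), (1 : ZMod 3)))) tG13 :=
  ⟨Or.inl (Or.inl (Or.inl (Or.inr ⟨((1 : ZMod 3), (1 : ZMod 3)), rfl⟩))), by rw [j3E_map, hσ], tabG13, ⟨_, invG13⟩⟩

include hσ in
theorem good15 : Good ω σ (j3E F ω ((2 : ZMod 3), (0 : ZMod 3))) (Matrix.reindex e9 e9 (j3E K4 om ((2 : ZMod 3), (0 : ZMod 3)))) tG15 :=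
  ⟨Or.inl (Or.inl (Or.inl (Or.inr ⟨((2 : ZMod 3), (0 : ZMod 3)), rfl⟩))), by rw [j3E_map, hσ], tabG15, ⟨_, invG15⟩⟩

include hσ in
theorem good16 : Good ω σ (j3E F ω ((2 : ZMod 3), (1 : ZMod 3))) (Matrix.reindex e9 e9 (j3E K4 om ((2 : ZMod 3), (1 : ZMod 3)))) tG16 :=
  ⟨Or.inl (Or.inl (Or.inl (Or.inr ⟨((2 : ZMod 3), (1 : ZMod 3)), rfl⟩))), by rw [j3E_map, hσ], tabG16, ⟨_, invG16⟩⟩

include hσ in
theorem good17 : Good ω σ (j3E F ω ((2 : ZMod 3), (2 : ZMod 3))) (Matrix.reindex e9 e9 (j3E K4 om ((2 : ZMod 3), (2 : ZMod 3)))) tG17 :=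
  ⟨Or.inl (Or.inl (Or.inl (Or.inr ⟨((2 : ZMod 3), (2 : ZMod 3)), rfl⟩))), by rw [j3E_map, hσ], tabG17, ⟨_, invG17⟩⟩

include hσ in
theorem good21 : Good ω σ (j3D F ω ((1 : ZMod 3), (0 : ZMod 3))) (Matrix.reindex e9 e9 (j3D K4 om ((1 : ZMod 3), (0 : ZMod 3)))) tG21 :=
  ⟨Or.inl (Or.inl (Or.inr ⟨((1 : ZMod 3), (0 : ZMod 3)), rfl⟩)), by rw [j3D_map, hσ], tabG21, ⟨_, invG21⟩⟩

include hσ in
theorem good24 : Good ω σ (j3D F ω ((2 : ZMod 3), (0 : ZMod 3))) (Matrix.reindex e9 e9 (j3D K4 om ((2 : ZMod 3), (0 : ZMod 3)))) tG24 :=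
  ⟨Or.inl (Or.inl (Or.inr ⟨((2 : ZMod 3), (0 : ZMod 3)), rfl⟩)), by rw [j3D_map, hσ], tabG24, ⟨_, invG24⟩⟩

include hσ in
theorem good25 : Good ω σ (j3D F ω ((2 : ZMod 3), (1 : ZMod 3))) (Matrix.reindex e9 e9 (j3D K4 om ((2 : ZMod 3), (1 : ZMod 3)))) tG25 :=
  ⟨Or.inl (Or.inl (Or.inr ⟨((2 : ZMod 3), (1 : ZMod 3)), rfl⟩)), by rw [j3D_map, hσ], tabG25, ⟨_, invG25⟩⟩

include hσ in
theorem good26 : Good ω σ (j3D F ω ((2 : ZMod 3), (2 : ZMod 3))) (Matrix.reindex e9 e9 (j3D K4 om ((2 : ZMod 3), (2 : ZMod 3)))) tG26 :=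
  ⟨Or.inl (Or.inl (Or.inr ⟨((2 : ZMod 3), (2 : ZMod 3)), rfl⟩)), by rw [j3D_map, hσ], tabG26, ⟨_, invG26⟩⟩

theorem good35 : Good ω σ (j3C F ((0 : ZMod 3), (1 : ZMod 3))) (Matrix.reindex e9 e9 (j3C K4 ((0 : ZMod 3), (1 : ZMod 3)))) tG35 :=
  ⟨Or.inr ⟨((0 : ZMod 3), (1 : ZMod 3)), by decide, rfl⟩, by rw [j3C_map], tabG35, ⟨_, invG35⟩⟩

theorem good37 : Good ω σ (j3C F ((1 : ZMod 3), (0 : ZMod 3))) (Matrix.reindex e9 e9 (j3C K4 ((1 : ZMod 3), (0 : ZMod 3)))) tG37 :=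
  ⟨Or.inr ⟨((1 : ZMod 3), (0 : ZMod 3)), by decide, rfl⟩, by rw [j3C_map], tabG37, ⟨_, invG37⟩⟩

theorem good38 : Good ω σ (j3C F ((1 : ZMod 3), (1 : ZMod 3))) (Matrix.reindex e9 e9 (j3C K4 ((1 : ZMod 3), (1 : ZMod 3)))) tG38 :=
  ⟨Or.inr ⟨((1 : ZMod 3), (1 : ZMod 3)), by decide, rfl⟩, by rw [j3C_map], tabG38, ⟨_, invG38⟩⟩

include hσ in
theorem exists_hX : ∃ h ∈ threeJ3 F ω, Acts pt (matP σ h) (perm 20520 cX) := by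
  have hL : ∀ e ∈ ([
    (j3D F ω ((1 : ZMod 3), (0 : ZMod 3)), Matrix.reindex e9 e9 (j3D K4 om ((1 : ZMod 3), (0 : ZMod 3))), tG21),
    (j3A F ω ((1 : ZMod 3), (1 : ZMod 3)), Matrix.reindex e9 e9 (j3A K4 om ((1 : ZMod 3), (1 : ZMod 3))), tG4),
    (j3C F ((0 : ZMod 3), (1 : ZMod 3)), Matrix.reindex e9 e9 (j3C K4 ((0 : ZMod 3), (1 : ZMod 3))), tG35),
    (j3D F ω ((2 : ZMod 3), (1 : ZMod 3)), Matrix.reindex e9 e9 (j3D K4 om ((2 : ZMod 3), (1 : ZMod 3))), tG25),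
    (j3E F ω ((0 : ZMod 3), (1 : ZMod 3)), Matrix.reindex e9 e9 (j3E K4 om ((0 : ZMod 3), (1 : ZMod 3))), tG10),
    (j3C F ((1 : ZMod 3), (0 : ZMod 3)), Matrix.reindex e9 e9 (j3C K4 ((1 : ZMod 3), (0 : ZMod 3))), tG37),
    (j3D F ω ((2 : ZMod 3), (0 : ZMod 3)), Matrix.reindex e9 e9 (j3D K4 om ((2 : ZMod 3), (0 : ZMod 3))), tG24),
    (j3A F ω ((1 : ZMod 3), (1 : ZMod 3)), Matrix.reindex e9 e9 (j3A K4 om ((1 : ZMod 3), (1 : ZMod 3))), tG4)] : List (Matrix F9 F9 F × Matrix (Fin 9) (Fin 9) K4 × ℕ)),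
      Good ω σ e.1 e.2.1 e.2.2 := by
    intro e he
    simp only [List.mem_cons, List.not_mem_nil, or_false] at he
    rcases he with rfl | rfl | rfl | rfl | rfl | rfl | rfl | rfl
    · exact good21 ω σ hσ
    · exact good4 ω σ hσ
    · exact good35 ω σ
    · exact good25 ω σ hσ
    · exact good10 ω σ hσ
    · exact good37 ω σ
    · exact good24 ω σ hσ
    · exact good4 ω σ hσ
  obtain ⟨h, hh, hm⟩ := exists_of_good ω σ _ hL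
  refine ⟨h, hh, ?_⟩
  rw [hm, good_prod_cols ω σ _ hL mX (1 : Fin 4) colsX]
  exact acts_smul (by decide) actsX'

include hσ in
theorem exists_hY : ∃ h ∈ threeJ3 F ω, Acts pt (matP σ h) (perm 20520 cY) := by
  have hL : ∀ e ∈ ([
    (j3E F ω ((2 : ZMod 3), (1 : ZMod 3)), Matrix.reindex e9 e9 (j3E K4 om ((2 : ZMod 3), (1 : ZMod 3))), tG16),
    (j3E F ω ((2 : ZMod 3), (1 : ZMod 3)), Matrix.reindex e9 e9 (j3E K4 om ((2 : ZMod 3), (1 : ZMod 3))), tG16),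
    (j3C F ((1 : ZMod 3), (1 : ZMod 3)), Matrix.reindex e9 e9 (j3C K4 ((1 : ZMod 3), (1 : ZMod 3))), tG38),
    (j3D F ω ((2 : ZMod 3), (0 : ZMod 3)), Matrix.reindex e9 e9 (j3D K4 om ((2 : ZMod 3), (0 : ZMod 3))), tG24),
    (j3A F ω ((0 : ZMod 3), (1 : ZMod 3)), Matrix.reindex e9 e9 (j3A K4 om ((0 : ZMod 3), (1 : ZMod 3))), tG1),
    (j3C F ((1 : ZMod 3), (0 : ZMod 3)), Matrix.reindex e9 e9 (j3C K4 ((1 : ZMod 3), (0 : ZMod 3))), tG37),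
    (j3E F ω ((2 : ZMod 3), (0 : ZMod 3)), Matrix.reindex e9 e9 (j3E K4 om ((2 : ZMod 3), (0 : ZMod 3))), tG15),
    (j3E F ω ((2 : ZMod 3), (0 : ZMod 3)), Matrix.reindex e9 e9 (j3E K4 om ((2 : ZMod 3), (0 : ZMod 3))), tG15),
    (j3D F ω ((2 : ZMod 3), (2 : ZMod 3)), Matrix.reindex e9 e9 (j3D K4 om ((2 : ZMod 3), (2 : ZMod 3))), tG26),
    (j3C F ((0 : ZMod 3), (1 : ZMod 3)), Matrix.reindex e9 e9 (j3C K4 ((0 : ZMod 3), (1 : ZMod 3))), tG35),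
    (j3A F ω ((2 : ZMod 3), (2 : ZMod 3)), Matrix.reindex e9 e9 (j3A K4 om ((2 : ZMod 3), (2 : ZMod 3))), tG8)] : List (Matrix F9 F9 F × Matrix (Fin 9) (Fin 9) K4 × ℕ)),
      Good ω σ e.1 e.2.1 e.2.2 := by
    intro e he
    simp only [List.mem_cons, List.not_mem_nil, or_false] at he
    rcases he with rfl | rfl | rfl | rfl | rfl | rfl | rfl | rfl | rfl | rfl | rfl
    · exact good16 ω σ hσ
    · exact good16 ω σ hσ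
    · exact good38 ω σ
    · exact good24 ω σ hσ
    · exact good1 ω σ hσ
    · exact good37 ω σ
    · exact good15 ω σ hσ
    · exact good15 ω σ hσ
    · exact good26 ω σ hσ
    · exact good35 ω σ
    · exact good8 ω σ hσ
  obtain ⟨h, hh, hm⟩ := exists_of_good ω σ _ hL
  refine ⟨h, hh, ?_⟩
  rw [hm, good_prod_cols ω σ _ hL mY (3 : Fin 4) colsY]
  exact acts_smul (by decide) actsY'

include hσ in
theorem exists_hZ : ∃ z ∈ threeJ3 F ω, matP σ z = om • (1 : Matrix (Fin 9) (Fin 9) K4) := by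
  have hL : ∀ e ∈ ([
    (j3E F ω ((0 : ZMod 3), (0 : ZMod 3)), Matrix.reindex e9 e9 (j3E K4 om ((0 : ZMod 3), (0 : ZMod 3))), tG9),
    (j3E F ω ((1 : ZMod 3), (1 : ZMod 3)), Matrix.reindex e9 e9 (j3E K4 om ((1 : ZMod 3), (1 : ZMod 3))), tG13),
    (j3E F ω ((2 : ZMod 3), (2 : ZMod 3)), Matrix.reindex e9 e9 (j3E K4 om ((2 : ZMod 3), (2 : ZMod 3))), tG17)] : List (Matrix F9 F9 F × Matrix (Fin 9) (Fin 9) K4 × ℕ)),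
      Good ω σ e.1 e.2.1 e.2.2 := by
    intro e he
    simp only [List.mem_cons, List.not_mem_nil, or_false] at he
    rcases he with rfl | rfl | rfl
    · exact good9 ω σ hσ
    · exact good13 ω σ hσ
    · exact good17 ω σ hσ
  obtain ⟨h, hh, hm⟩ := exists_of_good ω σ _ hL
  refine ⟨h, hh, ?_⟩
  rw [hm, good_prod_cols ω σ _ hL 1 (2 : Fin 4) colsZ]
  rfl

end gens

end

end Cfsg.Agent.Lib.Helper10.J3P
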