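import Cfsg.Agent.Lib.Helper10.J3PData

set_option autoImplicit false

/-!
Checks on the inverse matrices and on the generators used in the words for the two matrices.
-/

namespace Cfsg.Agent.Lib.Helper10.J3P

open Matrix Cfsg.Spor Cfsg.Agent.Lib.Helper10.SX Cfsg.Agent.Lib.Helper10.SXM Cfsg.Agent.Lib.Helper10.J3M

noncomputable section

theorem tabXi : TabOk mXi tXi := by
  decide +kernel

theorem tabYi : TabOk mYi tYi := by
  decide +kernel

theorem mXi_mul : mXi * mX = 1 := by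
  decide +kernel

theorem mYi_mul : mYi * mY = 1 := by
  decide +kernel

theorem tabG1 : TabOk (Matrix.reindex e9 e9 (j3A K4 om ((0 : ZMod 3), (1 : ZMod 3)))) tG1 := by
  decide +kernel

theorem invG1 : Matrix.reindex e9 e9 (j3A K4 om ((0 : ZMod 3), (1 : ZMod 3))) * iG1 = 1 := by
  decide +kernel

theorem tabG4 : TabOk (Matrix.reindex e9 e9 (j3A K4 om ((1 : ZMod 3), (1 : ZMod 3)))) tG4 := by
  decide +kernel

theorem invG4 : Matrix.reindex e9 e9 (j3A K4 om ((1 : ZMod 3), (1 : ZMod 3))) * iG4 = 1 := by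
  decide +kernel

theorem tabG8 : TabOk (Matrix.reindex e9 e9 (j3A K4 om ((2 : ZMod 3), (2 : ZMod 3)))) tG8 := by
  decide +kernel

theorem invG8 : Matrix.reindex e9 e9 (j3A K4 om ((2 : ZMod 3), (2 : ZMod 3))) * iG8 = 1 := by
  decide +kernel

theorem tabG9 : TabOk (Matrix.reindex e9 e9 (j3E K4 om ((0 : ZMod 3), (0 : ZMod 3)))) tG9 := by
  decide +kernel

theorem invG9 : Matrix.reindex e9 e9 (j3E K4 om ((0 : ZMod 3), (0 : ZMod 3))) * iG9 = 1 := by
  decide +kernel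

theorem tabG10 : TabOk (Matrix.reindex e9 e9 (j3E K4 om ((0 : ZMod 3), (1 : ZMod 3)))) tG10 := by
  decide +kernel

theorem invG10 : Matrix.reindex e9 e9 (j3E K4 om ((0 : ZMod 3), (1 : ZMod 3))) * iG10 = 1 := by
  decide +kernel

theorem tabG13 : TabOk (Matrix.reindex e9 e9 (j3E K4 om ((1 : ZMod 3), (1 : ZMod 3)))) tG13 := by
  decide +kernel

theorem invG13 : Matrix.reindex e9 e9 (j3E K4 om ((1 : ZMod 3), (1 : ZMod 3))) * iG13 = 1 := by
  decide +kernel

theorem tabG15 : TabOk (Matrix.reindex e9 e9 (j3E K4 om ((2 : ZMod 3), (0 : ZMod 3)))) tG15 := by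
  decide +kernel

theorem invG15 : Matrix.reindex e9 e9 (j3E K4 om ((2 : ZMod 3), (0 : ZMod 3))) * iG15 = 1 := by
  decide +kernel

theorem tabG16 : TabOk (Matrix.reindex e9 e9 (j3E K4 om ((2 : ZMod 3), (1 : ZMod 3)))) tG16 := by
  decide +kernel

theorem invG16 : Matrix.reindex e9 e9 (j3E K4 om ((2 : ZMod 3), (1 : ZMod 3))) * iG16 = 1 := by
  decide +kernel

theorem tabG17 : TabOk (Matrix.reindex e9 e9 (j3E K4 om ((2 : ZMod 3), (2 : ZMod 3)))) tG17 := by
  decide +kernel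

theorem invG17 : Matrix.reindex e9 e9 (j3E K4 om ((2 : ZMod 3), (2 : ZMod 3))) * iG17 = 1 := by
  decide +kernel

theorem tabG21 : TabOk (Matrix.reindex e9 e9 (j3D K4 om ((1 : ZMod 3), (0 : ZMod 3)))) tG21 := by
  decide +kernel

theorem invG21 : Matrix.reindex e9 e9 (j3D K4 om ((1 : ZMod 3), (0 : ZMod 3))) * iG21 = 1 := by
  decide +kernel

theorem tabG24 : TabOk (Matrix.reindex e9 e9 (j3D K4 om ((2 : ZMod 3), (0 : ZMod 3)))) tG24 := by
  decide +kernel

theorem invG24 : Matrix.reindex e9 e9 (j3D K4 om ((2 : ZMod 3), (0 : ZMod 3))) * iG24 = 1 := by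
  decide +kernel

theorem tabG25 : TabOk (Matrix.reindex e9 e9 (j3D K4 om ((2 : ZMod 3), (1 : ZMod 3)))) tG25 := by
  decide +kernel

theorem invG25 : Matrix.reindex e9 e9 (j3D K4 om ((2 : ZMod 3), (1 : ZMod 3))) * iG25 = 1 := by
  decide +kernel

theorem tabG26 : TabOk (Matrix.reindex e9 e9 (j3D K4 om ((2 : ZMod 3), (2 : ZMod 3)))) tG26 := by
  decide +kernel

theorem invG26 : Matrix.reindex e9 e9 (j3D K4 om ((2 : ZMod 3), (2 : ZMod 3))) * iG26 = 1 := by
  decide +kernel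

theorem tabG35 : TabOk (Matrix.reindex e9 e9 (j3C K4 ((0 : ZMod 3), (1 : ZMod 3)))) tG35 := by
  decide +kernel

theorem invG35 : Matrix.reindex e9 e9 (j3C K4 ((0 : ZMod 3), (1 : ZMod 3))) * iG35 = 1 := by
  decide +kernel

theorem tabG37 : TabOk (Matrix.reindex e9 e9 (j3C K4 ((1 : ZMod 3), (0 : ZMod 3)))) tG37 := by
  decide +kernel

theorem invG37 : Matrix.reindex e9 e9 (j3C K4 ((1 : ZMod 3), (0 : ZMod 3))) * iG37 = 1 := by
  decide +kernel

theorem tabG38 : TabOk (Matrix.reindex e9 e9 (j3C K4 ((1 : ZMod 3), (1 : ZMod 3)))) tG38 := by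
  decide +kernel

theorem invG38 : Matrix.reindex e9 e9 (j3C K4 ((1 : ZMod 3), (1 : ZMod 3))) * iG38 = 1 := by
  decide +kernel


end

end Cfsg.Agent.Lib.Helper10.J3P
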