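import Cfsg.Agent.Lib.Helper10.J3PActs

set_option autoImplicit false

/-!
The group `Cfsg.Spor.threeJ3 F ω` of the Prelude is a triple cover of a simple group of order
50232960.
-/

namespace Cfsg.Agent.Lib.Helper10.J3P

open Matrix Cfsg.Spor Cfsg.Agent.Lib.Helper10.SX Cfsg.Agent.Lib.Helper10.SXM
  Cfsg.Agent.Lib.Helper10.J3M

attribute [local irreducible] perm

section

variable {F : Type} [Field F] (ω : F) (σ : F →+* K4) (hσ : σ ω = om)

include hσ in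
theorem gens_act (g : GL F9 F) (hg : (g : Matrix F9 F9 F) ∈ j3Gens F ω) :
    ∃ τ ∈ G, Acts pt (matP σ g) τ := by
  rw [matP_apply]
  rcases hg with (((⟨Z, hZ⟩ | ⟨Z, hZ⟩) | ⟨Z, hZ⟩) | ⟨Z, hZ0, hZ⟩) | ⟨Z, hZ0, hZ⟩
  · rw [← hZ, j3A_map, hσ]
    exact actsA Z
  · rw [← hZ, j3E_map, hσ]
    exact actsE Z
  · rw [← hZ, j3D_map, hσ]
    exact actsD Z
  · rw [hZ, j3B_map]
    exact actsB Z hZ0
  · rw [hZ, j3C_map]
    exact actsC Z hZ0

include hσ in
theorem cover_of_sigma : Nat.card ↥(Subgroup.center ↥(threeJ3 F ω)) = 3 ∧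
    Nonempty ((↥(threeJ3 F ω) ⧸ Subgroup.center ↥(threeJ3 F ω)) ≃* ↥G) := by
  have := isSimpleGroup_G
  obtain ⟨z, hz, hzm⟩ := exists_hZ ω σ hσ
  apply triple_cover pt G (matP σ) (matP_injective σ) (threeJ3 F ω) hperf ?_ ?_ hne hframe z hz hzm
  · exact exists_acts_of_closure pt (matP σ) (threeJ3 F ω) G
      {g | (g : Matrix F9 F9 F) ∈ j3Gens F ω} rfl (fun g hg => gens_act ω σ hσ g hg)
  · apply exists_acts_of_closure' pt (matP σ) (threeJ3 F ω) G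
      {perm 20520 cX, perm 20520 cY} G_eq_closure
    rintro τ (rfl | rfl)
    · exact exists_hX ω σ hσ
    · exact exists_hY ω σ hσ

end

theorem j3_order_and_center (F : Type) [Field F] [Fintype F] (hF : Fintype.card F = 4) (ω : F)
    (hω : ω ^ 2 + ω + 1 = 0) :
    Nat.card ↥(Subgroup.center ↥(threeJ3 F ω)) = 3 ∧ Nat.card ↥(threeJ3 F ω) = 150698880 ∧
      Nat.card (Cfsg.Spor.J3 F ω) = 50232960 ∧ IsSimpleGroup (Cfsg.Spor.J3 F ω) := by
  obtain ⟨σ, hσ⟩ := exists_sigma hF ω hω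
  obtain ⟨hc, ⟨e⟩⟩ := cover_of_sigma ω σ hσ
  have := isSimpleGroup_G
  have hq : Nat.card (Cfsg.Spor.J3 F ω) = 50232960 := by
    rw [Nat.card_congr e.toEquiv]
    exact card_G
  refine ⟨hc, ?_, hq, e.isSimpleGroup⟩
  rw [Subgroup.card_eq_card_quotient_mul_card_subgroup (Subgroup.center ↥(threeJ3 F ω)), hc]
  have hq' : Nat.card (↥(threeJ3 F ω) ⧸ Subgroup.center ↥(threeJ3 F ω)) = 50232960 := hq
  rw [hq']

end Cfsg.Agent.Lib.Helper10.J3P
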