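import Cfsg.Agent.Lib.Helper10.J3PFinal

set_option autoImplicit false

/-!
The Janko group `Cfsg.Spor.J3 F ω` over a field `F` with four elements in any universe is isomorphic
to the group `J3M.G` of permutations of 20520 points.
-/

namespace Cfsg.Agent.Lib.Helper10.J3P

open Matrix Cfsg.Spor Cfsg.Agent.Lib.Helper10.SX Cfsg.Agent.Lib.Helper10.SXM
  Cfsg.Agent.Lib.Helper10.J3M

/-- the quotients by the centres of isomorphic groups are isomorphic -/
noncomputable def centerQuotCongr {A B : Type*} [Group A] [Group B] (e : A ≃* B) :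
    A ⧸ Subgroup.center A ≃* B ⧸ Subgroup.center B :=
  QuotientGroup.congr (Subgroup.center A) (Subgroup.center B) e (by
    ext x
    constructor
    · rintro ⟨a, ha, rfl⟩
      rw [SetLike.mem_coe, Subgroup.mem_center_iff] at ha
      rw [Subgroup.mem_center_iff]
      intro b
      obtain ⟨b0, rfl⟩ := e.surjective b
      show e b0 * e a = e a * e b0
      rw [← map_mul, ← map_mul, ha b0]
    · intro hx
      rw [Subgroup.mem_center_iff] at hx
      refine ⟨e.symm x, ?_, e.apply_symm_apply x⟩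
      rw [SetLike.mem_coe, Subgroup.mem_center_iff]
      intro a
      apply e.injective
      rw [map_mul, map_mul, e.apply_symm_apply]
      exact hx (e a))

section

variable {F K : Type*} [Field F] [Field K]

theorem gens_map (σ : F →+* K) (ω : F) {M : Matrix F9 F9 F} (hM : M ∈ j3Gens F ω) :
    M.map σ ∈ j3Gens K (σ ω) := by
  rcases hM with (((⟨Z, rfl⟩ | ⟨Z, rfl⟩) | ⟨Z, rfl⟩) | ⟨Z, hZ0, rfl⟩) | ⟨Z, hZ0, rfl⟩
  · rw [j3A_map]; exact Or.inl (Or.inl (Or.inl (Or.inl ⟨Z, rfl⟩)))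
  · rw [j3E_map]; exact Or.inl (Or.inl (Or.inl (Or.inr ⟨Z, rfl⟩)))
  · rw [j3D_map]; exact Or.inl (Or.inl (Or.inr ⟨Z, rfl⟩))
  · rw [j3B_map]; exact Or.inl (Or.inr ⟨Z, hZ0, rfl⟩)
  · rw [j3C_map]; exact Or.inr ⟨Z, hZ0, rfl⟩

/-- the isomorphism of general linear groups of an isomorphism of fields -/
def glMap (ψ : F ≃+* K) : GL F9 F ≃* GL F9 K := Units.mapEquiv ψ.mapMatrix.toMulEquiv

theorem glMap_val (ψ : F ≃+* K) (g : GL F9 F) :
    ((glMap ψ g : GL F9 K) : Matrix F9 F9 K) = (g : Matrix F9 F9 F).map ψ := rfl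

theorem glMap_symm_val (ψ : F ≃+* K) (g : GL F9 K) :
    (((glMap ψ).symm g : GL F9 F) : Matrix F9 F9 F) = (g : Matrix F9 F9 K).map ψ.symm := rfl

theorem map_threeJ3 (ψ : F ≃+* K) (ω : F) :
    (threeJ3 F ω).map (glMap ψ).toMonoidHom = threeJ3 K (ψ ω) := by
  unfold threeJ3
  rw [MonoidHom.map_closure]
  congr 1
  ext g
  constructor
  · rintro ⟨g0, hg0, rfl⟩
    exact gens_map ψ.toRingHom ω hg0
  · intro hg
    refine ⟨(glMap ψ).symm g, ?_, (glMap ψ).apply_symm_apply g⟩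
    have h1 := gens_map ψ.symm.toRingHom (ψ ω) hg
    have h2 : ψ.symm.toRingHom (ψ ω) = ω := ψ.symm_apply_apply ω
    rw [h2] at h1
    exact h1

/-- the groups `threeJ3` over isomorphic fields are isomorphic -/
noncomputable def threeJ3Congr (ψ : F ≃+* K) (ω : F) : ↥(threeJ3 F ω) ≃* ↥(threeJ3 K (ψ ω)) :=
  ((glMap ψ).subgroupMap (threeJ3 F ω)).trans (MulEquiv.subgroupCongr (map_threeJ3 ψ ω))

end

theorem exists_equiv {F : Type*} [Field F] [Fintype F] (hF : Fintype.card F = 4) (ω : F)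
    (hω : ω ^ 2 + ω + 1 = 0) : ∃ ψ : F ≃+* K4, ψ ω = om := by
  have hc : Fintype.card F = Fintype.card K4 := by rw [hF, card_K4]
  let ψ : F ≃+* K4 := FiniteField.ringEquivOfCardEq hc
  have h1 : (ψ ω) ^ 2 + ψ ω + 1 = 0 := by
    rw [← map_pow, ← map_add, ← map_one ψ, ← map_add, hω, map_zero]
  have key : ∃ σ : F →+* K4, σ ω = om := by
    rcases k4_roots _ h1 with h | h
    · exact ⟨ψ.toRingHom, h⟩
    · refine ⟨(frobenius K4 2).comp ψ.toRingHom, ?_⟩
      show (ψ ω) ^ 2 = om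
      rw [h]
      decide
  obtain ⟨σ, hσ⟩ := key
  have hb : Function.Bijective σ :=
    (Fintype.bijective_iff_injective_and_card σ).mpr ⟨σ.injective, hc⟩
  exact ⟨RingEquiv.ofBijective σ hb, hσ⟩

/-- the Janko group over any field with four elements is the group on 20520 points -/
theorem nonempty_J3_equiv {F : Type*} [Field F] [Fintype F] (hF : Fintype.card F = 4) (ω : F)
    (hω : ω ^ 2 + ω + 1 = 0) : Nonempty (Cfsg.Spor.J3 F ω ≃* ↥G) := by
  obtain ⟨ψ, hψ⟩ := exists_equiv hF ω hω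
  obtain ⟨-, ⟨e⟩⟩ := cover_of_sigma om (RingHom.id K4) rfl
  have e1 := threeJ3Congr ψ ω
  rw [hψ] at e1
  exact ⟨(centerQuotCongr e1).trans e⟩

end Cfsg.Agent.Lib.Helper10.J3P
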