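import Mathlib
import Cfsg.Prelude.Def_Spor_J3

set_option autoImplicit false

/-!
The generating matrices of the triple cover of J3 (`Cfsg.Spor.j3Gens`) under a homomorphism of fields,
and the passage from the index set `F9` to `Fin 9`.
-/

namespace Cfsg.Agent.Lib.Helper10.J3P

open Cfsg.Spor Matrix

section nat

variable {F K : Type*} [Field F] [Field K] (σ : F →+* K) (ω : F)

theorem omegaPow_map (n : ZMod 3) : σ (omegaPow F ω n) = omegaPow K (σ ω) n := by
  unfold omegaPow
  rw [map_pow]

theorem j3A_map (Z : F9) : (j3A F ω Z).map σ = j3A K (σ ω) Z := by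
  unfold j3A
  rw [Matrix.diagonal_map (map_zero σ)]
  congr 1
  funext z
  exact omegaPow_map σ ω _

theorem j3E_map (Z : F9) : (j3E F ω Z).map σ = j3E K (σ ω) Z := by
  unfold j3E
  rw [Matrix.diagonal_map (map_zero σ)]
  congr 1
  funext z
  exact omegaPow_map σ ω _

theorem j3Lam_map (Z z : F9) : σ (j3Lam F ω Z z) = j3Lam K (σ ω) Z z := by
  unfold j3Lam
  split_ifs <;> simp

theorem j3D_map (Z : F9) : (j3D F ω Z).map σ = j3D K (σ ω) Z := by
  ext w z
  simp only [j3D, Matrix.map_apply, Matrix.of_apply]
  split_ifs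
  · exact j3Lam_map σ ω Z z
  · exact map_zero σ

theorem j3B_map (Z : F9) : (j3B F Z).map σ = j3B K Z := by
  ext w z
  simp only [j3B, Matrix.map_apply, Matrix.of_apply]
  split_ifs
  · exact map_one σ
  · exact map_zero σ

theorem j3C_map (Z : F9) : (j3C F Z).map σ = j3C K Z := by
  ext w z
  simp only [j3C, Matrix.map_apply, Matrix.of_apply]
  split_ifs
  · exact map_one σ
  · exact map_zero σ
  · exact map_one σ
  · exact map_zero σ

end nat

/-- the bijection of the index set with `Fin 9`: `(x, y) ↦ 3 x + y` -/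
def e9 : F9 ≃ Fin 9 := (finProdFinEquiv : Fin 3 × Fin 3 ≃ Fin (3 * 3))

section hom

variable {F K : Type*} [Field F] [Field K] (σ : F →+* K)

/-- the matrix of an element of `GL F9 F` over `K`, with rows and columns indexed by `Fin 9` -/
def matP : GL F9 F →* Matrix (Fin 9) (Fin 9) K :=
  (((Matrix.reindexAlgEquiv K K e9).toRingEquiv.toRingHom.comp σ.mapMatrix).toMonoidHom).comp
    (Units.coeHom (Matrix F9 F9 F))

theorem matP_apply (g : GL F9 F) :
    matP σ g = Matrix.reindex e9 e9 ((g : Matrix F9 F9 F).map σ) := rfl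

theorem matP_injective : Function.Injective (matP σ (F := F) (K := K)) := by
  intro a b h
  rw [matP_apply, matP_apply] at h
  have h1 := (Matrix.reindex e9 e9).injective h
  apply Units.ext
  ext i j
  have h2 := congrFun (congrFun h1 i) j
  rw [Matrix.map_apply, Matrix.map_apply] at h2
  exact σ.injective h2

/-- a matrix over `F` whose image over `K` has a right inverse is invertible -/
theorem exists_gl (M : Matrix F9 F9 F) (N' : Matrix (Fin 9) (Fin 9) K)
    (h : Matrix.reindex e9 e9 (M.map σ) * N' = 1) : ∃ g : GL F9 F, (g : Matrix F9 F9 F) = M := by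
  have h1 : (Matrix.reindex e9 e9 (M.map σ)).det * N'.det = 1 := by
    rw [← Matrix.det_mul, h, Matrix.det_one]
  have h2 : (Matrix.reindex e9 e9 (M.map σ)).det = σ M.det := by
    rw [Matrix.det_reindex_self]
    exact (σ.map_det M).symm
  have h3 : M.det ≠ 0 := by
    intro h0
    rw [h2, h0, map_zero, zero_mul] at h1
    exact zero_ne_one h1
  exact ⟨Matrix.GeneralLinearGroup.mkOfDetNeZero M h3, rfl⟩

end hom

end Cfsg.Agent.Lib.Helper10.J3P
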