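import Cfsg.Agent.Lib.Helper10.SXK4

set_option autoImplicit false

/-!
A field with four elements and a primitive cube root of unity `ω` in it maps to the model field with
four elements so that `ω` goes to the chosen root.
-/

namespace Cfsg.Agent.Lib.Helper10.J3P

open Cfsg.Agent.Lib.Helper10.SXM

theorem k4_roots (x : K4) (hx : x ^ 2 + x + 1 = 0) : x = om ∨ x = om ^ 2 := by
  obtain ⟨a, b⟩ := x
  fin_cases a <;> fin_cases b
  · exact absurd hx (by decide)
  · left; rfl
  · exact absurd hx (by decide)
  · right; decide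

instance charK4 : CharP K4 2 :=
  charP_of_injective_ringHom (algebraMap (ZMod 2) K4).injective 2

theorem exists_sigma {F : Type} [Field F] [Fintype F] (hF : Fintype.card F = 4) (ω : F)
    (hω : ω ^ 2 + ω + 1 = 0) : ∃ σ : F →+* K4, σ ω = om := by
  have hc : Fintype.card F = Fintype.card K4 := by rw [hF, card_K4]
  let ψ : F ≃+* K4 := FiniteField.ringEquivOfCardEq hc
  have h1 : (ψ ω) ^ 2 + ψ ω + 1 = 0 := by
    rw [← map_pow, ← map_add, ← map_one ψ, ← map_add, hω, map_zero]
  rcases k4_roots _ h1 with h | h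
  · exact ⟨ψ.toRingHom, h⟩
  · refine ⟨(frobenius K4 2).comp ψ.toRingHom, ?_⟩
    show (ψ ω) ^ 2 = om
    rw [h]
    decide

end Cfsg.Agent.Lib.Helper10.J3P
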