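import Cfsg.Agent.Lib.Helper10.J3MFinal
import Cfsg.Agent.Lib.Helper10.J3PSigma
import Cfsg.Agent.Lib.Helper10.J3PChk0

set_option autoImplicit false

/-!
Words in the two matrices of orders 19 and 17 and their inverses, and products of generating matrices
of the Prelude: what a check of the columns of such a product gives.
-/

namespace Cfsg.Agent.Lib.Helper10.J3P

open Matrix Cfsg.Spor Cfsg.Agent.Lib.Helper10.SX Cfsg.Agent.Lib.Helper10.SXM
  Cfsg.Agent.Lib.Helper10.J3M

attribute [local irreducible] perm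

/-! ### scalars -/

theorem acts_smul {M : Matrix (Fin 9) (Fin 9) K4} {τ : Equiv.Perm (Fin 20520)} {s : K4}
    (hs : s ≠ 0) (h : Acts pt M τ) : Acts pt (s • M) τ := by
  intro i
  obtain ⟨t, ht, e⟩ := h i
  refine ⟨s * t, mul_ne_zero hs ht, ?_⟩
  rw [Matrix.smul_mulVec, e, smul_smul]

theorem acts_of_smul {M : Matrix (Fin 9) (Fin 9) K4} {τ : Equiv.Perm (Fin 20520)} {s : K4}
    (hs : s ≠ 0) (h : Acts pt (s • M) τ) : Acts pt M τ := by
  have := acts_smul (inv_ne_zero hs) h
  rwa [smul_smul, inv_mul_cancel₀ hs, one_smul] at this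

/-- a product of matrices with tables, from its columns -/
theorem prod_cols (Ms : List (Matrix (Fin 9) (Fin 9) K4 × ℕ)) (h : ∀ e ∈ Ms, TabOk e.1 e.2)
    (N : Matrix (Fin 9) (Fin 9) K4) (c : Fin 4)
    (hcols : ∀ j : Fin 9, vec9 (evalP (Ms.map Prod.snd) (basisP j.val)) =
      fun r => dec c.val * N r j) : (Ms.map Prod.fst).prod = dec c.val • N := by
  apply mat_eq_of_cols
  intro j
  rw [← vec9_basisP j, ← evalP_spec h, hcols j, vec9_basisP, Matrix.mulVec_single_one]
  funext r
  rfl

/-! ### the four letters -/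

/-- the matrices of the letters -/
noncomputable def matL (k : ℕ) : Matrix (Fin 9) (Fin 9) K4 := [mX, mXi, mY, mYi].getD k mX

/-- the permutations of the letters -/
noncomputable def permL (k : ℕ) : Equiv.Perm (Fin 20520) :=
  [perm 20520 cX, (perm 20520 cX)⁻¹, perm 20520 cY, (perm 20520 cY)⁻¹].getD k (perm 20520 cX)

theorem actsX' : Acts pt mX (perm 20520 cX) := actsX

theorem actsY' : Acts pt mY (perm 20520 cY) := actsY

theorem permX_mem : perm 20520 cX ∈ G := perm_mem_grp mem_X

theorem permY_mem : perm 20520 cY ∈ G := perm_mem_grp mem_Y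

theorem permL_zero : permL 0 = perm 20520 cX := by
  unfold permL
  rw [List.getD_cons_zero]

theorem permL_one : permL 1 = (perm 20520 cX)⁻¹ := by
  unfold permL
  rw [List.getD_cons_succ, List.getD_cons_zero]

theorem permL_two : permL 2 = perm 20520 cY := by
  unfold permL
  rw [List.getD_cons_succ, List.getD_cons_succ, List.getD_cons_zero]

theorem permL_three : permL 3 = (perm 20520 cY)⁻¹ := by
  unfold permL
  rw [List.getD_cons_succ, List.getD_cons_succ, List.getD_cons_succ, List.getD_cons_zero]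

theorem permL_add_four (k : ℕ) : permL (k + 4) = perm 20520 cX := by
  unfold permL
  rw [List.getD_cons_succ, List.getD_cons_succ, List.getD_cons_succ, List.getD_cons_succ,
    List.getD_nil]

theorem letter_ok : ∀ k : ℕ, TabOk (matL k) (tabL k) ∧ permL k ∈ G ∧ Acts pt (matL k) (permL k)
  | 0 => by
    rw [permL_zero]
    exact ⟨tabX1, permX_mem, actsX'⟩
  | 1 => by
    rw [permL_one]
    exact ⟨tabXi, G.inv_mem permX_mem, acts_inv pt actsX' mXi_mul⟩
  | 2 => by
    rw [permL_two]
    exact ⟨tabY1, permY_mem, actsY'⟩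
  | 3 => by
    rw [permL_three]
    exact ⟨tabYi, G.inv_mem permY_mem, acts_inv pt actsY' mYi_mul⟩
  | (k + 4) => by
    rw [permL_add_four]
    exact ⟨tabX1, permX_mem, actsX'⟩

theorem word_acts (w : List ℕ) :
    (w.map permL).prod ∈ G ∧ Acts pt (w.map matL).prod (w.map permL).prod := by
  induction w with
  | nil => exact ⟨G.one_mem, acts_one pt⟩
  | cons k w ih =>
    rw [List.map_cons, List.map_cons, List.prod_cons, List.prod_cons]
    exact ⟨G.mul_mem (letter_ok k).2.1 ih.1, acts_mul pt (letter_ok k).2.2 ih.2⟩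

theorem word_cols (w : List ℕ) (N : Matrix (Fin 9) (Fin 9) K4) (c : Fin 4)
    (hcols : ∀ j : Fin 9, vec9 (evalP (w.map tabL) (basisP j.val)) = fun r => dec c.val * N r j) :
    (w.map matL).prod = dec c.val • N := by
  have h := prod_cols (w.map fun k => (matL k, tabL k))
    (by
      intro e he
      obtain ⟨k, -, rfl⟩ := List.mem_map.mp he
      exact (letter_ok k).1) N c
  rw [List.map_map, List.map_map] at h
  exact h hcols

/-- a matrix which is a scalar multiple of a word in the letters induces a permutation of the group -/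
theorem gen_acts (w : List ℕ) (N : Matrix (Fin 9) (Fin 9) K4) (c : Fin 4) (hc : dec c.val ≠ 0)
    (hcols : ∀ j : Fin 9, vec9 (evalP (w.map tabL) (basisP j.val)) = fun r => dec c.val * N r j) :
    ∃ τ ∈ G, Acts pt N τ := by
  refine ⟨_, (word_acts w).1, acts_of_smul hc ?_⟩
  rw [← word_cols w N c hcols]
  exact (word_acts w).2

/-! ### products of generating matrices -/

section gens

variable {F : Type} [Field F] (ω : F) (σ : F →+* K4)

/-- a generating matrix over `F`, its image over the model field, and a table of the image -/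
def Good (M : Matrix F9 F9 F) (N : Matrix (Fin 9) (Fin 9) K4) (T : ℕ) : Prop :=
  M ∈ j3Gens F ω ∧ Matrix.reindex e9 e9 (M.map σ) = N ∧ TabOk N T ∧
    ∃ N' : Matrix (Fin 9) (Fin 9) K4, N * N' = 1

theorem exists_of_good (L : List (Matrix F9 F9 F × Matrix (Fin 9) (Fin 9) K4 × ℕ))
    (hL : ∀ e ∈ L, Good ω σ e.1 e.2.1 e.2.2) :
    ∃ h ∈ threeJ3 F ω, matP σ h = (L.map fun e => e.2.1).prod := by
  induction L with
  | nil => exact ⟨1, one_mem _, map_one _⟩
  | cons e L ih =>
    obtain ⟨h, hh, hm⟩ := ih fun e' he' => hL e' (List.mem_cons_of_mem _ he')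
    obtain ⟨hmem, hre, -, N', hN'⟩ := hL e List.mem_cons_self
    obtain ⟨g, hg⟩ := exists_gl σ e.1 N' (by rw [hre]; exact hN')
    refine ⟨g * h, mul_mem (Subgroup.subset_closure ?_) hh, ?_⟩
    · show (g : Matrix F9 F9 F) ∈ j3Gens F ω
      rw [hg]
      exact hmem
    · rw [map_mul, hm, List.map_cons, List.prod_cons, matP_apply, hg, hre]

theorem good_prod_cols (L : List (Matrix F9 F9 F × Matrix (Fin 9) (Fin 9) K4 × ℕ))
    (hL : ∀ e ∈ L, Good ω σ e.1 e.2.1 e.2.2) (N : Matrix (Fin 9) (Fin 9) K4) (c : Fin 4)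
    (hcols : ∀ j : Fin 9, vec9 (evalP (L.map fun e => e.2.2) (basisP j.val)) =
      fun r => dec c.val * N r j) :
    (L.map fun e => e.2.1).prod = dec c.val • N := by
  have h := prod_cols (L.map fun e => (e.2.1, e.2.2))
    (by
      intro e he
      obtain ⟨e', he', rfl⟩ := List.mem_map.mp he
      exact (hL e' he').2.2.1) N c
  rw [List.map_map, List.map_map] at h
  exact h hcols

end gens

end Cfsg.Agent.Lib.Helper10.J3P
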