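import Cfsg.Agent.Lib.Helper10.SXK4
import Cfsg.Agent.Lib.Helper10.SXTree
import Cfsg.Agent.Lib.Helper10.SXChunk
set_option autoImplicit false

/-!
Packed vectors of the 9-space over the field with four elements: the code of a vector, the parity of
its weight, normalised codes, sorted tables of points, Schreier trees on points, and a table covering
the vectors of even weight.
-/

namespace Cfsg.Agent.Lib.Helper10.J3Q

open Cfsg.Agent.Lib.Helper10.SX Cfsg.Agent.Lib.Helper10.SXM

def enc (x : K4) : ℕ := x.re.val + 2 * x.im.val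

theorem dec_enc : ∀ x : K4, dec (enc x) = x := by decide
theorem enc_lt : ∀ x : K4, enc x < 4 := by decide
theorem dec_inj : ∀ a < 4, ∀ b < 4, dec a = dec b → a = b := by decide

theorem crd_eq (v j : ℕ) : crd v j = v / 4 ^ j % 4 := by
  show (v >>> (2 * j)) &&& 3 = _
  rw [Nat.shiftRight_eq_div_pow, pow_mul]
  exact Nat.and_two_pow_sub_one_eq_mod _ 2

theorem vec9_apply (u : ℕ) (j : Fin 9) : vec9 u j = dec (crd u j.val) := rfl

theorem vec9_inj {u u' : ℕ} (hu : u < 262144) (hu' : u' < 262144) (h : vec9 u = vec9 u') :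
    u = u' := by
  have hc : ∀ j : Fin 9, u / 4 ^ j.val % 4 = u' / 4 ^ j.val % 4 := by
    intro j
    have h1 := congrFun h j
    rw [vec9_apply, vec9_apply] at h1
    have h2 := dec_inj _ (land3_lt _) _ (land3_lt _) h1
    rwa [← crd_eq, ← crd_eq]
  have h0 := hc 0
  have h1 := hc 1
  have h2 := hc 2
  have h3 := hc 3
  have h4 := hc 4
  have h5 := hc 5
  have h6 := hc 6
  have h7 := hc 7
  have h8 := hc 8
  norm_num at h0 h1 h2 h3 h4 h5 h6 h7 h8
  omega

/-- the packed code of a vector -/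
def code9 (x : Fin 9 → K4) : ℕ :=
  enc (x 0) + 4 * enc (x 1) + 16 * enc (x 2) + 64 * enc (x 3) + 256 * enc (x 4) +
    1024 * enc (x 5) + 4096 * enc (x 6) + 16384 * enc (x 7) + 65536 * enc (x 8)

theorem code9_lt (x : Fin 9 → K4) : code9 x < 262144 := by
  have h0 := enc_lt (x 0)
  have h1 := enc_lt (x 1)
  have h2 := enc_lt (x 2)
  have h3 := enc_lt (x 3)
  have h4 := enc_lt (x 4)
  have h5 := enc_lt (x 5)
  have h6 := enc_lt (x 6)
  have h7 := enc_lt (x 7)
  have h8 := enc_lt (x 8)
  unfold code9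
  omega

theorem vec9_code9 (x : Fin 9 → K4) : vec9 (code9 x) = x := by
  have h0 := enc_lt (x 0)
  have h1 := enc_lt (x 1)
  have h2 := enc_lt (x 2)
  have h3 := enc_lt (x 3)
  have h4 := enc_lt (x 4)
  have h5 := enc_lt (x 5)
  have h6 := enc_lt (x 6)
  have h7 := enc_lt (x 7)
  have h8 := enc_lt (x 8)
  have k0 : dec (code9 x / 4 ^ 0 % 4) = x 0 := by
    have : code9 x / 4 ^ 0 % 4 = enc (x 0) := by unfold code9; norm_num; omega
    rw [this, dec_enc]
  have k1 : dec (code9 x / 4 ^ 1 % 4) = x 1 := by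
    have : code9 x / 4 ^ 1 % 4 = enc (x 1) := by unfold code9; norm_num; omega
    rw [this, dec_enc]
  have k2 : dec (code9 x / 4 ^ 2 % 4) = x 2 := by
    have : code9 x / 4 ^ 2 % 4 = enc (x 2) := by unfold code9; norm_num; omega
    rw [this, dec_enc]
  have k3 : dec (code9 x / 4 ^ 3 % 4) = x 3 := by
    have : code9 x / 4 ^ 3 % 4 = enc (x 3) := by unfold code9; norm_num; omega
    rw [this, dec_enc]
  have k4 : dec (code9 x / 4 ^ 4 % 4) = x 4 := by
    have : code9 x / 4 ^ 4 % 4 = enc (x 4) := by unfold code9; norm_num; omega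
    rw [this, dec_enc]
  have k5 : dec (code9 x / 4 ^ 5 % 4) = x 5 := by
    have : code9 x / 4 ^ 5 % 4 = enc (x 5) := by unfold code9; norm_num; omega
    rw [this, dec_enc]
  have k6 : dec (code9 x / 4 ^ 6 % 4) = x 6 := by
    have : code9 x / 4 ^ 6 % 4 = enc (x 6) := by unfold code9; norm_num; omega
    rw [this, dec_enc]
  have k7 : dec (code9 x / 4 ^ 7 % 4) = x 7 := by
    have : code9 x / 4 ^ 7 % 4 = enc (x 7) := by unfold code9; norm_num; omega
    rw [this, dec_enc]
  have k8 : dec (code9 x / 4 ^ 8 % 4) = x 8 := by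
    have : code9 x / 4 ^ 8 % 4 = enc (x 8) := by unfold code9; norm_num; omega
    rw [this, dec_enc]
  funext j
  rw [vec9_apply, crd_eq]
  fin_cases j
  · exact k0
  · exact k1
  · exact k2
  · exact k3
  · exact k4
  · exact k5
  · exact k6
  · exact k7
  · exact k8

/-! ### the parity of the weight -/

/-- `1` for a nonzero code of a field element, `0` for the zero code -/
def nz (c : ℕ) : ℕ := Nat.land (Nat.lor c (Nat.shiftRight c 1)) 1

/-- the parity of the number of nonzero coordinates -/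
def oddW (u : ℕ) : ℕ :=
  Nat.xor (nz (crd u 0)) (Nat.xor (nz (crd u 1)) (Nat.xor (nz (crd u 2)) (Nat.xor (nz (crd u 3))
    (Nat.xor (nz (crd u 4)) (Nat.xor (nz (crd u 5)) (Nat.xor (nz (crd u 6))
      (Nat.xor (nz (crd u 7)) (nz (crd u 8)))))))))

theorem nz_lt (c : ℕ) : nz c < 2 := by
  show (c ||| c >>> 1) &&& 1 < 2
  exact Nat.lt_succ_of_le Nat.and_le_right

theorem cube_dec : ∀ c < 4, dec c ^ 3 = ((nz c : ℕ) : K4) := by decide

theorem cast_xor : ∀ a < 2, ∀ b < 2, ((Nat.xor a b : ℕ) : K4) = (a : K4) + (b : K4) := by decide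

theorem xor_lt_two : ∀ a < 2, ∀ b < 2, Nat.xor a b < 2 := by decide

theorem sum_cube (u : ℕ) : ∑ j, vec9 u j ^ 3 = ((oddW u : ℕ) : K4) := by
  simp only [Fin.sum_univ_succ, Fin.sum_univ_zero, vec9_apply]
  have hc : ∀ j, dec (crd u j) ^ 3 = ((nz (crd u j) : ℕ) : K4) := fun j => cube_dec _ (land3_lt _)
  have l8 := nz_lt (crd u 8)
  have l7 := xor_lt_two _ (nz_lt (crd u 7)) _ l8
  have l6 := xor_lt_two _ (nz_lt (crd u 6)) _ l7
  have l5 := xor_lt_two _ (nz_lt (crd u 5)) _ l6
  have l4 := xor_lt_two _ (nz_lt (crd u 4)) _ l5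
  have l3 := xor_lt_two _ (nz_lt (crd u 3)) _ l4
  have l2 := xor_lt_two _ (nz_lt (crd u 2)) _ l3
  have l1 := xor_lt_two _ (nz_lt (crd u 1)) _ l2
  unfold oddW
  rw [cast_xor _ (nz_lt _) _ l1, cast_xor _ (nz_lt _) _ l2, cast_xor _ (nz_lt _) _ l3,
    cast_xor _ (nz_lt _) _ l4, cast_xor _ (nz_lt _) _ l5, cast_xor _ (nz_lt _) _ l6,
    cast_xor _ (nz_lt _) _ l7, cast_xor _ (nz_lt _) _ l8]
  simp only [← hc]
  simp only [Fin.val_zero, Fin.val_succ, add_zero, add_assoc]
  rfl

theorem oddW_lt (u : ℕ) : oddW u < 2 := by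
  have l8 := nz_lt (crd u 8)
  have l7 := xor_lt_two _ (nz_lt (crd u 7)) _ l8
  have l6 := xor_lt_two _ (nz_lt (crd u 6)) _ l7
  have l5 := xor_lt_two _ (nz_lt (crd u 5)) _ l6
  have l4 := xor_lt_two _ (nz_lt (crd u 4)) _ l5
  have l3 := xor_lt_two _ (nz_lt (crd u 3)) _ l4
  have l2 := xor_lt_two _ (nz_lt (crd u 2)) _ l3
  have l1 := xor_lt_two _ (nz_lt (crd u 1)) _ l2
  exact xor_lt_two _ (nz_lt (crd u 0)) _ l1

theorem oddW_eq_zero {u : ℕ} (h : ∑ j, vec9 u j ^ 3 = 0) : oddW u = 0 := by
  rw [sum_cube] at h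
  have hl := oddW_lt u
  interval_cases hw : oddW u
  · rfl
  · exact absurd h (by decide)

/-! ### normalised codes -/

/-- the first nonzero coordinate among `j, …, j + k - 1` exists and is `1` -/
def normFrom (u : ℕ) : ℕ → ℕ → Bool
  | 0, _ => false
  | k + 1, j => Nat.beq (crd u j) 1 || (Nat.beq (crd u j) 0 && normFrom u k (j + 1))

theorem normFrom_sound (u : ℕ) : ∀ k j : ℕ, normFrom u k j = true →
    ∃ j', j ≤ j' ∧ j' < j + k ∧ crd u j' = 1 ∧ ∀ i, j ≤ i → i < j' → crd u i = 0 := by
  intro k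
  induction k with
  | zero => intro j h; exact absurd h (by simp [normFrom])
  | succ k ih =>
    intro j h
    rw [normFrom, Bool.or_eq_true, Bool.and_eq_true] at h
    rcases h with h | ⟨h0, h⟩
    · exact ⟨j, le_refl _, by omega, Nat.eq_of_beq_eq_true h, fun i h1 h2 => by omega⟩
    · obtain ⟨j', h1, h2, h3, h4⟩ := ih (j + 1) h
      refine ⟨j', by omega, by omega, h3, fun i hi1 hi2 => ?_⟩
      rcases Nat.eq_or_lt_of_le hi1 with rfl | hlt
      · exact Nat.eq_of_beq_eq_true h0
      · exact h4 i hlt hi2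

/-- the first nonzero coordinate of the vector is `1` -/
def IsNorm (x : Fin 9 → K4) : Prop := ∃ j : Fin 9, x j = 1 ∧ ∀ i < j, x i = 0

theorem isNorm_of_normFrom {u : ℕ} (h : normFrom u 9 0 = true) : IsNorm (vec9 u) := by
  obtain ⟨j', -, h2, h3, h4⟩ := normFrom_sound u 9 0 h
  refine ⟨⟨j', by omega⟩, ?_, fun i hi => ?_⟩
  · rw [vec9_apply, h3]; exact dec_one
  · rw [vec9_apply, h4 i.val (Nat.zero_le _) hi]; exact dec_zero

theorem eq_of_isNorm_smul {x y : Fin 9 → K4} (hx : IsNorm x) (hy : IsNorm y) {s : K4}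
    (h : x = s • y) : x = y := by
  obtain ⟨jx, hx1, hx0⟩ := hx
  obtain ⟨jy, hy1, hy0⟩ := hy
  have hs : s = 1 := by
    rcases lt_trichotomy jx jy with hlt | heq | hgt
    · have := congrFun h jx
      rw [hx1, Pi.smul_apply, hy0 jx hlt, smul_zero] at this
      exact absurd this one_ne_zero
    · subst heq
      have := congrFun h jx
      rw [hx1, Pi.smul_apply, hy1, smul_eq_mul, mul_one] at this
      exact this.symm
    · have h1 := congrFun h jy
      rw [hx0 jy hgt, Pi.smul_apply, hy1, smul_eq_mul, mul_one] at h1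
      have h2 := congrFun h jx
      rw [hx1, ← h1, zero_smul] at h2
      exact absurd h2 one_ne_zero
  rw [h, hs, one_smul]

/-! ### sorted tables of points -/

theorem ptc_lt (P i : ℕ) : ptc P i < 262144 := by
  unfold ptc fld
  rw [forceNat_eq]
  exact Nat.lt_succ_of_le Nat.and_le_right

/-- the codes of the points increase -/
def sortedOk (n P : ℕ) : Bool := allLt (Nat.pred n) fun i => Nat.blt (ptc P i) (ptc P (Nat.succ i))

/-- the codes of the points are normalised -/
def normOk (n P : ℕ) : Bool := allLt n fun i => normFrom (ptc P i) 9 0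

theorem ptc_strictMono {n P : ℕ} (h : sortedOk n P = true) :
    ∀ j i : ℕ, i < j → j < n → ptc P i < ptc P j := by
  unfold sortedOk at h
  rw [allLt_iff] at h
  intro j
  induction j with
  | zero => intro i hi; omega
  | succ j ih =>
    intro i hi hj
    have h1 : ptc P j < ptc P (j + 1) := by
      have := h j (by rw [Nat.pred_eq_sub_one]; omega)
      simpa [Nat.blt] using this
    rcases Nat.eq_or_lt_of_le (Nat.le_of_lt_succ hi) with rfl | hlt
    · exact h1
    · exact lt_trans (ih i hlt (by omega)) h1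

theorem nonprop {n P : ℕ} (hs : sortedOk n P = true) (hn : normOk n P = true) (i j : Fin n)
    (s : K4) (h : ptv n P i = s • ptv n P j) : i = j := by
  unfold normOk at hn
  rw [allLt_iff] at hn
  have e1 := eq_of_isNorm_smul (isNorm_of_normFrom (hn i.val i.isLt))
    (isNorm_of_normFrom (hn j.val j.isLt)) h
  have e2 := vec9_inj (ptc_lt P i.val) (ptc_lt P j.val) e1
  apply Fin.ext
  rcases lt_trichotomy i.val j.val with hlt | heq | hgt
  · exact absurd e2 (ne_of_lt (ptc_strictMono hs _ _ hlt j.isLt))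
  · exact heq
  · exact absurd e2.symm (ne_of_lt (ptc_strictMono hs _ _ hgt i.isLt))

/-! ### Schreier trees on points -/

/-- apply a Boolean function to a number after evaluating the number -/
def forceB (y : ℕ) (f : ℕ → Bool) : Bool :=
  Nat.rec (motive := fun _ => Bool) (f 0) (fun k _ => f (Nat.succ k)) y

theorem forceB_eq (y : ℕ) (f : ℕ → Bool) : forceB y f = f y := by
  cases y <;> rfl

/-- the depth of the point `i` in the tree: the top four bits of its entry of 24 bits -/
def trDep (TR i : ℕ) : ℕ := Nat.shiftRight (fld 24 TR i) 20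

/-- the check of the entry of the point `i`: the point of depth `0` is the point `0`, and a point of
positive depth is the image under the table of its label of a point whose depth is one less -/
def treeF (n P TR : ℕ) (Ts : List ℕ) (i : ℕ) : Bool :=
  forceB (fld 24 TR i) fun e => forceB (Nat.land e 65535) fun p =>
    (Nat.beq (Nat.shiftRight e 20) 0 && Nat.beq i 0) ||
    (Nat.blt p n && (Nat.beq (Nat.succ (trDep TR p)) (Nat.shiftRight e 20) &&
      Nat.beq (mulP (Ts.getD (Nat.land (Nat.shiftRight e 16) 15) 0) (ptc P p)) (ptc P i)))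

theorem land15_lt (a : ℕ) : Nat.land a 15 < 16 := Nat.lt_succ_of_le Nat.and_le_right

theorem tree_sound {n P TR : ℕ} {Ts : List ℕ} (hlen : Ts.length = 16)
    (R : (Fin 9 → K4) → Prop) (h0 : R (vec9 (ptc P 0)))
    (hstep : ∀ T ∈ Ts, ∀ a : ℕ, R (vec9 a) → R (vec9 (mulP T a)))
    (h : allLt n (treeF n P TR Ts) = true) : ∀ i < n, R (vec9 (ptc P i)) := by
  rw [allLt_iff] at h
  have key : ∀ d i : ℕ, i < n → trDep TR i = d → R (vec9 (ptc P i)) := by
    intro d
    induction d with
    | zero =>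
      intro i hi hd
      have hi' := h i hi
      unfold treeF at hi'
      rw [forceB_eq, forceB_eq] at hi'
      rw [Bool.or_eq_true, Bool.and_eq_true, Bool.and_eq_true, Bool.and_eq_true] at hi'
      rcases hi' with ⟨-, h2⟩ | ⟨-, h2, -⟩
      · rw [Nat.eq_of_beq_eq_true h2]; exact h0
      · have := Nat.eq_of_beq_eq_true h2
        unfold trDep at hd
        rw [hd] at this
        exact absurd this (Nat.succ_ne_zero _)
    | succ d ih =>
      intro i hi hd
      have hi' := h i hi
      unfold treeF at hi'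
      rw [forceB_eq, forceB_eq] at hi'
      rw [Bool.or_eq_true, Bool.and_eq_true, Bool.and_eq_true, Bool.and_eq_true] at hi'
      unfold trDep at hd
      rcases hi' with ⟨h1, -⟩ | ⟨h1, h2, h3⟩
      · have := Nat.eq_of_beq_eq_true h1
        rw [hd] at this
        exact absurd this (Nat.succ_ne_zero _)
      · have hp : Nat.land (fld 24 TR i) 65535 < n := by simpa [Nat.blt] using h1
        have hdp := Nat.eq_of_beq_eq_true h2
        rw [hd] at hdp
        have hR := ih _ hp (Nat.succ.inj hdp)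
        have hm := Nat.eq_of_beq_eq_true h3
        rw [← hm]
        apply hstep _ _ _ hR
        rw [List.getD_eq_getElem _ _ (by rw [hlen]; exact land15_lt _)]
        exact List.getElem_mem _
  intro i hi
  exact key _ i hi rfl

/-! ### covering the vectors of even weight -/

/-- the check for the code `u`: it is zero, or of odd weight, or the multiple by the scalar of its
entry of the point of its entry -/
def covF (n P IX : ℕ) (S : List ℕ) (u : ℕ) : Bool :=
  Nat.beq u 0 || (Nat.beq (oddW u) 1 ||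
    forceB (fld 18 IX u) fun e => forceB (Nat.land e 65535) fun p =>
      Nat.blt p n && Nat.beq (mulP (S.getD (Nat.shiftRight e 16) 0) (ptc P p)) u)

theorem fld18_lt (P i : ℕ) : fld 18 P i < 262144 := ptc_lt P i

theorem cov_sound {n P IX : ℕ} {S : List ℕ} (hlen : S.length = 4)
    (hS : ∀ T ∈ S, ∃ s : K4, s ≠ 0 ∧ TabOk (s • (1 : Matrix (Fin 9) (Fin 9) K4)) T)
    (h : allLt 262144 (covF n P IX S) = true) (x : Fin 9 → K4) (hx : x ≠ 0)
    (hiso : ∑ j, x j ^ 3 = 0) : ∃ i : Fin n, ∃ s : K4, s ≠ 0 ∧ x = s • ptv n P i := by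
  rw [allLt_iff] at h
  have hu := h (code9 x) (code9_lt x)
  unfold covF at hu
  rw [forceB_eq, forceB_eq] at hu
  rw [Bool.or_eq_true, Bool.or_eq_true, Bool.and_eq_true] at hu
  rcases hu with h1 | h1 | ⟨h1, h2⟩
  · exfalso
    apply hx
    rw [← vec9_code9 x, Nat.eq_of_beq_eq_true h1]
    exact vec9_zero
  · exfalso
    have := oddW_eq_zero (u := code9 x) (by rw [vec9_code9]; exact hiso)
    rw [this] at h1
    exact absurd h1 (by decide)
  · have hp : Nat.land (fld 18 IX (code9 x)) 65535 < n := by simpa [Nat.blt] using h1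
    have hm := Nat.eq_of_beq_eq_true h2
    have hlt : Nat.shiftRight (fld 18 IX (code9 x)) 16 < 4 := by
      have := fld18_lt IX (code9 x)
      show fld 18 IX (code9 x) >>> 16 < 4
      rw [Nat.shiftRight_eq_div_pow]
      omega
    have hmem : S.getD (Nat.shiftRight (fld 18 IX (code9 x)) 16) 0 ∈ S := by
      rw [List.getD_eq_getElem _ _ (by rw [hlen]; exact hlt)]
      exact List.getElem_mem _
    obtain ⟨s, hs, htab⟩ := hS _ hmem
    refine ⟨⟨_, hp⟩, s, hs, ?_⟩
    have := mulP_spec htab (ptc P (Nat.land (fld 18 IX (code9 x)) 65535))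
    rw [hm, vec9_code9, Matrix.smul_mulVec, Matrix.one_mulVec] at this
    exact this

end Cfsg.Agent.Lib.Helper10.J3Q
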