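import Cfsg.Agent.Lib.Helper10.J3QTabs
import Cfsg.Agent.Lib.Helper10.J3QData1
import Cfsg.Agent.Lib.Helper10.J3QData2

set_option autoImplicit false

/-!
Checks on the tables of points and of matrices.
-/

namespace Cfsg.Agent.Lib.Helper10.J3Q

open Matrix Cfsg.Agent.Lib.Helper10.SX Cfsg.Agent.Lib.Helper10.SXM Cfsg.Agent.Lib.Helper10.J3M
  Cfsg.Agent.Lib.Helper10.J3P

noncomputable section

theorem sorted1 : sortedOk 23256 P1 = true := by
  decide +kernel

theorem norm1 : normOk 23256 P1 = true := by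
  decide +kernel

theorem invX1 : invB 23256 cX1 cXi1 = true := by
  decide +kernel

theorem invY1 : invB 23256 cY1 cYi1 = true := by
  decide +kernel

theorem root1 : ptc P1 0 = 1 := by
  decide +kernel

theorem root2 : ptc P2 0 = 5 := by
  decide +kernel

theorem tabS1 : TabOk ((1 : K4) • (1 : Matrix (Fin 9) (Fin 9) K4)) tS1 := by
  decide +kernel

theorem tabS2 : TabOk (om • (1 : Matrix (Fin 9) (Fin 9) K4)) tS2 := by
  decide +kernel

theorem tabS3 : TabOk (om ^ 2 • (1 : Matrix (Fin 9) (Fin 9) K4)) tS3 := by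
  decide +kernel

theorem tabXi2 : TabOk (om • mXi) tXi2 := by
  decide +kernel

theorem tabXi3 : TabOk (om ^ 2 • mXi) tXi3 := by
  decide +kernel

theorem tabYi2 : TabOk (om • mYi) tYi2 := by
  decide +kernel

theorem tabYi3 : TabOk (om ^ 2 • mYi) tYi3 := by
  decide +kernel

end

end Cfsg.Agent.Lib.Helper10.J3Q
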