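import Cfsg.Agent.Lib.Helper10.J3QChkA

set_option autoImplicit false

/-!
The two matrices induce the two permutations of the points of the first orbit.
-/

namespace Cfsg.Agent.Lib.Helper10.J3Q

open Matrix Cfsg.Agent.Lib.Helper10.SX Cfsg.Agent.Lib.Helper10.SXM Cfsg.Agent.Lib.Helper10.J3M
  Cfsg.Agent.Lib.Helper10.J3P

noncomputable section

theorem linkX1_c0 : allRange (0 * 2907) 2907 (linkF 23256 P1 [tX1, tX2, tX3] cX1) = true := by
  decide +kernel

theorem linkX1_c1 : allRange (1 * 2907) 2907 (linkF 23256 P1 [tX1, tX2, tX3] cX1) = true := by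
  decide +kernel

theorem linkX1_c2 : allRange (2 * 2907) 2907 (linkF 23256 P1 [tX1, tX2, tX3] cX1) = true := by
  decide +kernel

theorem linkX1_c3 : allRange (3 * 2907) 2907 (linkF 23256 P1 [tX1, tX2, tX3] cX1) = true := by
  decide +kernel

theorem linkX1_c4 : allRange (4 * 2907) 2907 (linkF 23256 P1 [tX1, tX2, tX3] cX1) = true := by
  decide +kernel

theorem linkX1_c5 : allRange (5 * 2907) 2907 (linkF 23256 P1 [tX1, tX2, tX3] cX1) = true := by
  decide +kernel

theorem linkX1_c6 : allRange (6 * 2907) 2907 (linkF 23256 P1 [tX1, tX2, tX3] cX1) = true := by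
  decide +kernel

theorem linkX1_c7 : allRange (7 * 2907) 2907 (linkF 23256 P1 [tX1, tX2, tX3] cX1) = true := by
  decide +kernel

theorem linkX1 : allLt 23256 (linkF 23256 P1 [tX1, tX2, tX3] cX1) = true := by
  apply allLt_of_chunks 2907 8 (by norm_num)
  intro k hk
  interval_cases k
  · exact linkX1_c0
  · exact linkX1_c1
  · exact linkX1_c2
  · exact linkX1_c3
  · exact linkX1_c4
  · exact linkX1_c5
  · exact linkX1_c6
  · exact linkX1_c7

theorem linkY1_c0 : allRange (0 * 2907) 2907 (linkF 23256 P1 [tY1, tY2, tY3] cY1) = true := by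
  decide +kernel

theorem linkY1_c1 : allRange (1 * 2907) 2907 (linkF 23256 P1 [tY1, tY2, tY3] cY1) = true := by
  decide +kernel

theorem linkY1_c2 : allRange (2 * 2907) 2907 (linkF 23256 P1 [tY1, tY2, tY3] cY1) = true := by
  decide +kernel

theorem linkY1_c3 : allRange (3 * 2907) 2907 (linkF 23256 P1 [tY1, tY2, tY3] cY1) = true := by
  decide +kernel

theorem linkY1_c4 : allRange (4 * 2907) 2907 (linkF 23256 P1 [tY1, tY2, tY3] cY1) = true := by
  decide +kernel

theorem linkY1_c5 : allRange (5 * 2907) 2907 (linkF 23256 P1 [tY1, tY2, tY3] cY1) = true := by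
  decide +kernel

theorem linkY1_c6 : allRange (6 * 2907) 2907 (linkF 23256 P1 [tY1, tY2, tY3] cY1) = true := by
  decide +kernel

theorem linkY1_c7 : allRange (7 * 2907) 2907 (linkF 23256 P1 [tY1, tY2, tY3] cY1) = true := by
  decide +kernel

theorem linkY1 : allLt 23256 (linkF 23256 P1 [tY1, tY2, tY3] cY1) = true := by
  apply allLt_of_chunks 2907 8 (by norm_num)
  intro k hk
  interval_cases k
  · exact linkY1_c0
  · exact linkY1_c1
  · exact linkY1_c2
  · exact linkY1_c3
  · exact linkY1_c4
  · exact linkY1_c5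
  · exact linkY1_c6
  · exact linkY1_c7


end

end Cfsg.Agent.Lib.Helper10.J3Q
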