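import Cfsg.Agent.Lib.Helper10.J3QChkB

set_option autoImplicit false

/-!
The Schreier trees of the two orbits.
-/

namespace Cfsg.Agent.Lib.Helper10.J3Q

open Matrix Cfsg.Agent.Lib.Helper10.SX Cfsg.Agent.Lib.Helper10.SXM Cfsg.Agent.Lib.Helper10.J3M
  Cfsg.Agent.Lib.Helper10.J3P

noncomputable section

theorem tree1_c0 : allRange (0 * 2907) 2907 (treeF 23256 P1 TR1 tabLS) = true := by
  decide +kernel

theorem tree1_c1 : allRange (1 * 2907) 2907 (treeF 23256 P1 TR1 tabLS) = true := by
  decide +kernel

theorem tree1_c2 : allRange (2 * 2907) 2907 (treeF 23256 P1 TR1 tabLS) = true := by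
  decide +kernel

theorem tree1_c3 : allRange (3 * 2907) 2907 (treeF 23256 P1 TR1 tabLS) = true := by
  decide +kernel

theorem tree1_c4 : allRange (4 * 2907) 2907 (treeF 23256 P1 TR1 tabLS) = true := by
  decide +kernel

theorem tree1_c5 : allRange (5 * 2907) 2907 (treeF 23256 P1 TR1 tabLS) = true := by
  decide +kernel

theorem tree1_c6 : allRange (6 * 2907) 2907 (treeF 23256 P1 TR1 tabLS) = true := by
  decide +kernel

theorem tree1_c7 : allRange (7 * 2907) 2907 (treeF 23256 P1 TR1 tabLS) = true := by
  decide +kernel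

theorem tree1 : allLt 23256 (treeF 23256 P1 TR1 tabLS) = true := by
  apply allLt_of_chunks 2907 8 (by norm_num)
  intro k hk
  interval_cases k
  · exact tree1_c0
  · exact tree1_c1
  · exact tree1_c2
  · exact tree1_c3
  · exact tree1_c4
  · exact tree1_c5
  · exact tree1_c6
  · exact tree1_c7

theorem tree2_c0 : allRange (0 * 2907) 2907 (treeF 43605 P2 TR2 tabLS) = true := by
  decide +kernel

theorem tree2_c1 : allRange (1 * 2907) 2907 (treeF 43605 P2 TR2 tabLS) = true := by
  decide +kernel

theorem tree2_c2 : allRange (2 * 2907) 2907 (treeF 43605 P2 TR2 tabLS) = true := by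
  decide +kernel

theorem tree2_c3 : allRange (3 * 2907) 2907 (treeF 43605 P2 TR2 tabLS) = true := by
  decide +kernel

theorem tree2_c4 : allRange (4 * 2907) 2907 (treeF 43605 P2 TR2 tabLS) = true := by
  decide +kernel

theorem tree2_c5 : allRange (5 * 2907) 2907 (treeF 43605 P2 TR2 tabLS) = true := by
  decide +kernel

theorem tree2_c6 : allRange (6 * 2907) 2907 (treeF 43605 P2 TR2 tabLS) = true := by
  decide +kernel

theorem tree2_c7 : allRange (7 * 2907) 2907 (treeF 43605 P2 TR2 tabLS) = true := by
  decide +kernel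

theorem tree2_c8 : allRange (8 * 2907) 2907 (treeF 43605 P2 TR2 tabLS) = true := by
  decide +kernel

theorem tree2_c9 : allRange (9 * 2907) 2907 (treeF 43605 P2 TR2 tabLS) = true := by
  decide +kernel

theorem tree2_c10 : allRange (10 * 2907) 2907 (treeF 43605 P2 TR2 tabLS) = true := by
  decide +kernel

theorem tree2_c11 : allRange (11 * 2907) 2907 (treeF 43605 P2 TR2 tabLS) = true := by
  decide +kernel

theorem tree2_c12 : allRange (12 * 2907) 2907 (treeF 43605 P2 TR2 tabLS) = true := by
  decide +kernel

theorem tree2_c13 : allRange (13 * 2907) 2907 (treeF 43605 P2 TR2 tabLS) = true := by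
  decide +kernel

theorem tree2_c14 : allRange (14 * 2907) 2907 (treeF 43605 P2 TR2 tabLS) = true := by
  decide +kernel

theorem tree2 : allLt 43605 (treeF 43605 P2 TR2 tabLS) = true := by
  apply allLt_of_chunks 2907 15 (by norm_num)
  intro k hk
  interval_cases k
  · exact tree2_c0
  · exact tree2_c1
  · exact tree2_c2
  · exact tree2_c3
  · exact tree2_c4
  · exact tree2_c5
  · exact tree2_c6
  · exact tree2_c7
  · exact tree2_c8
  · exact tree2_c9
  · exact tree2_c10
  · exact tree2_c11
  · exact tree2_c12
  · exact tree2_c13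
  · exact tree2_c14


end

end Cfsg.Agent.Lib.Helper10.J3Q
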