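import Cfsg.Agent.Lib.Helper10.J3QChkD4

set_option autoImplicit false

/-!
Every nonzero vector of even weight is a multiple of a point of the second orbit.
-/

namespace Cfsg.Agent.Lib.Helper10.J3Q

open Matrix Cfsg.Agent.Lib.Helper10.SX Cfsg.Agent.Lib.Helper10.SXM Cfsg.Agent.Lib.Helper10.J3M
  Cfsg.Agent.Lib.Helper10.J3P

noncomputable section

theorem cov2 : allLt 262144 (covF 43605 P2 IX2 tabS) = true := by
  apply allLt_of_chunks 16384 16 (by norm_num)
  intro k hk
  interval_cases k
  · exact cov_c0
  · exact cov_c1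
  · exact cov_c2
  · exact cov_c3
  · exact cov_c4
  · exact cov_c5
  · exact cov_c6
  · exact cov_c7
  · exact cov_c8
  · exact cov_c9
  · exact cov_c10
  · exact cov_c11
  · exact cov_c12
  · exact cov_c13
  · exact cov_c14
  · exact cov_c15

end

end Cfsg.Agent.Lib.Helper10.J3Q
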