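import Cfsg.Agent.Lib.Helper10.J3QChkD1

set_option autoImplicit false

/-!
Every nonzero vector of even weight is a multiple of a point of the second orbit: part 2.
-/

namespace Cfsg.Agent.Lib.Helper10.J3Q

open Matrix Cfsg.Agent.Lib.Helper10.SX Cfsg.Agent.Lib.Helper10.SXM Cfsg.Agent.Lib.Helper10.J3M
  Cfsg.Agent.Lib.Helper10.J3P

noncomputable section

theorem cov_c4 : allRange (4 * 16384) 16384 (covF 43605 P2 IX2 tabS) = true := by
  decide +kernel

theorem cov_c5 : allRange (5 * 16384) 16384 (covF 43605 P2 IX2 tabS) = true := by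
  decide +kernel

theorem cov_c6 : allRange (6 * 16384) 16384 (covF 43605 P2 IX2 tabS) = true := by
  decide +kernel

theorem cov_c7 : allRange (7 * 16384) 16384 (covF 43605 P2 IX2 tabS) = true := by
  decide +kernel


end

end Cfsg.Agent.Lib.Helper10.J3Q
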