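import Cfsg.Agent.Lib.Helper10.J3QChkD2

set_option autoImplicit false

/-!
Every nonzero vector of even weight is a multiple of a point of the second orbit: part 3.
-/

namespace Cfsg.Agent.Lib.Helper10.J3Q

open Matrix Cfsg.Agent.Lib.Helper10.SX Cfsg.Agent.Lib.Helper10.SXM Cfsg.Agent.Lib.Helper10.J3M
  Cfsg.Agent.Lib.Helper10.J3P

noncomputable section

theorem cov_c8 : allRange (8 * 16384) 16384 (covF 43605 P2 IX2 tabS) = true := by
  decide +kernel

theorem cov_c9 : allRange (9 * 16384) 16384 (covF 43605 P2 IX2 tabS) = true := by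
  decide +kernel

theorem cov_c10 : allRange (10 * 16384) 16384 (covF 43605 P2 IX2 tabS) = true := by
  decide +kernel

theorem cov_c11 : allRange (11 * 16384) 16384 (covF 43605 P2 IX2 tabS) = true := by
  decide +kernel


end

end Cfsg.Agent.Lib.Helper10.J3Q
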