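import Cfsg.Agent.Lib.Helper10.J3QMain

set_option autoImplicit false

/-!
The orbits of the triple cover of the Janko group J3 on the lines of its 9-space over a field with
four elements: the line of the first basis vector has 23256 images, and the isotropic lines form one
orbit.
-/

namespace Cfsg.Agent.Lib.Helper10.J3Q

open Matrix Cfsg.Spor Cfsg.Agent.Lib.Helper10.SX Cfsg.Agent.Lib.Helper10.SXM Cfsg.Agent.Lib.Helper10.J3M
  Cfsg.Agent.Lib.Helper10.J3P

attribute [local irreducible] perm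

noncomputable section

variable {F : Type} [Field F] (ω : F) (σ : F →+* K4)

/-! ### vectors over the model field -/

/-- the vector over the model field, with coordinates indexed by `Fin 9` -/
def vecP (v : F9 → F) : Fin 9 → K4 := fun i => σ (v (e9.symm i))

theorem vecP_mulVec (g : GL F9 F) (v : F9 → F) :
    vecP σ ((g : Matrix F9 F9 F) *ᵥ v) = matP σ g *ᵥ vecP σ v := by
  funext i
  rw [matP_apply]
  simp only [vecP, Matrix.mulVec, dotProduct, map_sum, map_mul, Matrix.reindex_apply,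
    Matrix.submatrix_apply, Matrix.map_apply]
  exact (Equiv.sum_comp e9.symm _).symm

theorem vecP_smul (c : F) (v : F9 → F) : vecP σ (c • v) = σ c • vecP σ v := by
  funext i
  simp only [vecP, Pi.smul_apply, smul_eq_mul, map_mul]

theorem vecP_injective : Function.Injective (vecP σ) := by
  intro v w h
  funext z
  have := congrFun h (e9 z)
  simp only [vecP, Equiv.symm_apply_apply] at this
  exact σ.injective this

theorem vecP_zero : vecP σ 0 = 0 := by
  funext i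
  simp only [vecP, Pi.zero_apply, map_zero]

theorem vecP_surjective (hs : Function.Surjective σ) : Function.Surjective (vecP σ) := by
  intro x
  choose f hf using hs
  refine ⟨fun z => f (x (e9 z)), ?_⟩
  funext i
  simp only [vecP, Equiv.apply_symm_apply, hf]

theorem vecP_single : vecP σ (Pi.single (0 : F9) (1 : F)) = Pi.single 0 1 := by
  funext i
  simp only [vecP, Pi.single_apply]
  have h0 : e9 (0 : F9) = 0 := by decide
  by_cases hi : i = 0
  · subst hi
    rw [if_pos (by rw [← h0, Equiv.symm_apply_apply]), if_pos rfl, map_one]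
  · rw [if_neg, if_neg hi, map_zero]
    intro h
    apply hi
    rw [← h0, ← h, Equiv.apply_symm_apply]

theorem vecP_iso (v : F9 → F) (h : ∑ z, v z ^ 3 = 0) : ∑ j, vecP σ v j ^ 3 = 0 := by
  simp only [vecP]
  rw [Equiv.sum_comp e9.symm (fun z => σ (v z) ^ 3)]
  simp only [← map_pow]
  rw [← map_sum, h, map_zero]

/-! ### reaching points by elements of the group -/

/-- some element of the group maps `b` to a nonzero multiple of `x` -/
def Reach (b x : Fin 9 → K4) : Prop :=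
  ∃ g ∈ threeJ3 F ω, ∃ s : K4, s ≠ 0 ∧ matP σ g *ᵥ b = s • x

theorem reach_refl (b : Fin 9 → K4) : Reach ω σ b b :=
  ⟨1, one_mem _, 1, one_ne_zero, by rw [map_one, Matrix.one_mulVec, one_smul]⟩

variable (hσ : σ ω = om)

include hσ in
theorem exists_letter : ∀ k : ℕ, ∃ h ∈ threeJ3 F ω, ∃ s : K4, s ≠ 0 ∧ matP σ h = s • matL k := by
  obtain ⟨hX, hXm, hXe⟩ := exists_mX ω σ hσ
  obtain ⟨hY, hYm, hYe⟩ := exists_mY ω σ hσ
  have hinv : ∀ (h : GL F9 F) (s : K4) (M Mi : Matrix (Fin 9) (Fin 9) K4), s ≠ 0 →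
      matP σ h = s • M → Mi * M = 1 → matP σ h⁻¹ = s⁻¹ • Mi := by
    intro h s M Mi hs he hM
    have h1 : matP σ h⁻¹ * matP σ h = 1 := by rw [← map_mul, inv_mul_cancel, map_one]
    have h2 : matP σ h * (s⁻¹ • Mi) = 1 := by
      rw [he, Matrix.smul_mul, Matrix.mul_smul, smul_smul, mul_inv_cancel₀ hs, one_smul]
      exact mul_eq_one_comm.mp hM
    calc matP σ h⁻¹ = matP σ h⁻¹ * (matP σ h * (s⁻¹ • Mi)) := by rw [h2, mul_one]
      _ = s⁻¹ • Mi := by rw [← mul_assoc, h1, one_mul]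
  have d1 : dec (1 : Fin 4).val ≠ 0 := by decide
  have d3 : dec (3 : Fin 4).val ≠ 0 := by decide
  intro k
  match k with
  | 0 => exact ⟨hX, hXm, _, d1, hXe⟩
  | 1 => exact ⟨hX⁻¹, inv_mem hXm, _, inv_ne_zero d1, hinv hX _ mX mXi d1 hXe mXi_mul⟩
  | 2 => exact ⟨hY, hYm, _, d3, hYe⟩
  | 3 => exact ⟨hY⁻¹, inv_mem hYm, _, inv_ne_zero d3, hinv hY _ mY mYi d3 hYe mYi_mul⟩
  | (_ + 4) => exact ⟨hX, hXm, _, d1, hXe⟩

include hσ in
theorem reach_step {b : Fin 9 → K4} {T : ℕ}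
    (hT : ∃ k : ℕ, ∃ s : K4, s ≠ 0 ∧ TabOk (s • matL k) T) (a : ℕ)
    (h : Reach ω σ b (vec9 a)) : Reach ω σ b (vec9 (mulP T a)) := by
  obtain ⟨k, s, hs, htab⟩ := hT
  obtain ⟨g, hg, t, ht, e⟩ := h
  obtain ⟨hk, hkm, r, hr, ek⟩ := exists_letter ω σ hσ k
  refine ⟨hk * g, mul_mem hkm hg, r * t * s⁻¹, mul_ne_zero (mul_ne_zero hr ht) (inv_ne_zero hs), ?_⟩
  rw [mulP_spec htab, map_mul, ← Matrix.mulVec_mulVec, e, ek, Matrix.mulVec_smul,
    Matrix.smul_mulVec, Matrix.smul_mulVec, smul_smul, smul_smul]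
  congr 1
  field_simp

include hσ in
theorem reach1 (i : Fin 23256) : Reach ω σ (pt1 ⟨0, by norm_num⟩) (pt1 i) :=
  tree_sound (Ts := tabLS) rfl (Reach ω σ (vec9 (ptc P1 0))) (reach_refl ω σ _)
    (fun T hT a h => reach_step ω σ hσ (tabLS_ok T hT) a h) tree1 i.val i.isLt

include hσ in
theorem reach2 (i : Fin 43605) : Reach ω σ (pt2 ⟨0, by norm_num⟩) (pt2 i) :=
  tree_sound (Ts := tabLS) rfl (Reach ω σ (vec9 (ptc P2 0))) (reach_refl ω σ _)
    (fun T hT a h => reach_step ω σ hσ (tabLS_ok T hT) a h) tree2 i.val i.isLt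

include hσ in
theorem acts1_of_mem (g : GL F9 F) (hg : g ∈ threeJ3 F ω) :
    ∃ τ : Equiv.Perm (Fin 23256), Acts pt1 (matP σ g) τ := by
  obtain ⟨τ, -, hτ⟩ := exists_acts_of_closure pt1 (matP σ) (threeJ3 F ω) ⊤
    {g | (g : Matrix F9 F9 F) ∈ j3Gens F ω} rfl
    (fun g hg => by
      obtain ⟨τ, hτ⟩ := isWord_act pt1 letters1 (gens_word ω σ hσ g hg)
      exact ⟨τ, Subgroup.mem_top _, hτ⟩) g hg
  exact ⟨τ, hτ⟩

/-! ### the two statements -/

theorem matP_inv_mulVec (g : GL F9 F) {b x : Fin 9 → K4} {a : K4} (ha : a ≠ 0)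
    (h : matP σ g *ᵥ b = a • x) : matP σ g⁻¹ *ᵥ x = a⁻¹ • b := by
  have h1 : matP σ g⁻¹ *ᵥ (matP σ g *ᵥ b) = b := by
    rw [Matrix.mulVec_mulVec, ← map_mul, inv_mul_cancel, map_one, Matrix.one_mulVec]
  rw [h, Matrix.mulVec_smul] at h1
  rw [← h1, smul_smul, inv_mul_cancel₀ ha, one_smul]

include hσ in
/-- the isotropic lines form one orbit -/
theorem isotropic_transitive (hs : Function.Surjective σ) (v w : F9 → F) (hv : v ≠ 0) (hw : w ≠ 0)
    (hv3 : ∑ z, v z ^ 3 = 0) (hw3 : ∑ z, w z ^ 3 = 0) :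
    ∃ g ∈ threeJ3 F ω, ∃ c : F, c ≠ 0 ∧ (g : Matrix F9 F9 F) *ᵥ v = c • w := by
  have hv' : vecP σ v ≠ 0 := fun h => hv (vecP_injective σ (h.trans (vecP_zero σ).symm))
  have hw' : vecP σ w ≠ 0 := fun h => hw (vecP_injective σ (h.trans (vecP_zero σ).symm))
  obtain ⟨i, s, hs0, ei⟩ := cover2 _ hv' (vecP_iso σ v hv3)
  obtain ⟨j, t, ht0, ej⟩ := cover2 _ hw' (vecP_iso σ w hw3)
  obtain ⟨g1, hg1, a, ha, e1⟩ := reach2 ω σ hσ i
  obtain ⟨g2, hg2, b, hb, e2⟩ := reach2 ω σ hσ j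
  have e3 := matP_inv_mulVec σ g1 ha e1
  obtain ⟨c, hc⟩ := hs (s * a⁻¹ * b * t⁻¹)
  have hc0 : c ≠ 0 := by
    intro h
    rw [h, map_zero] at hc
    exact mul_ne_zero (mul_ne_zero (mul_ne_zero hs0 (inv_ne_zero ha)) hb) (inv_ne_zero ht0) hc.symm
  refine ⟨g2 * g1⁻¹, mul_mem hg2 (inv_mem hg1), c, hc0, ?_⟩
  apply vecP_injective σ
  rw [vecP_mulVec, vecP_smul, hc, map_mul, ← Matrix.mulVec_mulVec, ei, Matrix.mulVec_smul, e3,
    Matrix.mulVec_smul, Matrix.mulVec_smul, e2, ej, smul_smul, smul_smul, smul_smul]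
  congr 1
  field_simp

include hσ in
/-- the line of the first basis vector has 23256 images -/
theorem card_orbit_line (hs : Function.Surjective σ) :
    {L : Submodule F (F9 → F) | ∃ g ∈ threeJ3 F ω,
      L = F ∙ ((g : Matrix F9 F9 F) *ᵥ (Pi.single (0 : F9) (1 : F) : F9 → F))}.ncard = 23256 := by
  choose vv hvv using fun i : Fin 23256 => vecP_surjective σ hs (pt1 i)
  have hunit : ∀ c : F, c ≠ 0 → ∀ x : F9 → F, F ∙ (c • x) = F ∙ x := fun c hc x =>
    Submodule.span_singleton_smul_eq (IsUnit.mk0 c hc) x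
  have hset : {L : Submodule F (F9 → F) | ∃ g ∈ threeJ3 F ω,
      L = F ∙ ((g : Matrix F9 F9 F) *ᵥ (Pi.single (0 : F9) (1 : F) : F9 → F))} =
      Set.range fun i : Fin 23256 => F ∙ vv i := by
    ext L
    constructor
    · rintro ⟨g, hg, rfl⟩
      obtain ⟨τ, hτ⟩ := acts1_of_mem ω σ hσ g hg
      obtain ⟨s, hs0, e⟩ := hτ ⟨0, by norm_num⟩
      obtain ⟨c, hc⟩ := hs s
      have hc0 : c ≠ 0 := by
        intro h
        rw [h, map_zero] at hc
        exact hs0 hc.symm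
      refine ⟨τ ⟨0, by norm_num⟩, ?_⟩
      show F ∙ vv (τ ⟨0, by norm_num⟩) = _
      have key : c • vv (τ ⟨0, by norm_num⟩) =
          (g : Matrix F9 F9 F) *ᵥ (Pi.single (0 : F9) (1 : F) : F9 → F) := by
        apply vecP_injective σ
        rw [vecP_smul, hvv, hc, vecP_mulVec, vecP_single, ← pt1_zero, e]
      rw [← hunit c hc0, key]
    · rintro ⟨i, rfl⟩
      obtain ⟨g, hg, s, hs0, e⟩ := reach1 ω σ hσ i
      obtain ⟨c, hc⟩ := hs s
      have hc0 : c ≠ 0 := by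
        intro h
        rw [h, map_zero] at hc
        exact hs0 hc.symm
      refine ⟨g, hg, ?_⟩
      show F ∙ vv i = _
      have key : c • vv i = (g : Matrix F9 F9 F) *ᵥ (Pi.single (0 : F9) (1 : F) : F9 → F) := by
        apply vecP_injective σ
        rw [vecP_smul, hvv, hc, vecP_mulVec, vecP_single, ← pt1_zero, e]
      rw [← hunit c hc0, key]
  have hinj : Function.Injective fun i : Fin 23256 => F ∙ vv i := by
    intro i j h
    obtain ⟨z, hz⟩ := (Submodule.span_singleton_eq_span_singleton).mp h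
    refine (nonprop1 j i (σ (z : F)) ?_).symm
    rw [← hvv, ← hvv, ← vecP_smul, ← hz]
    rfl
  rw [hset, ← Set.image_univ, Set.ncard_image_of_injective _ hinj, Set.ncard_univ, Nat.card_eq_fintype_card,
    Fintype.card_fin]

end

end Cfsg.Agent.Lib.Helper10.J3Q
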