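import Cfsg.Agent.Lib.Helper10.J3QWords
import Cfsg.Agent.Lib.Helper10.J3QChkD

set_option autoImplicit false

/-!
The orbits of the triple cover of the Janko group J3 on the lines of its 9-space over the field with
four elements: over the model field.
-/

namespace Cfsg.Agent.Lib.Helper10.J3Q

open Matrix Cfsg.Spor Cfsg.Agent.Lib.Helper10.SX Cfsg.Agent.Lib.Helper10.SXM Cfsg.Agent.Lib.Helper10.J3M
  Cfsg.Agent.Lib.Helper10.J3P

attribute [local irreducible] perm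

noncomputable section

/-! ### matrices acting on a family of points -/

section generic

variable {n : ℕ} (pt' : Fin n → (Fin 9 → K4))

theorem acts_smul' {M : Matrix (Fin 9) (Fin 9) K4} {τ : Equiv.Perm (Fin n)} {s : K4}
    (hs : s ≠ 0) (h : Acts pt' M τ) : Acts pt' (s • M) τ := by
  intro i
  obtain ⟨t, ht, e⟩ := h i
  refine ⟨s * t, mul_ne_zero hs ht, ?_⟩
  rw [Matrix.smul_mulVec, e, smul_smul]

theorem acts_of_smul' {M : Matrix (Fin 9) (Fin 9) K4} {τ : Equiv.Perm (Fin n)} {s : K4}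
    (hs : s ≠ 0) (h : Acts pt' (s • M) τ) : Acts pt' M τ := by
  have := acts_smul' pt' (inv_ne_zero hs) h
  rwa [smul_smul, inv_mul_cancel₀ hs, one_smul] at this

theorem letters_act {τX τY : Equiv.Perm (Fin n)} (hX : Acts pt' mX τX) (hY : Acts pt' mY τY) :
    ∀ k : ℕ, ∃ τ : Equiv.Perm (Fin n), Acts pt' (matL k) τ
  | 0 => ⟨τX, hX⟩
  | 1 => ⟨τX⁻¹, acts_inv pt' hX mXi_mul⟩
  | 2 => ⟨τY, hY⟩
  | 3 => ⟨τY⁻¹, acts_inv pt' hY mYi_mul⟩
  | (_ + 4) => ⟨τX, hX⟩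

theorem word_act (hL : ∀ k : ℕ, ∃ τ : Equiv.Perm (Fin n), Acts pt' (matL k) τ) (w : List ℕ) :
    ∃ τ : Equiv.Perm (Fin n), Acts pt' (w.map matL).prod τ := by
  induction w with
  | nil => exact ⟨1, acts_one pt'⟩
  | cons k w ih =>
    obtain ⟨τ, hτ⟩ := ih
    obtain ⟨ρ, hρ⟩ := hL k
    rw [List.map_cons, List.prod_cons]
    exact ⟨ρ * τ, acts_mul pt' hρ hτ⟩

theorem isWord_act (hL : ∀ k : ℕ, ∃ τ : Equiv.Perm (Fin n), Acts pt' (matL k) τ)
    {N : Matrix (Fin 9) (Fin 9) K4} (hN : IsWord N) : ∃ τ : Equiv.Perm (Fin n), Acts pt' N τ := by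
  obtain ⟨w, c, hc, hw⟩ := hN
  obtain ⟨τ, hτ⟩ := word_act pt' hL w
  rw [hw] at hτ
  exact ⟨τ, acts_of_smul' pt' hc hτ⟩

end generic

/-! ### the first orbit -/

/-- the points of the first orbit -/
def pt1 : Fin 23256 → (Fin 9 → K4) := ptv 23256 P1

/-- the points of the second orbit -/
def pt2 : Fin 43605 → (Fin 9 → K4) := ptv 43605 P2

theorem validX1 : Valid 23256 cX1 := valid_of_invOf ((invB_iff _ _ _).mp invX1)

theorem validY1 : Valid 23256 cY1 := valid_of_invOf ((invB_iff _ _ _).mp invY1)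

theorem acts1X : Acts pt1 mX (perm 23256 cX1) := by
  have hTs : ∀ e ∈ [((1 : K4), tX1), (om, tX2), (om ^ 2, tX3)],
      e.1 ≠ 0 ∧ TabOk (e.1 • mX) e.2 := by
    intro e he
    rcases List.mem_cons.mp he with rfl | he
    · exact ⟨one_ne_zero, by rw [one_smul]; exact tabX1⟩
    rcases List.mem_cons.mp he with rfl | he
    · exact ⟨om_ne_zero, tabX2⟩
    rcases List.mem_cons.mp he with rfl | he
    · exact ⟨pow_ne_zero 2 om_ne_zero, tabX3⟩
    exact absurd he List.not_mem_nil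
  exact link_sound _ hTs validX1 linkX1

theorem acts1Y : Acts pt1 mY (perm 23256 cY1) := by
  have hTs : ∀ e ∈ [((1 : K4), tY1), (om, tY2), (om ^ 2, tY3)],
      e.1 ≠ 0 ∧ TabOk (e.1 • mY) e.2 := by
    intro e he
    rcases List.mem_cons.mp he with rfl | he
    · exact ⟨one_ne_zero, by rw [one_smul]; exact tabY1⟩
    rcases List.mem_cons.mp he with rfl | he
    · exact ⟨om_ne_zero, tabY2⟩
    rcases List.mem_cons.mp he with rfl | he
    · exact ⟨pow_ne_zero 2 om_ne_zero, tabY3⟩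
    exact absurd he List.not_mem_nil
  exact link_sound _ hTs validY1 linkY1

theorem letters1 : ∀ k : ℕ, ∃ τ : Equiv.Perm (Fin 23256), Acts pt1 (matL k) τ :=
  letters_act pt1 acts1X acts1Y

theorem nonprop1 (i j : Fin 23256) (s : K4) (h : pt1 i = s • pt1 j) : i = j :=
  nonprop sorted1 norm1 i j s h

theorem pt1_zero : pt1 ⟨0, by norm_num⟩ = Pi.single 0 1 := by
  show vec9 (ptc P1 0) = _
  rw [root1]
  exact vec9_basisP 0

/-! ### the tables -/

theorem tabLS_ok : ∀ T ∈ tabLS, ∃ k : ℕ, ∃ s : K4, s ≠ 0 ∧ TabOk (s • matL k) T := by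
  intro T hT
  simp only [tabLS, List.mem_cons, List.not_mem_nil, or_false] at hT
  have h1 : ∀ k : ℕ, ∀ T : ℕ, TabOk (matL k) T → ∃ k : ℕ, ∃ s : K4, s ≠ 0 ∧ TabOk (s • matL k) T :=
    fun k T h => ⟨k, 1, one_ne_zero, by rw [one_smul]; exact h⟩
  rcases hT with rfl | rfl | rfl | rfl | rfl | rfl | rfl | rfl | rfl | rfl | rfl | rfl | rfl | rfl |
    rfl | rfl
  · exact h1 0 _ tabX1
  · exact h1 1 _ tabXi
  · exact h1 2 _ tabY1
  · exact h1 3 _ tabYi
  · exact ⟨0, om, om_ne_zero, tabX2⟩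
  · exact ⟨1, om, om_ne_zero, tabXi2⟩
  · exact ⟨2, om, om_ne_zero, tabY2⟩
  · exact ⟨3, om, om_ne_zero, tabYi2⟩
  · exact ⟨0, om ^ 2, pow_ne_zero 2 om_ne_zero, tabX3⟩
  · exact ⟨1, om ^ 2, pow_ne_zero 2 om_ne_zero, tabXi3⟩
  · exact ⟨2, om ^ 2, pow_ne_zero 2 om_ne_zero, tabY3⟩
  · exact ⟨3, om ^ 2, pow_ne_zero 2 om_ne_zero, tabYi3⟩
  · exact h1 0 _ tabX1
  · exact h1 0 _ tabX1
  · exact h1 0 _ tabX1
  · exact h1 0 _ tabX1

theorem tabS_ok : ∀ T ∈ tabS, ∃ s : K4, s ≠ 0 ∧ TabOk (s • (1 : Matrix (Fin 9) (Fin 9) K4)) T := by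
  intro T hT
  simp only [tabS, List.mem_cons, List.not_mem_nil, or_false] at hT
  rcases hT with rfl | rfl | rfl | rfl
  · exact ⟨1, one_ne_zero, tabS1⟩
  · exact ⟨1, one_ne_zero, tabS1⟩
  · exact ⟨om, om_ne_zero, tabS2⟩
  · exact ⟨om ^ 2, pow_ne_zero 2 om_ne_zero, tabS3⟩

/-- every nonzero vector of even weight is a multiple of a point of the second orbit -/
theorem cover2 (x : Fin 9 → K4) (hx : x ≠ 0) (hiso : ∑ j, x j ^ 3 = 0) :
    ∃ i : Fin 43605, ∃ s : K4, s ≠ 0 ∧ x = s • pt2 i :=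
  cov_sound rfl tabS_ok cov2 x hx hiso

end

end Cfsg.Agent.Lib.Helper10.J3Q
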