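import Cfsg.Agent.Lib.Helper10.J3PData
import Cfsg.Agent.Lib.Helper10.J3QBasic

set_option autoImplicit false

/-!
Tables of scalar matrices and of the scaled inverses of the two matrices.  (Generated.)
-/

namespace Cfsg.Agent.Lib.Helper10.J3Q

open Matrix Cfsg.Agent.Lib.Helper10.SX Cfsg.Agent.Lib.Helper10.SXM Cfsg.Agent.Lib.Helper10.J3M
  Cfsg.Agent.Lib.Helper10.J3P

noncomputable section

/-- the table of the scalar matrix of the scalar with code 1 -/
def tS1 : ℕ := 0xc000200004000000003000080001000000000c000200004000000003000080001000000000c000200004000000003000080001000000000c000200004000000003000080001000000000c0002000040000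

/-- the table of the scalar matrix of the scalar with code 2 -/
def tS2 : ℕ := 0x40003000080000000010000c000200000000040003000080000000010000c000200000000040003000080000000010000c000200000000040003000080000000010000c000200000000040003000080000

/-- the table of the scalar matrix of the scalar with code 3 -/
def tS3 : ℕ := 0x800010000c000000002000040003000000000800010000c000000002000040003000000000800010000c000000002000040003000000000800010000c000000002000040003000000000800010000c0000

/-- the table of the inverse matrix `Xi` scaled by the scalar with code 2 -/
def tXi2 : ℕ := 0xbb0819810dd0c00004ee632674877b00000d707ef83a690940000b2ce98625d347c0000f44c2b320588400000f0012800c500200000c45de33ee48a6400004646737378b8b800001cc60e234244b00000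

/-- the table of the inverse matrix `Xi` scaled by the scalar with code 3 -/
def tXi3 : ℕ := 0xdd0c2ec2066040000877b13b98c99d00000690975c1fbe0e80000d347ecb3a61894000058843d130acc80000050023c004a0030000048a6711778cfb800008b8b91919cdcdc0000244b07318388d00000

/-- the table of the inverse matrix `Yi` scaled by the scalar with code 2 -/
def tYi2 : ℕ := 0xc5e463e734a7880000e57ae7f967a9f400001e960e5f427eb0000002e90065c037e0000059487df13ae8c80000a60fd742afb054000010fd0c2ac205600000261b874d93b2dc000098fa1d294ec5f00000

/-- the table of the inverse matrix `Yi` scaled by the scalar with code 3 -/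
def tYi3 : ℕ := 0x4a78b17918f9cc00007a9f795eb9fe58000027eb07a58397d00000037e00ba4019700000ae8c96521f7c4c0000fb056983f5d0a800002056043f430ab000003b2dc986e1d3640000ec5f263e874a500000

/-- the tables of the four letters scaled by the three nonzero scalars: entry `4 (s - 1) + k` belongs to
the letter `k` scaled by the scalar with code `s`; padded to 16 entries -/
def tabLS : List ℕ :=
  [tX1, tXi, tY1, tYi, tX2, tXi2, tY2, tYi2, tX3, tXi3, tY3, tYi3, tX1, tX1, tX1, tX1]

/-- the tables of the scalar matrices, indexed by the code of the scalar -/
def tabS : List ℕ := [tS1, tS1, tS2, tS3]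

end

end Cfsg.Agent.Lib.Helper10.J3Q
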