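import Cfsg.Agent.Lib.Helper10.J3PActs
import Cfsg.Agent.Lib.Helper10.J3PFinal

set_option autoImplicit false

/-!
The generating matrices of the Prelude as words in the two matrices of orders 19 and 17, and conversely.
(Generated.)
-/

namespace Cfsg.Agent.Lib.Helper10.J3Q

open Matrix Cfsg.Spor Cfsg.Agent.Lib.Helper10.SX Cfsg.Agent.Lib.Helper10.SXM Cfsg.Agent.Lib.Helper10.J3M
  Cfsg.Agent.Lib.Helper10.J3P

noncomputable section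

/-- the matrix is a nonzero scalar multiple of a word in the four letters -/
def IsWord (N : Matrix (Fin 9) (Fin 9) K4) : Prop :=
  ∃ (w : List ℕ) (c : Fin 4), dec c.val ≠ 0 ∧ (w.map matL).prod = dec c.val • N

theorem wordG0 : IsWord (Matrix.reindex e9 e9 (j3A K4 om ((0 : ZMod 3), (0 : ZMod 3)))) :=
  ⟨[], (1 : Fin 4), by decide, word_cols _ _ _ cols0⟩

theorem wordG1 : IsWord (Matrix.reindex e9 e9 (j3A K4 om ((0 : ZMod 3), (1 : ZMod 3)))) :=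
  ⟨[0, 0, 0, 0, 3, 0, 3, 0, 3, 0, 2, 2, 1, 3, 3, 1], (1 : Fin 4), by decide, word_cols _ _ _ cols1⟩

theorem wordG2 : IsWord (Matrix.reindex e9 e9 (j3A K4 om ((0 : ZMod 3), (2 : ZMod 3)))) :=
  ⟨[3, 0, 3, 1, 1, 1, 3, 0, 0, 3, 1, 2, 2, 1, 3, 3], (3 : Fin 4), by decide, word_cols _ _ _ cols2⟩

theorem wordG3 : IsWord (Matrix.reindex e9 e9 (j3A K4 om ((1 : ZMod 3), (0 : ZMod 3)))) :=
  ⟨[2, 0, 3, 0, 2, 1, 3, 0, 0, 3, 0, 0, 3, 0, 0, 2], (3 : Fin 4), by decide, word_cols _ _ _ cols3⟩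

theorem wordG4 : IsWord (Matrix.reindex e9 e9 (j3A K4 om ((1 : ZMod 3), (1 : ZMod 3)))) :=
  ⟨[0, 0, 0, 2, 2, 1, 2, 1, 1, 3, 0, 2, 2, 0, 0], (3 : Fin 4), by decide, word_cols _ _ _ cols4⟩

theorem wordG5 : IsWord (Matrix.reindex e9 e9 (j3A K4 om ((1 : ZMod 3), (2 : ZMod 3)))) :=
  ⟨[1, 2, 1, 1, 1, 1, 1, 2, 2, 2, 1, 1, 2, 0, 2, 1], (2 : Fin 4), by decide, word_cols _ _ _ cols5⟩

theorem wordG6 : IsWord (Matrix.reindex e9 e9 (j3A K4 om ((2 : ZMod 3), (0 : ZMod 3)))) :=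
  ⟨[3, 1, 1, 2, 1, 1, 2, 1, 1, 2, 0, 3, 1, 2, 1, 3], (2 : Fin 4), by decide, word_cols _ _ _ cols6⟩

theorem wordG7 : IsWord (Matrix.reindex e9 e9 (j3A K4 om ((2 : ZMod 3), (1 : ZMod 3)))) :=
  ⟨[0, 3, 1, 3, 0, 0, 3, 3, 3, 0, 0, 0, 0, 0, 3, 0], (3 : Fin 4), by decide, word_cols _ _ _ cols7⟩

theorem wordG8 : IsWord (Matrix.reindex e9 e9 (j3A K4 om ((2 : ZMod 3), (2 : ZMod 3)))) :=
  ⟨[1, 1, 3, 3, 1, 2, 0, 0, 3, 0, 3, 3, 1, 1, 1], (2 : Fin 4), by decide, word_cols _ _ _ cols8⟩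

theorem wordG9 : IsWord (Matrix.reindex e9 e9 (j3E K4 om ((0 : ZMod 3), (0 : ZMod 3)))) :=
  ⟨[2, 2, 2, 0, 0, 2, 1, 3, 3, 3, 0, 3, 3, 0, 2], (1 : Fin 4), by decide, word_cols _ _ _ cols9⟩

theorem wordG10 : IsWord (Matrix.reindex e9 e9 (j3E K4 om ((0 : ZMod 3), (1 : ZMod 3)))) :=
  ⟨[0, 0, 0, 2, 2, 2, 0, 0, 0, 0, 2, 1, 1, 3, 0, 0, 3, 3], (3 : Fin 4), by decide, word_cols _ _ _ cols10⟩

theorem wordG11 : IsWord (Matrix.reindex e9 e9 (j3E K4 om ((0 : ZMod 3), (2 : ZMod 3)))) :=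
  ⟨[2, 1, 1, 2, 2, 1, 1, 1, 2, 2, 0, 3, 3, 1, 2, 0, 3], (2 : Fin 4), by decide, word_cols _ _ _ cols11⟩

theorem wordG12 : IsWord (Matrix.reindex e9 e9 (j3E K4 om ((1 : ZMod 3), (0 : ZMod 3)))) :=
  ⟨[0, 0, 2, 0, 2, 1, 3, 1, 2, 0, 3, 3, 1, 3, 1, 3, 0], (2 : Fin 4), by decide, word_cols _ _ _ cols12⟩

theorem wordG13 : IsWord (Matrix.reindex e9 e9 (j3E K4 om ((1 : ZMod 3), (1 : ZMod 3)))) :=
  ⟨[2, 1, 2, 0, 2, 1, 1, 1, 1, 3, 1, 1, 3, 0, 2, 1], (3 : Fin 4), by decide, word_cols _ _ _ cols13⟩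

theorem wordG14 : IsWord (Matrix.reindex e9 e9 (j3E K4 om ((1 : ZMod 3), (2 : ZMod 3)))) :=
  ⟨[1, 3, 1, 1, 1, 1, 3, 3, 0, 2, 1, 3, 3, 1, 1], (1 : Fin 4), by decide, word_cols _ _ _ cols14⟩

theorem wordG15 : IsWord (Matrix.reindex e9 e9 (j3E K4 om ((2 : ZMod 3), (0 : ZMod 3)))) :=
  ⟨[1, 1, 2, 2, 1, 3, 1, 2, 2, 1, 3, 1, 3], (3 : Fin 4), by decide, word_cols _ _ _ cols15⟩

theorem wordG16 : IsWord (Matrix.reindex e9 e9 (j3E K4 om ((2 : ZMod 3), (1 : ZMod 3)))) :=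
  ⟨[3, 0, 0, 2, 1, 3, 1, 1, 3, 1, 3, 1, 1, 2], (2 : Fin 4), by decide, word_cols _ _ _ cols16⟩

theorem wordG17 : IsWord (Matrix.reindex e9 e9 (j3E K4 om ((2 : ZMod 3), (2 : ZMod 3)))) :=
  ⟨[0, 2, 0, 2, 2, 0, 3, 1, 1, 2, 1, 2, 2, 0], (1 : Fin 4), by decide, word_cols _ _ _ cols17⟩

theorem wordG18 : IsWord (Matrix.reindex e9 e9 (j3D K4 om ((0 : ZMod 3), (0 : ZMod 3)))) :=
  ⟨[], (1 : Fin 4), by decide, word_cols _ _ _ cols18⟩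

theorem wordG19 : IsWord (Matrix.reindex e9 e9 (j3D K4 om ((0 : ZMod 3), (1 : ZMod 3)))) :=
  ⟨[2, 1, 3, 1, 1, 3, 1, 1, 2, 2, 0, 0, 0, 0], (1 : Fin 4), by decide, word_cols _ _ _ cols19⟩

theorem wordG20 : IsWord (Matrix.reindex e9 e9 (j3D K4 om ((0 : ZMod 3), (2 : ZMod 3)))) :=
  ⟨[1, 1, 1, 1, 3, 3, 0, 0, 2, 0, 0, 2, 0, 3], (1 : Fin 4), by decide, word_cols _ _ _ cols20⟩

theorem wordG21 : IsWord (Matrix.reindex e9 e9 (j3D K4 om ((1 : ZMod 3), (0 : ZMod 3)))) :=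
  ⟨[1, 3, 3, 0, 0, 2, 1, 1, 3, 3, 3, 0, 0, 2, 0, 2], (3 : Fin 4), by decide, word_cols _ _ _ cols21⟩

theorem wordG22 : IsWord (Matrix.reindex e9 e9 (j3D K4 om ((1 : ZMod 3), (1 : ZMod 3)))) :=
  ⟨[0, 0, 3, 0, 3, 3, 0, 0, 3, 1, 3, 1, 3, 1, 2], (2 : Fin 4), by decide, word_cols _ _ _ cols22⟩

theorem wordG23 : IsWord (Matrix.reindex e9 e9 (j3D K4 om ((1 : ZMod 3), (2 : ZMod 3)))) :=
  ⟨[0, 2, 1, 1, 1, 3, 0, 3, 0, 0, 2, 0, 3, 1], (3 : Fin 4), by decide, word_cols _ _ _ cols23⟩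

theorem wordG24 : IsWord (Matrix.reindex e9 e9 (j3D K4 om ((2 : ZMod 3), (0 : ZMod 3)))) :=
  ⟨[1, 1, 2, 0, 0, 0, 2, 0, 0, 3, 3, 0, 3, 1, 2, 1], (3 : Fin 4), by decide, word_cols _ _ _ cols24⟩

theorem wordG25 : IsWord (Matrix.reindex e9 e9 (j3D K4 om ((2 : ZMod 3), (1 : ZMod 3)))) :=
  ⟨[0, 2, 1, 3, 1, 1, 2, 1, 2, 0, 0, 0, 3, 1], (2 : Fin 4), by decide, word_cols _ _ _ cols25⟩

theorem wordG26 : IsWord (Matrix.reindex e9 e9 (j3D K4 om ((2 : ZMod 3), (2 : ZMod 3)))) :=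
  ⟨[3, 0, 2, 0, 2, 0, 2, 1, 1, 2, 2, 1, 2, 1, 1], (3 : Fin 4), by decide, word_cols _ _ _ cols26⟩

theorem wordG27 : IsWord (Matrix.reindex e9 e9 (j3B K4 ((0 : ZMod 3), (1 : ZMod 3)))) :=
  ⟨[2, 2, 1, 3, 1, 3, 1, 3, 1, 2, 1, 2, 0, 3, 1], (1 : Fin 4), by decide, word_cols _ _ _ cols27⟩

theorem wordG28 : IsWord (Matrix.reindex e9 e9 (j3B K4 ((0 : ZMod 3), (2 : ZMod 3)))) :=
  ⟨[0, 2, 1, 3, 0, 3, 0, 2, 0, 2, 0, 2, 0, 3, 3], (1 : Fin 4), by decide, word_cols _ _ _ cols28⟩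

theorem wordG29 : IsWord (Matrix.reindex e9 e9 (j3B K4 ((1 : ZMod 3), (0 : ZMod 3)))) :=
  ⟨[], (1 : Fin 4), by decide, word_cols _ _ _ cols29⟩

theorem wordG30 : IsWord (Matrix.reindex e9 e9 (j3B K4 ((1 : ZMod 3), (1 : ZMod 3)))) :=
  ⟨[3, 3, 0, 2, 0, 3, 1, 3, 0, 0, 2, 1, 1, 3, 1], (3 : Fin 4), by decide, word_cols _ _ _ cols30⟩

theorem wordG31 : IsWord (Matrix.reindex e9 e9 (j3B K4 ((1 : ZMod 3), (2 : ZMod 3)))) :=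
  ⟨[2, 0, 2, 1, 3, 3, 1, 3, 1, 2, 0, 3, 0, 3, 3, 1, 1], (1 : Fin 4), by decide, word_cols _ _ _ cols31⟩

theorem wordG32 : IsWord (Matrix.reindex e9 e9 (j3B K4 ((2 : ZMod 3), (0 : ZMod 3)))) :=
  ⟨[0, 3, 3, 1, 2, 1, 1, 3, 1, 3, 3, 1, 2, 0, 3, 1, 1], (1 : Fin 4), by decide, word_cols _ _ _ cols32⟩

theorem wordG33 : IsWord (Matrix.reindex e9 e9 (j3B K4 ((2 : ZMod 3), (1 : ZMod 3)))) :=
  ⟨[0, 2, 0, 0, 3, 1, 1, 2, 0, 2, 1, 3, 1, 2, 2], (2 : Fin 4), by decide, word_cols _ _ _ cols33⟩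

theorem wordG34 : IsWord (Matrix.reindex e9 e9 (j3B K4 ((2 : ZMod 3), (2 : ZMod 3)))) :=
  ⟨[0, 0, 2, 2, 1, 2, 1, 3, 0, 2, 0, 2, 2, 0, 3, 1, 3], (1 : Fin 4), by decide, word_cols _ _ _ cols34⟩

theorem wordG35 : IsWord (Matrix.reindex e9 e9 (j3C K4 ((0 : ZMod 3), (1 : ZMod 3)))) :=
  ⟨[2, 1, 2, 1, 1, 2, 2, 2, 0, 2, 2, 0, 2, 1, 3, 1, 1, 2], (3 : Fin 4), by decide, word_cols _ _ _ cols35⟩

theorem wordG36 : IsWord (Matrix.reindex e9 e9 (j3C K4 ((0 : ZMod 3), (2 : ZMod 3)))) :=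
  ⟨[0, 0, 2, 0, 0, 3, 1, 2, 0, 3, 3, 1, 3, 1, 3, 1, 3], (1 : Fin 4), by decide, word_cols _ _ _ cols36⟩

theorem wordG37 : IsWord (Matrix.reindex e9 e9 (j3C K4 ((1 : ZMod 3), (0 : ZMod 3)))) :=
  ⟨[1, 1, 2, 1, 3, 0, 0, 2, 0, 0, 2, 2, 1, 3, 0, 3, 1], (2 : Fin 4), by decide, word_cols _ _ _ cols37⟩

theorem wordG38 : IsWord (Matrix.reindex e9 e9 (j3C K4 ((1 : ZMod 3), (1 : ZMod 3)))) :=
  ⟨[0, 2, 2, 1, 2, 1, 2, 0, 3, 1, 2, 2, 2, 1, 1], (2 : Fin 4), by decide, word_cols _ _ _ cols38⟩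

theorem wordG39 : IsWord (Matrix.reindex e9 e9 (j3C K4 ((1 : ZMod 3), (2 : ZMod 3)))) :=
  ⟨[0, 2, 2, 2, 1, 2, 0, 0, 0, 2, 1, 2, 0, 0, 2, 0, 2, 2, 0], (1 : Fin 4), by decide, word_cols _ _ _ cols39⟩

theorem wordG40 : IsWord (Matrix.reindex e9 e9 (j3C K4 ((2 : ZMod 3), (0 : ZMod 3)))) :=
  ⟨[2, 1, 3, 0, 0, 0, 0, 2, 1, 3, 1, 1, 1, 2, 2, 0], (3 : Fin 4), by decide, word_cols _ _ _ cols40⟩

theorem wordG41 : IsWord (Matrix.reindex e9 e9 (j3C K4 ((2 : ZMod 3), (1 : ZMod 3)))) :=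
  ⟨[3, 3, 1, 1, 2, 2, 0, 0, 0, 2, 2, 2, 0, 2, 0, 0, 0], (3 : Fin 4), by decide, word_cols _ _ _ cols41⟩

theorem wordG42 : IsWord (Matrix.reindex e9 e9 (j3C K4 ((2 : ZMod 3), (2 : ZMod 3)))) :=
  ⟨[2, 2, 1, 2, 0, 0, 3, 1, 1, 3, 3, 0, 2, 1], (3 : Fin 4), by decide, word_cols _ _ _ cols42⟩

theorem wordA (Z : F9) : IsWord (Matrix.reindex e9 e9 (j3A K4 om Z)) := by
  fin_cases Z
  · exact wordG0
  · exact wordG1
  · exact wordG2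
  · exact wordG3
  · exact wordG4
  · exact wordG5
  · exact wordG6
  · exact wordG7
  · exact wordG8

theorem wordE (Z : F9) : IsWord (Matrix.reindex e9 e9 (j3E K4 om Z)) := by
  fin_cases Z
  · exact wordG9
  · exact wordG10
  · exact wordG11
  · exact wordG12
  · exact wordG13
  · exact wordG14
  · exact wordG15
  · exact wordG16
  · exact wordG17

theorem wordD (Z : F9) : IsWord (Matrix.reindex e9 e9 (j3D K4 om Z)) := by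
  fin_cases Z
  · exact wordG18
  · exact wordG19
  · exact wordG20
  · exact wordG21
  · exact wordG22
  · exact wordG23
  · exact wordG24
  · exact wordG25
  · exact wordG26

theorem wordB (Z : F9) (hZ : Z ≠ 0) : IsWord (Matrix.reindex e9 e9 (j3B K4 Z)) := by
  fin_cases Z
  · exact absurd rfl hZ
  · exact wordG27
  · exact wordG28
  · exact wordG29
  · exact wordG30
  · exact wordG31
  · exact wordG32
  · exact wordG33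
  · exact wordG34

theorem wordC (Z : F9) (hZ : Z ≠ 0) : IsWord (Matrix.reindex e9 e9 (j3C K4 Z)) := by
  fin_cases Z
  · exact absurd rfl hZ
  · exact wordG35
  · exact wordG36
  · exact wordG37
  · exact wordG38
  · exact wordG39
  · exact wordG40
  · exact wordG41
  · exact wordG42

section gens

variable {F : Type} [Field F] (ω : F) (σ : F →+* K4) (hσ : σ ω = om)

include hσ in
/-- each generating matrix of the Prelude is a nonzero scalar multiple of a word in the four letters -/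
theorem gens_word (g : GL F9 F) (hg : (g : Matrix F9 F9 F) ∈ j3Gens F ω) : IsWord (matP σ g) := by
  rw [matP_apply]
  rcases hg with (((⟨Z, hZ⟩ | ⟨Z, hZ⟩) | ⟨Z, hZ⟩) | ⟨Z, hZ0, hZ⟩) | ⟨Z, hZ0, hZ⟩
  · rw [← hZ, j3A_map, hσ]
    exact wordA Z
  · rw [← hZ, j3E_map, hσ]
    exact wordE Z
  · rw [← hZ, j3D_map, hσ]
    exact wordD Z
  · rw [hZ, j3B_map]
    exact wordB Z hZ0
  · rw [hZ, j3C_map]
    exact wordC Z hZ0

include hσ in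
theorem exists_mX : ∃ h ∈ threeJ3 F ω, matP σ h = dec (1 : Fin 4).val • mX := by
  have hL : ∀ e ∈ ([
    (j3D F ω ((1 : ZMod 3), (0 : ZMod 3)), Matrix.reindex e9 e9 (j3D K4 om ((1 : ZMod 3), (0 : ZMod 3))), tG21),
    (j3A F ω ((1 : ZMod 3), (1 : ZMod 3)), Matrix.reindex e9 e9 (j3A K4 om ((1 : ZMod 3), (1 : ZMod 3))), tG4),
    (j3C F ((0 : ZMod 3), (1 : ZMod 3)), Matrix.reindex e9 e9 (j3C K4 ((0 : ZMod 3), (1 : ZMod 3))), tG35),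
    (j3D F ω ((2 : ZMod 3), (1 : ZMod 3)), Matrix.reindex e9 e9 (j3D K4 om ((2 : ZMod 3), (1 : ZMod 3))), tG25),
    (j3E F ω ((0 : ZMod 3), (1 : ZMod 3)), Matrix.reindex e9 e9 (j3E K4 om ((0 : ZMod 3), (1 : ZMod 3))), tG10),
    (j3C F ((1 : ZMod 3), (0 : ZMod 3)), Matrix.reindex e9 e9 (j3C K4 ((1 : ZMod 3), (0 : ZMod 3))), tG37),
    (j3D F ω ((2 : ZMod 3), (0 : ZMod 3)), Matrix.reindex e9 e9 (j3D K4 om ((2 : ZMod 3), (0 : ZMod 3))), tG24),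
    (j3A F ω ((1 : ZMod 3), (1 : ZMod 3)), Matrix.reindex e9 e9 (j3A K4 om ((1 : ZMod 3), (1 : ZMod 3))), tG4)] : List (Matrix F9 F9 F × Matrix (Fin 9) (Fin 9) K4 × ℕ)),
      Good ω σ e.1 e.2.1 e.2.2 := by
    intro e he
    simp only [List.mem_cons, List.not_mem_nil, or_false] at he
    rcases he with rfl | rfl | rfl | rfl | rfl | rfl | rfl | rfl
    · exact good21 ω σ hσ
    · exact good4 ω σ hσ
    · exact good35 ω σ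
    · exact good25 ω σ hσ
    · exact good10 ω σ hσ
    · exact good37 ω σ
    · exact good24 ω σ hσ
    · exact good4 ω σ hσ
  obtain ⟨h, hh, hm⟩ := exists_of_good ω σ _ hL
  refine ⟨h, hh, ?_⟩
  rw [hm, good_prod_cols ω σ _ hL mX (1 : Fin 4) colsX]

include hσ in
theorem exists_mY : ∃ h ∈ threeJ3 F ω, matP σ h = dec (3 : Fin 4).val • mY := by
  have hL : ∀ e ∈ ([
    (j3E F ω ((2 : ZMod 3), (1 : ZMod 3)), Matrix.reindex e9 e9 (j3E K4 om ((2 : ZMod 3), (1 : ZMod 3))), tG16),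
    (j3E F ω ((2 : ZMod 3), (1 : ZMod 3)), Matrix.reindex e9 e9 (j3E K4 om ((2 : ZMod 3), (1 : ZMod 3))), tG16),
    (j3C F ((1 : ZMod 3), (1 : ZMod 3)), Matrix.reindex e9 e9 (j3C K4 ((1 : ZMod 3), (1 : ZMod 3))), tG38),
    (j3D F ω ((2 : ZMod 3), (0 : ZMod 3)), Matrix.reindex e9 e9 (j3D K4 om ((2 : ZMod 3), (0 : ZMod 3))), tG24),
    (j3A F ω ((0 : ZMod 3), (1 : ZMod 3)), Matrix.reindex e9 e9 (j3A K4 om ((0 : ZMod 3), (1 : ZMod 3))), tG1),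
    (j3C F ((1 : ZMod 3), (0 : ZMod 3)), Matrix.reindex e9 e9 (j3C K4 ((1 : ZMod 3), (0 : ZMod 3))), tG37),
    (j3E F ω ((2 : ZMod 3), (0 : ZMod 3)), Matrix.reindex e9 e9 (j3E K4 om ((2 : ZMod 3), (0 : ZMod 3))), tG15),
    (j3E F ω ((2 : ZMod 3), (0 : ZMod 3)), Matrix.reindex e9 e9 (j3E K4 om ((2 : ZMod 3), (0 : ZMod 3))), tG15),
    (j3D F ω ((2 : ZMod 3), (2 : ZMod 3)), Matrix.reindex e9 e9 (j3D K4 om ((2 : ZMod 3), (2 : ZMod 3))), tG26),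
    (j3C F ((0 : ZMod 3), (1 : ZMod 3)), Matrix.reindex e9 e9 (j3C K4 ((0 : ZMod 3), (1 : ZMod 3))), tG35),
    (j3A F ω ((2 : ZMod 3), (2 : ZMod 3)), Matrix.reindex e9 e9 (j3A K4 om ((2 : ZMod 3), (2 : ZMod 3))), tG8)] : List (Matrix F9 F9 F × Matrix (Fin 9) (Fin 9) K4 × ℕ)),
      Good ω σ e.1 e.2.1 e.2.2 := by
    intro e he
    simp only [List.mem_cons, List.not_mem_nil, or_false] at he
    rcases he with rfl | rfl | rfl | rfl | rfl | rfl | rfl | rfl | rfl | rfl | rfl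
    · exact good16 ω σ hσ
    · exact good16 ω σ hσ
    · exact good38 ω σ
    · exact good24 ω σ hσ
    · exact good1 ω σ hσ
    · exact good37 ω σ
    · exact good15 ω σ hσ
    · exact good15 ω σ hσ
    · exact good26 ω σ hσ
    · exact good35 ω σ
    · exact good8 ω σ hσ
  obtain ⟨h, hh, hm⟩ := exists_of_good ω σ _ hL
  refine ⟨h, hh, ?_⟩
  rw [hm, good_prod_cols ω σ _ hL mY (3 : Fin 4) colsY]

end gens

end

end Cfsg.Agent.Lib.Helper10.J3Q
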