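import Cfsg.Agent.Lib.Helper10.J3MMain

set_option autoImplicit false

/-!
Elements of the Janko group J3 on 20520 points as words in the two generators of orders 19 and 17 and
their inverses; an element is determined by the images of the three rigidity points.
-/

namespace Cfsg.Agent.Lib.Helper10.J3W

open Cfsg.Agent.Lib.Helper10.SX Cfsg.Agent.Lib.Helper10.J3M

attribute [local irreducible] perm

noncomputable section

/-! ### the inverses of the two generators -/

theorem invX_1 : invB 20520 cX cXi = true := by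
  decide +kernel

theorem invX_2 : invB 20520 cXi cX = true := by
  decide +kernel

theorem invY_1 : invB 20520 cY cYi = true := by
  decide +kernel

theorem invY_2 : invB 20520 cYi cY = true := by
  decide +kernel

theorem valid_Xi : Valid 20520 cXi := valid_of_invOf ((invB_iff _ _ _).mp invX_2)

theorem valid_Yi : Valid 20520 cYi := valid_of_invOf ((invB_iff _ _ _).mp invY_2)

theorem perm_Xi : perm 20520 cXi = (perm 20520 cX)⁻¹ :=
  perm_inv_of_invOf ((invB_iff _ _ _).mp invX_1) valid_Xi

theorem perm_Yi : perm 20520 cYi = (perm 20520 cY)⁻¹ :=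
  perm_inv_of_invOf ((invB_iff _ _ _).mp invY_1) valid_Yi

/-! ### letters and words -/

/-- the four letters: `X`, its inverse, `Y`, its inverse -/
def ltr (k : ℕ) : ℕ := [cX, cXi, cY, cYi].getD k cX

/-- the inverse letter -/
def invl : ℕ → ℕ
  | 0 => 1
  | 1 => 0
  | 2 => 3
  | 3 => 2
  | _ => 1

theorem ltr_ok : ∀ k : ℕ, Valid 20520 (ltr k) ∧ perm 20520 (ltr k) ∈ G ∧
    perm 20520 (ltr (invl k)) = (perm 20520 (ltr k))⁻¹
  | 0 => ⟨valid_X, perm_mem_grp mem_X, perm_Xi⟩
  | 1 => ⟨valid_Xi, by
      show perm 20520 cXi ∈ G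
      rw [perm_Xi]; exact G.inv_mem (perm_mem_grp mem_X), by
      show perm 20520 cX = (perm 20520 cXi)⁻¹
      rw [perm_Xi, inv_inv]⟩
  | 2 => ⟨valid_Y, perm_mem_grp mem_Y, perm_Yi⟩
  | 3 => ⟨valid_Yi, by
      show perm 20520 cYi ∈ G
      rw [perm_Yi]; exact G.inv_mem (perm_mem_grp mem_Y), by
      show perm 20520 cY = (perm 20520 cYi)⁻¹
      rw [perm_Yi, inv_inv]⟩
  | (_ + 4) => ⟨valid_X, perm_mem_grp mem_X, perm_Xi⟩

/-- the codes of the letters of a word -/
def codesW (w : List ℕ) : List ℕ := w.map ltr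

/-- the permutation of a word -/
def pw (w : List ℕ) : Equiv.Perm (Fin 20520) := prodL 20520 (codesW w)

/-- the signature of a word: the images of the rigidity points -/
def sigW (w : List ℕ) : List ℕ := RB.map (evalL 20520 (codesW w))

/-- the inverse word -/
def winv (w : List ℕ) : List ℕ := (w.map invl).reverse

theorem codesW_valid (w : List ℕ) : ∀ c ∈ codesW w, Valid 20520 c := by
  intro c hc
  obtain ⟨k, -, rfl⟩ := List.mem_map.mp hc
  exact (ltr_ok k).1

theorem pw_mem (w : List ℕ) : pw w ∈ G := by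
  apply prodL_mem
  intro c hc
  obtain ⟨k, -, rfl⟩ := List.mem_map.mp hc
  exact (ltr_ok k).2.1

theorem pw_nil : pw [] = 1 := rfl

theorem pw_append (w w' : List ℕ) : pw (w ++ w') = pw w * pw w' := by
  unfold pw codesW
  rw [List.map_append, prodL_append]

theorem pw_cons (k : ℕ) (w : List ℕ) : pw (k :: w) = perm 20520 (ltr k) * pw w := by
  unfold pw codesW
  rw [List.map_cons, prodL_cons]

theorem pw_winv (w : List ℕ) : pw (winv w) = (pw w)⁻¹ := by
  induction w with
  | nil => exact inv_one.symm
  | cons k w ih =>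
    have : winv (k :: w) = winv w ++ [invl k] := by
      unfold winv
      rw [List.map_cons, List.reverse_cons]
    rw [this, pw_append, ih, pw_cons, pw_cons, pw_nil, mul_one, (ltr_ok k).2.2, mul_inv_rev]

theorem pw_apply_val (w : List ℕ) (i : Fin 20520) : (pw w i).val = evalL 20520 (codesW w) i.val :=
  prodL_apply_val _ (codesW_valid w) i

/-- two words with the same signature give the same permutation -/
theorem pw_eq_of_sig {w w' : List ℕ} (h : sigW w = sigW w') : pw w = pw w' := by
  have h1 : (pw w')⁻¹ * pw w = 1 := by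
    apply rigid _ (G_le_aut (G.mul_mem (G.inv_mem (pw_mem w')) (pw_mem w)))
    intro x hx hxn
    rw [Equiv.Perm.mul_apply, Equiv.Perm.inv_eq_iff_eq]
    apply Fin.ext
    rw [pw_apply_val, pw_apply_val]
    unfold sigW at h
    exact List.map_inj_left.mp h x hx
  rw [inv_mul_eq_one] at h1
  exact h1.symm

theorem sig_eq_of_pw {w w' : List ℕ} (h : pw w = pw w') : sigW w = sigW w' := by
  unfold sigW
  apply List.map_inj_left.mpr
  intro x hx
  have hxn : x < 20520 := by
    have : ∀ y ∈ RB, y < 20520 := by decide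
    exact this x hx
  have := congrArg (fun g : Equiv.Perm (Fin 20520) => (g ⟨x, hxn⟩).val) h
  simp only [pw_apply_val] at this
  exact this

theorem pw_eq_iff {w w' : List ℕ} : pw w = pw w' ↔ sigW w = sigW w' :=
  ⟨sig_eq_of_pw, pw_eq_of_sig⟩

/-- the element of the group of a word -/
def gw (w : List ℕ) : ↥G := ⟨pw w, pw_mem w⟩

theorem gw_nil : gw [] = 1 := rfl

theorem gw_append (w w' : List ℕ) : gw (w ++ w') = gw w * gw w' :=
  Subtype.ext (pw_append w w')

theorem gw_winv (w : List ℕ) : gw (winv w) = (gw w)⁻¹ :=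
  Subtype.ext (pw_winv w)

theorem gw_eq_iff {w w' : List ℕ} : gw w = gw w' ↔ sigW w = sigW w' := by
  rw [← pw_eq_iff]
  exact ⟨fun h => congrArg Subtype.val h, fun h => Subtype.ext h⟩

end

end Cfsg.Agent.Lib.Helper10.J3W
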