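import Cfsg.Agent.Lib.Helper10.J3WData

set_option autoImplicit false

/-!
Checks on the words of the normal subgroup of order 32 and of the complement of order 60 of the
centraliser of an involution of the Janko group J3.
-/

namespace Cfsg.Agent.Lib.Helper10.J3W

open Cfsg.Agent.Lib.Helper10.SX Cfsg.Agent.Lib.Helper10.J3M

noncomputable section

theorem tableQ : tableB 32 Qs mtQ = true := by
  decide +kernel

theorem distinctQ : distinctB 32 Qs = true := by
  decide +kernel

theorem tableH : tableB 60 Hs mtH = true := by
  decide +kernel

theorem distinctH : distinctB 60 Hs = true := by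
  decide +kernel

/-- the words commute with the involution -/
theorem centQH : ((Qs ++ Hs).all fun w => sigEq (w ++ tw) (tw ++ w)) = true := by
  decide +kernel

/-- the involution is the word `1` of the 32 -/
theorem tw_eq : sigEq tw (wd Qs 1) = true := by
  decide +kernel

/-- the 60 words normalise the 32 words -/
theorem normQ : (allLt 60 fun j => allLt 32 fun i =>
    Nat.blt (nQ j i) 32 && sigEq (wd Hs j ++ (wd Qs i ++ winv (wd Hs j))) (wd Qs (nQ j i))) = true := by
  decide +kernel

/-- the two subgroups meet trivially -/
theorem disjQH : (allLt 32 fun i => allLt 60 fun j =>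
    Nat.beq i 0 || !(sigEq (wd Qs i) (wd Hs j))) = true := by
  decide +kernel

end

end Cfsg.Agent.Lib.Helper10.J3W
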