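import Cfsg.Agent.Lib.Helper10.J3WChkA

set_option autoImplicit false

/-!
Checks for the centraliser of an involution of the Janko group J3: the involutions among the 1920
products, the fixed points of the involution, and 153 conjugates under the stabiliser of a point.
-/

namespace Cfsg.Agent.Lib.Helper10.J3W

open Cfsg.Agent.Lib.Helper10.SX Cfsg.Agent.Lib.Helper10.J3M

noncomputable section

/-- each of the 1920 products is not an involution, or is conjugate to the involution by its
conjugating word -/
def involF (i j : ℕ) : Bool :=
  (Nat.beq i 0 && Nat.beq j 0) ||
    (!(sigEq ((wd Qs i ++ wd Hs j) ++ (wd Qs i ++ wd Hs j)) []) ||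
      sigEq (conjW i j ++ (tw ++ winv (conjW i j))) (wd Qs i ++ wd Hs j))

theorem involQH : (allLt 32 fun i => allLt 60 fun j => involF i j) = true := by
  decide +kernel

/-- the fixed points of the involution are among the 120 listed points -/
theorem fixT : (allLt 20520 fun p =>
    !(Nat.beq (evalL 20520 (codesW tw) p) p) || FIX.contains p) = true := by
  decide +kernel

theorem fixT0 : evalL 20520 (codesW tw) 0 = 0 := by
  decide +kernel

theorem lenFIX : FIX.length = 120 := by
  decide +kernel

/-- the 153 words fix the point `0` -/
theorem fixKS : (KS.all fun w => Nat.beq (evalL 20520 (codesW w) 0) 0) = true := by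
  decide +kernel

theorem lenKS : KS.length = 153 := by
  decide +kernel

/-- the conjugates of the involution by the 153 words are different -/
theorem distinctKS : distinctB 153 (KS.map fun k => k ++ (tw ++ winv k)) = true := by
  decide +kernel

end

end Cfsg.Agent.Lib.Helper10.J3W
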