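import Cfsg.Agent.Lib.Helper10.J3WSub

set_option autoImplicit false

/-!
Data for the centraliser of an involution of the Janko group J3 on 20520 points.  (Generated.)
-/

namespace Cfsg.Agent.Lib.Helper10.J3W

open Cfsg.Agent.Lib.Helper10.SX Cfsg.Agent.Lib.Helper10.J3M

noncomputable section

/-- the involution -/
def tw : List ℕ := [3, 3, 0, 2, 0, 2, 0, 2, 0, 2, 0, 2, 2, 2]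

/-- the 32 words of the normal subgroup -/
def Qs : List (List ℕ) := [
    [],
    [3, 3, 0, 2, 0, 2, 0, 2, 0, 2, 0, 2, 2, 2],
    [0, 0, 2, 1, 3, 0, 2, 2, 2, 1, 2, 0, 0, 2, 1, 3, 0, 2, 2, 2, 1, 3, 0, 2, 2, 2, 0, 0, 2, 1, 3, 0, 2, 2, 2, 1, 3, 0, 2, 0, 2, 2, 2, 0, 0, 2, 1, 3, 0, 2, 2, 2, 1, 3, 0, 2, 2, 2],
    [3, 0, 3, 3, 3, 1, 2, 0, 3, 1, 1, 3, 0, 3, 3, 3, 1, 2, 0, 3, 1, 1, 3, 3, 0, 2, 0, 2, 2, 0, 3, 3, 3, 1, 2, 0, 3, 1, 1, 3, 0, 3, 3, 3, 1, 2, 0, 3, 1, 1, 3, 3, 0, 2, 0, 2, 2, 2],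
    [0, 0, 2, 1, 3, 0, 2, 2, 2, 1, 3, 0, 2, 2, 2, 0, 0, 2, 1, 3, 0, 2, 2, 2, 1, 2, 0, 0, 2, 1, 3, 0, 2, 2, 2, 1, 3, 0, 2, 2, 2, 0, 0, 2, 1, 3, 0, 2, 2, 2, 1, 3, 0, 2, 0, 2, 2, 2],
    [3, 0, 3, 3, 3, 1, 2, 0, 3, 1, 1, 3, 0, 3, 3, 3, 1, 2, 0, 3, 1, 1, 3, 3, 3, 1, 2, 0, 3, 3, 3, 1, 2, 0, 3, 1, 1, 3, 3, 3, 1, 3, 1, 2, 0, 3, 3, 3, 1, 2, 0, 3, 1, 1, 3, 3, 3, 1, 2, 2],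
    [3, 3, 0, 2, 2, 0, 3, 3, 3, 1, 2, 0, 3, 1, 1, 3, 0, 3, 3, 3, 1, 2, 0, 3, 1, 1, 3, 3, 0, 2, 0, 2, 2, 0, 3, 3, 3, 1, 2, 0, 3, 1, 1, 3, 0, 3, 3, 3, 1, 2, 0, 3, 1, 1, 3, 3, 0, 2, 2, 2],
    [3, 0, 3, 3, 3, 1, 2, 0, 3, 1, 1, 3, 3, 3, 1, 2, 0, 3, 3, 3, 1, 2, 0, 3, 1, 1, 3, 0, 3, 3, 3, 1, 2, 0, 3, 1, 1, 3, 3, 3, 1, 2, 0, 3, 3, 3, 1, 2, 0, 3, 1, 1, 3, 3, 3, 1, 3, 1, 2, 2],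
    [0, 0, 2, 1, 3, 0, 2, 2, 2, 1, 3, 0, 2, 2, 2, 0, 0, 2, 1, 3, 0, 2, 2, 2, 1, 3, 3, 1, 2, 0, 3, 3, 3, 1, 2, 0, 3, 1, 1, 3, 3, 3, 1, 2, 0, 3, 3, 3, 1, 2, 0, 3, 1, 1, 3, 3, 0, 2, 2, 2],
    [3, 0, 3, 3, 3, 1, 2, 0, 3, 1, 1, 3, 3, 3, 1, 3, 1, 2, 0, 3, 3, 3, 1, 2, 0, 3, 1, 1, 3, 3, 3, 1, 2, 0, 3, 3, 3, 1, 2, 0, 3, 1, 1, 3, 0, 3, 3, 3, 1, 2, 0, 3, 1, 1, 3, 3, 3, 1, 2, 2],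
    [3, 0, 3, 3, 3, 1, 2, 0, 3, 1, 1, 3, 3, 3, 1, 2, 0, 3, 3, 3, 1, 2, 0, 3, 1, 1, 3, 3, 3, 1, 2, 2, 0, 0, 2, 1, 3, 0, 2, 2, 2, 1, 3, 0, 2, 2, 2, 0, 0, 2, 1, 3, 0, 2, 2, 2, 1, 3, 0, 2, 2, 2],
    [3, 3, 0, 2, 2, 2, 0, 0, 2, 1, 3, 0, 2, 2, 2, 1, 3, 0, 2, 2, 2, 0, 0, 2, 1, 3, 0, 2, 2, 2, 1, 2, 0, 0, 2, 1, 3, 0, 2, 2, 2, 1, 3, 0, 2, 2, 2, 0, 0, 2, 1, 3, 0, 2, 2, 2, 1, 3, 0, 2, 2, 2],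
    [0, 0, 2, 1, 3, 0, 2, 2, 2, 1, 3, 0, 2, 2, 2, 0, 0, 2, 1, 3, 0, 2, 2, 2, 1, 3, 0, 2, 2, 2],
    [3, 3, 3, 1, 2, 0, 3, 3, 3, 1, 2, 0, 3, 1, 1, 3, 3, 3, 1, 2, 0, 3, 3, 3, 1, 2, 0, 3, 1, 1],
    [3, 0, 3, 3, 3, 1, 2, 0, 3, 1, 1, 3, 3, 3, 1, 2, 0, 3, 3, 3, 1, 2, 0, 3, 1, 1, 3, 3, 3, 1, 2, 2],
    [3, 3, 0, 2, 2, 2, 0, 0, 2, 1, 3, 0, 2, 2, 2, 1, 3, 0, 2, 2, 2, 0, 0, 2, 1, 3, 0, 2, 2, 2, 1, 2],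
    [3, 3, 3, 1, 2, 2, 0, 0, 2, 1, 3, 0, 2, 2, 2, 1, 3, 0, 2, 2, 2, 0, 0, 2, 1, 3, 0, 2, 2, 2, 1, 3, 0, 2, 0, 2, 2, 2],
    [3, 3, 0, 2, 2, 0, 3, 3, 3, 1, 2, 0, 3, 1, 1, 3, 3, 3, 1, 2, 0, 3, 3, 3, 1, 2, 0, 3, 1, 1, 3, 3, 3, 1, 3, 1, 2, 2],
    [3, 3, 0, 2, 0, 2, 2, 2, 0, 0, 2, 1, 3, 0, 2, 2, 2, 1, 3, 0, 2, 2, 2, 0, 0, 2, 1, 3, 0, 2, 2, 2, 1, 3, 3, 1, 2, 2],
    [3, 3, 3, 1, 3, 1, 2, 0, 3, 3, 3, 1, 2, 0, 3, 1, 1, 3, 3, 3, 1, 2, 0, 3, 3, 3, 1, 2, 0, 3, 1, 1, 3, 3, 0, 2, 2, 2],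
    [3, 3, 0, 2, 0, 2, 2, 0, 3, 3, 3, 1, 2, 0, 3, 1, 1, 3, 3, 3, 1, 2, 0, 3, 3, 3, 1, 2, 0, 3, 1, 1, 3, 3, 0, 2, 0, 2, 2, 2],
    [3, 3, 3, 1, 3, 1, 2, 2, 0, 0, 2, 1, 3, 0, 2, 2, 2, 1, 3, 0, 2, 2, 2, 0, 0, 2, 1, 3, 0, 2, 2, 2, 1, 3, 3, 1, 3, 1, 2, 2],
    [0, 0, 2, 1, 3, 0, 2, 2, 2, 1, 3, 3, 1, 3, 1, 2, 0, 3, 3, 3, 1, 2, 0, 3, 1, 1, 3, 3, 3, 1, 3, 1, 2, 2, 0, 0, 2, 1, 3, 0, 2, 2, 2, 1, 3, 3, 1, 2, 2],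
    [3, 3, 0, 2, 2, 0, 3, 3, 3, 1, 2, 0, 3, 1, 1, 3, 3, 0, 2, 0, 2, 2, 2, 0, 0, 2, 1, 3, 0, 2, 2, 2, 1, 3, 0, 2, 0, 2, 2, 0, 3, 3, 3, 1, 2, 0, 3, 1, 1],
    [0, 0, 2, 1, 3, 0, 2, 2, 2, 1, 2, 0, 0, 2, 1, 3, 0, 2, 2, 2, 1, 3, 0, 2, 2, 2, 0, 0, 2, 1, 3, 0, 2, 2, 2, 1, 3, 0, 2, 2, 0, 3, 3, 3, 1, 2, 0, 3, 1, 1],
    [0, 0, 2, 1, 3, 0, 2, 2, 2, 1, 3, 3, 1, 2, 0, 3, 3, 3, 1, 2, 0, 3, 1, 1, 3, 3, 3, 1, 2, 0, 3, 3, 3, 1, 2, 0, 3, 1, 1, 3, 0, 3, 3, 3, 1, 2, 0, 3, 1, 1],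
    [3, 3, 3, 1, 2, 2, 0, 0, 2, 1, 3, 0, 2, 2, 2, 1, 3, 3, 1, 2, 0, 3, 3, 3, 1, 2, 0, 3, 1, 1, 3, 3, 3, 1, 2, 0, 3, 3, 3, 1, 2, 0, 3, 1, 1, 3, 0, 3, 3, 3, 1, 2, 0, 3, 1, 1, 3, 3, 0, 2, 2, 2],
    [3, 3, 3, 1, 2, 2, 0, 0, 2, 1, 3, 0, 2, 2, 2, 1, 2, 0, 0, 2, 1, 3, 0, 2, 2, 2, 1, 3, 0, 2, 2, 2, 0, 0, 2, 1, 3, 0, 2, 2, 2, 1, 3, 0, 2, 2, 0, 3, 3, 3, 1, 2, 0, 3, 1, 1, 3, 3, 0, 2, 2, 2],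
    [3, 3, 0, 2, 2, 2, 0, 0, 2, 1, 3, 0, 2, 2, 2, 1, 2, 0, 0, 2, 1, 3, 0, 2, 2, 2, 1, 3, 0, 2, 2, 2, 0, 0, 2, 1, 3, 0, 2, 2, 2, 1, 3, 0, 2, 2, 0, 3, 3, 3, 1, 2, 0, 3, 1, 1, 3, 3, 3, 1, 2, 2],
    [3, 3, 0, 2, 2, 2, 0, 0, 2, 1, 3, 0, 2, 2, 2, 1, 3, 3, 1, 2, 0, 3, 3, 3, 1, 2, 0, 3, 1, 1, 3, 3, 3, 1, 2, 0, 3, 3, 3, 1, 2, 0, 3, 1, 1, 3, 0, 3, 3, 3, 1, 2, 0, 3, 1, 1, 3, 3, 3, 1, 2, 2],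
    [0, 0, 2, 1, 3, 0, 2, 2, 2, 1, 2, 0, 0, 2, 1, 3, 0, 2, 2, 2, 1, 3, 3, 1, 2, 0, 3, 3, 3, 1, 2, 0, 3, 1, 1, 3, 3, 3, 1, 2, 2, 0, 0, 2, 1, 3, 0, 2, 2, 2, 1, 2, 0, 0, 2, 1, 3, 0, 2, 2, 2, 1, 2],
    [3, 0, 3, 3, 3, 1, 2, 0, 3, 1, 1, 3, 0, 3, 3, 3, 1, 2, 0, 3, 1, 1, 3, 3, 0, 2, 2, 2, 0, 0, 2, 1, 3, 0, 2, 2, 2, 1, 3, 0, 2, 2, 0, 3, 3, 3, 1, 2, 0, 3, 1, 1, 3, 0, 3, 3, 3, 1, 2, 0, 3, 1, 1]]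

/-- the multiplication table of the 32 words -/
def MTQL : List (List ℕ) := [
    [0, 1, 2, 3, 4, 5, 6, 7, 8, 9, 10, 11, 12, 13, 14, 15, 16, 17, 18, 19, 20, 21, 22, 23, 24, 25, 26, 27, 28, 29, 30, 31],
    [1, 0, 3, 2, 8, 7, 9, 5, 4, 6, 11, 10, 13, 12, 15, 14, 19, 18, 17, 16, 21, 20, 23, 22, 25, 24, 27, 26, 29, 28, 31, 30],
    [2, 3, 0, 1, 14, 30, 22, 31, 15, 23, 19, 16, 25, 24, 4, 8, 11, 20, 21, 10, 17, 18, 6, 9, 13, 12, 29, 28, 27, 26, 5, 7],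
    [3, 2, 1, 0, 15, 31, 23, 30, 14, 22, 16, 19, 24, 25, 8, 4, 10, 21, 20, 11, 18, 17, 9, 6, 12, 13, 28, 29, 26, 27, 7, 5],
    [4, 8, 15, 14, 0, 20, 26, 21, 1, 27, 24, 25, 19, 16, 3, 2, 13, 31, 30, 12, 5, 7, 28, 29, 10, 11, 6, 9, 22, 23, 18, 17],
    [5, 7, 31, 30, 21, 0, 13, 1, 20, 12, 28, 29, 9, 6, 17, 18, 27, 14, 15, 26, 8, 4, 25, 24, 23, 22, 19, 16, 10, 11, 3, 2],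
    [6, 9, 23, 22, 27, 12, 0, 13, 26, 1, 17, 18, 5, 7, 29, 28, 20, 10, 11, 21, 16, 19, 3, 2, 30, 31, 8, 4, 15, 14, 24, 25],
    [7, 5, 30, 31, 20, 1, 12, 0, 21, 13, 29, 28, 6, 9, 18, 17, 26, 15, 14, 27, 4, 8, 24, 25, 22, 23, 16, 19, 11, 10, 2, 3],
    [8, 4, 14, 15, 1, 21, 27, 20, 0, 26, 25, 24, 16, 19, 2, 3, 12, 30, 31, 13, 7, 5, 29, 28, 11, 10, 9, 6, 23, 22, 17, 18],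
    [9, 6, 22, 23, 26, 13, 1, 12, 27, 0, 18, 17, 7, 5, 28, 29, 21, 11, 10, 20, 19, 16, 2, 3, 31, 30, 4, 8, 14, 15, 25, 24],
    [10, 11, 16, 19, 25, 29, 18, 28, 24, 17, 0, 1, 15, 14, 13, 12, 2, 9, 6, 3, 22, 23, 20, 21, 8, 4, 31, 30, 7, 5, 27, 26],
    [11, 10, 19, 16, 24, 28, 17, 29, 25, 18, 1, 0, 14, 15, 12, 13, 3, 6, 9, 2, 23, 22, 21, 20, 4, 8, 30, 31, 5, 7, 26, 27],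
    [12, 13, 25, 24, 19, 6, 7, 9, 16, 5, 15, 14, 1, 0, 10, 11, 4, 29, 28, 8, 26, 27, 31, 30, 2, 3, 21, 20, 17, 18, 22, 23],
    [13, 12, 24, 25, 16, 9, 5, 6, 19, 7, 14, 15, 0, 1, 11, 10, 8, 28, 29, 4, 27, 26, 30, 31, 3, 2, 20, 21, 18, 17, 23, 22],
    [14, 15, 8, 4, 2, 17, 29, 18, 3, 28, 13, 12, 10, 11, 1, 0, 24, 7, 5, 25, 30, 31, 27, 26, 19, 16, 22, 23, 6, 9, 21, 20],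
    [15, 14, 4, 8, 3, 18, 28, 17, 2, 29, 12, 13, 11, 10, 0, 1, 25, 5, 7, 24, 31, 30, 26, 27, 16, 19, 23, 22, 9, 6, 20, 21],
    [16, 19, 10, 11, 13, 27, 20, 26, 12, 21, 3, 2, 4, 8, 25, 24, 1, 22, 23, 0, 9, 6, 18, 17, 14, 15, 5, 7, 30, 31, 29, 28],
    [17, 18, 20, 21, 31, 14, 11, 15, 30, 10, 6, 9, 28, 29, 7, 5, 23, 1, 0, 22, 3, 2, 16, 19, 26, 27, 25, 24, 13, 12, 4, 8],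
    [18, 17, 21, 20, 30, 15, 10, 14, 31, 11, 9, 6, 29, 28, 5, 7, 22, 0, 1, 23, 2, 3, 19, 16, 27, 26, 24, 25, 12, 13, 8, 4],
    [19, 16, 11, 10, 12, 26, 21, 27, 13, 20, 2, 3, 8, 4, 24, 25, 0, 23, 22, 1, 6, 9, 17, 18, 15, 14, 7, 5, 31, 30, 28, 29],
    [20, 21, 17, 18, 7, 4, 16, 8, 5, 19, 22, 23, 27, 26, 31, 30, 9, 3, 2, 6, 1, 0, 11, 10, 29, 28, 12, 13, 24, 25, 14, 15],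
    [21, 20, 18, 17, 5, 8, 19, 4, 7, 16, 23, 22, 26, 27, 30, 31, 6, 2, 3, 9, 0, 1, 10, 11, 28, 29, 13, 12, 25, 24, 15, 14],
    [22, 23, 9, 6, 28, 25, 2, 24, 29, 3, 20, 21, 30, 31, 26, 27, 17, 19, 16, 18, 11, 10, 1, 0, 5, 7, 15, 14, 8, 4, 13, 12],
    [23, 22, 6, 9, 29, 24, 3, 25, 28, 2, 21, 20, 31, 30, 27, 26, 18, 16, 19, 17, 10, 11, 0, 1, 7, 5, 14, 15, 4, 8, 12, 13],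
    [24, 25, 13, 12, 11, 23, 30, 22, 10, 31, 4, 8, 2, 3, 16, 19, 15, 27, 26, 14, 28, 29, 5, 7, 1, 0, 17, 18, 21, 20, 9, 6],
    [25, 24, 12, 13, 10, 22, 31, 23, 11, 30, 8, 4, 3, 2, 19, 16, 14, 26, 27, 15, 29, 28, 7, 5, 0, 1, 18, 17, 20, 21, 6, 9],
    [26, 27, 29, 28, 9, 19, 4, 16, 6, 8, 31, 30, 20, 21, 23, 22, 5, 24, 25, 7, 13, 12, 14, 15, 18, 17, 1, 0, 2, 3, 10, 11],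
    [27, 26, 28, 29, 6, 16, 8, 19, 9, 4, 30, 31, 21, 20, 22, 23, 7, 25, 24, 5, 12, 13, 15, 14, 17, 18, 0, 1, 3, 2, 11, 10],
    [28, 29, 27, 26, 22, 11, 15, 10, 23, 14, 5, 7, 18, 17, 6, 9, 31, 12, 13, 30, 25, 24, 8, 4, 20, 21, 2, 3, 1, 0, 16, 19],
    [29, 28, 26, 27, 23, 10, 14, 11, 22, 15, 7, 5, 17, 18, 9, 6, 30, 13, 12, 31, 24, 25, 4, 8, 21, 20, 3, 2, 0, 1, 19, 16],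
    [30, 31, 7, 5, 18, 2, 24, 3, 17, 25, 27, 26, 23, 22, 20, 21, 28, 4, 8, 29, 15, 14, 12, 13, 9, 6, 10, 11, 19, 16, 1, 0],
    [31, 30, 5, 7, 17, 3, 25, 2, 18, 24, 26, 27, 22, 23, 21, 20, 29, 8, 4, 28, 14, 15, 13, 12, 6, 9, 11, 10, 16, 19, 0, 1]]

/-- the multiplication table of the 32 words, as a function -/
def mtQ (i j : ℕ) : ℕ := (MTQL.getD i []).getD j 0

/-- the 60 words of the complement -/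
def Hs : List (List ℕ) := [
    [],
    [0, 0, 2, 1, 3, 0, 2, 2, 2, 1, 3, 3, 1, 3, 1, 2, 0, 3, 3, 3, 1, 2, 0, 3, 1, 1, 3, 3, 0, 2, 2, 2],
    [3, 0, 3, 3, 3, 1, 2, 0, 3, 1, 1, 3, 3, 0, 2, 2, 2, 0, 0, 2, 1, 3, 0, 2, 2, 2, 1, 3, 0, 2, 0, 2, 0, 2, 2, 2],
    [0, 0, 2, 1, 3, 0, 2, 2, 2, 1, 2, 0, 0, 2, 1, 3, 0, 2, 2, 2, 1, 3, 0, 2, 0, 2, 2, 0, 3, 3, 3, 1, 2, 0, 3, 1, 1, 3, 3, 0, 2, 2, 2],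
    [0, 0, 2, 1, 3, 0, 2, 2, 2, 1, 3, 3, 1, 3, 1, 2, 0, 3, 3, 3, 1, 2, 0, 3, 1, 1, 3, 0, 3, 3, 3, 1, 2, 0, 3, 1, 1, 3, 3, 3, 1, 2, 2],
    [3, 0, 3, 3, 3, 1, 2, 0, 3, 1, 1, 3, 0, 3, 3, 3, 1, 2, 0, 3, 1, 1, 3, 3, 3, 1, 3, 1, 2, 0, 3, 3, 3, 1, 2, 0, 3, 1, 1, 3, 3, 0, 2, 0, 2, 2, 2],
    [3, 0, 3, 3, 3, 1, 2, 0, 3, 1, 1, 3, 3, 0, 2, 0, 2, 2, 0, 3, 3, 3, 1, 2, 0, 3, 1, 1, 3, 0, 3, 3, 3, 1, 2, 0, 3, 1, 1, 3, 3, 3, 1, 3, 1, 2, 2],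
    [0, 0, 2, 1, 3, 0, 2, 2, 2, 1, 3, 0, 2, 0, 2, 2, 2, 0, 0, 2, 1, 3, 0, 2, 2, 2, 1, 2, 0, 0, 2, 1, 3, 0, 2, 2, 2, 1, 3, 0, 2, 0, 2, 0, 2, 2, 2],
    [3, 0, 3, 3, 3, 1, 2, 0, 3, 1, 1, 3, 3, 0, 2, 2, 2, 0, 0, 2, 1, 3, 0, 2, 2, 2, 1, 3, 0, 2, 2, 0, 3, 3, 3, 1, 2, 0, 3, 1, 1, 3, 3, 3, 1, 3, 1, 2, 2],
    [3, 3, 0, 2, 2, 2, 0, 0, 2, 1, 3, 0, 2, 2, 2, 1, 3, 3, 1, 2, 0, 3, 3, 3, 1, 2, 0, 3, 1, 1, 3, 3, 3, 1, 2, 2, 0, 0, 2, 1, 3, 0, 2, 2, 2, 1, 3, 0, 2, 2, 2],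
    [0, 0, 2, 1, 3, 0, 2, 2, 2, 1, 3, 3, 1, 2, 2, 0, 0, 2, 1, 3, 0, 2, 2, 2, 1, 2, 0, 0, 2, 1, 3, 0, 2, 2, 2, 1, 2, 0, 0, 2, 1, 3, 0, 2, 2, 2, 1, 3, 0, 2, 2, 2],
    [3, 0, 3, 3, 3, 1, 2, 0, 3, 1, 1, 3, 3, 0, 2, 2, 0, 3, 3, 3, 1, 2, 0, 3, 1, 1, 3, 0, 3, 3, 3, 1, 2, 0, 3, 1, 1, 3, 0, 3, 3, 3, 1, 2, 0, 3, 1, 1, 3, 3, 0, 2, 0, 2, 2, 2],
    [0, 0, 2, 1, 3, 0, 2, 2, 2, 1, 3, 3, 1, 2, 0, 3, 3, 3, 1, 2, 0, 3, 1, 1, 3, 3, 0, 2, 2, 0, 3, 3, 3, 1, 2, 0, 3, 1, 1, 3, 0, 3, 3, 3, 1, 2, 0, 3, 1, 1, 3, 3, 0, 2, 2, 2],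
    [3, 0, 3, 3, 3, 1, 2, 0, 3, 1, 1, 3, 0, 3, 3, 3, 1, 2, 0, 3, 1, 1, 3, 3, 3, 1, 2, 2, 0, 0, 2, 1, 3, 0, 2, 2, 2, 1, 3, 0, 2, 0, 2, 2, 2, 0, 0, 2, 1, 3, 0, 2, 2, 2, 1, 2],
    [3, 0, 3, 3, 3, 1, 2, 0, 3, 1, 1, 3, 3, 0, 2, 2, 2, 0, 0, 2, 1, 3, 0, 2, 2, 2, 1, 2, 0, 0, 2, 1, 3, 0, 2, 2, 2, 1, 3, 3, 1, 3, 1, 2, 2, 0, 0, 2, 1, 3, 0, 2, 2, 2, 1, 3, 0, 2, 2, 2],
    [3, 0, 3, 3, 3, 1, 2, 0, 3, 1, 1, 3, 0, 3, 3, 3, 1, 2, 0, 3, 1, 1, 3, 3, 0, 2, 0, 2, 2, 0, 3, 3, 3, 1, 2, 0, 3, 1, 1, 3, 3, 3, 1, 2, 0, 3, 3, 3, 1, 2, 0, 3, 1, 1, 3, 0, 3, 3, 3, 1, 2, 0, 3, 1, 1],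
    [3, 3, 3, 1, 3, 1, 2, 0, 3, 3, 3, 1, 2, 0, 3, 1, 1, 3, 3, 3, 1, 3, 1, 2, 2],
    [3, 3, 0, 2, 0, 2, 2, 2, 0, 0, 2, 1, 3, 0, 2, 2, 2, 1, 3, 0, 2, 0, 2, 2, 2],
    [3, 0, 3, 3, 3, 1, 2, 0, 3, 1, 1, 3, 3, 0, 2, 0, 2, 2, 0, 3, 3, 3, 1, 2, 0, 3, 1, 1, 3, 3, 0, 2, 0, 2, 2, 2],
    [3, 3, 3, 1, 3, 1, 2, 2, 0, 0, 2, 1, 3, 0, 2, 2, 2, 1, 3, 3, 1, 3, 1, 2, 2, 0, 0, 2, 1, 3, 0, 2, 2, 2, 1, 2],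
    [3, 3, 0, 2, 0, 2, 2, 0, 3, 3, 3, 1, 2, 0, 3, 1, 1, 3, 3, 3, 1, 3, 1, 2, 2, 0, 0, 2, 1, 3, 0, 2, 2, 2, 1, 2, 0, 0, 2, 1, 3, 0, 2, 2, 2, 1, 2],
    [3, 0, 3, 3, 3, 1, 2, 0, 3, 1, 1, 3, 0, 3, 3, 3, 1, 2, 0, 3, 1, 1, 3, 3, 0, 2, 0, 2, 2, 2, 0, 0, 2, 1, 3, 0, 2, 2, 2, 1, 3, 3, 1, 3, 1, 2, 2],
    [0, 0, 2, 1, 3, 0, 2, 2, 2, 1, 3, 0, 2, 2, 2, 0, 0, 2, 1, 3, 0, 2, 2, 2, 1, 2, 0, 0, 2, 1, 3, 0, 2, 2, 2, 1, 2, 0, 0, 2, 1, 3, 0, 2, 2, 2, 1, 2],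
    [3, 0, 3, 3, 3, 1, 2, 0, 3, 1, 1, 3, 0, 3, 3, 3, 1, 2, 0, 3, 1, 1, 3, 0, 3, 3, 3, 1, 2, 0, 3, 1, 1, 3, 3, 3, 1, 2, 0, 3, 3, 3, 1, 2, 0, 3, 1, 1],
    [3, 0, 3, 3, 3, 1, 2, 0, 3, 1, 1, 3, 3, 3, 1, 2, 0, 3, 3, 3, 1, 2, 0, 3, 1, 1, 3, 0, 3, 3, 3, 1, 2, 0, 3, 1, 1, 3, 0, 3, 3, 3, 1, 2, 0, 3, 1, 1],
    [0, 0, 2, 1, 3, 0, 2, 2, 2, 1, 2, 0, 0, 2, 1, 3, 0, 2, 2, 2, 1, 2, 0, 0, 2, 1, 3, 0, 2, 2, 2, 1, 3, 0, 2, 2, 2, 0, 0, 2, 1, 3, 0, 2, 2, 2, 1, 2],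
    [3, 3, 3, 1, 2, 0, 3, 3, 3, 1, 2, 0, 3, 1, 1, 3, 0, 3, 3, 3, 1, 2, 0, 3, 1, 1, 3, 3, 0, 2, 0, 2, 2, 2, 0, 0, 2, 1, 3, 0, 2, 2, 2, 1, 3, 3, 1, 2, 2],
    [3, 0, 3, 3, 3, 1, 2, 0, 3, 1, 1, 3, 3, 3, 1, 2, 2, 0, 0, 2, 1, 3, 0, 2, 2, 2, 1, 3, 0, 2, 2, 2, 0, 0, 2, 1, 3, 0, 2, 2, 2, 1, 3, 3, 1, 3, 1, 2, 2],
    [3, 3, 0, 2, 0, 2, 2, 0, 3, 3, 3, 1, 2, 0, 3, 1, 1, 3, 3, 3, 1, 2, 0, 3, 3, 3, 1, 2, 0, 3, 1, 1, 3, 3, 0, 2, 2, 2, 0, 0, 2, 1, 3, 0, 2, 2, 2, 1, 2],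
    [3, 3, 0, 2, 2, 0, 3, 3, 3, 1, 2, 0, 3, 1, 1, 3, 3, 3, 1, 3, 1, 2, 2, 0, 0, 2, 1, 3, 0, 2, 2, 2, 1, 2, 0, 0, 2, 1, 3, 0, 2, 2, 2, 1, 3, 0, 2, 2, 2],
    [0, 0, 2, 1, 3, 0, 2, 2, 2, 1, 2, 0, 0, 2, 1, 3, 0, 2, 2, 2, 1, 3, 3, 1, 3, 1, 2, 0, 3, 3, 3, 1, 2, 0, 3, 1, 1, 3, 0, 3, 3, 3, 1, 2, 0, 3, 1, 1, 3, 3, 0, 2, 2, 2],
    [3, 3, 3, 1, 2, 2, 0, 0, 2, 1, 3, 0, 2, 2, 2, 1, 2, 0, 0, 2, 1, 3, 0, 2, 2, 2, 1, 3, 0, 2, 0, 2, 2, 0, 3, 3, 3, 1, 2, 0, 3, 1, 1, 3, 0, 3, 3, 3, 1, 2, 0, 3, 1, 1],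
    [3, 3, 3, 1, 2, 0, 3, 3, 3, 1, 2, 0, 3, 1, 1, 3, 0, 3, 3, 3, 1, 2, 0, 3, 1, 1, 3, 0, 3, 3, 3, 1, 2, 0, 3, 1, 1, 3, 3, 3, 1, 2, 0, 3, 3, 3, 1, 2, 0, 3, 1, 1, 3, 3, 0, 2, 2, 2],
    [3, 3, 0, 2, 2, 2, 0, 0, 2, 1, 3, 0, 2, 2, 2, 1, 2, 0, 0, 2, 1, 3, 0, 2, 2, 2, 1, 3, 0, 2, 2, 2, 0, 0, 2, 1, 3, 0, 2, 2, 2, 1, 2, 0, 0, 2, 1, 3, 0, 2, 2, 2, 1, 3, 3, 1, 2, 2],
    [3, 3, 0, 2, 2, 0, 3, 3, 3, 1, 2, 0, 3, 1, 1, 3, 0, 3, 3, 3, 1, 2, 0, 3, 1, 1, 3, 3, 3, 1, 2, 0, 3, 3, 3, 1, 2, 0, 3, 1, 1, 3, 0, 3, 3, 3, 1, 2, 0, 3, 1, 1, 3, 3, 3, 1, 2, 2],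
    [3, 3, 3, 1, 2, 2, 0, 0, 2, 1, 3, 0, 2, 2, 2, 1, 3, 0, 2, 2, 2, 0, 0, 2, 1, 3, 0, 2, 2, 2, 1, 2, 0, 0, 2, 1, 3, 0, 2, 2, 2, 1, 2, 0, 0, 2, 1, 3, 0, 2, 2, 2, 1, 3, 0, 2, 2, 2],
    [3, 3, 3, 1, 2, 0, 3, 3, 3, 1, 2, 0, 3, 1, 1, 3, 3, 3, 1, 2, 2],
    [3, 3, 0, 2, 2, 2, 0, 0, 2, 1, 3, 0, 2, 2, 2, 1, 3, 0, 2, 2, 2],
    [3, 3, 0, 2, 2, 0, 3, 3, 3, 1, 2, 0, 3, 1, 1, 3, 3, 0, 2, 0, 2, 2, 2, 0, 0, 2, 1, 3, 0, 2, 2, 2, 1, 3, 3, 1, 2, 2],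
    [3, 3, 0, 2, 2, 0, 3, 3, 3, 1, 2, 0, 3, 1, 1, 3, 3, 3, 1, 3, 1, 2, 2, 0, 0, 2, 1, 3, 0, 2, 2, 2, 1, 3, 3, 1, 2, 2],
    [3, 3, 3, 1, 2, 0, 3, 3, 3, 1, 2, 0, 3, 1, 1, 3, 3, 3, 1, 3, 1, 2, 0, 3, 3, 3, 1, 2, 0, 3, 1, 1, 3, 3, 3, 1, 2, 2],
    [3, 3, 0, 2, 2, 2, 0, 0, 2, 1, 3, 0, 2, 2, 2, 1, 3, 0, 2, 0, 2, 2, 2, 0, 0, 2, 1, 3, 0, 2, 2, 2, 1, 3, 0, 2, 2, 2],
    [3, 3, 0, 2, 0, 2, 2, 2, 0, 0, 2, 1, 3, 0, 2, 2, 2, 1, 3, 0, 2, 2, 0, 3, 3, 3, 1, 2, 0, 3, 1, 1, 3, 3, 3, 1, 2, 2],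
    [3, 3, 0, 2, 2, 2, 0, 0, 2, 1, 3, 0, 2, 2, 2, 1, 3, 3, 1, 2, 0, 3, 3, 3, 1, 2, 0, 3, 1, 1, 3, 3, 3, 1, 3, 1, 2, 2],
    [3, 3, 0, 2, 2, 0, 3, 3, 3, 1, 2, 0, 3, 1, 1, 3, 0, 3, 3, 3, 1, 2, 0, 3, 1, 1, 3, 3, 0, 2, 2, 0, 3, 3, 3, 1, 2, 0, 3, 1, 1],
    [0, 0, 2, 1, 3, 0, 2, 2, 2, 1, 3, 3, 1, 2, 2, 0, 0, 2, 1, 3, 0, 2, 2, 2, 1, 2, 0, 0, 2, 1, 3, 0, 2, 2, 2, 1, 3, 3, 1, 2, 2],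
    [3, 3, 0, 2, 2, 0, 3, 3, 3, 1, 2, 0, 3, 1, 1, 3, 0, 3, 3, 3, 1, 2, 0, 3, 1, 1, 3, 3, 3, 1, 2, 0, 3, 3, 3, 1, 2, 0, 3, 1, 1, 3, 3, 0, 2, 2, 2],
    [3, 3, 3, 1, 2, 2, 0, 0, 2, 1, 3, 0, 2, 2, 2, 1, 3, 0, 2, 2, 2, 0, 0, 2, 1, 3, 0, 2, 2, 2, 1, 2, 0, 0, 2, 1, 3, 0, 2, 2, 2, 1, 3, 3, 1, 2, 2],
    [3, 3, 0, 2, 0, 2, 2, 0, 3, 3, 3, 1, 2, 0, 3, 1, 1, 3, 0, 3, 3, 3, 1, 2, 0, 3, 1, 1, 3, 3, 3, 1, 2, 0, 3, 3, 3, 1, 2, 0, 3, 1, 1, 3, 0, 3, 3, 3, 1, 2, 0, 3, 1, 1],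
    [0, 0, 2, 1, 3, 0, 2, 2, 2, 1, 2, 0, 0, 2, 1, 3, 0, 2, 2, 2, 1, 3, 0, 2, 2, 2, 0, 0, 2, 1, 3, 0, 2, 2, 2, 1, 2, 0, 0, 2, 1, 3, 0, 2, 2, 2, 1, 3, 3, 1, 3, 1, 2, 2],
    [3, 0, 3, 3, 3, 1, 2, 0, 3, 1, 1, 3, 3, 3, 1, 3, 1, 2, 2, 0, 0, 2, 1, 3, 0, 2, 2, 2, 1, 3, 0, 2, 2, 2, 0, 0, 2, 1, 3, 0, 2, 2, 2, 1, 2, 0, 0, 2, 1, 3, 0, 2, 2, 2, 1, 2],
    [0, 0, 2, 1, 3, 0, 2, 2, 2, 1, 3, 0, 2, 2, 0, 3, 3, 3, 1, 2, 0, 3, 1, 1, 3, 3, 0, 2, 2, 2, 0, 0, 2, 1, 3, 0, 2, 2, 2, 1, 3, 0, 2, 2, 2, 0, 0, 2, 1, 3, 0, 2, 2, 2, 1, 2],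
    [0, 0, 2, 1, 3, 0, 2, 2, 2, 1, 3, 0, 2, 2, 2, 0, 0, 2, 1, 3, 0, 2, 2, 2, 1, 3, 0, 2, 2, 0, 3, 3, 3, 1, 2, 0, 3, 1, 1, 3, 3, 0, 2, 2, 2, 0, 0, 2, 1, 3, 0, 2, 2, 2, 1, 2],
    [3, 0, 3, 3, 3, 1, 2, 0, 3, 1, 1, 3, 0, 3, 3, 3, 1, 2, 0, 3, 1, 1, 3, 3, 3, 1, 2, 0, 3, 3, 3, 1, 2, 0, 3, 1, 1, 3, 3, 0, 2, 0, 2, 2, 2, 0, 0, 2, 1, 3, 0, 2, 2, 2, 1, 2],
    [3, 0, 3, 3, 3, 1, 2, 0, 3, 1, 1, 3, 3, 3, 1, 2, 0, 3, 3, 3, 1, 2, 0, 3, 1, 1, 3, 3, 3, 1, 2, 2, 0, 0, 2, 1, 3, 0, 2, 2, 2, 1, 3, 3, 1, 2, 0, 3, 3, 3, 1, 2, 0, 3, 1, 1],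
    [3, 0, 3, 3, 3, 1, 2, 0, 3, 1, 1, 3, 3, 3, 1, 2, 2, 0, 0, 2, 1, 3, 0, 2, 2, 2, 1, 3, 3, 1, 2, 0, 3, 3, 3, 1, 2, 0, 3, 1, 1, 3, 3, 3, 1, 2, 0, 3, 3, 3, 1, 2, 0, 3, 1, 1],
    [3, 3, 3, 1, 3, 1, 2, 2, 0, 0, 2, 1, 3, 0, 2, 2, 2, 1, 2, 0, 0, 2, 1, 3, 0, 2, 2, 2, 1, 3, 0, 2, 2, 2, 0, 0, 2, 1, 3, 0, 2, 2, 2, 1, 3, 0, 2, 2, 0, 3, 3, 3, 1, 2, 0, 3, 1, 1],
    [0, 0, 2, 1, 3, 0, 2, 2, 2, 1, 3, 3, 1, 2, 0, 3, 3, 3, 1, 2, 0, 3, 1, 1, 3, 3, 3, 1, 2, 0, 3, 3, 3, 1, 2, 0, 3, 1, 1, 3, 0, 3, 3, 3, 1, 2, 0, 3, 1, 1, 3, 3, 0, 2, 0, 2, 2, 2],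
    [3, 3, 0, 2, 2, 2, 0, 0, 2, 1, 3, 0, 2, 2, 2, 1, 2, 0, 0, 2, 1, 3, 0, 2, 2, 2, 1, 2, 0, 0, 2, 1, 3, 0, 2, 2, 2, 1, 3, 0, 2, 0, 2, 2, 0, 3, 3, 3, 1, 2, 0, 3, 1, 1, 3, 0, 3, 3, 3, 1, 2, 0, 3, 1, 1],
    [0, 0, 2, 1, 3, 0, 2, 2, 2, 1, 2, 0, 0, 2, 1, 3, 0, 2, 2, 2, 1, 3, 3, 1, 3, 1, 2, 0, 3, 3, 3, 1, 2, 0, 3, 1, 1, 3, 0, 3, 3, 3, 1, 2, 0, 3, 1, 1, 3, 0, 3, 3, 3, 1, 2, 0, 3, 1, 1, 3, 3, 3, 1, 2, 2]]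

/-- the multiplication table of the 60 words -/
def MTHL : List (List ℕ) := [
    [0, 1, 2, 3, 4, 5, 6, 7, 8, 9, 10, 11, 12, 13, 14, 15, 16, 17, 18, 19, 20, 21, 22, 23, 24, 25, 26, 27, 28, 29, 30, 31, 32, 33, 34, 35, 36, 37, 38, 39, 40, 41, 42, 43, 44, 45, 46, 47, 48, 49, 50, 51, 52, 53, 54, 55, 56, 57, 58, 59],
    [1, 0, 7, 22, 36, 23, 50, 2, 55, 53, 35, 41, 32, 37, 40, 52, 38, 56, 42, 51, 27, 25, 3, 5, 33, 21, 43, 20, 34, 54, 57, 39, 12, 24, 28, 10, 4, 13, 16, 31, 14, 11, 18, 26, 48, 47, 58, 45, 44, 59, 6, 19, 15, 9, 29, 8, 17, 30, 46, 49],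
    [2, 7, 0, 48, 54, 46, 43, 1, 16, 51, 49, 17, 47, 42, 31, 30, 8, 11, 37, 53, 24, 34, 44, 58, 20, 28, 50, 33, 25, 36, 15, 14, 45, 27, 21, 59, 29, 18, 55, 40, 39, 56, 13, 6, 22, 32, 5, 12, 3, 10, 26, 9, 57, 19, 4, 38, 41, 52, 23, 35],
    [3, 23, 49, 0, 25, 22, 48, 45, 39, 11, 42, 9, 38, 43, 44, 24, 54, 52, 57, 36, 55, 51, 5, 1, 15, 4, 28, 31, 26, 32, 35, 27, 29, 56, 37, 30, 19, 34, 12, 8, 50, 46, 10, 13, 14, 7, 41, 59, 6, 2, 40, 21, 17, 58, 16, 20, 33, 18, 53, 47],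
    [4, 37, 51, 24, 0, 54, 29, 26, 10, 47, 8, 40, 46, 41, 36, 25, 57, 48, 22, 30, 23, 31, 18, 20, 3, 15, 7, 49, 56, 6, 19, 21, 52, 45, 55, 44, 14, 1, 43, 58, 11, 13, 53, 38, 35, 33, 12, 9, 17, 27, 59, 2, 32, 42, 5, 34, 28, 16, 39, 50],
    [5, 22, 47, 23, 51, 0, 14, 59, 27, 46, 57, 58, 54, 28, 6, 56, 32, 24, 35, 25, 39, 36, 1, 3, 17, 19, 37, 8, 13, 38, 42, 55, 16, 52, 43, 18, 21, 26, 29, 20, 48, 53, 30, 34, 50, 49, 9, 2, 40, 45, 44, 4, 33, 41, 12, 31, 15, 10, 11, 7],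
    [6, 53, 42, 49, 26, 14, 0, 29, 50, 52, 43, 21, 20, 48, 5, 55, 25, 18, 17, 32, 12, 11, 41, 45, 35, 16, 4, 44, 40, 7, 47, 56, 19, 46, 57, 24, 58, 51, 59, 54, 28, 22, 2, 10, 27, 23, 33, 30, 13, 3, 8, 37, 9, 1, 39, 15, 31, 34, 36, 38],
    [7, 2, 1, 44, 29, 58, 26, 0, 38, 19, 59, 56, 45, 18, 39, 57, 55, 41, 13, 9, 33, 28, 48, 46, 27, 34, 6, 24, 21, 4, 52, 40, 47, 20, 25, 49, 54, 42, 8, 14, 31, 17, 37, 50, 3, 12, 23, 32, 22, 35, 43, 53, 30, 51, 36, 16, 11, 15, 5, 10],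
    [8, 52, 17, 38, 10, 28, 53, 39, 0, 55, 4, 16, 44, 27, 45, 50, 11, 2, 31, 20, 19, 22, 21, 30, 43, 59, 58, 13, 5, 42, 23, 18, 37, 36, 47, 46, 33, 32, 3, 7, 57, 49, 29, 24, 12, 14, 35, 34, 51, 41, 15, 48, 1, 6, 56, 9, 54, 40, 26, 25],
    [9, 50, 54, 11, 46, 47, 55, 18, 52, 0, 33, 3, 51, 19, 34, 53, 49, 39, 7, 13, 48, 38, 59, 40, 58, 41, 35, 32, 30, 31, 28, 29, 27, 10, 14, 26, 43, 44, 21, 17, 23, 25, 56, 36, 37, 57, 4, 5, 20, 16, 1, 12, 8, 15, 2, 6, 42, 45, 24, 22],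
    [10, 32, 48, 43, 8, 56, 42, 58, 4, 34, 0, 57, 35, 49, 33, 59, 40, 51, 21, 23, 30, 18, 31, 19, 38, 50, 39, 41, 54, 53, 20, 22, 1, 14, 9, 12, 45, 52, 24, 26, 16, 27, 6, 3, 46, 36, 44, 55, 2, 13, 25, 17, 37, 29, 28, 47, 5, 11, 7, 15],
    [11, 40, 16, 9, 41, 59, 20, 57, 17, 3, 56, 0, 21, 36, 37, 58, 2, 8, 45, 43, 6, 12, 47, 50, 53, 46, 30, 29, 35, 27, 26, 32, 31, 42, 44, 28, 13, 14, 51, 52, 1, 4, 33, 19, 34, 18, 25, 22, 55, 54, 23, 38, 39, 24, 49, 48, 10, 7, 15, 5],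
    [12, 35, 46, 39, 47, 51, 21, 44, 45, 54, 32, 20, 0, 15, 38, 13, 33, 23, 50, 56, 11, 6, 26, 17, 40, 42, 22, 57, 53, 34, 41, 43, 10, 16, 29, 1, 55, 59, 14, 3, 24, 30, 25, 31, 7, 8, 2, 4, 58, 52, 18, 5, 49, 28, 9, 36, 19, 27, 48, 37],
    [13, 36, 43, 42, 40, 27, 49, 19, 28, 18, 48, 37, 15, 0, 41, 12, 26, 34, 9, 7, 59, 52, 33, 29, 47, 39, 16, 5, 8, 23, 38, 46, 58, 22, 17, 55, 1, 11, 30, 25, 4, 14, 3, 2, 56, 53, 31, 24, 10, 6, 54, 57, 21, 45, 50, 35, 44, 51, 32, 20],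
    [14, 41, 30, 45, 37, 6, 5, 38, 44, 33, 34, 36, 39, 40, 0, 31, 19, 35, 24, 16, 54, 58, 53, 49, 18, 32, 51, 50, 48, 59, 2, 15, 25, 9, 10, 17, 11, 4, 7, 12, 13, 1, 47, 57, 8, 3, 52, 42, 28, 23, 27, 26, 46, 22, 20, 56, 55, 43, 21, 29],
    [15, 55, 31, 25, 24, 57, 52, 56, 53, 50, 58, 59, 13, 12, 30, 0, 22, 29, 54, 44, 37, 49, 16, 34, 4, 3, 33, 51, 45, 17, 14, 2, 48, 26, 23, 36, 35, 20, 41, 42, 47, 38, 39, 46, 19, 28, 43, 40, 32, 21, 9, 27, 6, 8, 18, 1, 7, 5, 10, 11],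
    [16, 57, 11, 55, 49, 25, 19, 40, 2, 38, 54, 8, 22, 33, 32, 26, 17, 0, 14, 24, 53, 44, 34, 15, 6, 35, 23, 42, 46, 13, 58, 37, 18, 29, 12, 5, 27, 45, 48, 1, 52, 10, 36, 20, 47, 31, 59, 21, 9, 56, 30, 3, 7, 43, 41, 51, 4, 39, 50, 28],
    [17, 39, 8, 51, 56, 35, 24, 52, 11, 48, 41, 2, 34, 29, 18, 23, 0, 16, 32, 6, 43, 47, 12, 26, 19, 5, 15, 36, 59, 33, 50, 45, 14, 13, 22, 25, 42, 31, 9, 57, 7, 54, 27, 53, 21, 37, 28, 44, 38, 4, 58, 55, 40, 20, 10, 3, 49, 1, 30, 46],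
    [18, 54, 50, 37, 31, 24, 35, 9, 21, 13, 22, 42, 57, 7, 17, 45, 6, 25, 19, 0, 10, 30, 20, 4, 32, 14, 55, 58, 38, 46, 8, 23, 5, 48, 41, 16, 2, 56, 52, 34, 29, 39, 44, 1, 11, 51, 40, 27, 59, 26, 36, 15, 28, 12, 43, 49, 3, 53, 47, 33],
    [19, 43, 36, 56, 23, 32, 16, 13, 30, 7, 20, 44, 53, 9, 25, 51, 35, 14, 0, 18, 22, 8, 10, 31, 5, 17, 49, 47, 52, 40, 21, 4, 24, 59, 39, 6, 50, 3, 28, 41, 46, 34, 11, 54, 42, 15, 29, 58, 33, 55, 2, 45, 38, 57, 1, 26, 37, 12, 27, 48],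
    [20, 24, 33, 54, 30, 37, 11, 27, 23, 39, 19, 12, 6, 55, 59, 48, 46, 45, 8, 31, 21, 0, 4, 18, 28, 2, 41, 34, 1, 57, 22, 10, 43, 25, 7, 53, 15, 38, 5, 49, 35, 47, 16, 56, 29, 50, 42, 26, 36, 9, 17, 14, 3, 40, 52, 58, 32, 44, 13, 51],
    [21, 28, 25, 52, 22, 38, 12, 34, 18, 49, 31, 6, 11, 58, 51, 36, 42, 50, 23, 10, 0, 20, 30, 8, 1, 33, 47, 7, 24, 44, 4, 19, 56, 2, 27, 40, 48, 5, 37, 9, 53, 26, 46, 32, 57, 17, 16, 41, 15, 39, 45, 59, 54, 35, 3, 13, 43, 29, 55, 14],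
    [22, 5, 59, 1, 21, 3, 44, 47, 31, 41, 18, 53, 16, 26, 48, 33, 29, 15, 30, 4, 8, 19, 23, 0, 52, 36, 34, 39, 43, 12, 10, 20, 54, 17, 13, 57, 51, 28, 32, 55, 6, 58, 35, 37, 40, 2, 11, 49, 50, 7, 14, 25, 56, 46, 38, 27, 24, 42, 9, 45],
    [23, 3, 45, 5, 19, 1, 40, 49, 20, 58, 30, 46, 29, 34, 50, 17, 12, 33, 10, 21, 31, 4, 0, 22, 56, 51, 13, 55, 37, 16, 18, 8, 38, 15, 26, 42, 25, 43, 54, 27, 44, 9, 57, 28, 6, 59, 53, 7, 14, 47, 48, 36, 24, 11, 32, 39, 52, 35, 41, 2],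
    [24, 20, 27, 4, 15, 18, 17, 33, 58, 40, 53, 47, 43, 38, 35, 3, 5, 32, 16, 14, 34, 2, 54, 37, 25, 0, 56, 21, 7, 52, 44, 49, 6, 28, 1, 19, 30, 55, 46, 10, 59, 12, 8, 41, 36, 26, 13, 50, 29, 51, 11, 31, 48, 39, 57, 23, 45, 22, 42, 9],
    [25, 34, 21, 15, 3, 16, 32, 28, 42, 59, 39, 50, 41, 46, 19, 4, 18, 6, 5, 35, 1, 27, 57, 55, 0, 24, 45, 2, 33, 48, 36, 51, 17, 7, 20, 14, 44, 23, 13, 53, 9, 43, 58, 12, 30, 56, 38, 11, 52, 31, 47, 49, 29, 10, 22, 37, 26, 54, 8, 40],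
    [26, 51, 37, 35, 6, 39, 7, 4, 43, 30, 50, 28, 33, 22, 58, 16, 34, 13, 41, 47, 45, 56, 17, 12, 49, 55, 29, 3, 31, 0, 32, 11, 9, 23, 15, 27, 5, 53, 10, 36, 21, 48, 1, 59, 24, 46, 20, 52, 18, 44, 38, 42, 19, 2, 14, 57, 40, 25, 54, 8],
    [27, 33, 24, 29, 57, 13, 41, 20, 5, 31, 51, 32, 50, 8, 49, 44, 58, 47, 55, 39, 25, 1, 36, 42, 34, 7, 11, 28, 0, 30, 3, 35, 26, 21, 2, 9, 52, 16, 23, 59, 10, 45, 38, 17, 54, 6, 18, 43, 4, 53, 56, 40, 22, 14, 15, 46, 12, 48, 37, 19],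
    [28, 21, 34, 30, 48, 8, 45, 25, 13, 35, 40, 26, 56, 5, 53, 54, 37, 43, 46, 59, 7, 33, 52, 38, 2, 20, 32, 0, 27, 3, 29, 9, 11, 1, 24, 31, 22, 58, 42, 19, 51, 6, 23, 47, 15, 41, 55, 17, 57, 14, 12, 10, 36, 49, 44, 18, 50, 4, 16, 39],
    [29, 42, 53, 27, 7, 36, 4, 6, 59, 32, 38, 31, 23, 17, 54, 34, 15, 22, 48, 52, 46, 40, 13, 33, 44, 57, 0, 35, 11, 26, 9, 28, 30, 12, 16, 3, 39, 2, 50, 5, 56, 18, 51, 8, 49, 20, 45, 19, 41, 24, 10, 1, 47, 37, 58, 25, 21, 55, 14, 43],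
    [30, 38, 14, 28, 20, 52, 57, 41, 19, 26, 23, 35, 42, 47, 15, 2, 44, 36, 4, 22, 18, 10, 8, 21, 54, 48, 27, 9, 32, 11, 31, 0, 3, 50, 58, 29, 59, 24, 56, 13, 12, 55, 40, 5, 53, 25, 6, 39, 45, 34, 51, 33, 43, 16, 37, 7, 1, 46, 49, 17],
    [31, 56, 15, 32, 18, 43, 46, 55, 22, 27, 21, 29, 40, 39, 2, 14, 53, 59, 20, 8, 4, 23, 19, 10, 37, 45, 9, 26, 3, 35, 0, 30, 28, 51, 49, 11, 17, 54, 1, 47, 42, 7, 12, 52, 16, 48, 57, 13, 25, 58, 33, 50, 5, 44, 24, 41, 38, 6, 34, 36],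
    [32, 10, 58, 31, 45, 19, 25, 48, 47, 29, 12, 27, 1, 52, 16, 37, 24, 5, 6, 17, 41, 50, 43, 56, 14, 18, 3, 30, 9, 28, 11, 26, 35, 38, 54, 0, 8, 49, 40, 22, 33, 57, 21, 39, 2, 55, 7, 36, 46, 15, 42, 23, 59, 34, 53, 4, 51, 20, 44, 13],
    [33, 27, 20, 36, 52, 42, 56, 24, 46, 14, 9, 45, 26, 16, 10, 22, 23, 12, 38, 40, 28, 7, 29, 13, 21, 1, 17, 25, 2, 15, 48, 59, 50, 34, 0, 51, 57, 8, 58, 35, 49, 32, 55, 11, 4, 43, 37, 6, 54, 19, 41, 39, 44, 31, 30, 5, 47, 3, 18, 53],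
    [34, 25, 28, 57, 44, 55, 47, 21, 37, 10, 14, 43, 17, 23, 9, 29, 13, 26, 58, 49, 2, 24, 15, 16, 7, 27, 12, 1, 20, 22, 54, 53, 41, 0, 33, 39, 3, 46, 18, 51, 19, 50, 5, 45, 52, 11, 8, 56, 30, 40, 32, 35, 4, 59, 48, 42, 6, 36, 38, 31],
    [35, 12, 44, 26, 55, 17, 18, 46, 36, 28, 1, 30, 10, 59, 24, 49, 14, 19, 25, 5, 57, 42, 39, 51, 16, 6, 31, 11, 29, 9, 27, 3, 0, 40, 53, 32, 47, 15, 33, 43, 38, 20, 50, 22, 58, 4, 48, 8, 7, 37, 21, 56, 13, 54, 34, 45, 23, 41, 2, 52],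
    [36, 13, 19, 33, 1, 29, 54, 43, 35, 45, 55, 14, 58, 11, 4, 21, 30, 44, 3, 57, 5, 39, 42, 27, 22, 52, 2, 59, 17, 50, 51, 25, 15, 47, 8, 48, 40, 0, 26, 46, 41, 37, 9, 16, 10, 24, 32, 53, 56, 20, 49, 7, 12, 18, 23, 28, 34, 38, 31, 6],
    [37, 4, 26, 18, 14, 20, 59, 51, 34, 42, 44, 13, 52, 1, 11, 32, 43, 28, 53, 2, 49, 15, 24, 54, 45, 31, 38, 23, 55, 5, 16, 58, 46, 3, 56, 8, 0, 41, 57, 21, 36, 40, 22, 7, 17, 9, 39, 33, 35, 50, 29, 30, 25, 47, 6, 10, 48, 19, 12, 27],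
    [38, 30, 41, 8, 59, 21, 51, 14, 7, 16, 29, 55, 3, 24, 12, 43, 56, 1, 40, 33, 9, 48, 28, 52, 50, 10, 5, 18, 58, 37, 46, 13, 42, 54, 32, 23, 20, 47, 44, 0, 15, 35, 4, 27, 45, 39, 49, 25, 53, 17, 57, 22, 2, 26, 11, 19, 36, 31, 6, 34],
    [39, 17, 52, 12, 42, 26, 58, 8, 3, 20, 25, 54, 14, 31, 7, 40, 9, 49, 27, 55, 36, 5, 51, 35, 13, 47, 53, 43, 22, 10, 1, 57, 34, 19, 59, 41, 56, 29, 0, 45, 18, 2, 32, 15, 38, 44, 30, 37, 21, 46, 24, 6, 23, 48, 33, 11, 16, 50, 28, 4],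
    [40, 11, 57, 47, 13, 50, 23, 16, 48, 24, 28, 4, 31, 14, 1, 39, 51, 10, 33, 38, 29, 46, 9, 59, 42, 12, 19, 6, 44, 49, 7, 52, 21, 53, 35, 56, 41, 36, 2, 32, 37, 0, 45, 30, 55, 22, 15, 18, 34, 5, 20, 43, 58, 3, 27, 17, 8, 26, 25, 54],
    [41, 14, 38, 53, 11, 49, 27, 30, 56, 22, 17, 1, 25, 4, 13, 46, 7, 55, 47, 26, 50, 32, 45, 6, 9, 58, 57, 54, 10, 20, 43, 12, 39, 18, 48, 34, 37, 40, 19, 15, 0, 36, 24, 51, 28, 42, 21, 3, 8, 29, 5, 16, 31, 33, 59, 44, 35, 2, 52, 23],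
    [42, 29, 6, 13, 39, 33, 10, 53, 25, 37, 3, 18, 30, 2, 56, 47, 50, 21, 51, 1, 35, 57, 27, 36, 12, 40, 8, 46, 16, 58, 55, 5, 23, 44, 11, 38, 7, 17, 15, 28, 54, 31, 48, 0, 41, 19, 14, 20, 49, 43, 4, 52, 34, 32, 26, 59, 22, 9, 45, 24],
    [43, 19, 13, 10, 50, 31, 2, 36, 26, 57, 6, 34, 24, 3, 46, 38, 28, 37, 11, 45, 47, 17, 56, 32, 59, 8, 54, 22, 39, 1, 12, 41, 53, 5, 52, 20, 23, 9, 35, 4, 25, 44, 0, 49, 33, 58, 27, 15, 42, 48, 16, 18, 51, 7, 40, 30, 14, 21, 29, 55],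
    [44, 46, 35, 7, 34, 48, 22, 12, 14, 56, 37, 19, 8, 50, 3, 27, 36, 30, 15, 54, 16, 53, 58, 2, 57, 29, 21, 40, 6, 47, 49, 24, 4, 11, 42, 52, 9, 25, 45, 38, 43, 23, 59, 18, 39, 0, 17, 10, 26, 1, 31, 28, 41, 5, 55, 33, 20, 13, 51, 32],
    [45, 49, 23, 14, 32, 53, 28, 3, 12, 36, 47, 33, 7, 57, 8, 18, 20, 46, 43, 11, 56, 26, 6, 41, 31, 37, 48, 15, 51, 25, 17, 50, 59, 55, 4, 2, 16, 10, 39, 44, 27, 52, 34, 40, 0, 38, 1, 29, 5, 30, 13, 58, 35, 21, 19, 54, 9, 24, 22, 42],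
    [46, 44, 12, 58, 9, 2, 31, 35, 33, 5, 52, 23, 4, 25, 43, 41, 45, 20, 59, 28, 40, 29, 7, 48, 11, 53, 18, 16, 42, 55, 13, 38, 8, 57, 6, 37, 34, 50, 36, 24, 3, 19, 15, 21, 26, 10, 51, 0, 39, 32, 22, 54, 27, 56, 47, 14, 30, 49, 17, 1],
    [47, 59, 5, 40, 12, 9, 34, 22, 32, 4, 45, 24, 2, 30, 55, 42, 27, 58, 26, 41, 17, 43, 50, 11, 39, 13, 44, 52, 19, 21, 56, 6, 49, 8, 36, 7, 38, 35, 31, 48, 20, 15, 28, 14, 1, 16, 0, 54, 23, 57, 37, 46, 10, 25, 51, 29, 53, 33, 3, 18],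
    [48, 58, 10, 2, 28, 44, 3, 32, 40, 17, 13, 51, 55, 6, 22, 20, 4, 57, 52, 29, 38, 9, 46, 7, 30, 54, 25, 14, 50, 45, 59, 33, 36, 41, 18, 15, 53, 21, 47, 16, 26, 5, 49, 42, 31, 1, 56, 35, 43, 0, 39, 34, 11, 23, 8, 24, 27, 37, 19, 12],
    [49, 45, 3, 6, 16, 41, 13, 23, 54, 21, 2, 52, 59, 10, 27, 35, 39, 9, 34, 58, 15, 37, 14, 53, 55, 26, 40, 56, 4, 19, 24, 44, 7, 31, 51, 47, 32, 57, 20, 50, 8, 33, 43, 48, 5, 29, 22, 38, 0, 42, 28, 11, 18, 36, 25, 12, 46, 17, 1, 30],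
    [50, 9, 18, 59, 43, 40, 1, 54, 6, 15, 26, 25, 27, 44, 23, 8, 21, 42, 56, 12, 32, 41, 11, 47, 10, 38, 36, 48, 14, 2, 45, 17, 51, 58, 30, 33, 46, 19, 49, 29, 34, 3, 7, 35, 20, 5, 24, 57, 37, 22, 55, 13, 53, 0, 31, 52, 39, 28, 4, 16],
    [51, 26, 4, 17, 5, 12, 38, 37, 57, 2, 27, 48, 9, 53, 21, 19, 10, 40, 1, 42, 3, 55, 35, 39, 23, 56, 59, 45, 15, 14, 25, 36, 33, 49, 31, 50, 6, 22, 34, 11, 58, 28, 41, 29, 18, 52, 54, 46, 24, 8, 7, 47, 16, 30, 0, 43, 13, 32, 20, 44],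
    [52, 8, 39, 21, 33, 30, 15, 17, 9, 6, 46, 49, 37, 32, 57, 1, 3, 54, 29, 48, 13, 59, 38, 28, 36, 22, 24, 19, 47, 56, 40, 7, 44, 43, 5, 4, 10, 27, 11, 18, 45, 16, 31, 58, 51, 34, 26, 14, 12, 25, 53, 20, 50, 55, 42, 0, 2, 23, 35, 41],
    [53, 6, 29, 41, 58, 45, 8, 42, 15, 1, 24, 22, 19, 51, 28, 9, 59, 31, 2, 37, 44, 16, 49, 14, 46, 11, 10, 12, 57, 39, 34, 54, 20, 35, 40, 43, 26, 48, 25, 56, 5, 21, 17, 4, 13, 30, 36, 23, 27, 38, 0, 32, 55, 52, 7, 50, 18, 47, 33, 3],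
    [54, 18, 9, 20, 2, 4, 36, 50, 49, 12, 16, 39, 5, 56, 29, 28, 52, 3, 44, 15, 58, 14, 37, 24, 48, 30, 1, 10, 41, 43, 53, 34, 57, 32, 38, 22, 31, 7, 6, 23, 17, 42, 19, 55, 59, 27, 47, 51, 11, 33, 35, 0, 45, 13, 46, 21, 25, 8, 40, 26],
    [55, 15, 56, 16, 35, 34, 9, 31, 1, 8, 36, 38, 48, 20, 47, 6, 41, 7, 39, 27, 51, 3, 25, 57, 26, 49, 46, 37, 23, 18, 5, 42, 13, 4, 45, 58, 24, 12, 22, 2, 30, 59, 54, 33, 32, 40, 10, 28, 19, 11, 52, 44, 0, 50, 17, 53, 29, 14, 43, 21],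
    [56, 31, 55, 19, 17, 10, 33, 15, 41, 44, 11, 7, 28, 54, 42, 5, 1, 38, 12, 50, 26, 45, 32, 43, 51, 23, 52, 4, 49, 24, 6, 47, 40, 37, 3, 21, 18, 39, 53, 30, 2, 29, 20, 9, 25, 13, 34, 48, 16, 36, 46, 8, 14, 27, 35, 22, 59, 0, 57, 58],
    [57, 16, 40, 34, 27, 15, 30, 11, 51, 43, 5, 10, 18, 45, 52, 7, 48, 4, 36, 3, 42, 35, 55, 25, 29, 44, 20, 53, 12, 41, 39, 1, 22, 6, 46, 54, 49, 33, 17, 37, 32, 8, 14, 23, 9, 21, 50, 31, 47, 28, 19, 24, 26, 38, 13, 2, 0, 58, 59, 56],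
    [58, 48, 32, 46, 53, 7, 39, 10, 24, 23, 15, 5, 36, 21, 26, 11, 47, 27, 49, 34, 14, 54, 2, 44, 41, 9, 42, 38, 18, 8, 37, 16, 55, 30, 50, 13, 28, 6, 4, 33, 22, 51, 52, 25, 43, 35, 19, 1, 31, 12, 3, 29, 20, 17, 45, 40, 57, 59, 56, 0],
    [59, 47, 22, 50, 38, 11, 37, 5, 29, 25, 7, 15, 49, 35, 20, 10, 31, 53, 28, 46, 52, 13, 40, 9, 8, 43, 14, 17, 36, 51, 33, 48, 2, 39, 19, 45, 12, 30, 27, 6, 55, 24, 26, 44, 23, 54, 3, 16, 1, 18, 34, 41, 42, 4, 21, 32, 58, 56, 0, 57]]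

/-- the multiplication table of the 60 words, as a function -/
def mtH (i j : ℕ) : ℕ := (MTHL.getD i []).getD j 0

/-- the conjugates of the 32 words by the 60 words -/
def NQL : List (List ℕ) := [
    [0, 1, 2, 3, 4, 5, 6, 7, 8, 9, 10, 11, 12, 13, 14, 15, 16, 17, 18, 19, 20, 21, 22, 23, 24, 25, 26, 27, 28, 29, 30, 31],
    [0, 1, 2, 3, 7, 8, 11, 4, 5, 10, 9, 6, 25, 24, 31, 30, 22, 18, 17, 23, 21, 20, 16, 19, 13, 12, 28, 29, 26, 27, 15, 14],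
    [0, 1, 2, 3, 9, 11, 8, 10, 6, 4, 7, 5, 24, 25, 23, 22, 30, 20, 21, 31, 17, 18, 15, 14, 12, 13, 27, 26, 29, 28, 16, 19],
    [0, 1, 11, 10, 7, 8, 6, 4, 5, 9, 3, 2, 26, 27, 29, 28, 19, 22, 23, 16, 21, 20, 17, 18, 31, 30, 12, 13, 15, 14, 25, 24],
    [0, 1, 11, 10, 4, 6, 5, 9, 8, 7, 3, 2, 13, 12, 24, 25, 19, 30, 31, 16, 26, 27, 28, 29, 14, 15, 20, 21, 22, 23, 17, 18],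
    [0, 1, 6, 9, 7, 8, 2, 4, 5, 3, 10, 11, 15, 14, 13, 12, 18, 19, 16, 17, 21, 20, 23, 22, 29, 28, 30, 31, 25, 24, 26, 27],
    [0, 1, 8, 4, 3, 6, 5, 9, 2, 7, 10, 11, 13, 12, 15, 14, 24, 28, 29, 25, 23, 22, 21, 20, 16, 19, 31, 30, 17, 18, 27, 26],
    [0, 1, 2, 3, 10, 6, 5, 9, 11, 7, 4, 8, 13, 12, 19, 16, 15, 21, 20, 14, 18, 17, 30, 31, 25, 24, 29, 28, 27, 26, 22, 23],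
    [0, 1, 6, 9, 4, 11, 2, 10, 8, 3, 7, 5, 16, 19, 27, 26, 12, 31, 30, 13, 25, 24, 23, 22, 21, 20, 15, 14, 29, 28, 18, 17],
    [0, 1, 5, 7, 10, 2, 6, 3, 11, 9, 4, 8, 23, 22, 28, 29, 20, 27, 26, 21, 16, 19, 13, 12, 25, 24, 18, 17, 14, 15, 31, 30],
    [0, 1, 5, 7, 4, 2, 11, 3, 8, 10, 9, 6, 19, 16, 21, 20, 13, 18, 17, 12, 15, 14, 29, 28, 27, 26, 25, 24, 23, 22, 31, 30],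
    [0, 1, 8, 4, 3, 11, 6, 10, 2, 9, 7, 5, 18, 17, 15, 14, 21, 13, 12, 20, 19, 16, 27, 26, 30, 31, 23, 22, 29, 28, 24, 25],
    [0, 1, 8, 4, 3, 5, 11, 7, 2, 10, 9, 6, 28, 29, 15, 14, 27, 18, 17, 26, 31, 30, 24, 25, 22, 23, 19, 16, 12, 13, 21, 20],
    [0, 1, 6, 9, 10, 5, 2, 7, 11, 3, 4, 8, 30, 31, 17, 18, 26, 14, 15, 27, 29, 28, 23, 22, 25, 24, 16, 19, 21, 20, 12, 13],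
    [0, 1, 5, 7, 9, 2, 8, 3, 6, 4, 10, 11, 14, 15, 12, 13, 29, 25, 24, 28, 22, 23, 20, 21, 18, 17, 27, 26, 19, 16, 31, 30],
    [0, 1, 11, 10, 9, 5, 8, 7, 6, 4, 3, 2, 21, 20, 18, 17, 19, 15, 14, 16, 13, 12, 25, 24, 23, 22, 27, 26, 30, 31, 28, 29],
    [0, 1, 8, 4, 9, 5, 2, 7, 6, 3, 10, 11, 30, 31, 26, 27, 24, 19, 16, 25, 13, 12, 14, 15, 18, 17, 22, 23, 28, 29, 21, 20],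
    [0, 1, 6, 9, 3, 5, 8, 7, 2, 4, 10, 11, 21, 20, 22, 23, 18, 25, 24, 17, 31, 30, 26, 27, 16, 19, 14, 15, 28, 29, 12, 13],
    [0, 1, 5, 7, 4, 6, 2, 9, 8, 3, 10, 11, 22, 23, 21, 20, 29, 19, 16, 28, 26, 27, 31, 30, 24, 25, 15, 14, 17, 18, 13, 12],
    [0, 1, 6, 9, 4, 2, 5, 3, 8, 7, 10, 11, 31, 30, 27, 26, 18, 28, 29, 17, 15, 14, 12, 13, 24, 25, 20, 21, 19, 16, 23, 22],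
    [0, 1, 2, 3, 4, 6, 11, 9, 8, 10, 7, 5, 17, 18, 14, 15, 30, 29, 28, 31, 26, 27, 16, 19, 21, 20, 25, 24, 13, 12, 22, 23],
    [0, 1, 2, 3, 4, 11, 5, 10, 8, 7, 9, 6, 29, 28, 14, 15, 22, 12, 13, 23, 25, 24, 30, 31, 27, 26, 20, 21, 18, 17, 16, 19],
    [0, 1, 6, 9, 4, 5, 11, 7, 8, 10, 3, 2, 28, 29, 27, 26, 23, 16, 19, 22, 20, 21, 18, 17, 14, 15, 25, 24, 30, 31, 12, 13],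
    [0, 1, 11, 10, 4, 5, 2, 7, 8, 3, 9, 6, 30, 31, 24, 25, 17, 23, 22, 18, 20, 21, 19, 16, 27, 26, 15, 14, 12, 13, 28, 29],
    [0, 1, 2, 3, 9, 8, 5, 4, 6, 7, 10, 11, 20, 21, 23, 22, 16, 28, 29, 19, 27, 26, 30, 31, 18, 17, 13, 12, 25, 24, 15, 14],
    [0, 1, 2, 3, 7, 6, 8, 9, 5, 4, 10, 11, 27, 26, 31, 30, 16, 25, 24, 19, 12, 13, 15, 14, 29, 28, 21, 20, 17, 18, 22, 23],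
    [0, 1, 11, 10, 3, 5, 6, 7, 2, 9, 4, 8, 12, 13, 16, 19, 25, 27, 26, 24, 31, 30, 17, 18, 15, 14, 23, 22, 21, 20, 28, 29],
    [0, 1, 2, 3, 7, 11, 6, 10, 5, 9, 4, 8, 18, 17, 31, 30, 15, 27, 26, 14, 28, 29, 22, 23, 20, 21, 12, 13, 24, 25, 16, 19],
    [0, 1, 2, 3, 10, 8, 6, 4, 11, 9, 7, 5, 26, 27, 19, 16, 30, 13, 12, 31, 24, 25, 22, 23, 28, 29, 18, 17, 20, 21, 15, 14],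
    [0, 1, 8, 4, 10, 5, 6, 7, 11, 9, 3, 2, 12, 13, 25, 24, 14, 22, 23, 15, 29, 28, 27, 26, 19, 16, 18, 17, 30, 31, 21, 20],
    [0, 1, 5, 7, 4, 11, 6, 10, 8, 9, 3, 2, 18, 17, 21, 20, 31, 22, 23, 30, 25, 24, 13, 12, 14, 15, 26, 27, 16, 19, 29, 28],
    [0, 1, 11, 10, 4, 2, 6, 3, 8, 9, 7, 5, 23, 22, 24, 25, 28, 13, 12, 29, 15, 14, 17, 18, 21, 20, 26, 27, 31, 30, 19, 16],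
    [0, 1, 5, 7, 3, 8, 6, 4, 2, 9, 10, 11, 26, 27, 30, 31, 29, 17, 18, 28, 14, 15, 13, 12, 16, 19, 23, 22, 25, 24, 20, 21],
    [0, 1, 2, 3, 10, 5, 8, 7, 11, 4, 9, 6, 21, 20, 19, 16, 22, 26, 27, 23, 29, 28, 15, 14, 17, 18, 24, 25, 12, 13, 30, 31],
    [0, 1, 2, 3, 9, 5, 11, 7, 6, 10, 4, 8, 28, 29, 23, 22, 15, 24, 25, 14, 13, 12, 16, 19, 26, 27, 17, 18, 21, 20, 30, 31],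
    [0, 1, 8, 4, 7, 2, 6, 3, 5, 9, 10, 11, 23, 22, 20, 21, 24, 17, 18, 25, 30, 31, 27, 26, 29, 28, 12, 13, 19, 16, 14, 15],
    [0, 1, 6, 9, 7, 11, 8, 10, 5, 4, 3, 2, 24, 25, 13, 12, 23, 15, 14, 22, 28, 29, 26, 27, 31, 30, 21, 20, 16, 19, 18, 17],
    [0, 1, 11, 10, 9, 8, 2, 4, 6, 3, 7, 5, 15, 14, 18, 17, 28, 31, 30, 29, 27, 26, 19, 16, 12, 13, 22, 23, 20, 21, 25, 24],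
    [0, 1, 5, 7, 10, 8, 2, 4, 11, 3, 9, 6, 15, 14, 28, 29, 13, 23, 22, 12, 24, 25, 31, 30, 17, 18, 16, 19, 26, 27, 20, 21],
    [0, 1, 6, 9, 7, 2, 11, 3, 5, 10, 4, 8, 19, 16, 13, 12, 26, 24, 25, 27, 30, 31, 18, 17, 20, 21, 28, 29, 14, 15, 23, 22],
    [0, 1, 8, 4, 10, 2, 5, 3, 11, 7, 9, 6, 31, 30, 25, 24, 27, 12, 13, 26, 16, 19, 21, 20, 17, 18, 29, 28, 23, 22, 14, 15],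
    [0, 1, 5, 7, 3, 6, 11, 9, 2, 10, 4, 8, 17, 18, 30, 31, 20, 24, 25, 21, 23, 22, 29, 28, 15, 14, 19, 16, 27, 26, 13, 12],
    [0, 1, 8, 4, 7, 11, 2, 10, 5, 3, 9, 6, 16, 19, 20, 21, 27, 23, 22, 26, 28, 29, 14, 15, 13, 12, 30, 31, 18, 17, 24, 25],
    [0, 1, 6, 9, 3, 8, 11, 4, 2, 10, 7, 5, 25, 24, 22, 23, 12, 29, 28, 13, 14, 15, 18, 17, 30, 31, 19, 16, 20, 21, 26, 27],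
    [0, 1, 8, 4, 9, 11, 5, 10, 6, 7, 3, 2, 29, 28, 26, 27, 14, 30, 31, 15, 17, 18, 21, 20, 23, 22, 13, 12, 16, 19, 24, 25],
    [0, 1, 11, 10, 3, 6, 8, 9, 2, 4, 7, 5, 27, 26, 16, 19, 28, 20, 21, 29, 23, 22, 25, 24, 30, 31, 14, 15, 13, 12, 17, 18],
    [0, 1, 8, 4, 10, 6, 2, 9, 11, 3, 7, 5, 22, 23, 25, 24, 21, 31, 30, 20, 18, 17, 14, 15, 28, 29, 16, 19, 13, 12, 27, 26],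
    [0, 1, 6, 9, 3, 11, 5, 10, 2, 7, 4, 8, 29, 28, 22, 23, 26, 21, 20, 27, 19, 16, 12, 13, 15, 14, 31, 30, 24, 25, 18, 17],
    [0, 1, 5, 7, 10, 6, 8, 9, 11, 4, 3, 2, 27, 26, 28, 29, 31, 15, 14, 30, 18, 17, 20, 21, 19, 16, 24, 25, 22, 23, 13, 12],
    [0, 1, 11, 10, 9, 2, 5, 3, 6, 7, 4, 8, 31, 30, 18, 17, 25, 21, 20, 24, 22, 23, 28, 29, 26, 27, 13, 12, 14, 15, 19, 16],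
    [0, 1, 5, 7, 3, 11, 8, 10, 2, 4, 9, 6, 24, 25, 30, 31, 13, 26, 27, 12, 19, 16, 20, 21, 22, 23, 14, 15, 18, 17, 29, 28],
    [0, 1, 11, 10, 7, 2, 8, 3, 5, 4, 9, 6, 14, 15, 29, 28, 17, 26, 27, 18, 30, 31, 25, 24, 13, 12, 21, 20, 23, 22, 19, 16],
    [0, 1, 6, 9, 10, 8, 5, 4, 11, 7, 3, 2, 20, 21, 17, 18, 23, 30, 31, 22, 24, 25, 12, 13, 19, 16, 29, 28, 15, 14, 26, 27],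
    [0, 1, 8, 4, 9, 2, 11, 3, 6, 10, 7, 5, 19, 16, 26, 27, 21, 29, 28, 20, 22, 23, 24, 25, 12, 13, 17, 18, 31, 30, 14, 15],
    [0, 1, 5, 7, 9, 8, 11, 4, 6, 10, 3, 2, 25, 24, 12, 13, 31, 16, 19, 30, 27, 26, 29, 28, 23, 22, 17, 18, 15, 14, 20, 21],
    [0, 1, 11, 10, 7, 6, 2, 9, 5, 3, 4, 8, 22, 23, 29, 28, 25, 14, 15, 24, 12, 13, 19, 16, 20, 21, 30, 31, 27, 26, 17, 18],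
    [0, 1, 11, 10, 3, 8, 5, 4, 2, 7, 9, 6, 20, 21, 16, 19, 17, 12, 13, 18, 14, 15, 28, 29, 22, 23, 31, 30, 26, 27, 25, 24],
    [0, 1, 8, 4, 7, 6, 11, 9, 5, 10, 3, 2, 17, 18, 20, 21, 14, 16, 19, 15, 12, 13, 24, 25, 31, 30, 28, 29, 22, 23, 27, 26],
    [0, 1, 5, 7, 9, 11, 2, 10, 6, 3, 4, 8, 16, 19, 12, 13, 20, 14, 15, 21, 17, 18, 31, 30, 26, 27, 22, 23, 24, 25, 29, 28],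
    [0, 1, 6, 9, 10, 2, 8, 3, 11, 4, 7, 5, 14, 15, 17, 18, 12, 20, 21, 13, 16, 19, 26, 27, 28, 29, 24, 25, 31, 30, 23, 22]]

/-- the conjugate of the word `i` of the 32 by the word `j` of the 60 -/
def nQ (j i : ℕ) : ℕ := (NQL.getD j []).getD i 0

/-- the action of the 60 words on five objects -/
def IMGL : List (List ℕ) := [
    [0, 1, 2, 3, 4],
    [0, 2, 1, 4, 3],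
    [0, 3, 4, 1, 2],
    [4, 2, 1, 3, 0],
    [4, 1, 3, 2, 0],
    [3, 2, 1, 0, 4],
    [1, 0, 3, 2, 4],
    [0, 4, 3, 2, 1],
    [3, 1, 4, 0, 2],
    [2, 4, 0, 3, 1],
    [2, 1, 0, 4, 3],
    [1, 0, 4, 3, 2],
    [1, 0, 2, 4, 3],
    [3, 4, 2, 0, 1],
    [2, 3, 0, 1, 4],
    [4, 3, 2, 1, 0],
    [1, 3, 2, 0, 4],
    [3, 0, 2, 1, 4],
    [2, 1, 3, 0, 4],
    [3, 1, 0, 2, 4],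
    [0, 1, 3, 4, 2],
    [0, 1, 4, 2, 3],
    [3, 1, 2, 4, 0],
    [4, 1, 2, 0, 3],
    [0, 3, 1, 2, 4],
    [0, 2, 3, 1, 4],
    [4, 0, 2, 3, 1],
    [0, 2, 4, 3, 1],
    [0, 4, 1, 3, 2],
    [1, 4, 2, 3, 0],
    [2, 1, 4, 3, 0],
    [4, 1, 0, 3, 2],
    [2, 0, 1, 3, 4],
    [0, 4, 2, 1, 3],
    [0, 3, 2, 4, 1],
    [1, 2, 0, 3, 4],
    [3, 2, 4, 1, 0],
    [4, 3, 1, 0, 2],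
    [2, 4, 1, 0, 3],
    [3, 2, 0, 4, 1],
    [1, 4, 0, 2, 3],
    [2, 0, 3, 4, 1],
    [1, 2, 4, 0, 3],
    [3, 0, 1, 4, 2],
    [1, 3, 4, 2, 0],
    [4, 0, 3, 1, 2],
    [1, 4, 3, 0, 2],
    [3, 0, 4, 2, 1],
    [2, 4, 3, 1, 0],
    [4, 3, 0, 2, 1],
    [2, 0, 4, 1, 3],
    [4, 2, 0, 1, 3],
    [3, 4, 1, 2, 0],
    [1, 3, 0, 4, 2],
    [2, 3, 1, 4, 0],
    [4, 2, 3, 0, 1],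
    [4, 0, 1, 2, 3],
    [1, 2, 3, 4, 0],
    [2, 3, 4, 0, 1],
    [3, 4, 0, 1, 2]]

/-- the action of the 60 words on five objects, as a function -/
def imgH (i x : ℕ) : ℕ := (IMGL.getD i []).getD x 0

/-- the inverse action of the 60 words on five objects -/
def IMGIL : List (List ℕ) := [
    [0, 1, 2, 3, 4],
    [0, 2, 1, 4, 3],
    [0, 3, 4, 1, 2],
    [4, 2, 1, 3, 0],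
    [4, 1, 3, 2, 0],
    [3, 2, 1, 0, 4],
    [1, 0, 3, 2, 4],
    [0, 4, 3, 2, 1],
    [3, 1, 4, 0, 2],
    [2, 4, 0, 3, 1],
    [2, 1, 0, 4, 3],
    [1, 0, 4, 3, 2],
    [1, 0, 2, 4, 3],
    [3, 4, 2, 0, 1],
    [2, 3, 0, 1, 4],
    [4, 3, 2, 1, 0],
    [3, 0, 2, 1, 4],
    [1, 3, 2, 0, 4],
    [3, 1, 0, 2, 4],
    [2, 1, 3, 0, 4],
    [0, 1, 4, 2, 3],
    [0, 1, 3, 4, 2],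
    [4, 1, 2, 0, 3],
    [3, 1, 2, 4, 0],
    [0, 2, 3, 1, 4],
    [0, 3, 1, 2, 4],
    [1, 4, 2, 3, 0],
    [0, 4, 1, 3, 2],
    [0, 2, 4, 3, 1],
    [4, 0, 2, 3, 1],
    [4, 1, 0, 3, 2],
    [2, 1, 4, 3, 0],
    [1, 2, 0, 3, 4],
    [0, 3, 2, 4, 1],
    [0, 4, 2, 1, 3],
    [2, 0, 1, 3, 4],
    [4, 3, 1, 0, 2],
    [3, 2, 4, 1, 0],
    [3, 2, 0, 4, 1],
    [2, 4, 1, 0, 3],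
    [2, 0, 3, 4, 1],
    [1, 4, 0, 2, 3],
    [3, 0, 1, 4, 2],
    [1, 2, 4, 0, 3],
    [4, 0, 3, 1, 2],
    [1, 3, 4, 2, 0],
    [3, 0, 4, 2, 1],
    [1, 4, 3, 0, 2],
    [4, 3, 0, 2, 1],
    [2, 4, 3, 1, 0],
    [1, 3, 0, 4, 2],
    [2, 3, 1, 4, 0],
    [4, 2, 3, 0, 1],
    [2, 0, 4, 1, 3],
    [4, 2, 0, 1, 3],
    [3, 4, 1, 2, 0],
    [1, 2, 3, 4, 0],
    [4, 0, 1, 2, 3],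
    [3, 4, 0, 1, 2],
    [2, 3, 4, 0, 1]]

/-- the inverse action, as a function -/
def imgI (i x : ℕ) : ℕ := (IMGIL.getD i []).getD x 0

/-- conjugating words for the involutions among the 1920 products -/
def CONJL : List (List (List ℕ)) := [
    [[], [0, 3, 0, 0, 3, 0, 2, 2, 0], [1, 1, 3, 0, 3, 1, 1, 3], [0, 2, 0, 3, 1, 3, 0, 2, 0], [1, 1, 2, 2, 0, 3, 1], [1, 3, 3, 1, 2, 1, 1, 2, 1], [0, 0, 2, 0, 0, 0, 2, 0, 3], [2, 1, 2, 1, 2, 2, 2, 2, 0], [0, 3, 1, 2, 1, 2, 1, 3, 0], [3, 1, 1, 2, 2, 2, 0, 0, 3], [1, 3, 0, 0, 0, 3, 3, 1, 3], [0, 0, 3, 1, 1, 1, 2, 2], [2, 0, 2, 2, 1, 1, 1, 2, 0], [3, 3, 0, 0, 0, 2, 1, 1], [0, 2, 0, 0, 0, 0, 2, 2, 0], [1, 1, 1, 3, 3, 1, 2, 2, 1], [], [], [], [], [], [], [], [], [], [], [], [], [], [],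 [], [], [], [], [], [], [], [], [], [], [], [], [], [], [], [], [], [], [], [], [], [], [], [], [], [], [], [], [], []],
    [[], [0, 0, 0, 3, 0, 2, 0, 0, 2], [0, 0, 3, 1, 2, 1, 2, 0, 0], [0, 0, 3, 3, 1, 3, 1, 3], [2, 0, 2, 2, 1, 2, 0, 0, 2], [3, 3, 3, 3, 3, 0, 2, 1, 2], [1, 3, 3, 0, 2, 2, 1, 1, 2, 1], [0, 3, 3, 0, 2, 1, 3], [2, 1, 1, 3, 3, 1, 3, 0, 2], [3, 0, 2, 2, 2, 0, 0, 2, 0], [2, 1, 2, 2, 2, 1, 3, 0, 2], [2, 1, 3, 3, 0, 0, 0, 0, 3], [0, 3, 3, 0, 0, 3, 3, 3, 0], [3, 1, 2, 0, 3, 3, 3, 0, 3], [2, 0, 2, 1, 3, 3, 1], [3, 0, 3, 1, 2, 2, 1, 1, 2, 0], [], [], [], [], [], [], [], [], [], [], [], [], [], [], [], [], [], [], [], [], [], [], [], [], [], [], [], [], [], [], [], [], [], [], [], [], [], [], [], [], [], [], [],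 []],
    [[1, 1, 3, 1, 1, 1, 1, 3], [2, 1, 1, 3, 3, 3, 0, 2, 0], [1, 2, 2, 1, 1, 2], [], [], [], [], [0, 0, 2, 2, 1, 2, 1], [], [], [], [], [], [], [], [], [], [], [], [], [], [], [], [], [], [], [], [], [], [], [], [], [], [], [], [], [], [], [], [], [], [], [], [], [], [], [], [], [], [], [], [], [], [], [], [], [], [], [], []],
    [[3, 3, 3, 1, 1, 3, 0, 3, 3], [0, 3, 0, 3, 1, 2, 1, 2, 2], [0, 2, 1, 2, 0, 0, 3, 3, 0], [], [], [], [], [3, 0, 2, 2, 2, 2, 2, 0, 2, 0], [], [], [], [], [], [], [], [], [], [], [], [], [], [], [], [], [], [], [], [], [], [], [], [], [], [], [], [], [], [], [], [], [], [], [], [], [], [], [], [], [], [], [], [], [], [], [], [], [], [], [], []],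
    [[2, 0, 0, 0, 0, 2, 0, 0], [], [], [], [0, 0, 0, 0, 0, 3, 1, 3], [], [], [], [1, 3, 1, 3, 1, 1, 3, 0], [], [3, 0, 2, 2, 1, 3, 1, 1, 2, 2], [], [], [], [], [], [], [], [], [], [], [], [], [], [], [], [], [], [], [], [], [], [], [], [], [], [], [], [], [], [], [], [], [], [], [], [], [], [], [], [], [], [], [], [], [], [], [], [], []],
    [[0, 0, 3, 3, 3, 3, 3, 0, 3, 1], [], [], [], [], [], [], [], [], [], [], [], [3, 0, 0, 3, 3, 0], [1, 1, 2, 2, 2, 1, 1, 2, 1], [], [0, 2, 1, 3, 3, 0, 0], [], [], [], [], [], [], [], [], [], [], [], [], [], [], [], [], [], [], [], [], [], [], [], [], [], [], [], [], [], [], [], [], [], [], [], [], [], [], [], [], [], [], [], []],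
    [[2, 2, 1, 2, 0, 2, 2], [], [], [3, 3, 3, 1, 1, 2, 0, 0, 2], [], [], [], [], [], [2, 0, 2, 0, 3, 1, 3, 0, 0], [], [3, 1, 1, 3, 0, 2, 2], [], [], [], [], [], [], [], [], [], [], [], [], [], [], [], [], [], [], [], [], [], [], [], [], [], [], [], [], [], [], [], [], [], [], [], [], [], [], [], [], [], [], [], [], [], [], [], []],
    [[2, 2, 0, 3, 1, 1, 1], [], [], [], [], [], [], [], [], [], [], [], [1, 2, 2, 2, 1, 1, 2, 2, 1], [0, 3, 0, 3, 3, 1, 1], [], [1, 3, 0, 0, 0, 3, 1, 1, 2], [], [], [], [], [], [], [], [], [], [], [], [], [], [], [], [], [], [], [], [], [], [], [], [], [], [], [], [], [], [], [], [], [], [], [], [], [], [], [], [], [], [], [], []],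
    [[0, 2, 0, 0, 3, 0, 0, 0, 0], [], [], [], [3, 3, 1, 2, 0, 0, 2], [], [], [], [1, 2, 0, 0, 2, 0, 2, 0], [], [2, 0, 3, 1, 2, 0, 2, 0, 2], [], [], [], [], [], [], [], [], [], [], [], [], [], [], [], [], [], [], [], [], [], [], [], [], [], [], [], [], [], [], [], [], [], [], [], [], [], [], [], [], [], [], [], [], [], [], [], [], []],
    [[0, 2, 2, 2, 2, 1, 2, 1], [], [], [0, 3, 3, 0, 2, 2, 0, 2, 1], [], [], [], [], [], [1, 3, 3, 0, 3, 3, 3], [], [0, 2, 2, 1, 1, 1, 1, 1, 2, 0], [], [], [], [], [], [], [], [], [], [], [], [], [], [], [], [], [], [], [], [], [], [], [], [], [], [], [], [], [], [], [], [], [], [], [], [], [], [], [], [], [], [], [], [], [], [], [], []],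
    [[1, 3, 3, 1, 3, 1, 2, 2, 0], [], [], [], [], [2, 2, 0, 3, 1, 1, 2, 1, 2], [1, 1, 1, 1, 2, 1, 3, 3, 3, 0], [], [], [], [], [], [], [], [3, 0, 3, 3, 1, 3, 0, 0, 2], [], [], [], [], [], [], [], [], [], [], [], [], [], [], [], [], [], [], [], [], [], [], [], [], [], [], [], [], [], [], [], [], [], [], [], [], [], [], [], [], [], [], [], [], []],
    [[0, 0, 0, 2, 1, 3, 3], [], [], [], [], [0, 2, 2, 2, 0, 0, 0, 2, 2], [3, 0, 2, 2, 1, 1, 2, 0, 3], [], [], [], [], [], [], [], [0, 2, 2, 0, 3, 1, 3], [], [], [], [], [], [], [], [], [], [], [], [], [], [], [], [], [], [], [], [], [], [], [], [], [], [], [], [], [], [], [], [], [], [], [], [], [], [], [], [], [], [], [], [], []],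
    [[], [], [], [], [2, 0, 3, 1, 2, 2, 1], [], [2, 2, 2, 1, 3, 1, 1], [2, 2, 2, 2, 2, 0, 3, 0], [], [], [], [], [], [], [], [], [], [], [], [], [], [], [], [], [], [], [], [], [], [], [], [], [], [], [], [], [], [], [], [], [], [], [], [], [], [], [], [], [], [], [], [], [], [], [], [], [], [], [], []],
    [[], [], [], [], [0, 2, 1, 3, 1, 3, 3, 3], [], [3, 3, 0, 2, 1, 2, 0, 0, 2], [2, 1, 1, 2, 2, 1, 2], [], [], [], [], [], [], [], [], [], [], [], [], [], [], [], [], [], [], [], [], [], [], [], [], [], [], [], [], [], [], [], [], [], [], [], [], [], [], [], [], [], [], [], [], [], [], [], [], [], [], [], []],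
    [[], [], [], [], [], [], [1, 2, 0, 2, 1, 2, 1, 2, 0], [], [], [], [], [0, 3, 1, 3, 3, 1, 2, 2, 1], [2, 2, 2, 2, 0, 0, 0], [], [], [], [], [], [], [], [], [], [], [], [], [], [], [], [], [], [], [], [], [], [], [], [], [], [], [], [], [], [], [], [], [], [], [], [], [], [], [], [], [], [], [], [], [], [], []],
    [[], [], [], [], [], [], [3, 3, 3, 1, 2, 0, 0, 3, 3, 0], [], [], [], [], [2, 1, 3, 1, 2, 2, 0, 2, 2], [2, 0, 2, 0, 2, 2, 1, 1], [], [], [], [], [], [], [], [], [], [], [], [], [], [], [], [], [], [], [], [], [], [], [], [], [], [], [], [], [], [], [], [], [], [], [], [], [], [], [], [], [], [], [], [], [], [], []],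
    [[], [], [], [0, 3, 0, 0, 3, 3, 1, 1, 1], [2, 0, 2, 0, 3, 0, 3, 1, 2, 0], [], [], [], [], [], [], [], [], [], [], [1, 2, 0, 3, 0, 3, 0, 2, 1], [], [], [], [], [], [], [], [], [], [], [], [], [], [], [], [], [], [], [], [], [], [], [], [], [], [], [], [], [], [], [], [], [], [], [], [], [], [], [], [], [], [], [], []],
    [[], [2, 0, 3, 1, 2, 2, 0, 0, 0], [], [], [], [], [], [], [], [], [2, 1, 3, 1, 1, 1, 3, 1, 1], [], [1, 1, 2, 0, 2, 2, 0, 0, 0, 2], [], [], [], [], [], [], [], [], [], [], [], [], [], [], [], [], [], [], [], [], [], [], [], [], [], [], [], [], [], [], [], [], [], [], [], [], [], [], [], [], [], [], [], [], [], [], []],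
    [[], [0, 0, 0, 3, 0, 3, 0, 2], [], [], [], [], [], [], [], [], [0, 2, 2, 0, 3, 0, 0, 0, 2], [], [0, 3, 0, 0, 0, 2, 1, 2, 2, 0], [], [], [], [], [], [], [], [], [], [], [], [], [], [], [], [], [], [], [], [], [], [], [], [], [], [], [], [], [], [], [], [], [], [], [], [], [], [], [], [], [], [], [], [], [], [], []],
    [[], [], [], [0, 3, 3, 0, 2, 1, 1, 3, 3, 0], [3, 3, 1, 2, 2, 0, 0, 2], [], [], [], [], [], [], [], [], [], [], [3, 0, 2, 0, 2, 0, 3, 0, 3], [], [], [], [], [], [], [], [], [], [], [], [], [], [], [], [], [], [], [], [], [], [], [], [], [], [], [], [], [], [], [], [], [], [], [], [], [], [], [], [], [], [], [], []],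
    [[], [0, 2, 0, 0, 3, 0, 3, 0, 3], [], [1, 1, 1, 3, 3, 0, 3, 1, 1, 1], [], [1, 3, 1, 3, 1, 2, 2, 0, 3], [], [], [], [], [], [], [], [], [], [], [], [], [], [], [], [], [], [], [], [], [], [], [], [], [], [], [], [], [], [], [], [], [], [], [], [], [], [], [], [], [], [], [], [], [], [], [], [], [], [], [], [], [], []],
    [[], [3, 0, 3, 0, 0, 2, 1, 3, 3], [], [1, 3, 1, 1, 2, 1], [], [2, 2, 0, 2, 1, 3, 1, 1, 1, 1], [], [], [], [], [], [], [], [], [], [], [], [], [], [], [], [], [], [], [], [], [], [], [], [], [], [], [], [], [], [], [], [], [], [], [], [], [], [], [], [], [], [], [], [], [], [], [], [], [], [], [], [], [], []],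
    [[], [], [], [], [], [0, 0, 2, 0, 3, 3, 3], [], [], [0, 2, 1, 2, 0, 3, 1, 2, 1, 1], [], [], [], [], [1, 2, 0, 0, 2, 0, 0, 0], [], [], [], [], [], [], [], [], [], [], [], [], [], [], [], [], [], [], [], [], [], [], [], [], [], [], [], [], [], [], [], [], [], [], [], [], [], [], [], [], [], [], [], [], [], []],
    [[], [], [], [], [], [0, 2, 2, 0, 2, 2, 0, 2, 2, 0], [], [], [1, 2, 2, 1, 3, 3, 0, 3, 3, 0], [], [], [], [], [3, 0, 3, 1, 2, 0], [], [], [], [], [], [], [], [], [], [], [], [], [], [], [], [], [], [], [], [], [], [], [], [], [], [], [], [], [], [], [], [], [], [], [], [], [], [], [], [], [], [], [], [], [], []],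
    [[], [], [], [], [], [], [], [2, 1, 2, 2, 1, 3, 1, 1, 2], [], [2, 2, 2, 0, 2, 0, 3, 1], [], [], [], [1, 2, 2, 2, 0, 3, 0, 0, 0, 0], [], [], [], [], [], [], [], [], [], [], [], [], [], [], [], [], [], [], [], [], [], [], [], [], [], [], [], [], [], [], [], [], [], [], [], [], [], [], [], [], [], [], [], [], [], []],
    [[], [], [], [], [], [], [], [0, 3, 0, 0, 2, 0], [], [2, 2, 1, 3, 1, 3, 0, 0, 0, 0], [], [], [], [3, 0, 0, 2, 0, 3, 3, 0, 3], [], [], [], [], [], [], [], [], [], [], [], [], [], [], [], [], [], [], [], [], [], [], [], [], [], [], [], [], [], [], [], [], [], [], [], [], [], [], [], [], [], [], [], [], [], []],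
    [[], [], [0, 3, 1, 3, 1, 3, 1, 1, 2, 2], [], [], [], [], [], [], [], [], [], [], [], [3, 3, 3, 0, 0, 2, 1, 1], [3, 3, 0, 3, 3, 0, 2, 1, 2], [], [], [], [], [], [], [], [], [], [], [], [], [], [], [], [], [], [], [], [], [], [], [], [], [], [], [], [], [], [], [], [], [], [], [], [], [], [], [], [], [], [], [], []],
    [[], [], [3, 3, 3, 3, 0, 2, 1, 2, 1], [], [], [], [], [], [], [], [], [], [], [], [3, 3, 1, 2, 0, 3, 0, 3], [1, 1, 1, 3, 1, 1, 3, 0], [], [], [], [], [], [], [], [], [], [], [], [], [], [], [], [], [], [], [], [], [], [], [], [], [], [], [], [], [], [], [], [], [], [], [], [], [], [], [], [], [], [], [], []],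
    [[], [], [3, 3, 3, 0, 2, 0, 2, 0, 2, 1], [], [], [], [], [], [3, 0, 3, 0, 2, 0, 2, 0, 0, 0], [], [], [1, 1, 1, 3, 1, 3, 3, 1, 1, 1], [], [], [], [], [], [], [], [], [], [], [], [], [], [], [], [], [], [], [], [], [], [], [], [], [], [], [], [], [], [], [], [], [], [], [], [], [], [], [], [], [], [], [], [], [], [], [], []],
    [[], [], [3, 0, 0, 2, 0, 3, 1, 1], [], [], [], [], [], [1, 3, 3, 0, 0, 3, 1, 2, 1, 2], [], [], [1, 1, 1, 3, 3, 3, 3], [], [], [], [], [], [], [], [], [], [], [], [], [], [], [], [], [], [], [], [], [], [], [], [], [], [], [], [], [], [], [], [], [], [], [], [], [], [], [], [], [], [], [], [], [], [], [], []],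
    [[], [], [], [], [], [], [], [], [], [2, 2, 2, 1, 2, 2, 0], [1, 3, 0, 2, 1, 2], [], [], [], [0, 3, 3, 0, 2, 2, 0, 0, 0], [], [], [], [], [], [], [], [], [], [], [], [], [], [], [], [], [], [], [], [], [], [], [], [], [], [], [], [], [], [], [], [], [], [], [], [], [], [], [], [], [], [], [], [], []],
    [[], [], [], [], [], [], [], [], [], [0, 3, 0, 0, 0, 0, 0, 2, 0], [1, 1, 1, 3, 1, 3, 0, 0, 2, 0], [], [], [], [0, 3, 0, 3, 1, 2, 0, 2], [], [], [], [], [], [], [], [], [], [], [], [], [], [], [], [], [], [], [], [], [], [], [], [], [], [], [], [], [], [], [], [], [], [], [], [], [], [], [], [], [], [], [], [], []]]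

/-- the conjugating word of the product `(i, j)` -/
def conjW (i j : ℕ) : List ℕ := (CONJL.getD i []).getD j []

/-- the fixed points of the involution -/
def FIX : List ℕ := [0, 55, 67, 81, 96, 287, 480, 553, 1479, 1524, 1678, 1686, 1830, 1852, 1879, 1900, 2050, 2061, 2108, 2122, 2147, 2172, 2448, 2604, 2857, 3170, 3179, 3209, 3497, 3570, 3579, 4430, 4702, 5069, 5314, 5547, 5618, 5969, 6005, 6006, 6017, 6049, 6069, 6076, 6085, 6278, 6342, 6385, 6446, 6721, 6917, 7082, 7613, 7853, 8158, 8287, 8514, 8523, 8658, 8895, 9006, 9053, 9108, 9957, 9961, 10103, 10107, 10191, 10358, 10806, 10838, 10994, 12180, 13781, 14080, 14617, 14636, 15104, 15123, 15332, 15415, 15499, 15680, 15730, 15851, 16131, 16472, 16495, 16859, 17196,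 17345, 17415, 17435, 17473, 17551, 17552, 17595, 17758, 17818, 17851, 17955, 17973, 18470, 18495, 18680, 18737, 18788, 18999, 19002, 19055, 19070, 19210, 19257, 19321, 19633, 20145, 20180, 20368, 20423, 20436]

/-- 153 words fixing the point `0` -/
def KS : List (List ℕ) := [
    [],
    [2, 1, 1, 3, 1, 3, 3, 3],
    [1, 1, 3, 1, 2, 0, 3, 0, 3, 1],
    [1, 1, 2, 1, 2, 0, 0, 2, 0, 0, 2, 1, 2, 0],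
    [1, 2, 1, 2, 2, 2, 1, 2, 2, 1, 2, 2, 1, 3],
    [2, 2, 2, 0, 2, 0, 0, 3],
    [0, 2, 1, 2, 1, 3, 0, 2, 0, 0],
    [1, 3, 0, 3, 1, 1, 3, 1, 1, 3, 0, 3, 0, 0],
    [2, 0, 3, 3, 0, 3, 3, 0, 3, 3, 3, 0, 3, 0],
    [1, 1, 3, 1, 2, 0, 3, 0, 3, 1, 2, 1, 1, 3, 1, 3, 3, 3],
    [0, 2, 1, 2, 1, 3, 0, 2, 0, 0, 2, 1, 1, 3, 1, 3, 3, 3],
    [1, 3, 0, 3, 1, 1, 3, 1, 1, 3, 0, 3, 0, 0, 2, 1, 1, 3, 1, 3, 3, 3],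
    [2, 0, 3, 3, 0, 3, 3, 0, 3, 3, 3, 0, 3, 0, 2, 1, 1, 3, 1, 3, 3, 3],
    [2, 1, 1, 3, 1, 3, 3, 3, 1, 1, 3, 1, 2, 0, 3, 0, 3, 1],
    [1, 1, 3, 1, 2, 0, 3, 0, 3, 1, 1, 1, 3, 1, 2, 0, 3, 0, 3, 1],
    [1, 1, 2, 1, 2, 0, 0, 2, 0, 0, 2, 1, 2, 1, 3, 1, 2, 0, 3, 0, 3, 1],
    [1, 2, 1, 2, 2, 2, 1, 2, 2, 1, 2, 2, 1, 3, 1, 1, 3, 1, 2, 0, 3, 0, 3, 1],
    [2, 2, 2, 0, 2, 0, 0, 3, 1, 1, 3, 1, 2, 0, 3, 0, 3, 1],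
    [1, 3, 0, 3, 1, 1, 3, 1, 1, 3, 0, 3, 3, 1, 2, 0, 3, 0, 3, 1],
    [2, 0, 3, 3, 0, 3, 3, 0, 3, 3, 3, 0, 3, 1, 3, 1, 2, 0, 3, 0, 3, 1],
    [2, 1, 1, 3, 1, 3, 3, 3, 1, 1, 2, 1, 2, 0, 0, 2, 0, 0, 2, 1, 2, 0],
    [1, 1, 2, 1, 2, 0, 0, 2, 0, 0, 2, 1, 2, 1, 2, 1, 2, 0, 0, 2, 0, 0, 2, 1, 2, 0],
    [2, 2, 2, 0, 2, 0, 0, 3, 1, 1, 2, 1, 2, 0, 0, 2, 0, 0, 2, 1, 2, 0],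
    [0, 2, 1, 2, 1, 3, 0, 2, 2, 1, 2, 0, 0, 2, 0, 0, 2, 1, 2, 0],
    [2, 1, 1, 3, 1, 3, 3, 3, 1, 2, 1, 2, 2, 2, 1, 2, 2, 1, 2, 2, 1, 3],
    [1, 1, 3, 1, 2, 0, 3, 0, 3, 1, 1, 2, 1, 2, 2, 2, 1, 2, 2, 1, 2, 2, 1, 3],
    [1, 1, 2, 1, 2, 0, 0, 2, 0, 0, 2, 1, 2, 2, 1, 2, 2, 2, 1, 2, 2, 1, 2, 2, 1, 3],
    [2, 2, 2, 0, 2, 0, 0, 3, 1, 2, 1, 2, 2, 2, 1, 2, 2, 1, 2, 2, 1, 3],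
    [1, 1, 3, 1, 2, 0, 3, 0, 3, 1, 2, 2, 2, 0, 2, 0, 0, 3],
    [1, 1, 2, 1, 2, 0, 0, 2, 0, 0, 2, 1, 2, 0, 2, 2, 2, 0, 2, 0, 0, 3],
    [1, 2, 1, 2, 2, 2, 1, 2, 2, 1, 2, 2, 1, 2, 2, 0, 2, 0, 0, 3],
    [0, 2, 1, 2, 1, 3, 0, 2, 0, 0, 2, 2, 2, 0, 2, 0, 0, 3],
    [1, 3, 0, 3, 1, 1, 3, 1, 1, 3, 0, 3, 0, 0, 2, 2, 2, 0, 2, 0, 0, 3],
    [2, 0, 3, 3, 0, 3, 3, 0, 3, 3, 3, 0, 3, 0, 2, 2, 2, 0, 2, 0, 0, 3],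
    [1, 1, 2, 1, 2, 0, 0, 2, 0, 0, 2, 1, 2, 0, 0, 2, 1, 2, 1, 3, 0, 2, 0, 0],
    [1, 2, 1, 2, 2, 2, 1, 2, 2, 1, 2, 2, 1, 3, 0, 2, 1, 2, 1, 3, 0, 2, 0, 0],
    [2, 2, 2, 0, 2, 0, 0, 3, 0, 2, 1, 2, 1, 3, 0, 2, 0, 0],
    [0, 2, 1, 2, 1, 3, 0, 2, 0, 0, 0, 2, 1, 2, 1, 3, 0, 2, 0, 0],
    [1, 3, 0, 3, 1, 1, 3, 1, 1, 3, 0, 3, 0, 0, 0, 2, 1, 2, 1, 3, 0, 2, 0, 0],
    [2, 0, 3, 3, 0, 3, 3, 0, 3, 3, 3, 0, 3, 0, 0, 2, 1, 2, 1, 3, 0, 2, 0, 0],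
    [2, 1, 1, 3, 1, 3, 3, 3, 1, 3, 0, 3, 1, 1, 3, 1, 1, 3, 0, 3, 0, 0],
    [1, 2, 1, 2, 2, 2, 1, 2, 2, 1, 2, 2, 1, 3, 1, 3, 0, 3, 1, 1, 3, 1, 1, 3, 0, 3, 0, 0],
    [2, 2, 2, 0, 2, 0, 0, 3, 1, 3, 0, 3, 1, 1, 3, 1, 1, 3, 0, 3, 0, 0],
    [0, 2, 1, 2, 1, 3, 0, 2, 0, 3, 0, 3, 1, 1, 3, 1, 1, 3, 0, 3, 0, 0],
    [2, 0, 3, 3, 0, 3, 3, 0, 3, 3, 3, 0, 3, 3, 0, 3, 1, 1, 3, 1, 1, 3, 0, 3, 0, 0],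
    [2, 1, 1, 3, 1, 3, 3, 0, 3, 3, 0, 3, 3, 0, 3, 3, 3, 0, 3, 0],
    [1, 1, 3, 1, 2, 0, 3, 0, 3, 1, 2, 0, 3, 3, 0, 3, 3, 0, 3, 3, 3, 0, 3, 0],
    [2, 2, 2, 0, 2, 0, 0, 0, 3, 3, 0, 3, 3, 0, 3, 3, 3, 0, 3, 0],
    [1, 3, 0, 3, 1, 1, 3, 1, 1, 3, 0, 3, 3, 1, 2, 0, 3, 0, 3, 1, 2, 1, 1, 3, 1, 3, 3, 3],
    [2, 0, 3, 3, 0, 3, 3, 0, 3, 3, 3, 0, 3, 1, 3, 1, 2, 0, 3, 0, 3, 1, 2, 1, 1, 3, 1, 3, 3, 3],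
    [2, 1, 1, 3, 1, 3, 3, 3, 0, 2, 1, 2, 1, 3, 0, 2, 0, 0, 2, 1, 1, 3, 1, 3, 3, 3],
    [0, 2, 1, 2, 1, 3, 0, 2, 0, 0, 0, 2, 1, 2, 1, 3, 0, 2, 0, 0, 2, 1, 1, 3, 1, 3, 3, 3],
    [2, 0, 3, 3, 0, 3, 3, 0, 3, 3, 3, 0, 3, 0, 0, 2, 1, 2, 1, 3, 0, 2, 0, 0, 2, 1, 1, 3, 1, 3, 3, 3],
    [2, 1, 1, 3, 1, 3, 3, 3, 1, 3, 0, 3, 1, 1, 3, 1, 1, 3, 0, 3, 0, 0, 2, 1, 1, 3, 1, 3, 3, 3],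
    [1, 1, 3, 1, 2, 0, 3, 0, 3, 1, 1, 3, 0, 3, 1, 1, 3, 1, 1, 3, 0, 3, 0, 0, 2, 1, 1, 3, 1, 3, 3, 3],
    [1, 2, 1, 2, 2, 2, 1, 2, 2, 1, 2, 2, 1, 3, 1, 3, 0, 3, 1, 1, 3, 1, 1, 3, 0, 3, 0, 0, 2, 1, 1, 3, 1, 3, 3, 3],
    [2, 2, 2, 0, 2, 0, 0, 3, 1, 3, 0, 3, 1, 1, 3, 1, 1, 3, 0, 3, 0, 0, 2, 1, 1, 3, 1, 3, 3, 3],
    [0, 2, 1, 2, 1, 3, 0, 2, 0, 3, 0, 3, 1, 1, 3, 1, 1, 3, 0, 3, 0, 0, 2, 1, 1, 3, 1, 3, 3, 3],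
    [2, 0, 3, 3, 0, 3, 3, 0, 3, 3, 3, 0, 3, 3, 0, 3, 1, 1, 3, 1, 1, 3, 0, 3, 0, 0, 2, 1, 1, 3, 1, 3, 3, 3],
    [2, 1, 1, 3, 1, 3, 3, 0, 3, 3, 0, 3, 3, 0, 3, 3, 3, 0, 3, 0, 2, 1, 1, 3, 1, 3, 3, 3],
    [1, 1, 3, 1, 2, 0, 3, 0, 3, 1, 2, 0, 3, 3, 0, 3, 3, 0, 3, 3, 3, 0, 3, 0, 2, 1, 1, 3, 1, 3, 3, 3],
    [2, 2, 2, 0, 2, 0, 0, 0, 3, 3, 0, 3, 3, 0, 3, 3, 3, 0, 3, 0, 2, 1, 1, 3, 1, 3, 3, 3],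
    [1, 3, 0, 3, 1, 1, 3, 1, 1, 3, 0, 3, 0, 0, 2, 0, 3, 3, 0, 3, 3, 0, 3, 3, 3, 0, 3, 0, 2, 1, 1, 3, 1, 3, 3, 3],
    [1, 1, 3, 1, 2, 0, 3, 0, 3, 1, 2, 1, 1, 3, 1, 3, 3, 3, 1, 1, 3, 1, 2, 0, 3, 0, 3, 1],
    [1, 2, 1, 2, 2, 2, 1, 2, 2, 1, 2, 2, 1, 1, 1, 3, 1, 3, 3, 3, 1, 1, 3, 1, 2, 0, 3, 0, 3, 1],
    [0, 2, 1, 2, 1, 3, 0, 2, 0, 0, 2, 1, 1, 3, 1, 3, 3, 3, 1, 1, 3, 1, 2, 0, 3, 0, 3, 1],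
    [1, 3, 0, 3, 1, 1, 3, 1, 1, 3, 0, 3, 0, 0, 2, 1, 1, 3, 1, 3, 3, 3, 1, 1, 3, 1, 2, 0, 3, 0, 3, 1],
    [2, 0, 3, 3, 0, 3, 3, 0, 3, 3, 3, 0, 3, 0, 2, 1, 1, 3, 1, 3, 3, 3, 1, 1, 3, 1, 2, 0, 3, 0, 3, 1],
    [2, 1, 1, 3, 1, 3, 3, 3, 1, 1, 3, 1, 2, 0, 3, 0, 3, 1, 1, 1, 3, 1, 2, 0, 3, 0, 3, 1],
    [1, 1, 3, 1, 2, 0, 3, 0, 3, 1, 1, 1, 3, 1, 2, 0, 3, 0, 3, 1, 1, 1, 3, 1, 2, 0, 3, 0, 3, 1],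
    [1, 1, 2, 1, 2, 0, 0, 2, 0, 0, 2, 1, 2, 1, 3, 1, 2, 0, 3, 0, 3, 1, 1, 1, 3, 1, 2, 0, 3, 0, 3, 1],
    [1, 3, 0, 3, 1, 1, 3, 1, 1, 3, 0, 3, 3, 1, 2, 0, 3, 0, 3, 1, 1, 1, 3, 1, 2, 0, 3, 0, 3, 1],
    [2, 0, 3, 3, 0, 3, 3, 0, 3, 3, 3, 0, 3, 1, 3, 1, 2, 0, 3, 0, 3, 1, 1, 1, 3, 1, 2, 0, 3, 0, 3, 1],
    [1, 1, 3, 1, 2, 0, 3, 0, 3, 1, 1, 1, 2, 1, 2, 0, 0, 2, 0, 0, 2, 1, 2, 1, 3, 1, 2, 0, 3, 0, 3, 1],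
    [1, 1, 2, 1, 2, 0, 0, 2, 0, 0, 2, 1, 2, 1, 2, 1, 2, 0, 0, 2, 0, 0, 2, 1, 2, 1, 3, 1, 2, 0, 3, 0, 3, 1],
    [2, 2, 2, 0, 2, 0, 0, 3, 1, 1, 2, 1, 2, 0, 0, 2, 0, 0, 2, 1, 2, 1, 3, 1, 2, 0, 3, 0, 3, 1],
    [1, 1, 3, 1, 2, 0, 3, 0, 3, 1, 1, 2, 1, 2, 2, 2, 1, 2, 2, 1, 2, 2, 1, 3, 1, 1, 3, 1, 2, 0, 3, 0, 3, 1],
    [0, 2, 1, 2, 1, 3, 0, 2, 0, 2, 1, 2, 2, 2, 1, 2, 2, 1, 2, 2, 1, 3, 1, 1, 3, 1, 2, 0, 3, 0, 3, 1],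
    [1, 1, 3, 1, 2, 0, 3, 0, 3, 1, 2, 2, 2, 0, 2, 0, 0, 3, 1, 1, 3, 1, 2, 0, 3, 0, 3, 1],
    [1, 1, 2, 1, 2, 0, 0, 2, 0, 0, 2, 1, 2, 0, 2, 2, 2, 0, 2, 0, 0, 3, 1, 1, 3, 1, 2, 0, 3, 0, 3, 1],
    [1, 2, 1, 2, 2, 2, 1, 2, 2, 1, 2, 2, 1, 2, 2, 0, 2, 0, 0, 3, 1, 1, 3, 1, 2, 0, 3, 0, 3, 1],
    [0, 2, 1, 2, 1, 3, 0, 2, 0, 0, 2, 2, 2, 0, 2, 0, 0, 3, 1, 1, 3, 1, 2, 0, 3, 0, 3, 1],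
    [1, 2, 1, 2, 2, 2, 1, 2, 2, 1, 2, 2, 1, 3, 1, 3, 0, 3, 1, 1, 3, 1, 1, 3, 0, 3, 3, 1, 2, 0, 3, 0, 3, 1],
    [2, 0, 3, 3, 0, 3, 3, 0, 3, 3, 3, 0, 3, 3, 0, 3, 1, 1, 3, 1, 1, 3, 0, 3, 3, 1, 2, 0, 3, 0, 3, 1],
    [1, 1, 3, 1, 2, 0, 3, 0, 3, 1, 2, 0, 3, 3, 0, 3, 3, 0, 3, 3, 3, 0, 3, 1, 3, 1, 2, 0, 3, 0, 3, 1],
    [2, 0, 3, 3, 0, 3, 3, 0, 3, 3, 3, 0, 3, 0, 2, 1, 1, 3, 1, 3, 3, 3, 1, 1, 2, 1, 2, 0, 0, 2, 0, 0, 2, 1, 2, 0],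
    [1, 2, 1, 2, 2, 2, 1, 2, 2, 1, 2, 2, 1, 3, 1, 1, 2, 1, 2, 0, 0, 2, 0, 0, 2, 1, 2, 1, 2, 1, 2, 0, 0, 2, 0, 0, 2, 1, 2, 0],
    [0, 2, 1, 2, 1, 3, 0, 2, 2, 1, 2, 0, 0, 2, 0, 0, 2, 1, 2, 1, 2, 1, 2, 0, 0, 2, 0, 0, 2, 1, 2, 0],
    [1, 1, 2, 1, 2, 0, 0, 2, 0, 0, 2, 1, 2, 0, 2, 2, 2, 0, 2, 0, 0, 3, 1, 1, 2, 1, 2, 0, 0, 2, 0, 0, 2, 1, 2, 0],
    [1, 2, 1, 2, 2, 2, 1, 2, 2, 1, 2, 2, 1, 2, 2, 0, 2, 0, 0, 3, 1, 1, 2, 1, 2, 0, 0, 2, 0, 0, 2, 1, 2, 0],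
    [2, 0, 3, 3, 0, 3, 3, 0, 3, 3, 3, 0, 3, 0, 2, 2, 2, 0, 2, 0, 0, 3, 1, 1, 2, 1, 2, 0, 0, 2, 0, 0, 2, 1, 2, 0],
    [2, 1, 1, 3, 1, 3, 3, 3, 0, 2, 1, 2, 1, 3, 0, 2, 2, 1, 2, 0, 0, 2, 0, 0, 2, 1, 2, 0],
    [1, 1, 2, 1, 2, 0, 0, 2, 0, 0, 2, 1, 2, 0, 0, 2, 1, 2, 1, 3, 0, 2, 2, 1, 2, 0, 0, 2, 0, 0, 2, 1, 2, 0],
    [1, 2, 1, 2, 2, 2, 1, 2, 2, 1, 2, 2, 1, 3, 0, 2, 1, 2, 1, 3, 0, 2, 2, 1, 2, 0, 0, 2, 0, 0, 2, 1, 2, 0],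
    [2, 2, 2, 0, 2, 0, 0, 3, 0, 2, 1, 2, 1, 3, 0, 2, 2, 1, 2, 0, 0, 2, 0, 0, 2, 1, 2, 0],
    [0, 2, 1, 2, 1, 3, 0, 2, 0, 0, 0, 2, 1, 2, 1, 3, 0, 2, 2, 1, 2, 0, 0, 2, 0, 0, 2, 1, 2, 0],
    [1, 3, 0, 3, 1, 1, 3, 1, 1, 3, 0, 3, 0, 0, 0, 2, 1, 2, 1, 3, 0, 2, 2, 1, 2, 0, 0, 2, 0, 0, 2, 1, 2, 0],
    [2, 0, 3, 3, 0, 3, 3, 0, 3, 3, 3, 0, 3, 0, 0, 2, 1, 2, 1, 3, 0, 2, 2, 1, 2, 0, 0, 2, 0, 0, 2, 1, 2, 0],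
    [1, 1, 2, 1, 2, 0, 0, 2, 0, 0, 2, 1, 2, 0, 2, 1, 1, 3, 1, 3, 3, 3, 1, 2, 1, 2, 2, 2, 1, 2, 2, 1, 2, 2, 1, 3],
    [1, 2, 1, 2, 2, 2, 1, 2, 2, 1, 2, 2, 1, 1, 1, 3, 1, 3, 3, 3, 1, 2, 1, 2, 2, 2, 1, 2, 2, 1, 2, 2, 1, 3],
    [1, 1, 2, 1, 2, 0, 0, 2, 0, 0, 2, 1, 2, 1, 3, 1, 2, 0, 3, 0, 3, 1, 1, 2, 1, 2, 2, 2, 1, 2, 2, 1, 2, 2, 1, 3],
    [2, 1, 1, 3, 1, 3, 3, 3, 1, 1, 2, 1, 2, 0, 0, 2, 0, 0, 2, 1, 2, 2, 1, 2, 2, 2, 1, 2, 2, 1, 2, 2, 1, 3],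
    [1, 2, 1, 2, 2, 2, 1, 2, 2, 1, 2, 2, 1, 3, 1, 1, 2, 1, 2, 0, 0, 2, 0, 0, 2, 1, 2, 2, 1, 2, 2, 2, 1, 2, 2, 1, 2, 2, 1, 3],
    [0, 2, 1, 2, 1, 3, 0, 2, 2, 1, 2, 0, 0, 2, 0, 0, 2, 1, 2, 2, 1, 2, 2, 2, 1, 2, 2, 1, 2, 2, 1, 3],
    [1, 2, 1, 2, 2, 2, 1, 2, 2, 1, 2, 2, 1, 2, 2, 0, 2, 0, 0, 3, 1, 2, 1, 2, 2, 2, 1, 2, 2, 1, 2, 2, 1, 3],
    [2, 0, 3, 3, 0, 3, 3, 0, 3, 3, 3, 0, 3, 0, 2, 2, 2, 0, 2, 0, 0, 3, 1, 2, 1, 2, 2, 2, 1, 2, 2, 1, 2, 2, 1, 3],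
    [2, 1, 1, 3, 1, 3, 3, 3, 1, 1, 3, 1, 2, 0, 3, 0, 3, 1, 2, 2, 2, 0, 2, 0, 0, 3],
    [2, 2, 2, 0, 2, 0, 0, 3, 1, 1, 3, 1, 2, 0, 3, 0, 3, 1, 2, 2, 2, 0, 2, 0, 0, 3],
    [2, 0, 3, 3, 0, 3, 3, 0, 3, 3, 3, 0, 3, 1, 3, 1, 2, 0, 3, 0, 3, 1, 2, 2, 2, 0, 2, 0, 0, 3],
    [1, 1, 2, 1, 2, 0, 0, 2, 0, 0, 2, 1, 2, 1, 2, 1, 2, 0, 0, 2, 0, 0, 2, 1, 2, 0, 2, 2, 2, 0, 2, 0, 0, 3],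
    [2, 2, 2, 0, 2, 0, 0, 3, 1, 1, 2, 1, 2, 0, 0, 2, 0, 0, 2, 1, 2, 0, 2, 2, 2, 0, 2, 0, 0, 3],
    [1, 1, 3, 1, 2, 0, 3, 0, 3, 1, 1, 2, 1, 2, 2, 2, 1, 2, 2, 1, 2, 2, 1, 2, 2, 0, 2, 0, 0, 3],
    [1, 1, 2, 1, 2, 0, 0, 2, 0, 0, 2, 1, 2, 2, 1, 2, 2, 2, 1, 2, 2, 1, 2, 2, 1, 2, 2, 0, 2, 0, 0, 3],
    [0, 2, 1, 2, 1, 3, 0, 2, 0, 2, 1, 2, 2, 2, 1, 2, 2, 1, 2, 2, 1, 2, 2, 0, 2, 0, 0, 3],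
    [1, 2, 1, 2, 2, 2, 1, 2, 2, 1, 2, 2, 1, 3, 1, 3, 0, 3, 1, 1, 3, 1, 1, 3, 0, 3, 0, 0, 2, 2, 2, 0, 2, 0, 0, 3],
    [2, 1, 1, 3, 1, 3, 3, 0, 3, 3, 0, 3, 3, 0, 3, 3, 3, 0, 3, 0, 2, 2, 2, 0, 2, 0, 0, 3],
    [2, 2, 2, 0, 2, 0, 0, 0, 3, 3, 0, 3, 3, 0, 3, 3, 3, 0, 3, 0, 2, 2, 2, 0, 2, 0, 0, 3],
    [1, 1, 2, 1, 2, 0, 0, 2, 0, 0, 2, 1, 2, 1, 2, 1, 2, 0, 0, 2, 0, 0, 2, 1, 2, 0, 0, 2, 1, 2, 1, 3, 0, 2, 0, 0],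
    [2, 2, 2, 0, 2, 0, 0, 3, 1, 1, 2, 1, 2, 0, 0, 2, 0, 0, 2, 1, 2, 0, 0, 2, 1, 2, 1, 3, 0, 2, 0, 0],
    [1, 1, 2, 1, 2, 0, 0, 2, 0, 0, 2, 1, 2, 0, 2, 2, 2, 0, 2, 0, 0, 3, 0, 2, 1, 2, 1, 3, 0, 2, 0, 0],
    [1, 2, 1, 2, 2, 2, 1, 2, 2, 1, 2, 2, 1, 3, 0, 2, 1, 2, 1, 3, 0, 2, 0, 0, 0, 2, 1, 2, 1, 3, 0, 2, 0, 0],
    [1, 1, 3, 1, 2, 0, 3, 0, 3, 1, 2, 0, 3, 3, 0, 3, 3, 0, 3, 3, 3, 0, 3, 0, 0, 2, 1, 2, 1, 3, 0, 2, 0, 0],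
    [1, 3, 0, 3, 1, 1, 3, 1, 1, 3, 0, 3, 0, 0, 2, 0, 3, 3, 0, 3, 3, 0, 3, 3, 3, 0, 3, 0, 0, 2, 1, 2, 1, 3, 0, 2, 0, 0],
    [1, 1, 3, 1, 2, 0, 3, 0, 3, 1, 2, 1, 1, 3, 1, 3, 3, 3, 1, 3, 0, 3, 1, 1, 3, 1, 1, 3, 0, 3, 0, 0],
    [2, 1, 1, 3, 1, 3, 3, 3, 1, 2, 1, 2, 2, 2, 1, 2, 2, 1, 2, 2, 1, 3, 1, 3, 0, 3, 1, 1, 3, 1, 1, 3, 0, 3, 0, 0],
    [1, 1, 2, 1, 2, 0, 0, 2, 0, 0, 2, 1, 2, 2, 1, 2, 2, 2, 1, 2, 2, 1, 2, 2, 1, 3, 1, 3, 0, 3, 1, 1, 3, 1, 1, 3, 0, 3, 0, 0],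
    [1, 1, 3, 1, 2, 0, 3, 0, 3, 1, 2, 2, 2, 0, 2, 0, 0, 3, 1, 3, 0, 3, 1, 1, 3, 1, 1, 3, 0, 3, 0, 0],
    [1, 1, 2, 1, 2, 0, 0, 2, 0, 0, 2, 1, 2, 0, 0, 2, 1, 2, 1, 3, 0, 2, 0, 3, 0, 3, 1, 1, 3, 1, 1, 3, 0, 3, 0, 0],
    [1, 2, 1, 2, 2, 2, 1, 2, 2, 1, 2, 2, 1, 3, 0, 2, 1, 2, 1, 3, 0, 2, 0, 3, 0, 3, 1, 1, 3, 1, 1, 3, 0, 3, 0, 0],
    [1, 3, 0, 3, 1, 1, 3, 1, 1, 3, 0, 3, 0, 0, 0, 2, 1, 2, 1, 3, 0, 2, 0, 3, 0, 3, 1, 1, 3, 1, 1, 3, 0, 3, 0, 0],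
    [1, 1, 3, 1, 2, 0, 3, 0, 3, 1, 1, 1, 3, 1, 2, 0, 3, 0, 3, 1, 2, 0, 3, 3, 0, 3, 3, 0, 3, 3, 3, 0, 3, 0],
    [1, 1, 3, 1, 2, 0, 3, 0, 3, 1, 2, 2, 2, 0, 2, 0, 0, 0, 3, 3, 0, 3, 3, 0, 3, 3, 3, 0, 3, 0],
    [0, 2, 1, 2, 1, 3, 0, 2, 0, 0, 2, 2, 2, 0, 2, 0, 0, 0, 3, 3, 0, 3, 3, 0, 3, 3, 3, 0, 3, 0],
    [1, 2, 1, 2, 2, 2, 1, 2, 2, 1, 2, 2, 1, 3, 1, 3, 0, 3, 1, 1, 3, 1, 1, 3, 0, 3, 3, 1, 2, 0, 3, 0, 3, 1, 2, 1, 1, 3, 1, 3, 3, 3],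
    [0, 2, 1, 2, 1, 3, 0, 2, 0, 3, 0, 3, 1, 1, 3, 1, 1, 3, 0, 3, 3, 1, 2, 0, 3, 0, 3, 1, 2, 1, 1, 3, 1, 3, 3, 3],
    [2, 0, 3, 3, 0, 3, 3, 0, 3, 3, 3, 0, 3, 3, 0, 3, 1, 1, 3, 1, 1, 3, 0, 3, 3, 1, 2, 0, 3, 0, 3, 1, 2, 1, 1, 3, 1, 3, 3, 3],
    [2, 1, 1, 3, 1, 3, 3, 0, 3, 3, 0, 3, 3, 0, 3, 3, 3, 0, 3, 1, 3, 1, 2, 0, 3, 0, 3, 1, 2, 1, 1, 3, 1, 3, 3, 3],
    [1, 1, 2, 1, 2, 0, 0, 2, 0, 0, 2, 1, 2, 0, 2, 1, 1, 3, 1, 3, 3, 3, 0, 2, 1, 2, 1, 3, 0, 2, 0, 0, 2, 1, 1, 3, 1, 3, 3, 3],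
    [1, 2, 1, 2, 2, 2, 1, 2, 2, 1, 2, 2, 1, 1, 1, 3, 1, 3, 3, 3, 0, 2, 1, 2, 1, 3, 0, 2, 0, 0, 2, 1, 1, 3, 1, 3, 3, 3],
    [2, 1, 1, 3, 1, 3, 3, 3, 0, 2, 1, 2, 1, 3, 0, 2, 0, 0, 0, 2, 1, 2, 1, 3, 0, 2, 0, 0, 2, 1, 1, 3, 1, 3, 3, 3],
    [1, 1, 3, 1, 2, 0, 3, 0, 3, 1, 2, 1, 1, 3, 1, 3, 3, 3, 1, 3, 0, 3, 1, 1, 3, 1, 1, 3, 0, 3, 0, 0, 2, 1, 1, 3, 1, 3, 3, 3],
    [0, 2, 1, 2, 1, 3, 0, 2, 0, 0, 2, 1, 1, 3, 1, 3, 3, 3, 1, 3, 0, 3, 1, 1, 3, 1, 1, 3, 0, 3, 0, 0, 2, 1, 1, 3, 1, 3, 3, 3],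
    [1, 1, 2, 1, 2, 0, 0, 2, 0, 0, 2, 1, 2, 0, 0, 2, 1, 2, 1, 3, 0, 2, 0, 3, 0, 3, 1, 1, 3, 1, 1, 3, 0, 3, 0, 0, 2, 1, 1, 3, 1, 3, 3, 3],
    [2, 0, 3, 3, 0, 3, 3, 0, 3, 3, 3, 0, 3, 1, 3, 1, 2, 0, 3, 0, 3, 1, 2, 0, 3, 3, 0, 3, 3, 0, 3, 3, 3, 0, 3, 0, 2, 1, 1, 3, 1, 3, 3, 3],
    [2, 2, 2, 0, 2, 0, 0, 3, 1, 1, 3, 1, 2, 0, 3, 0, 3, 1, 2, 1, 1, 3, 1, 3, 3, 3, 1, 1, 3, 1, 2, 0, 3, 0, 3, 1],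
    [0, 2, 1, 2, 1, 3, 0, 2, 0, 0, 2, 1, 1, 3, 1, 3, 3, 3, 1, 1, 3, 1, 2, 0, 3, 0, 3, 1, 1, 1, 3, 1, 2, 0, 3, 0, 3, 1],
    [2, 0, 3, 3, 0, 3, 3, 0, 3, 3, 3, 0, 3, 0, 2, 1, 1, 3, 1, 3, 3, 3, 1, 1, 3, 1, 2, 0, 3, 0, 3, 1, 1, 1, 3, 1, 2, 0, 3, 0, 3, 1],
    [1, 2, 1, 2, 2, 2, 1, 2, 2, 1, 2, 2, 1, 3, 1, 3, 0, 3, 1, 1, 3, 1, 1, 3, 0, 3, 3, 1, 2, 0, 3, 0, 3, 1, 1, 1, 3, 1, 2, 0, 3, 0, 3, 1],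
    [2, 1, 1, 3, 1, 3, 3, 3, 1, 1, 2, 1, 2, 0, 0, 2, 0, 0, 2, 1, 2, 1, 2, 1, 2, 0, 0, 2, 0, 0, 2, 1, 2, 1, 3, 1, 2, 0, 3, 0, 3, 1],
    [2, 1, 1, 3, 1, 3, 3, 0, 3, 3, 0, 3, 3, 0, 3, 3, 3, 0, 3, 3, 0, 3, 1, 1, 3, 1, 1, 3, 0, 3, 3, 1, 2, 0, 3, 0, 3, 1],
    [1, 1, 2, 1, 2, 0, 0, 2, 0, 0, 2, 1, 2, 2, 1, 2, 2, 2, 1, 2, 2, 1, 2, 2, 1, 2, 2, 0, 2, 0, 0, 3, 1, 1, 2, 1, 2, 0, 0, 2, 0, 0, 2, 1, 2, 0],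
    [2, 2, 2, 0, 2, 0, 0, 3, 1, 2, 1, 2, 2, 2, 1, 2, 2, 1, 2, 2, 1, 2, 2, 0, 2, 0, 0, 3, 1, 1, 2, 1, 2, 0, 0, 2, 0, 0, 2, 1, 2, 0],
    [1, 2, 1, 2, 2, 2, 1, 2, 2, 1, 2, 2, 1, 3, 1, 1, 2, 1, 2, 0, 0, 2, 0, 0, 2, 1, 2, 0, 0, 2, 1, 2, 1, 3, 0, 2, 2, 1, 2, 0, 0, 2, 0, 0, 2, 1, 2, 0]]

end

end Cfsg.Agent.Lib.Helper10.J3W
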