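import Cfsg.Agent.Lib.Helper10.J3WMain
import Cfsg.Agent.Lib.Helper10.J3PIso

set_option autoImplicit false

/-!
The involutions of the Janko group J3 and the centraliser of one of them, for any group isomorphic to
the group on 20520 points and for the groups `Cfsg.Spor.J3 F ω`.
-/

namespace Cfsg.Agent.Lib.Helper10.J3W

open Cfsg.Agent.Lib.Helper10.SX Cfsg.Agent.Lib.Helper10.J3M Cfsg.Agent.Lib.Helper10.EnumG

noncomputable section

/-- the action of the complement on five points -/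
def phi (i : Fin 60) : Equiv.Perm (Fin 5) where
  toFun x := ⟨imgH i.val x.val, (imgOK i.val i.isLt x.val x.isLt).1⟩
  invFun x := ⟨imgI i.val x.val, (imgOK i.val i.isLt x.val x.isLt).2.1⟩
  left_inv x := Fin.ext (imgOK i.val i.isLt x.val x.isLt).2.2.1
  right_inv x := Fin.ext (imgOK i.val i.isLt x.val x.isLt).2.2.2

theorem phi_mul (i j : Fin 60) : phi (wgH.enum.mt i j) = phi i * phi j := by
  apply Equiv.ext
  intro x
  apply Fin.ext
  exact imgHom i.val i.isLt j.val j.isLt x.val x.isLt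

theorem phi_injective : Function.Injective phi := by
  intro i j h
  apply Fin.ext
  apply imgInj i.val i.isLt j.val j.isLt
  intro x hx
  exact congrArg (fun f : Equiv.Perm (Fin 5) => (f ⟨x, hx⟩).val) h

theorem tabQ_cen (i : Fin 32) : (∀ j, wgQ.enum.mt i j = wgQ.enum.mt j i) ↔
    (i = ⟨0, by norm_num⟩ ∨ i = ⟨1, by norm_num⟩) := by
  constructor
  · intro h
    rcases (cenQ i.val i.isLt).mp (fun j hj => congrArg Fin.val (h ⟨j, hj⟩)) with h0 | h1
    · left; exact Fin.ext h0
    · right; exact Fin.ext h1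
  · intro h j
    apply Fin.ext
    refine (cenQ i.val i.isLt).mpr ?_ j.val j.isLt
    rcases h with h | h
    · left; exact congrArg Fin.val h
    · right; exact congrArg Fin.val h

theorem tabQ_comm (i j : Fin 32) : wgQ.enum.mt i j = wgQ.enum.mt j i ∨
    wgQ.enum.mt i j = wgQ.enum.mt ⟨1, by norm_num⟩ (wgQ.enum.mt j i) := by
  rcases commQ i.val i.isLt j.val j.isLt with h | h
  · left; exact Fin.ext h
  · right; exact Fin.ext h

theorem tabQ_e8 (a b c : Fin 32) (h1 : wgQ.enum.mt a a = ⟨0, by norm_num⟩)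
    (h2 : wgQ.enum.mt b b = ⟨0, by norm_num⟩) (h3 : wgQ.enum.mt c c = ⟨0, by norm_num⟩)
    (h4 : wgQ.enum.mt a b = wgQ.enum.mt b a) (h5 : wgQ.enum.mt a c = wgQ.enum.mt c a)
    (h6 : wgQ.enum.mt b c = wgQ.enum.mt c b) :
    (a = ⟨0, by norm_num⟩ ∨ b = ⟨0, by norm_num⟩ ∨ b = a ∨ c = ⟨0, by norm_num⟩ ∨ c = a ∨ c = b ∨
      c = wgQ.enum.mt a b) := by
  rcases e8Q a.val a.isLt b.val b.isLt c.val c.isLt (congrArg Fin.val h1) (congrArg Fin.val h2)
    (congrArg Fin.val h3) (congrArg Fin.val h4) (congrArg Fin.val h5) (congrArg Fin.val h6)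
    with h | h | h | h | h | h | h
  · exact Or.inl (Fin.ext h)
  · exact Or.inr (Or.inl (Fin.ext h))
  · exact Or.inr (Or.inr (Or.inl (Fin.ext h)))
  · exact Or.inr (Or.inr (Or.inr (Or.inl (Fin.ext h))))
  · exact Or.inr (Or.inr (Or.inr (Or.inr (Or.inl (Fin.ext h)))))
  · exact Or.inr (Or.inr (Or.inr (Or.inr (Or.inr (Or.inl (Fin.ext h))))))
  · exact Or.inr (Or.inr (Or.inr (Or.inr (Or.inr (Or.inr (Fin.ext h))))))

/-- all involutions of a group isomorphic to J3 are conjugate, and the centraliser of one of them is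
a split extension of an extraspecial group of order 32 by the alternating group of degree 5 -/
theorem involution_centralizer {J : Type*} [Group J] (e : ↥G ≃* J) :
    (∀ x y : J, orderOf x = 2 → orderOf y = 2 → IsConj x y) ∧ ∃ t : J, orderOf t = 2 ∧
      ∃ (Q : Subgroup ↥(Subgroup.centralizer ({t} : Set J))) (_ : Q.Normal),
        Cfsg.IsExtraspecial 2 Q ∧ Nat.card Q = 32 ∧
        (∀ E : Subgroup Q, Cfsg.IsElementaryAbelian 2 E → Nat.card E ≤ 2 ^ 2) ∧
        (∃ H : Subgroup ↥(Subgroup.centralizer ({t} : Set J)), Q.IsComplement' H) ∧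
        Nonempty (↥(Subgroup.centralizer ({t} : Set J)) ⧸ Q ≃* ↥(alternatingGroup (Fin 5))) := by
  have := finite_G
  refine ⟨isConj_involutions_map e G_involutions_conj, e t,
    by rw [MulEquiv.orderOf_eq]; exact orderOf_t, ?_⟩
  exact centralizer_structure_map e t SQ SH SQ_le SH_le disj card_C norm_mem wgQ.enum
    ⟨0, by norm_num⟩ ⟨1, by norm_num⟩ (Subtype.ext gw_Q0) (by decide) tabQ_cen tabQ_comm
    ⟨⟨12, by norm_num⟩, Fin.ext sqQ⟩ tabQ_e8 wgH.enum phi phi_mul phi_injective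

end

end Cfsg.Agent.Lib.Helper10.J3W
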