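import Cfsg.Agent.Lib.Helper10.J3WBasic
import Cfsg.Agent.Lib.Helper10.EnumGroup

set_option autoImplicit false

/-!
Subgroups of the Janko group J3 on 20520 points given by a list of words closed under
multiplication, with their multiplication table.
-/

namespace Cfsg.Agent.Lib.Helper10.J3W

open Cfsg.Agent.Lib.Helper10.SX Cfsg.Agent.Lib.Helper10.J3M Cfsg.Agent.Lib.Helper10.EnumG

attribute [local irreducible] perm

noncomputable section

/-- Boolean equality of the signatures of two words -/
def sigEq (w w' : List ℕ) : Bool :=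
  RB.all fun x => Nat.beq (evalL 20520 (codesW w) x) (evalL 20520 (codesW w') x)

theorem sigEq_iff (w w' : List ℕ) : sigEq w w' = true ↔ gw w = gw w' := by
  rw [gw_eq_iff]
  unfold sigEq sigW
  rw [List.all_eq_true, List.map_inj_left]
  constructor
  · intro h x hx
    exact Nat.eq_of_beq_eq_true (h x hx)
  · intro h x hx
    rw [h x hx]
    exact Nat.beq_refl _

theorem sigEq_eq_false_iff (w w' : List ℕ) : sigEq w w' = false ↔ gw w ≠ gw w' := by
  rw [Ne, ← sigEq_iff, Bool.not_eq_true]

/-- the word with a given index -/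
def wd (Ws : List (List ℕ)) (i : ℕ) : List ℕ := Ws.getD i []

/-- the products of the words are the words given by the table -/
def tableB (m : ℕ) (Ws : List (List ℕ)) (MT : ℕ → ℕ → ℕ) : Bool :=
  allLt m fun i => allLt m fun j =>
    Nat.blt (MT i j) m && sigEq (wd Ws i ++ wd Ws j) (wd Ws (MT i j))

/-- the words give different elements -/
def distinctB (m : ℕ) (Ws : List (List ℕ)) : Bool :=
  allLt m fun i => allLt i fun j => !(sigEq (wd Ws i) (wd Ws j))

/-- a list of `m` words for different elements, closed under multiplication -/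
structure WordGroup (m : ℕ) (Ws : List (List ℕ)) (MT : ℕ → ℕ → ℕ) : Prop where
  pos : 0 < m
  one : wd Ws 0 = []
  table : tableB m Ws MT = true
  distinct : distinctB m Ws = true

namespace WordGroup

variable {m : ℕ} {Ws : List (List ℕ)} {MT : ℕ → ℕ → ℕ} (h : WordGroup m Ws MT)

include h

theorem mt_lt {i j : ℕ} (hi : i < m) (hj : j < m) : MT i j < m := by
  have := h.table
  unfold tableB at this
  rw [allLt_iff] at this
  have := this i hi
  rw [allLt_iff] at this
  have := this j hj
  rw [Bool.and_eq_true] at this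
  simpa [Nat.blt] using this.1

theorem mul_eq {i j : ℕ} (hi : i < m) (hj : j < m) :
    gw (wd Ws i) * gw (wd Ws j) = gw (wd Ws (MT i j)) := by
  have := h.table
  unfold tableB at this
  rw [allLt_iff] at this
  have := this i hi
  rw [allLt_iff] at this
  have := this j hj
  rw [Bool.and_eq_true] at this
  rw [← gw_append]
  exact (sigEq_iff _ _).mp this.2

theorem inj {i j : ℕ} (hi : i < m) (hj : j < m) (e : gw (wd Ws i) = gw (wd Ws j)) : i = j := by
  have hd := h.distinct
  unfold distinctB at hd
  rw [allLt_iff] at hd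
  by_contra hne
  rcases Nat.lt_or_gt_of_ne hne with hlt | hgt
  · have := hd j hj
    rw [allLt_iff] at this
    have := this i hlt
    rw [Bool.not_eq_true', sigEq_eq_false_iff] at this
    exact this e.symm
  · have := hd i hi
    rw [allLt_iff] at this
    have := this j hgt
    rw [Bool.not_eq_true', sigEq_eq_false_iff] at this
    exact this e

/-- the subgroup of the words -/
def subgroup : Subgroup ↥G where
  carrier := {g | ∃ i, i < m ∧ g = gw (wd Ws i)}
  one_mem' := ⟨0, h.pos, by rw [h.one]; rfl⟩
  mul_mem' := by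
    rintro _ _ ⟨i, hi, rfl⟩ ⟨j, hj, rfl⟩
    exact ⟨MT i j, h.mt_lt hi hj, h.mul_eq hi hj⟩
  inv_mem' := by
    intro g hg
    have hpow : ∀ k : ℕ, g ^ (k + 1) ∈ {g : ↥G | ∃ i, i < m ∧ g = gw (wd Ws i)} := by
      intro k
      induction k with
      | zero => rw [zero_add, pow_one]; exact hg
      | succ k ih =>
        rw [pow_succ]
        obtain ⟨i, hi, e1⟩ := ih
        obtain ⟨j, hj, e2⟩ := hg
        refine ⟨MT i j, h.mt_lt hi hj, ?_⟩
        rw [e1, ← h.mul_eq hi hj, ← e2]
    have ho : 0 < orderOf g := orderOf_pos g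
    have : g⁻¹ = g ^ (orderOf g - 1 + 1 + (orderOf g - 1)) := by
      rw [inv_eq_iff_mul_eq_one, ← pow_succ']
      have : orderOf g - 1 + 1 + (orderOf g - 1) + 1 = orderOf g * 2 := by omega
      rw [this, pow_mul, pow_orderOf_eq_one, one_pow]
    rw [this]
    have := hpow (orderOf g - 1 + (orderOf g - 1))
    have e : orderOf g - 1 + (orderOf g - 1) + 1 = orderOf g - 1 + 1 + (orderOf g - 1) := by omega
    rwa [e] at this

theorem mem_subgroup (g : ↥G) : g ∈ h.subgroup ↔ ∃ i, i < m ∧ g = gw (wd Ws i) := Iff.rfl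

theorem gw_mem {i : ℕ} (hi : i < m) : gw (wd Ws i) ∈ h.subgroup := ⟨i, hi, rfl⟩

/-- the enumeration of the subgroup -/
def enum : Enum ↥h.subgroup m where
  e := fun i => ⟨gw (wd Ws i.val), h.gw_mem i.isLt⟩
  bij := by
    constructor
    · intro i j e
      exact Fin.ext (h.inj i.isLt j.isLt (congrArg Subtype.val e))
    · rintro ⟨g, i, hi, rfl⟩
      exact ⟨⟨i, hi⟩, rfl⟩
  mt := fun i j => ⟨MT i.val j.val, h.mt_lt i.isLt j.isLt⟩
  mul := fun i j => Subtype.ext (h.mul_eq i.isLt j.isLt)

theorem card_subgroup : Nat.card ↥h.subgroup = m := h.enum.card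

end WordGroup

end

end Cfsg.Agent.Lib.Helper10.J3W
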