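import Mathlib
import Cfsg.Prelude.Def_JComponents

/-!
helper10: JSUB leaf G3 (market S2942, planner helper18): `IsSylowTwoIn T L` gives a Sylow 2-subgroup
of `↥L` with carrier `T.subgroupOf L`.
-/

set_option autoImplicit false

namespace Cfsg.Agent.Lib.Helper10.JSubLeaf

open Subgroup

/-- LEAF G3 -/
theorem exists_sylow_of_isSylowTwoIn {G : Type*} [Group G] [Finite G] {T L : Subgroup G}
    (h : Cfsg.IsSylowTwoIn T L) :
    ∃ T' : Sylow 2 ↥L, (T' : Subgroup ↥L) = T.subgroupOf L := by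
  obtain ⟨_, hT2, hodd⟩ := h
  have : Fact (Nat.Prime 2) := ⟨Nat.prime_two⟩
  have hP : IsPGroup 2 ↥(T.subgroupOf L) := hT2.comap_subtype
  have hidx : ¬ 2 ∣ (T.subgroupOf L).index := by
    have : (T.subgroupOf L).index = T.relIndex L := rfl
    rw [this]
    exact (Nat.not_even_iff_odd.mpr hodd) ∘ (even_iff_two_dvd.mpr)
  exact ⟨hP.toSylow hidx, rfl⟩

end Cfsg.Agent.Lib.Helper10.JSubLeaf
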