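import Mathlib
import Cfsg.Prelude.Def_Transfer

/-!
helper10: JSUB leaf G5 (market S2942, planner helper18): the Thompson subgroup of `T.subgroupOf L`
(inside `↥L`) is `(J(T)).subgroupOf L`.  Reusable: `thompsonSubgroup_map_equiv` (the Thompson
subgroup is invariant under isomorphisms between different groups).
-/

set_option autoImplicit false

namespace Cfsg.Agent.Lib.Helper10.JSubLeaf

open Subgroup

theorem isElementaryAbelian_map_mulEquiv {A B : Type*} [Group A] [Group B] {p : ℕ} (e : A ≃* B)
    {U : Subgroup A} (hU : Cfsg.IsElementaryAbelian p U) :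
    Cfsg.IsElementaryAbelian p (U.map e.toMonoidHom) := by
  obtain ⟨hc, he⟩ := hU
  rw [isMulCommutative_iff] at hc
  refine ⟨isMulCommutative_iff.mpr ?_, ?_⟩
  · rintro ⟨_, a, ha, rfl⟩ ⟨_, b, hb, rfl⟩
    apply Subtype.ext
    have h2 : a * b = b * a := congrArg Subtype.val (hc ⟨a, ha⟩ ⟨b, hb⟩)
    show e a * e b = e b * e a
    rw [← map_mul, ← map_mul, h2]
  · rintro _ ⟨a, ha, rfl⟩
    show (e a) ^ p = 1
    rw [← map_pow, he a ha, map_one]

theorem map_symm_map_mulEquiv {A B : Type*} [Group A] [Group B] (e : A ≃* B) (U : Subgroup A) :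
    (U.map e.toMonoidHom).map e.symm.toMonoidHom = U := by
  ext x
  simp [Subgroup.mem_map]

theorem map_mem_maxEA {A B : Type*} [Group A] [Group B] {p : ℕ} (e : A ≃* B) {U : Subgroup A}
    (hU : U ∈ Cfsg.maxElementaryAbelianSubgroups p A) :
    U.map e.toMonoidHom ∈ Cfsg.maxElementaryAbelianSubgroups p B := by
  obtain ⟨hUe, hmax⟩ := hU
  refine ⟨isElementaryAbelian_map_mulEquiv e hUe, ?_⟩
  intro V hV
  have h2 := hmax _ (isElementaryAbelian_map_mulEquiv e.symm hV)
  rw [Subgroup.card_map_of_injective e.symm.injective] at h2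
  rw [Subgroup.card_map_of_injective e.injective]
  exact h2

/-- The Thompson subgroup is invariant under isomorphisms. -/
theorem thompsonSubgroup_map_equiv {A B : Type*} [Group A] [Group B] (p : ℕ) (e : A ≃* B) :
    (Cfsg.thompsonSubgroup p A).map e.toMonoidHom = Cfsg.thompsonSubgroup p B := by
  unfold Cfsg.thompsonSubgroup
  rw [(Subgroup.gc_map_comap e.toMonoidHom).l_sSup]
  apply le_antisymm
  · apply iSup₂_le
    intro U hU
    exact le_sSup (map_mem_maxEA e hU)
  · apply sSup_le
    intro V hV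
    have hmem := map_mem_maxEA e.symm hV
    have hback : (V.map e.symm.toMonoidHom).map e.toMonoidHom = V := by
      have := map_symm_map_mulEquiv e.symm V
      simpa using this
    calc V = (V.map e.symm.toMonoidHom).map e.toMonoidHom := hback.symm
      _ ≤ ⨆ U ∈ Cfsg.maxElementaryAbelianSubgroups p A, U.map e.toMonoidHom :=
          le_iSup₂_of_le _ hmem le_rfl

/-- LEAF G5 -/
theorem thompsonSubgroupOf_subgroupOf {G : Type*} [Group G] [Finite G] {T L : Subgroup G}
    (hTL : T ≤ L) :
    Cfsg.thompsonSubgroupOf 2 (T.subgroupOf L) = (Cfsg.thompsonSubgroupOf 2 T).subgroupOf L := by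
  have hJT : Cfsg.thompsonSubgroupOf 2 T ≤ L := (Subgroup.map_subtype_le _).trans hTL
  apply Subgroup.map_injective L.subtype_injective
  rw [Subgroup.map_subgroupOf_eq_of_le hJT]
  unfold Cfsg.thompsonSubgroupOf
  rw [Subgroup.map_map]
  let e : ↥(T.subgroupOf L) ≃* ↥T := Subgroup.subgroupOfEquivOfLe hTL
  have hcomp : L.subtype.comp (T.subgroupOf L).subtype = T.subtype.comp e.toMonoidHom := by
    ext x
    rfl
  rw [hcomp, ← Subgroup.map_map, thompsonSubgroup_map_equiv 2 e]

end Cfsg.Agent.Lib.Helper10.JSubLeaf
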