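import Mathlib

/-!
helper10: JSUB leaf G6a (market S2942, planner helper18): generation by odd-order elements passes to
`K.subgroupOf L`.
-/

set_option autoImplicit false

namespace Cfsg.Agent.Lib.Helper10.JSubLeaf

open Subgroup

/-- LEAF G6a -/
theorem closure_odd_subgroupOf {G : Type*} [Group G] [Finite G] {K L : Subgroup G} (hKL : K ≤ L)
    (hK1 : closure {g : G | g ∈ K ∧ Odd (orderOf g)} = K) :
    closure {g : ↥L | g ∈ K.subgroupOf L ∧ Odd (orderOf g)} = K.subgroupOf L := by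
  apply Subgroup.map_injective L.subtype_injective
  rw [Subgroup.map_subgroupOf_eq_of_le hKL, MonoidHom.map_closure]
  have himg : (L.subtype '' {g : ↥L | g ∈ K.subgroupOf L ∧ Odd (orderOf g)})
      = {g : G | g ∈ K ∧ Odd (orderOf g)} := by
    ext x
    constructor
    · rintro ⟨g, ⟨hgK, hgo⟩, rfl⟩
      refine ⟨Subgroup.mem_subgroupOf.mp hgK, ?_⟩
      have : orderOf ((L.subtype g : G)) = orderOf g := Subgroup.orderOf_coe g
      rw [this]; exact hgo
    · rintro ⟨hxK, hxo⟩
      refine ⟨⟨x, hKL hxK⟩, ⟨Subgroup.mem_subgroupOf.mpr hxK, ?_⟩, rfl⟩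
      have : orderOf ((⟨x, hKL hxK⟩ : ↥L)) = orderOf x := by
        rw [← Subgroup.orderOf_coe]
      rw [this]; exact hxo
  rw [himg, hK1]

end Cfsg.Agent.Lib.Helper10.JSubLeaf
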