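import Mathlib

/-!
helper10: JSUB leaf G6b (market S2942, planner helper18): commutators commute with `subgroupOf`.
-/

set_option autoImplicit false

namespace Cfsg.Agent.Lib.Helper10.JSubLeaf

open Subgroup
open scoped commutatorElement

/-- LEAF G6b -/
theorem commutator_subgroupOf {G : Type*} [Group G] [Finite G] {K J L : Subgroup G} (hKL : K ≤ L)
    (hJL : J ≤ L) :
    ⁅K.subgroupOf L, J.subgroupOf L⁆ = (⁅K, J⁆).subgroupOf L := by
  have hcomm : ⁅K, J⁆ ≤ L := by
    rw [Subgroup.commutator_le]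
    intro g₁ h₁ g₂ h₂
    exact L.mul_mem (L.mul_mem (L.mul_mem (hKL h₁) (hJL h₂)) (L.inv_mem (hKL h₁)))
      (L.inv_mem (hJL h₂))
  apply Subgroup.map_injective L.subtype_injective
  rw [Subgroup.map_commutator, Subgroup.map_subgroupOf_eq_of_le hKL,
    Subgroup.map_subgroupOf_eq_of_le hJL, Subgroup.map_subgroupOf_eq_of_le hcomm]

end Cfsg.Agent.Lib.Helper10.JSubLeaf
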