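/-
helper10: S4638 leaf (PERFA), core.  Two blocks `B` of `G` and `c` of `N` with four characters each and
`HadData` (four pairwise orthogonal sign vectors `σ i`, resp. `τ i`; `Θ_i = ∑ σ i χ • χ`; `Θ_0` vanishes
on the singular elements, `Θ_i` (`i ≠ 0`) on the regular ones; `Θ_i x / 4`, `Θ_i x / |C(x)|` local
integers) are perfectly isometric.  (COMB) gives `I`, `ε`, `δ` with `σ i (I η) = δ i ε η τ i η`; (COL)
for `B` gives `4 χ = ∑_i σ i χ • Θ_i`, hence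
`4 μ(x,y) = ∑_η ε η ∑_i σ i (I η) Θ_i(x) η(y) = ∑_i δ i Θ_i(x) Θ^N_i(y)`.
(COMB) and (COL) enter as the hypotheses `Comb`, `Col`; the glue file `KleinPIPERFA` discharges them.
-/
import Mathlib
import Cfsg.Prelude.Def_BlockLocal
import Cfsg.Agent.Lib.Helper27.KleinPIDefs
import Cfsg.Agent.Lib.Helper24.LocalRing
import Cfsg.Agent.Lib.Helper6.OneBlock
import Cfsg.Agent.Lib.Helper10.KleinPIPERFBCore

set_option autoImplicit false

namespace Cfsg.Agent.Lib.Helper10.KleinPIPERFACore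

open Cfsg Cfsg.Agent.CharLib Cfsg.Agent.Lib.Helper24 Cfsg.Agent.Lib.Helper6
open Cfsg.Agent.Lib.Helper27.KleinPI
open Cfsg.Agent.Lib.Helper10.KleinPIPERFBCore

universe u

/-- the statement of the leaf (COMB), for types in `Type u` -/
def Comb : Prop :=
  ∀ {X Y : Type u} (B : Set X) (c : Set Y) (_ : Nat.card B = 4)
    (_ : Nat.card c = 4) (σ : Fin 4 → X → ℤ) (τ : Fin 4 → Y → ℤ)
    (_ : ∀ i, ∀ χ ∈ B, σ i χ = 1 ∨ σ i χ = -1) (_ : ∀ i, ∀ η ∈ c, τ i η = 1 ∨ τ i η = -1)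
    (_ : ∀ i j, i ≠ j → ∑ᶠ χ ∈ B, σ i χ * σ j χ = 0)
    (_ : ∀ i j, i ≠ j → ∑ᶠ η ∈ c, τ i η * τ j η = 0),
    ∃ (I : Y → X) (ε : Y → ℤ) (δ : Fin 4 → ℤ), Set.BijOn I c B ∧
      (∀ η ∈ c, ε η = 1 ∨ ε η = -1) ∧ (∀ i, δ i = 1 ∨ δ i = -1) ∧
      ∀ i, ∀ η ∈ c, σ i (I η) = δ i * ε η * τ i η

/-- the statement of the leaf (COL), for types in `Type u` -/
def Col : Prop :=
  ∀ {X : Type u} [DecidableEq X] (B : Set X) (_ : Nat.card B = 4) (σ : Fin 4 → X → ℤ)
    (_ : ∀ i, ∀ χ ∈ B, σ i χ = 1 ∨ σ i χ = -1)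
    (_ : ∀ i j, i ≠ j → ∑ᶠ χ ∈ B, σ i χ * σ j χ = 0) (χ χ' : X) (_ : χ ∈ B) (_ : χ' ∈ B),
    ∑ i, σ i χ * σ i χ' = if χ = χ' then 4 else 0

section main

variable {G N : Type u} [Group G] [Fintype G] [Group N] [Fintype N] {M : Ideal AlgInt}

/-- `4 χ = ∑_i σ i χ • Θ_i` on a block with four orthogonal sign vectors -/
theorem four_mul_apply (hCol : Col.{u}) (B : Set (IrrCharacter G)) (hB : Nat.card B = 4)
    (σ : Fin 4 → IrrCharacter G → ℤ) (h1 : ∀ i, ∀ χ ∈ B, σ i χ = 1 ∨ σ i χ = -1)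
    (h2 : ∀ i j, i ≠ j → ∑ᶠ χ ∈ B, σ i χ * σ j χ = 0) (χ : IrrCharacter G) (hχ : χ ∈ B) (x : G) :
    4 * (χ : G → ℂ) x = ∑ i : Fin 4, (σ i χ : ℂ) * thetaFun B (σ i) x := by
  classical
  have hBf : B.Finite := Set.toFinite B
  have hth : ∀ i, thetaFun B (σ i) x = ∑ χ' ∈ hBf.toFinset, (σ i χ' : ℂ) * (χ' : G → ℂ) x :=
    fun i => finsum_mem_eq_finite_toFinset_sum _ hBf
  simp_rw [hth, Finset.mul_sum]
  rw [Finset.sum_comm]
  have h3 : ∀ χ' ∈ hBf.toFinset, ∑ i : Fin 4, (σ i χ : ℂ) * ((σ i χ' : ℂ) * (χ' : G → ℂ) x) =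
      if χ = χ' then 4 * (χ' : G → ℂ) x else 0 := by
    intro χ' hχ'
    have hχ'B : χ' ∈ B := by simpa using hχ'
    have h4 := hCol B hB σ h1 h2 χ χ' hχ hχ'B
    have h5 : ∑ i : Fin 4, (σ i χ : ℂ) * ((σ i χ' : ℂ) * (χ' : G → ℂ) x) =
        ((∑ i : Fin 4, σ i χ * σ i χ' : ℤ) : ℂ) * (χ' : G → ℂ) x := by
      push_cast
      rw [Finset.sum_mul]
      exact Finset.sum_congr rfl (fun i _ => by ring)
    rw [h5, h4]
    split_ifs <;> simp
  rw [Finset.sum_congr rfl h3, Finset.sum_ite_eq]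
  rw [if_pos (by simpa using hχ)]

/-- the kernel in terms of the `Θ_i` -/
theorem four_mul_kernel (hCol : Col.{u}) (B : Set (IrrCharacter G)) (c : Set (IrrCharacter N))
    (hB : Nat.card B = 4) (σ : Fin 4 → IrrCharacter G → ℤ) (τ : Fin 4 → IrrCharacter N → ℤ)
    (h1 : ∀ i, ∀ χ ∈ B, σ i χ = 1 ∨ σ i χ = -1)
    (h2 : ∀ i j, i ≠ j → ∑ᶠ χ ∈ B, σ i χ * σ j χ = 0)
    (I : IrrCharacter N → IrrCharacter G) (ε : IrrCharacter N → ℤ) (δ : Fin 4 → ℤ)
    (hI : Set.BijOn I c B) (hε : ∀ η ∈ c, ε η = 1 ∨ ε η = -1)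
    (hm : ∀ i, ∀ η ∈ c, σ i (I η) = δ i * ε η * τ i η) (x : G) (y : N) :
    4 * signedBijectionKernel c I ε x y =
      ∑ i : Fin 4, (δ i : ℂ) * thetaFun B (σ i) x * thetaFun c (τ i) y := by
  classical
  have hcf : c.Finite := Set.toFinite c
  have hth : ∀ i, thetaFun c (τ i) y = ∑ η ∈ hcf.toFinset, (τ i η : ℂ) * (η : N → ℂ) y :=
    fun i => finsum_mem_eq_finite_toFinset_sum _ hcf
  unfold signedBijectionKernel
  rw [finsum_mem_eq_finite_toFinset_sum _ hcf]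
  simp_rw [hth, Finset.mul_sum]
  rw [Finset.sum_comm]
  refine Finset.sum_congr rfl (fun η hη => ?_)
  have hηc : η ∈ c := by simpa using hη
  have h3 := four_mul_apply hCol B hB σ h1 h2 (I η) (hI.mapsTo hηc) x
  have h4 := sign_mul_self (hε η hηc)
  calc 4 * ((ε η : ℂ) * (I η : G → ℂ) x * (η : N → ℂ) y)
      = (ε η : ℂ) * (4 * (I η : G → ℂ) x) * (η : N → ℂ) y := by ring
    _ = (ε η : ℂ) * (∑ i : Fin 4, (σ i (I η) : ℂ) * thetaFun B (σ i) x) * (η : N → ℂ) y := by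
        rw [h3]
    _ = ∑ i : Fin 4, (ε η : ℂ) * ((σ i (I η) : ℂ) * thetaFun B (σ i) x) * (η : N → ℂ) y := by
        rw [Finset.mul_sum, Finset.sum_mul]
    _ = ∑ i : Fin 4, (δ i : ℂ) * thetaFun B (σ i) x * ((τ i η : ℂ) * (η : N → ℂ) y) := by
        refine Finset.sum_congr rfl (fun i _ => ?_)
        rw [hm i η hηc]
        push_cast
        calc (ε η : ℂ) * ((δ i : ℂ) * (ε η : ℂ) * (τ i η : ℂ) * thetaFun B (σ i) x) * (η : N → ℂ) y
            = ((ε η : ℂ) * (ε η : ℂ)) *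
                ((δ i : ℂ) * thetaFun B (σ i) x * ((τ i η : ℂ) * (η : N → ℂ) y)) := by ring
          _ = (δ i : ℂ) * thetaFun B (σ i) x * ((τ i η : ℂ) * (η : N → ℂ) y) := by
              rw [h4, one_mul]

/-- (PERFA), with (COMB) and (COL) as hypotheses. -/
theorem exists_perfect_of_hadData_of (hComb : Comb.{u}) (hCol : Col.{u}) (hM : IsPModular 2 M)
    (B : Set (IrrCharacter G)) (c : Set (IrrCharacter N))
    (hB : Nat.card B = 4) (hc : Nat.card c = 4) (σ : Fin 4 → IrrCharacter G → ℤ)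
    (τ : Fin 4 → IrrCharacter N → ℤ) (hσ : HadData M B σ) (hτ : HadData M c τ) :
    ∃ (I : IrrCharacter N → IrrCharacter G) (ε : IrrCharacter N → ℤ),
      IsPerfectIsometry 2 M c B I ε := by
  classical
  haveI : M.IsPrime := isPrime_of_isPModular hM
  obtain ⟨hσ1, hσo, hσreg, hσsing, hσloc⟩ := hσ
  obtain ⟨hτ1, hτo, hτreg, hτsing, hτloc⟩ := hτ
  obtain ⟨I, ε, δ, hI, hε, hδ, hm⟩ := hComb B c hB hc σ τ hσ1 hτ1 hσo hτo
  have hker : ∀ x y, signedBijectionKernel c I ε x y =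
      ∑ i : Fin 4, (δ i : ℂ) * thetaFun B (σ i) x * thetaFun c (τ i) y / 4 := by
    intro x y
    have h := four_mul_kernel hCol B c hB σ τ hσ1 hσo I ε δ hI hε hm x y
    rw [← Finset.sum_div, ← h]
    ring
  refine ⟨I, ε, hI, hε, ?_⟩
  intro x y
  rw [hker x y]
  refine ⟨?_, ?_, ?_⟩
  · rw [Finset.sum_div]
    refine memLocalRing_finset_sum _ _ (fun i _ => ?_)
    have h1 : (δ i : ℂ) * thetaFun B (σ i) x * thetaFun c (τ i) y / 4 /
        (Nat.card (Subgroup.centralizer ({x} : Set G)) : ℂ) =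
        (δ i : ℂ) * ((thetaFun B (σ i) x / (Nat.card (Subgroup.centralizer ({x} : Set G)) : ℂ)) *
          (thetaFun c (τ i) y / 4)) := by ring
    rw [h1]
    exact memLocalRing_mul (memLocalRing_intCast _)
      (memLocalRing_mul (hσloc i x).2 (hτloc i y).1)
  · rw [Finset.sum_div]
    refine memLocalRing_finset_sum _ _ (fun i _ => ?_)
    have h1 : (δ i : ℂ) * thetaFun B (σ i) x * thetaFun c (τ i) y / 4 /
        (Nat.card (Subgroup.centralizer ({y} : Set N)) : ℂ) =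
        (δ i : ℂ) * ((thetaFun B (σ i) x / 4) *
          (thetaFun c (τ i) y / (Nat.card (Subgroup.centralizer ({y} : Set N)) : ℂ))) := by ring
    rw [h1]
    exact memLocalRing_mul (memLocalRing_intCast _)
      (memLocalRing_mul (hσloc i x).1 (hτloc i y).2)
  · by_cases hx : IsPRegular 2 x
    · by_cases hy : IsPRegular 2 y
      · exact Or.inl ⟨fun _ => hy, fun _ => hx⟩
      · right
        refine Finset.sum_eq_zero (fun i _ => ?_)
        by_cases hi : i = 0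
        · subst hi
          rw [hτsing y hy, mul_zero, zero_div]
        · rw [hσreg i x hi hx, mul_zero, zero_mul, zero_div]
    · by_cases hy : IsPRegular 2 y
      · right
        refine Finset.sum_eq_zero (fun i _ => ?_)
        by_cases hi : i = 0
        · subst hi
          rw [hσsing x hx, mul_zero, zero_mul, zero_div]
        · rw [hτreg i y hi hy, mul_zero, zero_div]
      · exact Or.inl ⟨fun h => absurd h hx, fun h => absurd h hy⟩

end main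

end Cfsg.Agent.Lib.Helper10.KleinPIPERFACore
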