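/-
helper10: S4638 leaf (PERFA) `exists_perfect_of_hadData`, exact name + binders of
`notes/S4638_leaves.lean`: glue of `KleinPIPERFACore.exists_perfect_of_hadData_of` with helper13's
(COMB) `Helper13.KleinPICOMB.exists_matching` and (COL) `Helper13.KleinPICOL.sum_rows_eq`.
-/
import Mathlib
import Cfsg.Agent.Lib.Helper10.KleinPIPERFACore
import Cfsg.Agent.Lib.Helper13.KleinPICOMB
import Cfsg.Agent.Lib.Helper13.KleinPICOL

set_option autoImplicit false

namespace Cfsg.Agent.Lib.Helper10.KleinPIPERFA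

open Cfsg Cfsg.Agent.CharLib Cfsg.Agent.Lib.Helper24 Cfsg.Agent.Lib.Helper6
open Cfsg.Agent.Lib.Helper27.KleinPI
open scoped ComplexConjugate

universe u

/-- (PERFA) two blocks with `HadData` are perfectly isometric. -/
theorem exists_perfect_of_hadData {G N : Type u} [Group G] [Fintype G] [Group N] [Fintype N]
    {M : Ideal AlgInt} (hM : IsPModular 2 M) (B : Set (IrrCharacter G)) (c : Set (IrrCharacter N))
    (hB : Nat.card B = 4) (hc : Nat.card c = 4) (σ : Fin 4 → IrrCharacter G → ℤ)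
    (τ : Fin 4 → IrrCharacter N → ℤ) (hσ : HadData M B σ) (hτ : HadData M c τ) :
    ∃ (I : IrrCharacter N → IrrCharacter G) (ε : IrrCharacter N → ℤ),
      IsPerfectIsometry 2 M c B I ε :=
  KleinPIPERFACore.exists_perfect_of_hadData_of
    (fun B c hB hc σ τ h1 h2 h3 h4 =>
      Cfsg.Agent.Lib.Helper13.KleinPICOMB.exists_matching B c hB hc σ τ h1 h2 h3 h4)
    (fun B hB σ h1 h2 χ χ' hχ hχ' =>
      Cfsg.Agent.Lib.Helper13.KleinPICOL.sum_rows_eq B hB σ h1 h2 χ χ' hχ hχ')
    hM B c hB hc σ τ hσ hτ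

end Cfsg.Agent.Lib.Helper10.KleinPIPERFA
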