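/-
helper10: S4638 leaf (PERFB) `exists_perfect_of_transData`, exact name + binders of
`notes/S4638_leaves.lean`: glue of `KleinPIPERFBCore.exists_perfect_of_transData_of` with (LPROJ)
(`Helper10.KleinPILPROJ.memLocalRing_div_card_centralizer`, my twin copy of the leaf).
-/
import Mathlib
import Cfsg.Agent.Lib.Helper10.KleinPIPERFBCore
import Cfsg.Agent.Lib.Helper10.KleinPILPROJ

set_option autoImplicit false

namespace Cfsg.Agent.Lib.Helper10.KleinPIPERFB

open Cfsg Cfsg.Agent.CharLib Cfsg.Agent.Lib.Helper24 Cfsg.Agent.Lib.Helper6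
open Cfsg.Agent.Lib.Helper27.KleinPI
open scoped ComplexConjugate

universe u

/-- (PERFB) two blocks with `TransData` are perfectly isometric (any bijection, with the signs
`ε η = σ (I η) τ η`; regular-regular values by (LPROJ)). -/
theorem exists_perfect_of_transData {G N : Type u} [Group G] [Fintype G] [Group N] [Fintype N]
    {M : Ideal AlgInt} (hM : IsPModular 2 M) (B : Set (IrrCharacter G)) (c : Set (IrrCharacter N))
    (hB : Nat.card B = 4) (hc : Nat.card c = 4) (σ : IrrCharacter G → ℤ)
    (τ : IrrCharacter N → ℤ) (hσ : TransData M B σ) (hτ : TransData M c τ) :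
    ∃ (I : IrrCharacter N → IrrCharacter G) (ε : IrrCharacter N → ℤ),
      IsPerfectIsometry 2 M c B I ε :=
  KleinPIPERFBCore.exists_perfect_of_transData_of
    (fun hM a ha hvan x => KleinPILPROJ.memLocalRing_div_card_centralizer hM a ha hvan x)
    hM B c hB hc σ τ hσ hτ

end Cfsg.Agent.Lib.Helper10.KleinPIPERFB
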