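import Mathlib
import Cfsg.Agent.Lib.Helper4.PslU3

set_option autoImplicit false

namespace Cfsg.Agent.Lib.Helper10.L211

open Subgroup MulAction

section

variable {Ω : Type*} [Fintype Ω] [DecidableEq Ω] (G : Subgroup (Equiv.Perm Ω))

theorem eq_one_of_fix_all (g : G) (h : ∀ a : Ω, g • a = a) : g = 1 := by
  apply Subtype.ext
  apply Equiv.Perm.ext
  intro a
  exact h a

/-- an element of order 11 is transitive on 11 points -/
theorem exists_orbit_eq_univ (hΩ : Fintype.card Ω = 11) (x : G) (hx : orderOf x = 11) :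
    ∃ a : Ω, MulAction.orbit (Subgroup.zpowers x) a = Set.univ := by
  have hx1 : x ≠ 1 := by
    intro h
    rw [h, orderOf_one] at hx
    omega
  have hex : ∃ a : Ω, x • a ≠ a := by
    by_contra hcon
    push Not at hcon
    exact hx1 (eq_one_of_fix_all G x hcon)
  obtain ⟨a, ha⟩ := hex
  refine ⟨a, ?_⟩
  have hZ : Nat.card (Subgroup.zpowers x) = 11 := by
    rw [Nat.card_zpowers, hx]
  have hdvd : (MulAction.orbit (Subgroup.zpowers x) a).ncard ∣ 11 := by
    rw [← MulAction.index_stabilizer, ← hZ]
    exact Subgroup.index_dvd_card _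
  have h11 : Nat.Prime 11 := by norm_num
  rcases (Nat.dvd_prime h11).1 hdvd with h1 | h1
  · exfalso
    rw [Set.ncard_eq_one] at h1
    obtain ⟨b, hb⟩ := h1
    have ha1 : a ∈ MulAction.orbit (Subgroup.zpowers x) a := MulAction.mem_orbit_self a
    have ha2 : x • a ∈ MulAction.orbit (Subgroup.zpowers x) a :=
      ⟨⟨x, Subgroup.mem_zpowers x⟩, rfl⟩
    rw [hb, Set.mem_singleton_iff] at ha1 ha2
    exact ha (ha2.trans ha1.symm)
  · rw [Set.eq_univ_iff_ncard, h1, Nat.card_eq_fintype_card, hΩ]

theorem isPretransitive_of_order11 (hΩ : Fintype.card Ω = 11) (x : G) (hx : orderOf x = 11) :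
    MulAction.IsPretransitive G Ω := by
  obtain ⟨a, ha⟩ := exists_orbit_eq_univ G hΩ x hx
  rw [MulAction.isPretransitive_iff_base a]
  intro b
  have hb : b ∈ MulAction.orbit (Subgroup.zpowers x) a := by
    rw [ha]
    exact Set.mem_univ b
  obtain ⟨z, hz⟩ := hb
  exact ⟨z.1, hz⟩

variable [Fact (Nat.Prime 11)]

theorem card_sylow11 (hG : Nat.card G = 660) (P : Sylow 11 G) :
    Nat.card (P : Subgroup G) = 11 ∧ (P : Subgroup G).index = 60 := by
  haveI : Finite G := Nat.finite_of_card_ne_zero (by rw [hG]; norm_num)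
  exact Cfsg.Agent.Lib.Helper7.sylow_card_index_of_exact (p := 11) (m := 60) (by rw [hG])
    (by norm_num) P

theorem zpowers_eq_sylow (hG : Nat.card G = 660) (x : G) (hx : orderOf x = 11) (Q : Sylow 11 G)
    (h : Subgroup.zpowers x ≤ (Q : Subgroup G)) : Subgroup.zpowers x = (Q : Subgroup G) := by
  haveI : Finite G := Nat.finite_of_card_ne_zero (by rw [hG]; norm_num)
  apply Subgroup.eq_of_le_of_card_ge h
  rw [(card_sylow11 G hG Q).1, Nat.card_zpowers, hx]

theorem exists_sylow_eq_zpowers (hG : Nat.card G = 660) (x : G) (hx : orderOf x = 11) :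
    ∃ Q : Sylow 11 G, Subgroup.zpowers x = (Q : Subgroup G) := by
  haveI : Finite G := Nat.finite_of_card_ne_zero (by rw [hG]; norm_num)
  have hp : IsPGroup 11 (Subgroup.zpowers x) := by
    apply IsPGroup.of_card (n := 1)
    rw [Nat.card_zpowers, hx, pow_one]
  obtain ⟨Q, hQ⟩ := hp.exists_le_sylow
  exact ⟨Q, zpowers_eq_sylow G hG x hx Q hQ⟩

theorem exists_order11 (hG : Nat.card G = 660) : ∃ x : G, orderOf x = 11 := by
  haveI : Finite G := Nat.finite_of_card_ne_zero (by rw [hG]; norm_num)
  apply exists_prime_orderOf_dvd_card' (G := G) 11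
  rw [hG]
  norm_num

/-- a point stabilizer embeds into a normal Sylow 11-subgroup: impossible -/
theorem not_subsingleton_sylow (hΩ : Fintype.card Ω = 11) (hG : Nat.card G = 660) :
    ¬ Subsingleton (Sylow 11 G) := by
  haveI : Finite G := Nat.finite_of_card_ne_zero (by rw [hG]; norm_num)
  intro hsub
  obtain ⟨x, hx⟩ := exists_order11 G hG
  obtain ⟨Q, hQ⟩ := exists_sylow_eq_zpowers G hG x hx
  have hQn : (Q : Subgroup G).Normal := Sylow.normal_of_subsingleton Q
  obtain ⟨a, ha⟩ := exists_orbit_eq_univ G hΩ x hx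
  haveI : MulAction.IsPretransitive G Ω := isPretransitive_of_order11 G hΩ x hx
  have hidx : (MulAction.stabilizer G a).index = 11 := by
    rw [MulAction.index_stabilizer_of_transitive G a, Nat.card_eq_fintype_card, hΩ]
  have hS : Nat.card (MulAction.stabilizer G a) = 60 := by
    have := (MulAction.stabilizer G a).card_mul_index
    rw [hidx, hG] at this
    omega
  have hxQ : x ∈ (Q : Subgroup G) := by
    rw [← hQ]
    exact Subgroup.mem_zpowers x
  let f : MulAction.stabilizer G a → (Q : Subgroup G) :=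
    fun g => ⟨(g : G) * x * (g : G)⁻¹, hQn.conj_mem x hxQ g⟩
  have hinj : Function.Injective f := by
    intro g h hgh
    have h1 : (g : G) * x * (g : G)⁻¹ = (h : G) * x * (h : G)⁻¹ := congrArg Subtype.val hgh
    set c : G := (h : G)⁻¹ * (g : G) with hc
    have hcomm : Commute c x := by
      unfold Commute SemiconjBy
      have h2 : (h : G)⁻¹ * ((g : G) * x * (g : G)⁻¹) * (g : G) =
          (h : G)⁻¹ * ((h : G) * x * (h : G)⁻¹) * (g : G) := by rw [h1]
      rw [hc]
      simp only [mul_assoc, inv_mul_cancel, mul_one, inv_mul_cancel_left] at h2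
      rw [mul_assoc, h2]
    have hca : c • a = a := by
      rw [hc, mul_smul]
      have hg : (g : G) • a = a := g.2
      have hh : (h : G) • a = a := h.2
      rw [hg]
      rw [inv_smul_eq_iff, hh]
    have hc1 : c = 1 := by
      apply eq_one_of_fix_all G c
      intro b
      have hb : b ∈ MulAction.orbit (Subgroup.zpowers x) a := by
        rw [ha]
        exact Set.mem_univ b
      obtain ⟨z, rfl⟩ := hb
      obtain ⟨n, hn⟩ := Subgroup.mem_zpowers_iff.1 z.2
      have hz : (z : G) = x ^ n := hn.symm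
      show c • ((z : G) • a) = (z : G) • a
      rw [hz, ← mul_smul, (hcomm.zpow_right n).eq, mul_smul, hca]
    apply Subtype.ext
    rw [hc, inv_mul_eq_one] at hc1
    exact hc1.symm
  have hle := Nat.card_le_card_of_injective f hinj
  rw [hS, (card_sylow11 G hG Q).1] at hle
  omega

theorem card_sylow_eq_twelve (hΩ : Fintype.card Ω = 11) (hG : Nat.card G = 660) :
    Nat.card (Sylow 11 G) = 12 := by
  haveI : Finite G := Nat.finite_of_card_ne_zero (by rw [hG]; norm_num)
  obtain ⟨P⟩ : Nonempty (Sylow 11 G) := inferInstance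
  have h1 : Nat.card (Sylow 11 G) ∣ 60 := by
    rw [← (card_sylow11 G hG P).2]
    exact Sylow.card_dvd_index P
  have h2 : Nat.card (Sylow 11 G) % 11 = 1 := by
    have := card_sylow_modEq_one 11 G
    unfold Nat.ModEq at this
    rw [this]
  have hle : Nat.card (Sylow 11 G) ≤ 60 := Nat.le_of_dvd (by norm_num) h1
  have hcases : Nat.card (Sylow 11 G) = 1 ∨ Nat.card (Sylow 11 G) = 12 := by
    generalize Nat.card (Sylow 11 G) = n at h1 h2 hle
    interval_cases n <;> simp_all <;> omega
  rcases hcases with h | h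
  · exfalso
    exact not_subsingleton_sylow G hΩ hG (Nat.card_eq_one_iff_unique.mp h).1
  · exact h

theorem faithful_on_sylow (hΩ : Fintype.card Ω = 11) (hG : Nat.card G = 660)
    (g : G) (hg : ∀ R : Sylow 11 G, g • R = R) : g = 1 := by
  haveI : Finite G := Nat.finite_of_card_ne_zero (by rw [hG]; norm_num)
  by_contra hg1
  obtain ⟨x, hx⟩ := exists_order11 G hG
  set K : Subgroup G := (MulAction.toPermHom G (Sylow 11 G)).ker with hK
  haveI hKn : K.Normal := MonoidHom.normal_ker _
  have hmemK : ∀ k : G, k ∈ K ↔ ∀ R : Sylow 11 G, k • R = R := by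
    intro k
    rw [hK, MonoidHom.mem_ker]
    constructor
    · intro h R
      have := congrArg (fun f : Equiv.Perm (Sylow 11 G) => f R) h
      exact this
    · intro h
      apply Equiv.Perm.ext
      intro R
      exact h R
  have hgK : g ∈ K := (hmemK g).2 hg
  haveI : MulAction.IsPretransitive G Ω := isPretransitive_of_order11 G hΩ x hx
  haveI : MulAction.IsPreprimitive G Ω := by
    apply MulAction.IsPreprimitive.of_prime_card
    rw [Nat.card_eq_fintype_card, hΩ]
    norm_num
  have hfix : MulAction.fixedPoints K Ω ≠ Set.univ := by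
    intro h
    apply hg1
    apply eq_one_of_fix_all G g
    intro a
    have ha : a ∈ MulAction.fixedPoints K Ω := by
      rw [h]
      exact Set.mem_univ a
    exact ha ⟨g, hgK⟩
  haveI hKt : MulAction.IsPretransitive K Ω :=
    MulAction.IsQuasiPreprimitive.isPretransitive_of_normal hfix
  obtain ⟨a⟩ : Nonempty Ω := by
    apply Fintype.card_pos_iff.1
    rw [hΩ]
    norm_num
  have h11K : 11 ∣ Nat.card K := by
    have h1 := MulAction.index_stabilizer_of_transitive K a
    rw [Nat.card_eq_fintype_card, hΩ] at h1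
    rw [← h1]
    exact Subgroup.index_dvd_card _
  obtain ⟨k, hk⟩ := exists_prime_orderOf_dvd_card' (G := K) 11 h11K
  have hk' : orderOf (k : G) = 11 := by
    rw [Subgroup.orderOf_coe]
    exact hk
  obtain ⟨Q, hQ⟩ := exists_sylow_eq_zpowers G hG (k : G) hk'
  have hn := card_sylow_eq_twelve G hΩ hG
  have hex : ∃ R : Sylow 11 G, R ≠ Q := by
    by_contra hcon
    push Not at hcon
    have : Nat.card (Sylow 11 G) = 1 := by
      rw [Nat.card_eq_one_iff_unique]
      exact ⟨⟨fun A B => (hcon A).trans (hcon B).symm⟩, ⟨Q⟩⟩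
    omega
  obtain ⟨R, hR⟩ := hex
  have hkR : (k : G) • R = R := (hmemK k).1 k.2 R
  rw [Sylow.smul_eq_iff_mem_normalizer] at hkR
  have hle : (Q : Subgroup G) ≤ Subgroup.normalizer ((R : Subgroup G) : Set G) := by
    rw [← hQ, Subgroup.zpowers_le]
    exact hkR
  exact hR (Cfsg.Agent.Lib.Helper4.pslu_sylow_eq_of_le_normalizer Q R hle).symm

/-- a permutation group of order 660 on 11 points is of type `PSL₂(11)` -/
theorem pslHyp_of_perm (hΩ : Fintype.card Ω = 11) (hG : Nat.card G = 660) :
    haveI : Finite G := Nat.finite_of_card_ne_zero (by rw [hG]; norm_num)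
    Cfsg.Agent.Lib.Helper4.PslHyp G 11 5 := by
  haveI : Finite G := Nat.finite_of_card_ne_zero (by rw [hG]; norm_num)
  exact ⟨by norm_num, by norm_num, by rw [hG], card_sylow_eq_twelve G hΩ hG,
    faithful_on_sylow G hΩ hG⟩

end

end Cfsg.Agent.Lib.Helper10.L211
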