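import Cfsg.Agent.Lib.Helper10.L211A
import Cfsg.Agent.Lib.Helper4.PslQ11
import Cfsg.Agent.Lib.Helper2.GLCard
import Cfsg.Agent.S1602

set_option autoImplicit false
set_option linter.style.haveILetI false

namespace Cfsg.Agent.Lib.Helper10.L211

open scoped Pointwise
open Cfsg
open Cfsg.Agent.Lib.Helper28.StabLib
open Cfsg.Agent.S1602 (Kgrp card_K ψ ψ_apply eq_one_of_fix mem_iff_of_smul_eq)
open Cfsg.Agent.Lib.Helper3.Golay (stab_dodecad_point_map)

theorem card_psl11 [Fact (Nat.Prime 11)] :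
    Nat.card (Matrix.ProjectiveSpecialLinearGroup (Fin 2) (ZMod 11)) = 660 := by
  have hF : Fintype.card (ZMod 11) = 11 := ZMod.card 11
  have hcard := Cfsg.Agent.Lib.Helper2.card_PSL_field (F := ZMod 11) 2 (by norm_num)
  rw [hF, Fin.prod_univ_two] at hcard
  norm_num at hcard
  rw [Nat.card_eq_fintype_card]
  omega

theorem aux_hn : (2 : ZMod 11) ^ 5 ≠ 1 := by decide

theorem aux_hninv : (2 : ZMod 11) * 6 = 1 := by decide

theorem aux_hdiv : ∀ d ∈ Nat.divisors ((11 + 1) * 5), d % 11 = 1 → d = 1 ∨ d = 11 + 1 := by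
  decide

/-- a group of type `PSL₂(11)` is isomorphic to `PSL₂(11)` -/
theorem iso_psl_of_pslHyp {G : Type*} [Group G] [Finite G] [Fact (Nat.Prime 11)]
    (hyp : Cfsg.Agent.Lib.Helper4.PslHyp G 11 5) :
    Nonempty (G ≃* Matrix.ProjectiveSpecialLinearGroup (Fin 2) (ZMod 11)) := by
  have hF : Fintype.card (ZMod 11) = 11 := ZMod.card 11
  haveI hsimple : IsSimpleGroup (Matrix.ProjectiveSpecialLinearGroup (Fin 2) (ZMod 11)) :=
    Matrix.ProjectiveSpecialLinearGroup.rank_two_simple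
      (by rw [Nat.card_eq_fintype_card, hF]; norm_num)
  have hyp' : Cfsg.Agent.Lib.Helper4.PslHyp
      (Matrix.ProjectiveSpecialLinearGroup (Fin 2) (ZMod 11)) 11 5 :=
    Cfsg.Agent.Lib.Helper4.pslHyp_of_simple (by norm_num) (by norm_num)
      (by rw [card_psl11]) aux_hdiv
  exact Cfsg.Agent.Lib.Helper4.pslu_mulEquiv hyp hyp' Cfsg.Agent.Lib.Helper4.plu_k11
    Cfsg.Agent.Lib.Helper4.plu_k11_order 2 6 aux_hn aux_hninv Cfsg.Agent.Lib.Helper4.plu_dec11

/-- the group of the statement -/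
abbrev Lgrp (d : Finset GolayPt) (p q : GolayPt) : Subgroup ↥M24 :=
  MulAction.stabilizer M24 d ⊓ MulAction.stabilizer M24 p ⊓ MulAction.stabilizer M24 q

theorem orbit_q {d : Finset GolayPt} (hd : d ∈ dodecads) {p q : GolayPt} (hp : p ∈ d)
    (hq : q ∉ d) :
    MulAction.orbit ↥(Kgrp d p) q = ↑(Finset.univ \ d : Finset GolayPt) := by
  ext s
  rw [mem_orbit_subgroup_iff, Finset.mem_coe, Finset.mem_sdiff]
  constructor
  · rintro ⟨g, hg, rfl⟩
    obtain ⟨h1, -⟩ := hg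
    have h1' : (g : Equiv.Perm GolayPt) • d = d := h1
    refine ⟨Finset.mem_univ _, ?_⟩
    show (g : Equiv.Perm GolayPt) q ∉ d
    rw [mem_iff_of_smul_eq h1']
    exact hq
  · rintro ⟨-, hs⟩
    obtain ⟨g, hg, hmap⟩ := stab_dodecad_point_map hd hp
      (fun _ => q) (fun _ => s) 1
      (by norm_num)
      (by intro i hi; exact hq)
      (by intro i hi; exact hs)
      (by intro i hi j hj _; omega)
      (by intro i hi j hj _; omega)
    refine ⟨⟨g, hg.1.1⟩, ⟨hg.1.2, hg.2⟩, ?_⟩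
    exact hmap 0 (by norm_num)

theorem card_L {d : Finset GolayPt} (hd : d ∈ dodecads) {p q : GolayPt} (hp : p ∈ d)
    (hq : q ∉ d) : Nat.card ↥(Lgrp d p q) = 660 := by
  have h := card_orbit_mul_card_inf (Kgrp d p) q
  rw [orbit_q hd hp hq, card_K hd hp, Nat.card_coe_set_eq, Set.ncard_coe_finset,
    Finset.card_univ_sdiff, hd.2] at h
  have e : Fintype.card GolayPt = 24 := by decide +kernel
  rw [e] at h
  have : Nat.card ↥(Kgrp d p ⊓ MulAction.stabilizer ↥M24 q) = Nat.card ↥(Lgrp d p q) := rfl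
  rw [this] at h
  omega

theorem L_inv {d : Finset GolayPt} {p q : GolayPt} :
    ∀ g ∈ Lgrp d p q, ∀ x, (g : Equiv.Perm GolayPt) x ∈ d.erase p ↔ x ∈ d.erase p := by
  intro g hg x
  obtain ⟨⟨h1, h2⟩, -⟩ := hg
  have h1' : (g : Equiv.Perm GolayPt) • d = d := h1
  have h2' : (g : Equiv.Perm GolayPt) p = p := h2
  simp only [Finset.mem_erase]
  rw [mem_iff_of_smul_eq h1' x]
  have : (g : Equiv.Perm GolayPt) x = p ↔ x = p := by
    conv_lhs => rw [← h2']
    exact (g : Equiv.Perm GolayPt).injective.eq_iff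
  rw [Ne, Ne, this]

theorem psi_injective {d : Finset GolayPt} (hd : d ∈ dodecads) {p q : GolayPt} (hp : p ∈ d) :
    Function.Injective (ψ (Lgrp d p q) (d.erase p) L_inv) := by
  have hc : (d.erase p).card = 11 := by
    rw [Finset.card_erase_of_mem hp, hd.2]
  obtain ⟨Ω5, hsub5, h5⟩ := Finset.exists_subset_card_eq (s := d.erase p) (n := 5) (by omega)
  rw [injective_iff_map_eq_one]
  intro g hg
  have h1 : (g.1.1 : Equiv.Perm GolayPt) = 1 := by
    apply eq_one_of_fix hd h5 (fun x hx => Finset.mem_of_mem_erase (hsub5 hx))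
    · obtain ⟨⟨k1, -⟩, -⟩ := g.2
      exact ⟨g.1.2, k1⟩
    · intro x hx
      have := congrArg (fun e : Equiv.Perm ↥(d.erase p) =>
        ((e ⟨x, hsub5 hx⟩ : ↥(d.erase p)) : GolayPt)) hg
      simpa [ψ_apply] using this
  exact Subtype.ext (Subtype.ext h1)

/-- S1601 -/
theorem m11_point_stabilizer_psl2_11 (d : Finset GolayPt) (hd : d ∈ dodecads) (p q : GolayPt)
    (hp : p ∈ d) (hq : q ∉ d) :
    Nonempty (↥(MulAction.stabilizer M24 d ⊓ MulAction.stabilizer M24 p ⊓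
      MulAction.stabilizer M24 q) ≃* Matrix.ProjectiveSpecialLinearGroup (Fin 2) (ZMod 11)) := by
  haveI : Fact (Nat.Prime 11) := ⟨by norm_num⟩
  have hinj := psi_injective (q := q) hd hp
  set f := ψ (Lgrp d p q) (d.erase p) L_inv with hf
  have e1 : ↥(Lgrp d p q) ≃* ↥f.range := MonoidHom.ofInjective hinj
  have hΩ : Fintype.card ↥(d.erase p) = 11 := by
    rw [Fintype.card_coe, Finset.card_erase_of_mem hp, hd.2]
  have hG : Nat.card ↥f.range = 660 := by
    rw [← Nat.card_congr e1.toEquiv, card_L hd hp hq]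
  haveI : Finite ↥f.range := Nat.finite_of_card_ne_zero (by rw [hG]; norm_num)
  obtain ⟨e2⟩ := iso_psl_of_pslHyp (pslHyp_of_perm f.range hΩ hG)
  exact ⟨e1.trans e2⟩

end Cfsg.Agent.Lib.Helper10.L211
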