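import Mathlib

set_option autoImplicit false

namespace Cfsg.Agent.Lib.Helper10.L211

open MulAction

/-- a 2-transitive action induces a 2-transitive action on the cosets of a point stabilizer -/
theorem two_pretransitive_quotient {G X : Type*} [Group G] [MulAction G X]
    (h2 : ∀ a b c d : X, a ≠ b → c ≠ d → ∃ g : G, g • a = c ∧ g • b = d) (a₀ : X) :
    MulAction.IsMultiplyPretransitive G (G ⧸ MulAction.stabilizer G a₀) 2 := by
  rw [MulAction.is_two_pretransitive_iff]
  intro A B C D hAB hCD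
  obtain ⟨x, rfl⟩ := QuotientGroup.mk_surjective A
  obtain ⟨y, rfl⟩ := QuotientGroup.mk_surjective B
  obtain ⟨z, rfl⟩ := QuotientGroup.mk_surjective C
  obtain ⟨w, rfl⟩ := QuotientGroup.mk_surjective D
  have key : ∀ u v : G, u • a₀ = v • a₀ →
      (QuotientGroup.mk u : G ⧸ MulAction.stabilizer G a₀) = QuotientGroup.mk v := by
    intro u v h
    rw [QuotientGroup.eq, MulAction.mem_stabilizer_iff, mul_smul, ← h, inv_smul_smul]
  have hxy : x • a₀ ≠ y • a₀ := fun h => hAB (key x y h)
  have hzw : z • a₀ ≠ w • a₀ := fun h => hCD (key z w h)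
  obtain ⟨g, hg1, hg2⟩ := h2 _ _ _ _ hxy hzw
  refine ⟨g, ?_, ?_⟩
  · rw [MulAction.Quotient.smul_mk]
    apply key
    rw [smul_eq_mul, mul_smul, hg1]
  · rw [MulAction.Quotient.smul_mk]
    apply key
    rw [smul_eq_mul, mul_smul, hg2]

/-- transport of a subgroup with 2-transitive coset action along an isomorphism -/
theorem transport_two_pretransitive {G T A : Type*} [Group G] [Group T] [Group A] (φ : G ≃* T)
    (H : Subgroup G) (n : ℕ) (h1 : H.index = n) (h2 : Nonempty (H ≃* A))
    (h3 : MulAction.IsMultiplyPretransitive G (G ⧸ H) 2) :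
    ∃ H' : Subgroup T, H'.index = n ∧ Nonempty (H' ≃* A) ∧
      MulAction.IsMultiplyPretransitive T (T ⧸ H') 2 := by
  refine ⟨H.map (φ : G →* T), ?_, ?_, ?_⟩
  · rw [Subgroup.index_map_equiv, h1]
  · obtain ⟨e⟩ := h2
    exact ⟨(φ.subgroupMap H).symm.trans e⟩
  · rw [MulAction.is_two_pretransitive_iff] at h3 ⊢
    intro A B C D hAB hCD
    obtain ⟨x, rfl⟩ := QuotientGroup.mk_surjective A
    obtain ⟨y, rfl⟩ := QuotientGroup.mk_surjective B
    obtain ⟨z, rfl⟩ := QuotientGroup.mk_surjective C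
    obtain ⟨w, rfl⟩ := QuotientGroup.mk_surjective D
    have key : ∀ u v : T, (QuotientGroup.mk (φ.symm u) : G ⧸ H) = QuotientGroup.mk (φ.symm v) ↔
        (QuotientGroup.mk u : T ⧸ H.map (φ : G →* T)) = QuotientGroup.mk v := by
      intro u v
      rw [QuotientGroup.eq, QuotientGroup.eq, Subgroup.mem_map]
      constructor
      · intro h
        refine ⟨_, h, ?_⟩
        simp
      · rintro ⟨k, hk, hk'⟩
        have : (φ.symm u)⁻¹ * φ.symm v = k := by
          rw [← map_inv, ← map_mul, ← hk']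
          simp
        rw [this]
        exact hk
    have hxy : (QuotientGroup.mk (φ.symm x) : G ⧸ H) ≠ QuotientGroup.mk (φ.symm y) :=
      fun h => hAB ((key x y).1 h)
    have hzw : (QuotientGroup.mk (φ.symm z) : G ⧸ H) ≠ QuotientGroup.mk (φ.symm w) :=
      fun h => hCD ((key z w).1 h)
    obtain ⟨g, hg1, hg2⟩ := h3 hxy hzw
    rw [MulAction.Quotient.smul_mk] at hg1 hg2
    refine ⟨φ g, ?_, ?_⟩
    · rw [MulAction.Quotient.smul_mk]
      apply (key _ _).1
      rw [← hg1]
      simp
    · rw [MulAction.Quotient.smul_mk]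
      apply (key _ _).1
      rw [← hg2]
      simp

end Cfsg.Agent.Lib.Helper10.L211
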