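import Cfsg.Agent.Lib.Helper10.L211B
import Cfsg.Agent.Lib.Helper10.L211C
import Cfsg.Agent.S1600
import Cfsg.Agent.S1566
import Cfsg.Agent.S0498

set_option autoImplicit false
set_option linter.style.haveILetI false

namespace Cfsg.Agent.Lib.Helper10.L211

open scoped Pointwise
open Cfsg
open Cfsg.Agent.Lib.Helper28.StabLib
open Cfsg.Agent.S1602 (Kgrp card_K ψ ψ_apply eq_one_of_fix mem_iff_of_smul_eq Hgrp card_H)
open Cfsg.Agent.Lib.Helper3.Golay (stab_dodecad_map)

section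

variable {d : Finset GolayPt} (hd : d ∈ dodecads) {p q : GolayPt} (hp : p ∈ d) (hq : q ∉ d)

include hd hp hq in
/-- `L` is 2-transitive on `d ∖ {p}` -/
theorem L_two_trans {a b c e : GolayPt} (ha : a ∈ d.erase p) (hb : b ∈ d.erase p)
    (hc : c ∈ d.erase p) (he : e ∈ d.erase p) (hab : a ≠ b) (hce : c ≠ e) :
    ∃ g ∈ Lgrp d p q, (g : Equiv.Perm GolayPt) a = c ∧ (g : Equiv.Perm GolayPt) b = e := by
  rw [Finset.mem_erase] at ha hb hc he
  obtain ⟨h, hh, hmap⟩ := stab_dodecad_map hd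
    (fun i => if i = 0 then p else if i = 1 then a else b)
    (fun i => if i = 0 then p else if i = 1 then c else e) 3 (by norm_num)
    (by intro i hi; interval_cases i <;> simp [hp, ha.2, hb.2])
    (by intro i hi; interval_cases i <;> simp [hp, hc.2, he.2])
    (by intro i hi j hj; interval_cases i <;> interval_cases j <;>
      simp [ha.1, hb.1, hab, ha.1.symm, hb.1.symm, hab.symm])
    (by intro i hi j hj; interval_cases i <;> interval_cases j <;>
      simp [hc.1, he.1, hce, hc.1.symm, he.1.symm, hce.symm])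
  have hhp : h p = p := by simpa using hmap 0 (by norm_num)
  have hha : h a = c := by simpa using hmap 1 (by norm_num)
  have hhb : h b = e := by simpa using hmap 2 (by norm_num)
  have hhd : h • d = d := hh.2
  have hhq : h q ∉ d := by
    rw [mem_iff_of_smul_eq hhd]
    exact hq
  obtain ⟨-, htr⟩ := Cfsg.Agent.S1600.result d hd p c e hp hc.2 he.2 hc.1.symm he.1.symm hce
  obtain ⟨k, hk, hkq⟩ := htr (h q) hhq q hq
  obtain ⟨⟨⟨hk1, hk2⟩, hk3⟩, hk4⟩ := hk
  have hk1' : (k : Equiv.Perm GolayPt) • d = d := hk1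
  have hk2' : (k : Equiv.Perm GolayPt) p = p := hk2
  have hk3' : (k : Equiv.Perm GolayPt) c = c := hk3
  have hk4' : (k : Equiv.Perm GolayPt) e = e := hk4
  refine ⟨k * ⟨h, hh.1⟩, ⟨⟨?_, ?_⟩, ?_⟩, ?_, ?_⟩
  · show ((k : Equiv.Perm GolayPt) * h) • d = d
    rw [mul_smul, hhd, hk1']
  · show ((k : Equiv.Perm GolayPt) * h) p = p
    rw [Equiv.Perm.mul_apply, hhp, hk2']
  · show ((k : Equiv.Perm GolayPt) * h) q = q
    rw [Equiv.Perm.mul_apply, hkq]
  · show ((k : Equiv.Perm GolayPt) * h) a = c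
    rw [Equiv.Perm.mul_apply, hha, hk3']
  · show ((k : Equiv.Perm GolayPt) * h) b = e
    rw [Equiv.Perm.mul_apply, hhb, hk4']

include hd hp in
theorem exists_other {a : GolayPt} (ha : a ∈ d.erase p) : ∃ b ∈ d.erase p, a ≠ b := by
  have hc : (d.erase p).card = 11 := by
    rw [Finset.card_erase_of_mem hp, hd.2]
  have h1 : 1 < (d.erase p).card := by omega
  obtain ⟨b, hb, hne⟩ := Finset.exists_mem_ne h1 a
  exact ⟨b, hb, hne.symm⟩

include hd hp hq in
theorem L_trans {a c : GolayPt} (ha : a ∈ d.erase p) (hc : c ∈ d.erase p) :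
    ∃ g ∈ Lgrp d p q, (g : Equiv.Perm GolayPt) a = c := by
  obtain ⟨b, hb, hab⟩ := exists_other hd hp ha
  obtain ⟨e, he, hce⟩ := exists_other hd hp hc
  obtain ⟨g, hg, h1, -⟩ := L_two_trans hd hp hq ha hb hc he hab hce
  exact ⟨g, hg, h1⟩

include hd hp hq in
theorem orbit_a {a : GolayPt} (ha : a ∈ d.erase p) :
    MulAction.orbit ↥(Lgrp d p q) a = ↑(d.erase p) := by
  ext s
  rw [mem_orbit_subgroup_iff, Finset.mem_coe]
  constructor
  · rintro ⟨g, hg, rfl⟩
    exact (L_inv g hg a).2 ha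
  · intro hs
    obtain ⟨g, hg, h1⟩ := L_trans hd hp hq ha hs
    exact ⟨g, hg, h1⟩

include hd hp hq in
theorem card_La {a : GolayPt} (ha : a ∈ d.erase p) :
    Nat.card ↥(Lgrp d p q ⊓ MulAction.stabilizer M24 a) = 60 := by
  have h := card_orbit_mul_card_inf (Lgrp d p q) a
  rw [orbit_a hd hp hq ha, card_L hd hp hq, Nat.card_coe_set_eq, Set.ncard_coe_finset,
    Finset.card_erase_of_mem hp, hd.2] at h
  omega

include hd hp hq in
/-- the point stabilizer is an alternating group of degree 5 -/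
theorem La_iso {a : GolayPt} (ha : a ∈ d.erase p) :
    Nonempty (↥(Lgrp d p q ⊓ MulAction.stabilizer M24 a) ≃* alternatingGroup (Fin 5)) := by
  have ha' := Finset.mem_erase.1 ha
  have hD : dᶜ ∈ dodecads := Cfsg.Agent.S1566.compl_mem_dodecads hd
  have hqD : q ∈ dᶜ := Finset.mem_compl.2 hq
  have hpD : p ∉ dᶜ := fun h => (Finset.mem_compl.1 h) hp
  have haD : a ∉ dᶜ := fun h => (Finset.mem_compl.1 h) ha'.2
  obtain ⟨e⟩ := Cfsg.Agent.S1602.result dᶜ hD q p a hqD hpD haD ha'.1.symm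
  have hW : Nat.card ↥(Hgrp dᶜ q p a) = 120 := card_H hD hqD hpD haD ha'.1.symm
  have hle : Lgrp d p q ⊓ MulAction.stabilizer M24 a ≤ Hgrp dᶜ q p a := by
    intro g hg
    obtain ⟨⟨⟨h1, h2⟩, h3⟩, h4⟩ := hg
    have h1' : (g : Equiv.Perm GolayPt) • d = d := h1
    have h2' : (g : Equiv.Perm GolayPt) p = p := h2
    have h4' : (g : Equiv.Perm GolayPt) a = a := h4
    refine ⟨⟨?_, h3⟩, ?_⟩
    · show (g : Equiv.Perm GolayPt) • dᶜ = dᶜ
      rw [Cfsg.Agent.S1566.smul_compl, h1']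
    · show (g : Equiv.Perm GolayPt) • ({p, a} : Finset GolayPt) = {p, a}
      rw [Finset.smul_finset_insert, Finset.smul_finset_singleton, Equiv.Perm.smul_def,
        Equiv.Perm.smul_def, h2', h4']
  set S := (Lgrp d p q ⊓ MulAction.stabilizer M24 a).subgroupOf (Hgrp dᶜ q p a) with hS
  have e1 : ↥S ≃* ↥(Lgrp d p q ⊓ MulAction.stabilizer M24 a) := Subgroup.subgroupOfEquivOfLe hle
  have hScard : Nat.card ↥S = 60 := by
    rw [Nat.card_congr e1.toEquiv, card_La hd hp hq ha]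
  have hSidx : S.index = 2 := by
    have := S.card_mul_index
    rw [hScard, hW] at this
    omega
  have hN : S.map (e : ↥(Hgrp dᶜ q p a) →* Equiv.Perm (Fin 5)) = alternatingGroup (Fin 5) := by
    apply Equiv.Perm.eq_alternatingGroup_of_index_eq_two
    rw [Subgroup.index_map_equiv, hSidx]
  exact ⟨e1.symm.trans ((e.subgroupMap S).trans (MulEquiv.subgroupCongr hN))⟩

end

end Cfsg.Agent.Lib.Helper10.L211
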