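import Cfsg.Agent.Lib.Helper10.L211D

set_option autoImplicit false
set_option linter.style.haveILetI false

namespace Cfsg.Agent.Lib.Helper10.L211

open scoped Pointwise
open Cfsg
open Cfsg.Agent.S1602 (ψ ψ_apply Q5_not_mem)
open Cfsg.Agent.Lib.Helper28.GolayCode (dec)
open Cfsg.Agent.Lib.Helper3.Golay (d0 p0 bitSet d0_mem p0_mem)

/-- S2542 -/
theorem psl2_11_alt5 {F : Type*} [Field F] [Fintype F] (hF : Fintype.card F = 11) :
    ∃ H : Subgroup (Matrix.ProjectiveSpecialLinearGroup (Fin 2) F), H.index = 11 ∧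
      Nonempty (H ≃* alternatingGroup (Fin 5)) ∧
      MulAction.IsMultiplyPretransitive (Matrix.ProjectiveSpecialLinearGroup (Fin 2) F)
        ((Matrix.ProjectiveSpecialLinearGroup (Fin 2) F) ⧸ H) 2 := by
  haveI : Fact (Nat.Prime 11) := ⟨by norm_num⟩
  have hd : bitSet d0 ∈ dodecads := d0_mem
  have hp : p0 ∈ bitSet d0 := p0_mem
  have hq : dec 5 ∉ bitSet d0 := Q5_not_mem
  have hc : ((bitSet d0).erase p0).card = 11 := by
    rw [Finset.card_erase_of_mem hp, hd.2]
  obtain ⟨a, ha⟩ : ((bitSet d0).erase p0).Nonempty := by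
    rw [← Finset.card_pos, hc]
    norm_num
  -- the group
  set G0 := Lgrp (bitSet d0) p0 (dec 5) with hG0
  have hcard : Nat.card ↥G0 = 660 := card_L hd hp hq
  haveI : Finite ↥G0 := Nat.finite_of_card_ne_zero (by rw [hcard]; norm_num)
  obtain ⟨iso0⟩ := m11_point_stabilizer_psl2_11 (bitSet d0) hd p0 (dec 5) hp hq
  haveI hsimple : IsSimpleGroup (Matrix.ProjectiveSpecialLinearGroup (Fin 2) (ZMod 11)) :=
    Matrix.ProjectiveSpecialLinearGroup.rank_two_simple
      (by rw [Nat.card_eq_fintype_card, ZMod.card]; norm_num)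
  haveI : Nontrivial ↥G0 := by
    apply (Finite.one_lt_card_iff_nontrivial).1
    rw [hcard]
    norm_num
  haveI : IsSimpleGroup ↥G0 := iso0.isSimpleGroup
  obtain ⟨φ⟩ := Cfsg.Agent.S0498.result (G := ↥G0) 11 (Or.inl rfl) (by rw [hcard]; norm_num) hF
  -- the action on the eleven points
  set f := ψ G0 ((bitSet d0).erase p0) L_inv with hf
  letI : MulAction ↥G0 ↥((bitSet d0).erase p0) := MulAction.compHom _ f
  have hsmul : ∀ (g : ↥G0) (x : ↥((bitSet d0).erase p0)),
      ((g • x : ↥((bitSet d0).erase p0)) : GolayPt) = (g.1 : Equiv.Perm GolayPt) x.1 := by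
    intro g x
    rfl
  have h2 : ∀ a b c e : ↥((bitSet d0).erase p0), a ≠ b → c ≠ e →
      ∃ g : ↥G0, g • a = c ∧ g • b = e := by
    intro a b c e hab hce
    obtain ⟨g, hg, h1, h2⟩ := L_two_trans hd hp hq a.2 b.2 c.2 e.2
      (fun h => hab (Subtype.ext h)) (fun h => hce (Subtype.ext h))
    refine ⟨⟨g, hg⟩, Subtype.ext ?_, Subtype.ext ?_⟩
    · rw [hsmul]
      exact h1
    · rw [hsmul]
      exact h2
  set a₀ : ↥((bitSet d0).erase p0) := ⟨a, ha⟩ with ha₀
  have h3 := two_pretransitive_quotient h2 a₀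
  -- the point stabilizer
  have hH0 : MulAction.stabilizer ↥G0 a₀ = (MulAction.stabilizer M24 a).subgroupOf G0 := by
    ext g
    rw [MulAction.mem_stabilizer_iff, Subgroup.mem_subgroupOf, MulAction.mem_stabilizer_iff]
    constructor
    · intro h
      have := congrArg Subtype.val h
      rw [hsmul] at this
      exact this
    · intro h
      apply Subtype.ext
      rw [hsmul]
      exact h
  have e1 : ↥(MulAction.stabilizer ↥G0 a₀) ≃* ↥(G0 ⊓ MulAction.stabilizer M24 a) := by
    rw [hH0, ← Subgroup.inf_subgroupOf_left]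
    exact Subgroup.subgroupOfEquivOfLe inf_le_left
  obtain ⟨e2⟩ := La_iso hd hp hq ha
  have hH0card : Nat.card ↥(MulAction.stabilizer ↥G0 a₀) = 60 := by
    rw [Nat.card_congr e1.toEquiv]
    exact card_La hd hp hq ha
  have hidx : (MulAction.stabilizer ↥G0 a₀).index = 11 := by
    have := (MulAction.stabilizer ↥G0 a₀).card_mul_index
    rw [hH0card, hcard] at this
    omega
  exact transport_two_pretransitive φ (MulAction.stabilizer ↥G0 a₀) 11 hidx ⟨e1.trans e2⟩ h3

end Cfsg.Agent.Lib.Helper10.L211
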