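import Mathlib
import Cfsg.Prelude.Def_Sporadic_a
import Cfsg.Agent.Lib.Helper28.GolayCode

set_option autoImplicit false

/-! The field with four elements as a concrete decidable type, and the action of `SL(3, K4)`
on normalised vectors. -/

namespace Cfsg.Agent.Lib.Helper10.M21

/-- the field with four elements `0, 1, ω, ω²` -/
inductive K4 : Type
  | o | e | w | v
  deriving DecidableEq

namespace K4

instance : Fintype K4 := ⟨{o, e, w, v}, by intro x; cases x <;> decide⟩

/-- addition -/
def add : K4 → K4 → K4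
  | o, x => x
  | x, o => x
  | e, e => o
  | e, w => v
  | e, v => w
  | w, e => v
  | w, w => o
  | w, v => e
  | v, e => w
  | v, w => e
  | v, v => o

/-- multiplication -/
def mul : K4 → K4 → K4
  | o, _ => o
  | _, o => o
  | e, x => x
  | x, e => x
  | w, w => v
  | w, v => e
  | v, w => e
  | v, v => w

/-- inverse -/
def inv : K4 → K4
  | o => o
  | e => e
  | w => v
  | v => w

instance : Zero K4 := ⟨o⟩
instance : One K4 := ⟨e⟩
instance : Add K4 := ⟨add⟩
instance : Mul K4 := ⟨mul⟩
instance : Neg K4 := ⟨id⟩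
instance : Inv K4 := ⟨inv⟩

instance : Field K4 where
  add_assoc := by decide
  zero_add := by decide
  add_zero := by decide
  nsmul := nsmulRec
  zsmul := zsmulRec
  neg_add_cancel := by decide
  add_comm := by decide
  left_distrib := by decide
  right_distrib := by decide
  zero_mul := by decide
  mul_zero := by decide
  mul_assoc := by decide
  one_mul := by decide
  mul_one := by decide
  mul_comm := by decide
  exists_pair_ne := ⟨o, e, by decide⟩
  mul_inv_cancel := by decide
  inv_zero := rfl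
  nnqsmul := _
  nnqsmul_def := fun _ _ => rfl
  qsmul := _
  qsmul_def := fun _ _ => rfl

theorem card : Fintype.card K4 = 4 := rfl

end K4

open K4 Matrix Cfsg Cfsg.Agent.Lib.Helper28.GolayCode

/-- vectors of length three -/
abbrev V : Type := Fin 3 → K4

/-- the first non-zero coordinate -/
def lead (x : V) : K4 := if x 0 ≠ 0 then x 0 else if x 1 ≠ 0 then x 1 else x 2

/-- scale to make the first non-zero coordinate one -/
def nrm (x : V) : V := fun i => (lead x)⁻¹ * x i

theorem lead_ne_zero {x : V} (h : x ≠ 0) : lead x ≠ 0 := by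
  unfold lead
  split_ifs with h0 h1
  · exact h0
  · exact h1
  · intro h2
    apply h
    funext i
    fin_cases i
    · simpa using h0
    · simpa using h1
    · exact h2

theorem lead_smul {c : K4} (hc : c ≠ 0) (x : V) : lead (c • x) = c * lead x := by
  unfold lead
  simp only [Pi.smul_apply, smul_eq_mul, ne_eq, mul_eq_zero, hc, false_or]
  split_ifs <;> rfl

theorem nrm_eq_smul (x : V) : nrm x = (lead x)⁻¹ • x := rfl

theorem nrm_smul {c : K4} (hc : c ≠ 0) (x : V) : nrm (c • x) = nrm x := by
  funext i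
  unfold nrm
  rw [lead_smul hc]
  by_cases hx : lead x = 0
  · simp [hx]
  · simp only [Pi.smul_apply, smul_eq_mul]
    field_simp

theorem nrm_ne_zero {x : V} (h : x ≠ 0) : nrm x ≠ 0 := by
  rw [nrm_eq_smul]
  exact smul_ne_zero (inv_ne_zero (lead_ne_zero h)) h

/-- labels of the 24 points (numbered as in `enc`): the three base points get the zero vector -/
def labN : ℕ → V
  | 2 => ![o, o, e]
  | 3 => ![o, e, o]
  | 4 => ![e, o, o]
  | 5 => ![o, e, e]
  | 6 => ![e, e, w]
  | 7 => ![e, e, e]
  | 8 => ![e, w, w]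
  | 9 => ![e, v, e]
  | 10 => ![e, v, w]
  | 11 => ![e, w, o]
  | 12 => ![e, w, v]
  | 13 => ![e, o, w]
  | 14 => ![o, e, v]
  | 15 => ![e, v, v]
  | 16 => ![e, o, e]
  | 17 => ![o, e, w]
  | 18 => ![e, w, e]
  | 19 => ![e, e, o]
  | 20 => ![e, v, o]
  | 21 => ![e, e, v]
  | 22 => ![e, o, v]
  | _ => 0

/-- the number of the point with a given normalised label -/
def unlabT : K4 → K4 → K4 → ℕ
  | o, o, e => 2
  | o, e, o => 3
  | e, o, o => 4
  | o, e, e => 5
  | e, e, w => 6
  | e, e, e => 7
  | e, w, w => 8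
  | e, v, e => 9
  | e, v, w => 10
  | e, w, o => 11
  | e, w, v => 12
  | e, o, w => 13
  | o, e, v => 14
  | e, v, v => 15
  | e, o, e => 16
  | o, e, w => 17
  | e, w, e => 18
  | e, e, o => 19
  | e, v, o => 20
  | e, e, v => 21
  | e, o, v => 22
  | _, _, _ => 23

/-- the number of the point with a given normalised label -/
def unlabN (x : V) : ℕ := unlabT (x 0) (x 1) (x 2)

theorem lab_facts : ∀ i < 24, labN i ≠ 0 → nrm (labN i) = labN i ∧ unlabN (labN i) = i := by
  decide

theorem unlab_facts_aux : ∀ a b c : K4, (![a, b, c] : V) ≠ 0 →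
    labN (unlabN (nrm ![a, b, c])) = nrm ![a, b, c] ∧ unlabN (nrm ![a, b, c]) < 24 := by
  decide

theorem unlab_facts {x : V} (hx : x ≠ 0) :
    labN (unlabN (nrm x)) = nrm x ∧ unlabN (nrm x) < 24 := by
  have e : x = ![x 0, x 1, x 2] := by
    funext i; fin_cases i <;> rfl
  rw [e] at hx ⊢
  exact unlab_facts_aux _ _ _ hx

/-- the action of a matrix on the 24 points -/
def actF (A : Matrix (Fin 3) (Fin 3) K4) (x : GolayPt) : GolayPt :=
  if labN (enc x) = 0 then x else dec (unlabN (nrm (A.mulVec (labN (enc x)))))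

theorem actF_of_eq {A : Matrix (Fin 3) (Fin 3) K4} {x : GolayPt} (h : labN (enc x) = 0) :
    actF A x = x := if_pos h

theorem actF_of_ne {A : Matrix (Fin 3) (Fin 3) K4} {x : GolayPt} (h : labN (enc x) ≠ 0) :
    actF A x = dec (unlabN (nrm (A.mulVec (labN (enc x))))) := if_neg h

theorem actF_one (x : GolayPt) : actF 1 x = x := by
  by_cases h : labN (enc x) = 0
  · exact actF_of_eq h
  · rw [actF_of_ne h, Matrix.one_mulVec]
    obtain ⟨h1, h2⟩ := lab_facts (enc x) (enc_lt x) h
    rw [h1, h2, dec_enc]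

theorem mulVec_ne_zero (B : Matrix.SpecialLinearGroup (Fin 3) K4) {u : V} (hu : u ≠ 0) :
    (B : Matrix (Fin 3) (Fin 3) K4).mulVec u ≠ 0 := by
  intro h
  apply hu
  have : ((B⁻¹ : Matrix.SpecialLinearGroup (Fin 3) K4) : Matrix (Fin 3) (Fin 3) K4).mulVec
      ((B : Matrix (Fin 3) (Fin 3) K4).mulVec u) = u := by
    rw [Matrix.mulVec_mulVec, ← Matrix.SpecialLinearGroup.coe_mul, inv_mul_cancel,
      Matrix.SpecialLinearGroup.coe_one, Matrix.one_mulVec]
  rw [← this, h, Matrix.mulVec_zero]

theorem actF_mul (A B : Matrix.SpecialLinearGroup (Fin 3) K4) (x : GolayPt) :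
    actF (↑(A * B)) x = actF ↑A (actF ↑B x) := by
  by_cases hx : labN (enc x) = 0
  · rw [actF_of_eq hx, actF_of_eq hx, actF_of_eq hx]
  · have hw := mulVec_ne_zero B hx
    obtain ⟨h1, h2⟩ := unlab_facts hw
    rw [actF_of_ne (A := (↑B : Matrix (Fin 3) (Fin 3) K4)) hx]
    have hx' : labN (enc (dec (unlabN (nrm ((B : Matrix (Fin 3) (Fin 3) K4).mulVec
        (labN (enc x))))))) ≠ 0 := by
      rw [enc_dec _ h2, h1]
      exact nrm_ne_zero hw
    rw [actF_of_ne hx, actF_of_ne hx', enc_dec _ h2, h1]
    congr 2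
    rw [nrm_eq_smul ((B : Matrix (Fin 3) (Fin 3) K4).mulVec (labN (enc x))), Matrix.mulVec_smul,
      nrm_smul (inv_ne_zero (lead_ne_zero hw)), Matrix.SpecialLinearGroup.coe_mul, Matrix.mulVec_mulVec]

/-- the action as a homomorphism to permutations of the 24 points -/
noncomputable def Phi : Matrix.SpecialLinearGroup (Fin 3) K4 →* Equiv.Perm GolayPt where
  toFun A :=
    { toFun := actF ↑A
      invFun := actF ↑A⁻¹
      left_inv := fun x => by
        rw [← actF_mul, inv_mul_cancel, Matrix.SpecialLinearGroup.coe_one, actF_one]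
      right_inv := fun x => by
        rw [← actF_mul, mul_inv_cancel, Matrix.SpecialLinearGroup.coe_one, actF_one] }
  map_one' := Equiv.ext fun x => by
    show actF ↑(1 : Matrix.SpecialLinearGroup (Fin 3) K4) x = x
    rw [Matrix.SpecialLinearGroup.coe_one, actF_one]
  map_mul' A B := Equiv.ext fun x => by
    show actF ↑(A * B) x = actF ↑A (actF ↑B x)
    exact actF_mul A B x

theorem Phi_apply (A : Matrix.SpecialLinearGroup (Fin 3) K4) (x : GolayPt) :
    Phi A x = actF ↑A x := rfl

end Cfsg.Agent.Lib.Helper10.M21
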