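import Mathlib
import Cfsg.Prelude.Def_Sporadic_a
import Cfsg.Agent.Lib.Helper28.GolayCode
import Cfsg.Agent.Lib.Helper28.M24Basic
import Cfsg.Agent.Lib.Helper2.SLGen
import Cfsg.Agent.Lib.Helper10.M21A

set_option autoImplicit false

/-! The image of `SL(3, K4)` on the 24 points lies in `M24` (checked on transvections). -/

namespace Cfsg.Agent.Lib.Helper10.M21

open K4 Matrix Cfsg Cfsg.Agent.Lib.Helper28.GolayCode

/-- closed form of the action of a transvection on a vector -/
def tv (i j : Fin 3) (c : K4) (u : V) : V := fun k => if k = i then u k + c * u j else u k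

theorem transvection_mulVec (i j : Fin 3) (c : K4) (u : V) :
    (Matrix.transvection i j c).mulVec u = tv i j c u := by
  funext k
  rw [Matrix.transvection, Matrix.add_mulVec, Matrix.one_mulVec, Matrix.single_mulVec]
  unfold tv
  by_cases h : k = i
  · subst h
    simp
  · simp [h]

/-- packed permutations of the elementary transvections -/
def Ptab : Fin 3 → Fin 3 → K4 → ℕ
  | 0, 1, e => 984522237791282842243827263779473440
  | 0, 1, w => 984674686509231270848998217272133664
  | 0, 1, v => 984370798342469428377360417207715872
  | 0, 2, e => 972689358314341295732538083389849632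
  | 0, 2, w => 958572796407684634971422541721229344
  | 0, 2, v => 976908108085554797803774220334904352
  | 1, 0, e => 983548720921252936276249910206105632
  | 1, 0, w => 971592882964418941354553515258775584
  | 1, 0, v => 975346028712660580592452217730074656
  | 1, 2, e => 975366630392323105260605610366440480
  | 1, 2, w => 983560732202510771760283209707927584
  | 1, 2, v => 971594099268302134235014375640515616
  | 2, 0, e => 972512676110088067912772961567868960
  | 2, 0, w => 976448692869377735270425038196672544
  | 2, 0, v => 961365507626256404119956257276790816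
  | 2, 1, e => 984202951082164080105044112956360736
  | 2, 1, w => 984235865005994746954145143334668320
  | 2, 1, v => 984724508489452699215480746259449888
  | _, _, _ => 984818244535754528103549039458486304

theorem Ptab_inM24 : ∀ i j : Fin 3, ∀ c : K4, inM24 (Ptab i j c) = true := by
  decide +kernel

theorem Ptab_spec : ∀ i j : Fin 3, i ≠ j → ∀ c : K4, ∀ k < 24,
    (if labN k = 0 then k else unlabN (nrm (tv i j c (labN k)))) = img (Ptab i j c) k := by
  decide +kernel

theorem Phi_transvection {i j : Fin 3} (h : i ≠ j) (c : K4) :
    Phi (Matrix.SpecialLinearGroup.transvection h c) = permOf (Ptab i j c) := by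
  refine Equiv.ext fun x => ?_
  have hP := isPerm_of_inM24 _ (Ptab_inM24 i j c)
  rw [Phi_apply, ← dec_enc x, permOf_apply_dec _ hP _ (enc_lt x)]
  have h2 := Ptab_spec i j h c (enc x) (enc_lt x)
  unfold actF
  rw [enc_dec _ (enc_lt x)]
  split_ifs at h2 ⊢ with h0
  · rw [← h2]
  · rw [← h2]
    show dec (unlabN (nrm ((Matrix.transvection i j c).mulVec (labN (enc x))))) = _
    rw [transvection_mulVec]

theorem Phi_mem_M24 (A : Matrix.SpecialLinearGroup (Fin 3) K4) : Phi A ∈ M24 := by
  refine Cfsg.Agent.Lib.Helper2.sl_transvection_induction (fun A => Phi A ∈ M24) ?_ ?_ A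
  · intro i j h c
    show Phi (Matrix.SpecialLinearGroup.transvection h c) ∈ M24
    rw [Phi_transvection h c]
    exact permOf_mem_M24 _ (Ptab_inM24 i j c)
  · intro A B hA hB
    show Phi (A * B) ∈ M24
    rw [map_mul]
    exact M24.mul_mem hA hB

/-- the three base points -/
theorem Phi_fix (A : Matrix.SpecialLinearGroup (Fin 3) K4) :
    Phi A none = none ∧ Phi A (some 0) = some 0 ∧ Phi A (some 1) = some 1 := by
  refine ⟨?_, ?_, ?_⟩ <;> · rw [Phi_apply]; exact actF_of_eq (by decide)

/-- a transvection that moves a point -/
theorem Phi_ne_one : ∃ A : Matrix.SpecialLinearGroup (Fin 3) K4, Phi A ≠ 1 := by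
  refine ⟨Matrix.SpecialLinearGroup.transvection (show (0 : Fin 3) ≠ 1 by decide) e, ?_⟩
  rw [Phi_transvection]
  intro h
  have h1 := congrArg (fun σ : Equiv.Perm GolayPt => σ (dec 3)) h
  have hP := isPerm_of_inM24 _ (Ptab_inM24 0 1 e)
  simp only [Equiv.Perm.coe_one, id_eq] at h1
  rw [permOf_apply_dec _ hP 3 (by norm_num)] at h1
  have h2 := dec_injOn _ _ (by decide) (by decide) h1
  revert h2
  decide

end Cfsg.Agent.Lib.Helper10.M21
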