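import Mathlib
import Cfsg.Prelude.Def_Sporadic_a
import Cfsg.Agent.Lib.Helper2.SLGen
import Cfsg.Agent.Lib.Helper2.GLCard
import Cfsg.Agent.Lib.Helper3.Golay.M24Trans
import Cfsg.Agent.Lib.Helper10.M21B

set_option autoImplicit false

/-! The three-point stabiliser of `M24` is `PSL(3, 4)`. -/

namespace Cfsg.Agent.Lib.Helper10.M21

open K4 Matrix Cfsg Cfsg.Agent.Lib.Helper28.GolayCode

/-- the three-point stabiliser as a subgroup of `M24` (the group of the statement) -/
abbrev H3 (p q r : GolayPt) : Subgroup ↥M24 :=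
  MulAction.stabilizer M24 p ⊓ MulAction.stabilizer M24 q ⊓ MulAction.stabilizer M24 r

/-- the three-point stabiliser as a group of permutations -/
abbrev K3 (p q r : GolayPt) : Subgroup (Equiv.Perm GolayPt) :=
  M24 ⊓ MulAction.stabilizer (Equiv.Perm GolayPt) p ⊓ MulAction.stabilizer (Equiv.Perm GolayPt) q ⊓
    MulAction.stabilizer (Equiv.Perm GolayPt) r

theorem mem_K3 {p q r : GolayPt} {σ : Equiv.Perm GolayPt} :
    σ ∈ K3 p q r ↔ σ ∈ M24 ∧ σ p = p ∧ σ q = q ∧ σ r = r := by
  simp only [K3, Subgroup.mem_inf, MulAction.mem_stabilizer_iff, Equiv.Perm.smul_def]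
  tauto

theorem mem_H3 {p q r : GolayPt} {g : ↥M24} :
    g ∈ H3 p q r ↔ (g : Equiv.Perm GolayPt) p = p ∧ (g : Equiv.Perm GolayPt) q = q ∧
      (g : Equiv.Perm GolayPt) r = r := by
  simp only [H3, Subgroup.mem_inf, MulAction.mem_stabilizer_iff, Subgroup.smul_def,
    Equiv.Perm.smul_def]
  tauto

/-- the two forms of the three-point stabiliser -/
def bridge (p q r : GolayPt) : ↥(H3 p q r) ≃* ↥(K3 p q r) where
  toFun g := ⟨g.1.1, mem_K3.mpr ⟨g.1.2, mem_H3.mp g.2⟩⟩
  invFun σ := ⟨⟨σ.1, (mem_K3.mp σ.2).1⟩, mem_H3.mpr (mem_K3.mp σ.2).2⟩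
  left_inv _ := rfl
  right_inv _ := rfl
  map_mul' _ _ := rfl

/-- conjugation by an element of `M24` -/
def conjK3 {p q r : GolayPt} (g : Equiv.Perm GolayPt) (hg : g ∈ M24) :
    ↥(K3 p q r) ≃* ↥(K3 (g p) (g q) (g r)) where
  toFun σ := ⟨g * σ.1 * g⁻¹, by
    obtain ⟨h0, h1, h2, h3⟩ := mem_K3.mp σ.2
    refine mem_K3.mpr ⟨M24.mul_mem (M24.mul_mem hg h0) (M24.inv_mem hg), ?_, ?_, ?_⟩ <;>
      simp [Equiv.Perm.mul_apply, h1, h2, h3]⟩
  invFun τ := ⟨g⁻¹ * τ.1 * g, by
    obtain ⟨h0, h1, h2, h3⟩ := mem_K3.mp τ.2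
    refine mem_K3.mpr ⟨M24.mul_mem (M24.mul_mem (M24.inv_mem hg) h0) hg, ?_, ?_, ?_⟩ <;>
      simp [Equiv.Perm.mul_apply, h1, h2, h3]⟩
  left_inv σ := by
    apply Subtype.ext
    show g⁻¹ * (g * σ.1 * g⁻¹) * g = σ.1
    group
  right_inv τ := by
    apply Subtype.ext
    show g * (g⁻¹ * τ.1 * g) * g⁻¹ = τ.1
    group
  map_mul' a b := by
    apply Subtype.ext
    show g * (a.1 * b.1) * g⁻¹ = (g * a.1 * g⁻¹) * (g * b.1 * g⁻¹)
    group

open Cfsg.Agent.Lib.Helper3.Golay in
theorem exists_map_three {p q r p' q' r' : GolayPt} (hpq : p ≠ q) (hpr : p ≠ r) (hqr : q ≠ r)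
    (hpq' : p' ≠ q') (hpr' : p' ≠ r') (hqr' : q' ≠ r') :
    ∃ g ∈ M24, g p = p' ∧ g q = q' ∧ g r = r' := by
  obtain ⟨g, hg, h⟩ := exists_map (fun i => if i = 0 then p else if i = 1 then q else r)
    (fun i => if i = 0 then p' else if i = 1 then q' else r') 3 (by norm_num)
    (by
      intro i hi j hj h
      interval_cases i <;> interval_cases j <;> simp_all)
    (by
      intro i hi j hj h
      interval_cases i <;> interval_cases j <;> simp_all)
  exact ⟨g, hg, by simpa using h 0 (by norm_num), by simpa using h 1 (by norm_num),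
    by simpa using h 2 (by norm_num)⟩

open Cfsg.Agent.Lib.Helper3.Golay in
theorem card_K3 {p q r : GolayPt} (hpq : p ≠ q) (hpr : p ≠ r) (hqr : q ≠ r) :
    Nat.card ↥(K3 p q r) = 20160 := by
  have h := card_of_orbit_eq (M24 ⊓ MulAction.stabilizer (Equiv.Perm GolayPt) p ⊓
      MulAction.stabilizer (Equiv.Perm GolayPt) q) r
    ((Finset.univ.erase p).erase q)
    (by
      intro g hg
      obtain ⟨⟨-, h1⟩, h2⟩ := hg
      have h1' : g p = p := h1
      have h2' : g q = q := h2
      rw [Finset.mem_erase, Finset.mem_erase]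
      refine ⟨?_, ?_, Finset.mem_univ _⟩
      · intro h
        rw [← h2'] at h
        exact hqr (g.injective h).symm
      · intro h
        rw [← h1'] at h
        exact hpr (g.injective h).symm)
    (by
      intro δ hδ
      rw [Finset.mem_erase, Finset.mem_erase] at hδ
      obtain ⟨g, hg, h1, h2, h3⟩ := exists_map_three hpq hpr hqr hpq (Ne.symm hδ.2.1)
        (Ne.symm hδ.1)
      exact ⟨g, ⟨⟨hg, h1⟩, h2⟩, h3⟩)
  rw [card_stab_two hpq, Finset.card_erase_of_mem (by simp [hpq.symm]),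
    Finset.card_erase_of_mem (Finset.mem_univ _), Finset.card_univ, card_pts] at h
  show Nat.card ↥(M24 ⊓ MulAction.stabilizer (Equiv.Perm GolayPt) p ⊓
      MulAction.stabilizer (Equiv.Perm GolayPt) q ⊓ MulAction.stabilizer (Equiv.Perm GolayPt) r) = _
  omega

/-- the base group -/
abbrev K0 : Subgroup (Equiv.Perm GolayPt) := K3 none (some 0) (some 1)

theorem Phi_mem_K0 (A : Matrix.SpecialLinearGroup (Fin 3) K4) : Phi A ∈ K0 :=
  mem_K3.mpr ⟨Phi_mem_M24 A, Phi_fix A⟩

/-- the action as a homomorphism to the three-point stabiliser -/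
noncomputable def Phi0 : Matrix.SpecialLinearGroup (Fin 3) K4 →* ↥K0 :=
  Phi.codRestrict K0 Phi_mem_K0

theorem actF_scalar {c : K4} (hc : c ≠ 0) (x : GolayPt) :
    actF (Matrix.scalar (Fin 3) c) x = x := by
  by_cases h : labN (enc x) = 0
  · exact actF_of_eq h
  · have e1 : (Matrix.scalar (Fin 3) c).mulVec (labN (enc x)) = c • labN (enc x) := by
      funext i
      simp [Matrix.scalar_apply, Matrix.mulVec_diagonal]
    rw [actF_of_ne h, e1, nrm_smul hc]
    obtain ⟨h1, h2⟩ := lab_facts (enc x) (enc_lt x) h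
    rw [h1, h2, dec_enc]

theorem center_le_ker :
    Subgroup.center (Matrix.SpecialLinearGroup (Fin 3) K4) ≤ Phi0.ker := by
  intro A hA
  obtain ⟨c, hc, hcA⟩ := Matrix.SpecialLinearGroup.mem_center_iff.mp hA
  have hc0 : c ≠ 0 := by
    rintro rfl
    simp at hc
  rw [MonoidHom.mem_ker]
  apply Subtype.ext
  refine Equiv.ext fun x => ?_
  show actF ↑A x = x
  rw [← hcA]
  exact actF_scalar hc0 x

/-- the induced map on the projective group -/
noncomputable def Psi : Matrix.ProjectiveSpecialLinearGroup (Fin 3) K4 →* ↥K0 :=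
  QuotientGroup.lift _ Phi0 center_le_ker

theorem Psi_injective : Function.Injective Psi := by
  have : IsSimpleGroup (Matrix.ProjectiveSpecialLinearGroup (Fin 3) K4) :=
    Cfsg.Agent.Lib.Helper2.psl_isSimpleGroup (by simp)
  rw [← MonoidHom.ker_eq_bot_iff]
  rcases Subgroup.Normal.eq_bot_or_eq_top (MonoidHom.normal_ker Psi) with h | h
  · exact h
  · exfalso
    obtain ⟨A, hA⟩ := Phi_ne_one
    apply hA
    have h1 : (QuotientGroup.mk A : Matrix.ProjectiveSpecialLinearGroup (Fin 3) K4) ∈ Psi.ker := by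
      rw [h]; trivial
    rw [MonoidHom.mem_ker] at h1
    have h2 : Phi0 A = 1 := h1
    exact congrArg Subtype.val h2

theorem card_psl : Nat.card (Matrix.ProjectiveSpecialLinearGroup (Fin 3) K4) = 20160 := by
  have h := Cfsg.Agent.Lib.Helper2.card_PSL_field (F := K4) 3 (by norm_num)
  rw [K4.card] at h
  simp only [Fin.prod_univ_succ, Fin.prod_univ_zero] at h
  generalize Nat.card (Matrix.ProjectiveSpecialLinearGroup (Fin 3) K4) = n at h ⊢
  norm_num at h
  omega

/-- the base case -/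
noncomputable def iso0 : Matrix.ProjectiveSpecialLinearGroup (Fin 3) K4 ≃* ↥K0 := by
  haveI : Finite ↥K0 := Nat.finite_of_card_ne_zero (by
    rw [card_K3 (by decide) (by decide) (by decide)]; norm_num)
  refine MulEquiv.ofBijective Psi (Psi_injective.bijective_of_nat_card_le ?_)
  rw [card_K3 (by decide) (by decide) (by decide), card_psl]

theorem map_center_equiv {G H : Type*} [Group G] [Group H] (e : G ≃* H) :
    (Subgroup.center G).map e.toMonoidHom = Subgroup.center H := by
  ext x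
  simp only [Subgroup.mem_map, Subgroup.mem_center_iff]
  constructor
  · rintro ⟨z, hz, rfl⟩ g
    obtain ⟨g', rfl⟩ := e.surjective g
    show e g' * e z = e z * e g'
    rw [← map_mul, ← map_mul, hz g']
  · intro hx
    refine ⟨e.symm x, fun g => ?_, by simp⟩
    apply e.injective
    rw [map_mul, map_mul, e.apply_symm_apply]
    exact hx (e g)

/-- `SL(3, -)` of isomorphic rings -/
noncomputable def slCongr {K K' : Type*} [CommRing K] [CommRing K'] (φ : K ≃+* K') :
    Matrix.SpecialLinearGroup (Fin 3) K ≃* Matrix.SpecialLinearGroup (Fin 3) K' :=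
  MonoidHom.toMulEquiv (Matrix.SpecialLinearGroup.map φ.toRingHom)
    (Matrix.SpecialLinearGroup.map φ.symm.toRingHom)
    (by
      ext A i j
      show φ.symm (φ (A i j)) = A i j
      simp)
    (by
      ext A i j
      show φ (φ.symm (A i j)) = A i j
      simp)

/-- `PSL(3, -)` of isomorphic rings -/
noncomputable def pslCongr {K K' : Type*} [CommRing K] [CommRing K'] (φ : K ≃+* K') :
    Matrix.ProjectiveSpecialLinearGroup (Fin 3) K ≃* Matrix.ProjectiveSpecialLinearGroup (Fin 3) K' :=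
  QuotientGroup.congr _ _ (slCongr φ) (map_center_equiv (slCongr φ))

/-- S0380 -/
theorem m21_iso (p q r : GolayPt) (hpq : p ≠ q) (hpr : p ≠ r) (hqr : q ≠ r) (F : Type) [Field F]
    [Fintype F] (hF : Fintype.card F = 4) :
    Nonempty (↥(MulAction.stabilizer M24 p ⊓ MulAction.stabilizer M24 q ⊓
      MulAction.stabilizer M24 r) ≃* Matrix.ProjectiveSpecialLinearGroup (Fin 3) F) := by
  obtain ⟨g, hg, h1, h2, h3⟩ := exists_map_three (p := none) (q := some 0) (r := some 1)
    (by decide) (by decide) (by decide) hpq hpr hqr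
  have e1 : ↥K0 ≃* ↥(K3 p q r) := by
    have := conjK3 (p := none) (q := some 0) (r := some 1) g hg
    rw [h1, h2, h3] at this
    exact this
  have hc : Fintype.card K4 = Fintype.card F := by rw [K4.card, hF]
  exact ⟨(bridge p q r).trans (e1.symm.trans (iso0.symm.trans
    (pslCongr (FiniteField.ringEquivOfCardEq hc))))⟩

end Cfsg.Agent.Lib.Helper10.M21
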