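import Cfsg.Agent.Lib.Helper5.NDMax

/-!
helper10, S5813 (`Ω₇(q)`): maximality of the stabiliser of a nondegenerate subspace `W` with
`4 ≤ dim W`, `dim W^⊥ < dim W` (helper5's `NDMax.isMaximalIn_nd` needs `6 ≤ dim W`).
Paper proof: msg 4470 / notes.  Lemmas `dec … inA_all_of_star`, `rigid` are helper5's, re-run with the
weaker bound.
-/

set_option autoImplicit false
set_option linter.unusedSectionVars false
set_option linter.unusedVariables false
set_option linter.unusedSimpArgs false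

namespace Cfsg.Agent.Lib.Helper10.NDMax4

open Module QuadraticMap Matrix Cfsg.Agent.Lib.Helper25.CD Cfsg.Agent.Lib.Helper25.Spin
  Cfsg.Agent.Lib.Helper25.Fam Cfsg.Agent.Lib.Helper25.Siegel
  Cfsg.Agent.Lib.Helper25.PS Cfsg.Agent.Lib.Helper25.OGeom Cfsg.Agent.Lib.Helper15
  Cfsg.Agent.Lib.Helper5.TSMax Cfsg.Agent.Lib.Helper5.NSMax Cfsg.Agent.Lib.Helper5.PairMax
  Cfsg.Agent.Lib.Helper5.NDMax

variable {ι : Type} [Fintype ι] [DecidableEq ι] {F : Type*} [Field F] [Fintype F]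
  (Q : QuadraticForm F (ι → F))

/-- The data of a nondegenerate subspace `W` (`4 ≤ dim W`) with complement `W'` of smaller
dimension whose stabiliser lies in `M`. -/
structure NS4 (M : Subgroup ↥(Cfsg.isometryGroup F ⇑Q)) (W W' : Submodule F (ι → F)) :
    Prop where
  nd : (polarBilin Q).Nondegenerate
  card : 7 ≤ Fintype.card ι
  orth : ∀ x ∈ W, ∀ y ∈ W', polar Q x y = 0
  disj : W ⊓ W' = ⊥
  sup : W ⊔ W' = ⊤
  big : 4 ≤ finrank F W
  lt : finrank F W' < finrank F W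
  stab : ∀ g ∈ Cfsg.Omega F ⇑Q, (∀ x ∈ W, toOG Q g x ∈ W) → g ∈ M
  le : M ≤ Cfsg.Omega F ⇑Q
  exc : ¬ (Fintype.card F ≤ 3 ∧ finrank F W' = 2 ∧ ∃ e ∈ W', e ≠ 0 ∧ Q e = 0)
  two : (2 : F) ≠ 0

variable {Q}

/-- the part of `W` orthogonal to `v` -/
def perpV (Q : QuadraticForm F (ι → F)) (W : Submodule F (ι → F)) (v : ι → F) :
    Submodule F (ι → F) :=
  W ⊓ Cfsg.Agent.Lib.Helper25.MaxTS.perp Q (Submodule.span F {v})

theorem mem_perpV {W : Submodule F (ι → F)} {v x : ι → F} :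
    x ∈ perpV Q W v ↔ x ∈ W ∧ polar Q v x = 0 := by
  unfold perpV
  rw [Submodule.mem_inf, Cfsg.Agent.Lib.Helper25.MaxTS.mem_perp_span]

theorem perpV_nd (h2 : (2 : F) ≠ 0) {W : Submodule F (ι → F)} (hW : NdOn Q W) {v : ι → F}
    (hv : v ∈ W) (hQv : Q v ≠ 0) : NdOn Q (perpV Q W v) := by
  intro w hw hall
  rw [mem_perpV] at hw
  apply hW w hw.1
  intro u hu
  have hvv : polar Q v v ≠ 0 := by
    rw [Cfsg.Agent.Lib.Helper25.MaxTS.polar_self]
    exact mul_ne_zero h2 hQv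
  have hu' : u - (polar Q v u / polar Q v v) • v ∈ perpV Q W v := by
    rw [mem_perpV]
    refine ⟨W.sub_mem hu (W.smul_mem _ hv), ?_⟩
    rw [polar_sub_right, polar_smul_right, smul_eq_mul, div_mul_cancel₀ _ hvv, sub_self]
  have h1 := hall _ hu'
  rw [polar_sub_right, polar_smul_right, polar_comm Q w v, hw.2, smul_zero, sub_zero] at h1
  exact h1

theorem perpV_finrank (hnd : (polarBilin Q).Nondegenerate) (W : Submodule F (ι → F)) (v : ι → F) :
    finrank F W ≤ finrank F (perpV Q W v) + 1 :=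
  Cfsg.Agent.Lib.Helper25.Fam.finrank_inf_perp_ge Q hnd W v

/-- in a nondegenerate space of dimension at least four every scalar is represented
orthogonally to a given vector -/
theorem exists_perp_value (hnd : (polarBilin Q).Nondegenerate) (h2 : (2 : F) ≠ 0)
    {W : Submodule F (ι → F)} (hW : NdOn Q W) (h4 : 4 ≤ finrank F W) {x : ι → F} (hx : x ∈ W)
    (c : F) : ∃ y ∈ W, polar Q x y = 0 ∧ Q y = c := by
  by_cases hQx : Q x = 0
  · by_cases hx0 : x = 0
    · obtain ⟨y, hyW, hQy⟩ := universal Q hW (by omega) c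
      exact ⟨y, hyW, by rw [hx0]; simp, hQy⟩
    · obtain ⟨f, hfW, hQf, hxf⟩ := exists_hyp_partner Q W hW hx hx0 hQx
      have hNnd := perpPair_nd Q W hW hx hfW hQx hQf hxf
      have hNfr := perpPair_finrank Q W hx hfW hQx hQf hxf
      obtain ⟨y, hyN, hQy⟩ := universal Q hNnd (by omega) c
      rw [mem_perpPair] at hyN
      exact ⟨y, hyN.1, hyN.2.1, hQy⟩
  · have hNnd := perpV_nd h2 hW hx hQx
    have hNfr := perpV_finrank hnd W x
    obtain ⟨y, hyN, hQy⟩ := universal Q hNnd (by omega) c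
    rw [mem_perpV] at hyN
    exact ⟨y, hyN.1, hyN.2, hQy⟩

theorem toOG_inv_of_eq (e : ↥(Cfsg.isometryGroup F ⇑Q)) {z y : ι → F} (h : toOG Q e z = y) :
    toOG Q e⁻¹ y = z := by
  rw [← h, ← LinearEquiv.mul_apply, ← map_mul, inv_mul_cancel, map_one]
  rfl

theorem egen_smul_left' (c : F) (u y x : ι → F) :
    egen Q (c • u) y x = egen Q u (c • y) x := by
  unfold egen
  rw [QuadraticMap.map_smul, polar_smul_left, polar_smul_left]
  simp only [smul_eq_mul]
  module

theorem toOG_mul_inv_apply (g : ↥(Cfsg.isometryGroup F ⇑Q)) (y : ι → F) :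
    toOG Q g (toOG Q g⁻¹ y) = y := by
  rw [← LinearEquiv.mul_apply, ← map_mul, mul_inv_cancel, map_one]
  rfl

/-- if `g⁻¹` stabilises `W` then so does `g` -/
theorem stab_of_inv_stab {g : ↥(Cfsg.isometryGroup F ⇑Q)} {W : Submodule F (ι → F)}
    (h : ∀ x ∈ W, toOG Q g⁻¹ x ∈ W) : ∀ x ∈ W, toOG Q g x ∈ W := by
  have hmap := map_eq_of_mem (toOG Q g⁻¹) rfl h
  intro x hx
  rw [← hmap] at hx
  obtain ⟨y, hy, rfl⟩ := hx
  have e : toOG Q g (toOG Q g⁻¹ y) = y := toOG_mul_inv_apply g y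
  have e' : toOG Q g (((toOG Q g⁻¹ : (ι → F) ≃ₗ[F] (ι → F)) : (ι → F) →ₗ[F] (ι → F)) y) = y := e
  rw [e']
  exact hy

section setup

variable {M : Subgroup ↥(Cfsg.isometryGroup F ⇑Q)} {W W' : Submodule F (ι → F)}

theorem NS4.dec (hS : NS4 Q M W W') (v : ι → F) : ∃ a ∈ W, ∃ b ∈ W', v = a + b := by
  have hv : v ∈ W ⊔ W' := by rw [hS.sup]; exact Submodule.mem_top
  obtain ⟨a, ha, b, hb, h⟩ := Submodule.mem_sup.1 hv
  exact ⟨a, ha, b, hb, h.symm⟩

theorem NS4.ndW (hS : NS4 Q M W W') : NdOn Q W := by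
  intro w hw hall
  apply hS.nd.1 w
  intro y
  rw [polarBilin_apply_apply]
  obtain ⟨a, ha, b, hb, rfl⟩ := hS.dec y
  rw [polar_add_right, hall a ha, hS.orth w hw b hb, add_zero]

theorem NS4.ndW' (hS : NS4 Q M W W') : NdOn Q W' := by
  intro w hw hall
  apply hS.nd.1 w
  intro y
  rw [polarBilin_apply_apply]
  obtain ⟨a, ha, b, hb, rfl⟩ := hS.dec y
  rw [polar_add_right, hall b hb, polar_comm Q w a, hS.orth a ha w hw, add_zero]

theorem NS4.inA_W (hS : NS4 Q M W W') {u x : ι → F} (hu : u ∈ W) (hu0 : u ≠ 0)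
    (hQu : Q u = 0) (hx : x ∈ W) (hux : polar Q u x = 0) : InA Q M u x := by
  intro c
  obtain ⟨g, hgΩ, hg⟩ := exists_egen Q hS.nd hS.card hu0 hQu (y := c • x)
    (by rw [polar_smul_right, hux, smul_zero])
  refine ⟨g, hS.stab g hgΩ (fun v hv => ?_), hg⟩
  rw [hg]
  unfold egen
  exact W.sub_mem (W.sub_mem (W.add_mem hv (W.smul_mem _ (W.smul_mem _ hx)))
    (W.smul_mem _ hu)) (W.smul_mem _ hu)

theorem NS4.inA_all_of_star (hS : NS4 Q M W W') {u y : ι → F} (hu : u ∈ W) (hu0 : u ≠ 0)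
    (hQu : Q u = 0) (hy : y ∈ W') (hy0 : y ≠ 0) (h : InA Q M u y) :
    ∀ v, polar Q u v = 0 → InA Q M u v := by
  have hQ := hS.nd
  have hn := hS.card
  have huW' : ∀ z ∈ W', polar Q u z = 0 := fun z hz => hS.orth u hu z hz
  obtain ⟨A, hAmem⟩ : ∃ A : Submodule F (ι → F), ∀ z, z ∈ A ↔ z ∈ W' ∧ InA Q M u z :=
    ⟨{ carrier := {z | z ∈ W' ∧ InA Q M u z}
       add_mem' := fun {a b} ha hb => ⟨W'.add_mem ha.1 hb.1,
         InA.add hQu (huW' a ha.1) (huW' b hb.1) ha.2 hb.2⟩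
       zero_mem' := ⟨W'.zero_mem, inA_zero M u⟩
       smul_mem' := fun c {a} ha => ⟨W'.smul_mem c ha.1, ha.2.smul c⟩ }, fun z => Iff.rfl⟩
  have hAW' : A ≤ W' := fun z hz => ((hAmem z).1 hz).1
  have hA0 : A ≠ ⊥ := by
    intro h0
    have h1 : y ∈ A := (hAmem y).2 ⟨hy, h⟩
    rw [h0, Submodule.mem_bot] at h1
    exact hy0 h1
  obtain ⟨f, hfW, hQf, huf⟩ := exists_hyp_partner Q W hS.ndW hu hu0 hQu
  have hNnd := perpPair_nd Q W hS.ndW hu hfW hQu hQf huf
  have hNfr := perpPair_finrank Q W hu hfW hQu hQf huf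
  have hbig := hS.big
  have hrefl : ∀ x ∈ A, ∀ w ∈ W', Q w ≠ 0 → polar Q w x ≠ 0 → w ∈ A := by
    intro x hxA w hwW' hQw hwx
    obtain ⟨hxW', hxin⟩ := (hAmem x).1 hxA
    obtain ⟨z, hzN, hQz⟩ := universal Q hNnd (by omega) (Q w)
    rw [mem_perpPair] at hzN
    obtain ⟨hzW, huz, -⟩ := hzN
    have hmΩ : reflM Q w * reflM Q z ∈ Cfsg.Omega F ⇑Q :=
      refl_pair_mem_omega Q hQ hn hQw rfl hQz
    have hmapply : ∀ v, toOG Q (reflM Q w * reflM Q z) v = reflE Q w (reflE Q z v) := by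
      intro v
      rw [map_mul, LinearEquiv.mul_apply, toOG_reflM, toOG_reflM]
    have hmM : reflM Q w * reflM Q z ∈ M := by
      apply hS.stab _ hmΩ
      intro v hv
      rw [hmapply, reflE_apply Q z v]
      have h1 : v - ((Q z)⁻¹ * polar Q z v) • z ∈ W := W.sub_mem hv (W.smul_mem _ hzW)
      rw [reflE_apply, polar_comm Q w _, hS.orth _ h1 w hwW']
      simpa using h1
    have h1 := InA.conj hmM hxin
    rw [hmapply, hmapply] at h1
    have e1 : reflE Q w (reflE Q z u) = u := by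
      have e0 : reflE Q z u = u := by
        rw [reflE_apply, polar_comm Q z u, huz]
        simp
      rw [e0, reflE_apply, polar_comm Q w u, huW' w hwW']
      simp
    have e2 : reflE Q w (reflE Q z x) = x - ((Q w)⁻¹ * polar Q w x) • w := by
      have e0 : reflE Q z x = x := by
        rw [reflE_apply, hS.orth z hzW x hxW']
        simp
      rw [e0, reflE_apply]
    rw [e1, e2] at h1
    obtain ⟨κ, hκ⟩ : ∃ κ, κ = (Q w)⁻¹ * polar Q w x := ⟨_, rfl⟩
    have hκ0 : κ ≠ 0 := by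
      rw [hκ]
      exact mul_ne_zero (inv_ne_zero hQw) hwx
    rw [← hκ] at h1
    have h2 := InA.add hQu (huW' x hxW') (by
      rw [polar_smul_right, polar_sub_right, polar_smul_right, huW' x hxW', huW' w hwW']
      simp) hxin (h1.smul (-1))
    have e3 : x + (-1 : F) • (x - κ • w) = κ • w := by module
    rw [e3] at h2
    have h3 := h2.smul κ⁻¹
    rw [smul_smul, inv_mul_cancel₀ hκ0, one_smul] at h3
    exact (hAmem w).2 ⟨hwW', h3⟩
  have hegen : ∀ x ∈ A, ∀ p ∈ W', Q p = 0 → ∀ z ∈ W', polar Q p z = 0 →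
      egen Q p z x ∈ A := by
    intro x hxA p hpW' hQp z hzW' hpz
    obtain ⟨hxW', hxin⟩ := (hAmem x).1 hxA
    by_cases hp0 : p = 0
    · have e : egen Q p z x = x := by
        rw [hp0]
        unfold egen
        simp
      rw [e]
      exact hxA
    obtain ⟨g, hgΩ, hg⟩ := exists_egen Q hQ hn hp0 hQp hpz
    have hfix : ∀ v ∈ W, toOG Q g v = v := by
      intro v hv
      rw [hg]
      exact egen_fix Q (by rw [polar_comm]; exact hS.orth v hv p hpW')
        (by rw [polar_comm]; exact hS.orth v hv z hzW')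
    have hgM : g ∈ M := hS.stab g hgΩ (fun v hv => by rw [hfix v hv]; exact hv)
    have h1 := InA.conj hgM hxin
    rw [hfix u hu, hg] at h1
    refine (hAmem _).2 ⟨?_, h1⟩
    unfold egen
    exact W'.sub_mem (W'.sub_mem (W'.add_mem hxW' (W'.smul_mem _ hzW')) (W'.smul_mem _ hpW'))
      (W'.smul_mem _ hpW')
  have hall := irred Q hS.ndW' hAW' hA0 hrefl hegen hS.exc
  intro v huv
  obtain ⟨a, ha, b, hb, rfl⟩ := hS.dec v
  have hub : polar Q u b = 0 := huW' b hb
  have hua : polar Q u a = 0 := by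
    rw [polar_add_right, hub, add_zero] at huv
    exact huv
  exact InA.add hQu hua hub (hS.inA_W hu hu0 hQu ha hua) ((hAmem b).1 (hall hb)).2

theorem NS4.eq_omega_of_star (hS : NS4 Q M W W') {u y : ι → F} (hu : u ∈ W) (hu0 : u ≠ 0)
    (hQu : Q u = 0) (hy : y ∈ W') (hy0 : y ≠ 0) (h : InA Q M u y) :
    M = Cfsg.Omega F ⇑Q := by
  have hQ := hS.nd
  have hn := hS.card
  have hbig := hS.big
  have hg1 : Good Q M (mk' Q u hu0 hQu) :=
    good_of_all hu0 hQu (hS.inA_all_of_star hu hu0 hQu hy hy0 h)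
  obtain ⟨u2, hu2W, hQu2, huu2⟩ := exists_hyp_partner Q W hS.ndW hu hu0 hQu
  have hNnd := perpPair_nd Q W hS.ndW hu hu2W hQu hQu2 huu2
  have hNfr := perpPair_finrank Q W hu hu2W hQu hQu2 huu2
  have hQd : Q (u - u2) = -1 := by
    have e1 : Q (u - u2) = Q u + Q u2 - polar Q u u2 := by
      rw [sub_eq_add_neg, QuadraticMap.map_add (⇑Q), QuadraticMap.map_neg, polar_neg_right]
      ring
    rw [e1, hQu, hQu2, huu2]
    ring
  obtain ⟨z, hzN, hQz⟩ := universal Q hNnd (by omega) (-1 : F)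
  rw [mem_perpPair] at hzN
  obtain ⟨hzW, huz, hu2z⟩ := hzN
  have hmΩ : reflM Q (u - u2) * reflM Q z ∈ Cfsg.Omega F ⇑Q :=
    refl_pair_mem_omega Q hQ hn (neg_ne_zero.2 one_ne_zero) hQd hQz
  have hmM : reflM Q (u - u2) * reflM Q z ∈ M := by
    apply hS.stab _ hmΩ
    intro v hv
    rw [map_mul, LinearEquiv.mul_apply, toOG_reflM, toOG_reflM, reflE_apply Q z v, reflE_apply]
    exact W.sub_mem (W.sub_mem hv (W.smul_mem _ hzW)) (W.smul_mem _ (W.sub_mem hu hu2W))
  have hmu : toOG Q (reflM Q (u - u2) * reflM Q z) u = u2 := by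
    rw [map_mul, LinearEquiv.mul_apply, toOG_reflM, toOG_reflM]
    have e0 : reflE Q z u = u := reflE_of_perp Q (by rw [polar_comm]; exact huz)
    rw [e0]
    exact reflE_swap Q (by rw [hQu, hQu2]) (by rw [hQd]; exact neg_ne_zero.2 one_ne_zero)
  have hg2 := good_smul Q hmM hg1
  rw [smul_mk'] at hg2
  apply eq_omega_of_all_good Q hQ hn M hS.le
  refine all_good_of_opposite Q hQ (by omega) M hg1 hg2 ?_
  rw [ort_mk']
  rw [hmu, huu2]
  exact one_ne_zero

theorem NS4.rigid (hS : NS4 Q M W W') (hne : M ≠ Cfsg.Omega F ⇑Q)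
    {m : ↥(Cfsg.isometryGroup F ⇑Q)} (hm : m ∈ M) {α x : ι → F} (hα : α ∈ W) (hα0 : α ≠ 0)
    (hQα : Q α = 0) (hmα : toOG Q m α ∈ W) (hx : x ∈ W) (hαx : polar Q α x = 0) :
    toOG Q m x ∈ W := by
  have h1 := InA.conj hm (hS.inA_W hα hα0 hQα hx hαx)
  obtain ⟨a, ha, b, hb, hab⟩ := hS.dec (toOG Q m x)
  by_cases hb0 : b = 0
  · rw [hab, hb0, add_zero]
    exact ha
  exfalso
  have hmα0 : toOG Q m α ≠ 0 := fun h => hα0 ((toOG Q m).injective (by rw [h, map_zero]))
  have hQmα : Q (toOG Q m α) = 0 := by rw [Q_toOG, hQα]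
  have hpol : polar Q (toOG Q m α) (toOG Q m x) = 0 := by rw [polar_toOG, hαx]
  have hpb : polar Q (toOG Q m α) b = 0 := hS.orth _ hmα b hb
  have hpa : polar Q (toOG Q m α) a = 0 := by
    have h5 := hpol
    rw [hab, polar_add_right, hpb, add_zero] at h5
    exact h5
  have h2 := InA.add hQmα hpol (by rw [polar_smul_right, hpa, smul_zero]) h1
    ((hS.inA_W hmα hmα0 hQmα ha hpa).smul (-1))
  have e : toOG Q m x + (-1 : F) • a = b := by
    rw [hab]
    module
  rw [e] at h2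
  exact hne (hS.eq_omega_of_star hmα hmα0 hQmα hb hb0 h2)

theorem NS4.inA_W' (hS : NS4 Q M W W') {u x : ι → F} (hu : u ∈ W') (hu0 : u ≠ 0)
    (hQu : Q u = 0) (hx : x ∈ W') (hux : polar Q u x = 0) : InA Q M u x := by
  intro c
  obtain ⟨g, hgΩ, hg⟩ := exists_egen Q hS.nd hS.card hu0 hQu (y := c • x)
    (by rw [polar_smul_right, hux, smul_zero])
  refine ⟨g, hS.stab g hgΩ (fun v hv => ?_), hg⟩
  rw [hg, egen_fix Q (by rw [polar_comm]; exact hS.orth v hv u hu)
    (by rw [polar_smul_left, polar_comm, hS.orth v hv x hx, smul_zero])]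
  exact hv

/-- a star at a singular point of `W'` -/
theorem NS4.eq_omega_of_star' (hS : NS4 Q M W W') {u a : ι → F} (hu : u ∈ W') (hu0 : u ≠ 0)
    (hQu : Q u = 0) (ha : a ∈ W) (ha0 : a ≠ 0) (h : InA Q M u a) :
    M = Cfsg.Omega F ⇑Q := by
  have hQ := hS.nd
  have hn := hS.card
  have hbig := hS.big
  have huW : ∀ z ∈ W, polar Q u z = 0 := fun z hz => by
    rw [polar_comm]; exact hS.orth z hz u hu
  obtain ⟨A, hAmem⟩ : ∃ A : Submodule F (ι → F), ∀ z, z ∈ A ↔ z ∈ W ∧ InA Q M u z :=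
    ⟨{ carrier := {z | z ∈ W ∧ InA Q M u z}
       add_mem' := fun {a b} ha hb => ⟨W.add_mem ha.1 hb.1,
         InA.add hQu (huW a ha.1) (huW b hb.1) ha.2 hb.2⟩
       zero_mem' := ⟨W.zero_mem, inA_zero M u⟩
       smul_mem' := fun c {a} ha => ⟨W.smul_mem c ha.1, ha.2.smul c⟩ }, fun z => Iff.rfl⟩
  have hAW : A ≤ W := fun z hz => ((hAmem z).1 hz).1
  have hA0 : A ≠ ⊥ := by
    intro h0
    have h1 : a ∈ A := (hAmem a).2 ⟨ha, h⟩
    rw [h0, Submodule.mem_bot] at h1
    exact ha0 h1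
  have hrefl : ∀ x ∈ A, ∀ w ∈ W, Q w ≠ 0 → polar Q w x ≠ 0 → w ∈ A := by
    intro x hxA w hwW hQw hwx
    obtain ⟨hxW, hxin⟩ := (hAmem x).1 hxA
    obtain ⟨z, hzW, hxz, hQz⟩ := exists_perp_value hQ hS.two hS.ndW hbig hxW (Q w)
    have hmΩ : reflM Q w * reflM Q z ∈ Cfsg.Omega F ⇑Q :=
      refl_pair_mem_omega Q hQ hn hQw rfl hQz
    have hmapply : ∀ v, toOG Q (reflM Q w * reflM Q z) v = reflE Q w (reflE Q z v) := by
      intro v
      rw [map_mul, LinearEquiv.mul_apply, toOG_reflM, toOG_reflM]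
    have hmM : reflM Q w * reflM Q z ∈ M := by
      apply hS.stab _ hmΩ
      intro v hv
      rw [hmapply, reflE_apply Q z v, reflE_apply]
      exact W.sub_mem (W.sub_mem hv (W.smul_mem _ hzW)) (W.smul_mem _ hwW)
    have h1 := InA.conj hmM hxin
    rw [hmapply, hmapply] at h1
    have e1 : reflE Q w (reflE Q z u) = u := by
      have e0 : reflE Q z u = u := reflE_of_perp Q (by rw [polar_comm]; exact huW z hzW)
      rw [e0]
      exact reflE_of_perp Q (by rw [polar_comm]; exact huW w hwW)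
    have e2 : reflE Q w (reflE Q z x) = x - ((Q w)⁻¹ * polar Q w x) • w := by
      have e0 : reflE Q z x = x := reflE_of_perp Q (by rw [polar_comm]; exact hxz)
      rw [e0, reflE_apply]
    rw [e1, e2] at h1
    obtain ⟨κ, hκ⟩ : ∃ κ, κ = (Q w)⁻¹ * polar Q w x := ⟨_, rfl⟩
    have hκ0 : κ ≠ 0 := by
      rw [hκ]
      exact mul_ne_zero (inv_ne_zero hQw) hwx
    rw [← hκ] at h1
    have h2 := InA.add hQu (huW x hxW) (by
      rw [polar_smul_right, polar_sub_right, polar_smul_right, huW x hxW, huW w hwW]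
      simp) hxin (h1.smul (-1))
    have e3 : x + (-1 : F) • (x - κ • w) = κ • w := by module
    rw [e3] at h2
    have h3 := h2.smul κ⁻¹
    rw [smul_smul, inv_mul_cancel₀ hκ0, one_smul] at h3
    exact (hAmem w).2 ⟨hwW, h3⟩
  have hegen : ∀ x ∈ A, ∀ p ∈ W, Q p = 0 → ∀ z ∈ W, polar Q p z = 0 →
      egen Q p z x ∈ A := by
    intro x hxA p hpW hQp z hzW hpz
    obtain ⟨hxW, hxin⟩ := (hAmem x).1 hxA
    by_cases hp0 : p = 0
    · have e : egen Q p z x = x := by
        rw [hp0]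
        unfold egen
        simp
      rw [e]
      exact hxA
    obtain ⟨g, hgΩ, hg⟩ := exists_egen Q hQ hn hp0 hQp hpz
    have hstab : ∀ v ∈ W, toOG Q g v ∈ W := by
      intro v hv
      rw [hg]
      unfold egen
      exact W.sub_mem (W.sub_mem (W.add_mem hv (W.smul_mem _ hzW)) (W.smul_mem _ hpW))
        (W.smul_mem _ hpW)
    have hgM : g ∈ M := hS.stab g hgΩ hstab
    have h1 := InA.conj hgM hxin
    have hfixu : toOG Q g u = u := by
      rw [hg]
      exact egen_fix Q (by rw [polar_comm]; exact huW p hpW) (by rw [polar_comm]; exact huW z hzW)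
    rw [hfixu, hg] at h1
    refine (hAmem _).2 ⟨?_, h1⟩
    rw [← hg]
    exact hstab x hxW
  have hall := irred Q hS.ndW hAW hA0 hrefl hegen (by
    rintro ⟨-, h2, -⟩
    omega)
  obtain ⟨s, hsW, hs0, hQs⟩ := exists_singular_in Q W (by omega)
  have hsin : InA Q M u s := ((hAmem s).1 (hall hsW)).2
  have hus : polar Q u s = 0 := huW s hsW
  have hstar : InA Q M s u := by
    intro c
    obtain ⟨g, hgM, hg⟩ := hsin (-c)
    refine ⟨g, hgM, fun x => ?_⟩
    rw [hg]
    unfold egen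
    rw [QuadraticMap.map_smul, QuadraticMap.map_smul, hQs, hQu, polar_smul_left, polar_smul_left]
    simp only [smul_eq_mul, mul_zero, zero_mul, zero_smul, sub_zero]
    module
  exact hS.eq_omega_of_star hsW hs0 hQs hu hu0 hstar

/-- torus argument: one Siegel element `E_{β,b}` in `M` gives the whole root module line -/
theorem NS4.inA_of_inE (hS : NS4 Q M W W') {β b : ι → F} (hβ : β ∈ W) (hβ0 : β ≠ 0)
    (hQβ : Q β = 0) (hb : b ∈ W') {e : ↥(Cfsg.isometryGroup F ⇑Q)} (he : e ∈ M)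
    (hev : ∀ x, toOG Q e x = egen Q β b x) : InA Q M β b := by
  have hQ := hS.nd
  have hn := hS.card
  have h2 := hS.two
  have hβb : polar Q β b = 0 := hS.orth β hβ b hb
  obtain ⟨f, hfW, hQf, hβf⟩ := exists_hyp_partner Q W hS.ndW hβ hβ0 hQβ
  have hfb : polar Q f b = 0 := hS.orth f hfW b hb
  have hβd : ∀ d : F, polar Q β (d • b) = 0 := fun d => by
    rw [polar_smul_right, hβb, smul_zero]
  obtain ⟨P, hP⟩ : ∃ P : F → Prop, ∀ d, P d ↔ ∃ g ∈ M, ∀ x, toOG Q g x = egen Q β (d • b) x :=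
    ⟨_, fun d => Iff.rfl⟩
  have hP1 : P 1 := (hP 1).2 ⟨e, he, fun x => by rw [one_smul]; exact hev x⟩
  have hPadd : ∀ d d', P d → P d' → P (d + d') := by
    intro d d' h1 h1'
    obtain ⟨g, hg, hgx⟩ := (hP d).1 h1
    obtain ⟨g', hg', hgx'⟩ := (hP d').1 h1'
    refine (hP _).2 ⟨g * g', M.mul_mem hg hg', fun x => ?_⟩
    rw [map_mul, LinearEquiv.mul_apply, hgx, hgx', egen_add Q hQβ (hβd d) (hβd d'), add_smul]
  have hPneg : ∀ d, P d → P (-d) := by
    intro d h1
    obtain ⟨g, hg, hgx⟩ := (hP d).1 h1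
    refine (hP _).2 ⟨g⁻¹, M.inv_mem hg, fun x => ?_⟩
    apply toOG_inv_of_eq
    rw [hgx, egen_add Q hQβ (hβd d) (hβd (-d)), ← add_smul, add_neg_cancel, zero_smul]
    unfold egen
    simp
  have hPsq : ∀ l : F, l ≠ 0 → P (l * l) := by
    intro l hl
    obtain ⟨v1, hv1⟩ : ∃ v1, v1 = β - f := ⟨_, rfl⟩
    obtain ⟨v2, hv2⟩ : ∃ v2, v2 = l⁻¹ • β - l • f := ⟨_, rfl⟩
    have hv1W : v1 ∈ W := by rw [hv1]; exact W.sub_mem hβ hfW
    have hv2W : v2 ∈ W := by rw [hv2]; exact W.sub_mem (W.smul_mem _ hβ) (W.smul_mem _ hfW)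
    have hQ1 : Q v1 = -1 := by
      rw [hv1, Q_sub' Q β f, hQβ, hQf, hβf]
      ring
    have hQ2 : Q v2 = -1 := by
      rw [hv2, Q_sub' Q, QuadraticMap.map_smul, QuadraticMap.map_smul, hQβ, hQf, polar_smul_left,
        polar_smul_right, hβf]
      simp only [smul_eq_mul, mul_zero, mul_one, zero_add, zero_sub]
      rw [inv_mul_cancel₀ hl]
    have hτΩ : reflM Q v1 * reflM Q v2 ∈ Cfsg.Omega F ⇑Q :=
      refl_pair_mem_omega Q hQ hn (neg_ne_zero.2 one_ne_zero) hQ1 hQ2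
    have hτapply : ∀ v, toOG Q (reflM Q v1 * reflM Q v2) v = reflE Q v1 (reflE Q v2 v) := by
      intro v
      rw [map_mul, LinearEquiv.mul_apply, toOG_reflM, toOG_reflM]
    have hτM : reflM Q v1 * reflM Q v2 ∈ M := by
      apply hS.stab _ hτΩ
      intro v hv
      rw [hτapply, reflE_apply Q v2 v, reflE_apply]
      exact W.sub_mem (W.sub_mem hv (W.smul_mem _ hv2W)) (W.smul_mem _ hv1W)
    have hfβ : polar Q f β = 1 := by rw [polar_comm]; exact hβf
    have hτβ : reflE Q v1 (reflE Q v2 β) = (l * l) • β := by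
      have e1 : reflE Q v2 β = (l * l) • f := by
        rw [reflE_apply, hQ2, hv2, polar_sub_left, polar_smul_left, polar_smul_left, pself Q hQβ,
          hfβ]
        simp only [smul_eq_mul, mul_zero, mul_one, zero_sub]
        have e : ((-1 : F))⁻¹ * -l = l := by
          rw [inv_neg, inv_one]; ring
        rw [e, smul_sub, smul_smul, smul_smul, mul_inv_cancel₀ hl, one_smul]
        abel
      have e2 : reflE Q v1 f = β := by
        rw [reflE_apply, hQ1, hv1, polar_sub_left, hβf, pself Q hQf]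
        have e : ((-1 : F))⁻¹ * (1 - 0) = -1 := by
          rw [inv_neg, inv_one]; ring
        rw [e]
        module
      rw [e1, map_smul, e2]
    have hτb : reflE Q v1 (reflE Q v2 b) = b := by
      have e0 : reflE Q v2 b = b := reflE_of_perp Q (by
        rw [hv2, polar_sub_left, polar_smul_left, polar_smul_left, hβb, hfb]; simp)
      rw [e0]
      exact reflE_of_perp Q (by rw [hv1, polar_sub_left, hβb, hfb]; simp)
    obtain ⟨τ, hτ⟩ : ∃ τ, τ = reflM Q v1 * reflM Q v2 := ⟨_, rfl⟩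
    rw [← hτ] at hτM hτapply
    refine (hP _).2 ⟨τ * e * τ⁻¹, M.mul_mem (M.mul_mem hτM he) (M.inv_mem hτM), fun x => ?_⟩
    have e0 : toOG Q τ ((toOG Q τ)⁻¹ x) = x := by
      rw [← LinearEquiv.mul_apply, mul_inv_cancel]
      rfl
    rw [map_mul, map_mul, LinearEquiv.mul_apply, LinearEquiv.mul_apply, hev,
      egen_map Q (toOG_mem_OG Q τ), map_inv, e0, hτapply, hτapply, hτβ, hτb, egen_smul_left']
  intro c
  have hc : c = ((c + 1) / 2) * ((c + 1) / 2) + -(((c - 1) / 2) * ((c - 1) / 2)) := by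
    field_simp
    ring
  have hP0 : P 0 := by
    have h1 := hPadd 1 (-1) hP1 (hPneg 1 hP1)
    rwa [add_neg_cancel] at h1
  have hsq : ∀ l : F, P (l * l) := by
    intro l
    by_cases hl : l = 0
    · rw [hl, mul_zero]; exact hP0
    · exact hPsq l hl
  have hPc : P c := by
    rw [hc]
    exact hPadd _ _ (hsq _) (hPneg _ (hsq _))
  exact (hP c).1 hPc

/-- (α): an element of `M` mapping one singular point of `W` into `W` stabilises `W` -/
theorem NS4.alpha (hS : NS4 Q M W W') (hne : M ≠ Cfsg.Omega F ⇑Q)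
    {m : ↥(Cfsg.isometryGroup F ⇑Q)} (hm : m ∈ M) {α : ι → F} (hα : α ∈ W) (hα0 : α ≠ 0)
    (hQα : Q α = 0) (hmα : toOG Q m α ∈ W) : ∀ x ∈ W, toOG Q m x ∈ W := by
  have hQ := hS.nd
  have hn := hS.card
  obtain ⟨f, hfW, hQf, hαf⟩ := exists_hyp_partner Q W hS.ndW hα hα0 hQα
  obtain ⟨β, hβ⟩ : ∃ β, β = toOG Q m α := ⟨_, rfl⟩
  rw [← hβ] at hmα
  have hβ0 : β ≠ 0 := by
    rw [hβ]
    exact fun h => hα0 ((toOG Q m).injective (by rw [h, map_zero]))
  have hQβ : Q β = 0 := by rw [hβ, Q_toOG, hQα]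
  obtain ⟨a, ha, b, hb, hab⟩ := hS.dec (toOG Q m f)
  -- decomposition of vectors of W
  have hdecomp : ∀ x ∈ W, toOG Q m x = polar Q α x • toOG Q m f +
      toOG Q m (x - polar Q α x • f) ∧ toOG Q m (x - polar Q α x • f) ∈ W ∧
      polar Q β (toOG Q m (x - polar Q α x • f)) = 0 := by
    intro x hx
    have hx0 : polar Q α (x - polar Q α x • f) = 0 := by
      rw [polar_sub_right, polar_smul_right, hαf]
      simp
    refine ⟨?_, hS.rigid hne hm hα hα0 hQα (by rw [← hβ]; exact hmα)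
      (W.sub_mem hx (W.smul_mem _ hfW)) hx0, ?_⟩
    · rw [← map_smul, ← map_add]
      congr 1
      abel
    · rw [hβ, polar_toOG, hx0]
  by_cases hb0 : b = 0
  · intro x hx
    obtain ⟨e1, e2, -⟩ := hdecomp x hx
    rw [e1, hab, hb0, add_zero]
    exact W.add_mem (W.smul_mem _ ha) e2
  exfalso
  have hβb : polar Q β b = 0 := hS.orth β hmα b hb
  have hβa : polar Q β a = 1 := by
    have h1 : polar Q β (toOG Q m f) = 1 := by rw [hβ, polar_toOG, hαf]
    rw [hab, polar_add_right, hβb, add_zero] at h1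
    exact h1
  have hba : polar Q b a = 0 := by rw [polar_comm]; exact hS.orth a ha b hb
  obtain ⟨f', hf'⟩ : ∃ f', f' = a + Q b • β := ⟨_, rfl⟩
  have hf'W : f' ∈ W := by rw [hf']; exact W.add_mem ha (W.smul_mem _ hmα)
  have hegf : egen Q β b f' = toOG Q m f := by
    unfold egen
    rw [hf', polar_add_right, polar_add_right, polar_smul_right, polar_smul_right, hβa, hba,
      pself Q hQβ, polar_comm Q b β, hβb, hab]
    simp only [smul_eq_mul, mul_zero, add_zero, mul_one, one_smul, zero_smul, sub_zero]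
    abel
  obtain ⟨e, heΩ, he⟩ := exists_egen Q hQ hn hβ0 hQβ hβb
  have hm'W : ∀ x ∈ W, toOG Q (e⁻¹ * m) x ∈ W := by
    intro x hx
    obtain ⟨e1, e2, e3⟩ := hdecomp x hx
    rw [map_mul, LinearEquiv.mul_apply, e1, map_add, map_smul]
    have h1 : toOG Q e⁻¹ (toOG Q m f) = f' := by
      apply toOG_inv_of_eq
      rw [he, hegf]
    have h2 : toOG Q e⁻¹ (toOG Q m (x - polar Q α x • f)) = toOG Q m (x - polar Q α x • f) := by
      apply toOG_inv_of_eq
      rw [he]
      exact egen_fix Q e3 (by rw [polar_comm]; exact hS.orth _ e2 b hb)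
    rw [h1, h2]
    exact W.add_mem (W.smul_mem _ hf'W) e2
  have hm'M : e⁻¹ * m ∈ M :=
    hS.stab _ ((Cfsg.Omega F ⇑Q).mul_mem ((Cfsg.Omega F ⇑Q).inv_mem heΩ) (hS.le hm)) hm'W
  have heM : e ∈ M := by
    have h1 := M.mul_mem hm (M.inv_mem hm'M)
    have e1 : m * (e⁻¹ * m)⁻¹ = e := by group
    rwa [e1] at h1
  exact hne (hS.eq_omega_of_star hmα hβ0 hQβ hb hb0 (hS.inA_of_inE hmα hβ0 hQβ hb heM he))

/-- a vector orthogonal to `W` lies in `W'` -/
theorem NS4.mem_W'_of_perp (hS : NS4 Q M W W') {y : ι → F} (hy : ∀ x ∈ W, polar Q y x = 0) :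
    y ∈ W' := by
  obtain ⟨a, ha, b, hb, hab⟩ := hS.dec y
  have ha0 : a = 0 := by
    apply hS.ndW a ha
    intro x hx
    have h1 := hy x hx
    rw [hab, polar_add_left, polar_comm Q b x, hS.orth x hx b hb, add_zero] at h1
    exact h1
  rw [hab, ha0, zero_add]
  exact hb

/-- (γ): no element of `M` maps a singular point of `W` into `W'` -/
theorem NS4.gamma (hS : NS4 Q M W W') (hne : M ≠ Cfsg.Omega F ⇑Q)
    {m : ↥(Cfsg.isometryGroup F ⇑Q)} (hm : m ∈ M) {α : ι → F} (hα : α ∈ W) (hα0 : α ≠ 0)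
    (hQα : Q α = 0) : toOG Q m α ∉ W' := by
  intro hmα
  have hQ := hS.nd
  obtain ⟨β, hβ⟩ : ∃ β, β = toOG Q m α := ⟨_, rfl⟩
  rw [← hβ] at hmα
  have hβ0 : β ≠ 0 := by
    rw [hβ]
    exact fun h => hα0 ((toOG Q m).injective (by rw [h, map_zero]))
  have hQβ : Q β = 0 := by rw [hβ, Q_toOG, hQα]
  -- some x in W ∩ α^⊥ is not mapped into W'
  have hex : ∃ x ∈ W, polar Q α x = 0 ∧ toOG Q m x ∉ W' := by
    by_contra hcon
    push Not at hcon
    have h1 : ∀ x ∈ perpV Q W α, toOG Q m x ∈ W' := fun x hx =>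
      hcon x ((mem_perpV).1 hx).1 ((mem_perpV).1 hx).2
    have hfr1 := perpV_finrank hQ W α
    have hle : finrank F (perpV Q W α) ≤ finrank F W' := by
      have h2 : (perpV Q W α).map ((toOG Q m : (ι → F) ≃ₗ[F] (ι → F)) : (ι → F) →ₗ[F] (ι → F))
          ≤ W' := by
        rintro _ ⟨x, hx, rfl⟩
        exact h1 x hx
      have h3 := Submodule.finrank_mono h2
      rwa [finrank_map_equiv] at h3
    have hlt := hS.lt
    have hfr : finrank F (perpV Q W α) = finrank F W' := by omega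
    have hmap := map_eq_of_mem (toOG Q m) hfr h1
    apply hβ0
    apply hS.ndW' β hmα
    intro y hy
    rw [← hmap] at hy
    obtain ⟨x, hx, rfl⟩ := hy
    have : polar Q β ((toOG Q m) x) = 0 := by
      rw [hβ, polar_toOG]
      exact ((mem_perpV).1 hx).2
    exact this
  obtain ⟨x, hxW, hαx, hmx⟩ := hex
  have h1 : InA Q M β (toOG Q m x) := by
    rw [hβ]
    exact InA.conj hm (hS.inA_W hα hα0 hQα hxW hαx)
  obtain ⟨a, ha, b, hb, hab⟩ := hS.dec (toOG Q m x)
  have ha0 : a ≠ 0 := by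
    intro h0
    apply hmx
    rw [hab, h0, zero_add]
    exact hb
  have hβa : polar Q β a = 0 := by rw [polar_comm]; exact hS.orth a ha β hmα
  have hβb : polar Q β b = 0 := by
    have h2 : polar Q β (toOG Q m x) = 0 := by rw [hβ, polar_toOG, hαx]
    rw [hab, polar_add_right, hβa, zero_add] at h2
    exact h2
  have h2 := InA.add hQβ (by rw [hab, polar_add_right, hβa, hβb, add_zero])
    (by rw [polar_smul_right, hβb, smul_zero]) h1
    ((hS.inA_W' hmα hβ0 hQβ hb hβb).smul (-1))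
  have e : toOG Q m x + (-1 : F) • b = a := by
    rw [hab]
    module
  rw [e] at h2
  exact hne (hS.eq_omega_of_star' hmα hβ0 hQβ ha ha0 h2)

/-- MAIN: every element of a proper overgroup stabilises `W` -/
theorem NS4.le_stab (hS : NS4 Q M W W') (hne : M ≠ Cfsg.Omega F ⇑Q)
    {g : ↥(Cfsg.isometryGroup F ⇑Q)} (hg : g ∈ M) : ∀ x ∈ W, toOG Q g x ∈ W := by
  have hQ := hS.nd
  have hn := hS.card
  have hbig := hS.big
  have h2 := hS.two
  have hginv : g⁻¹ ∈ M := M.inv_mem hg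
  obtain ⟨p0, hp0W, hp00, hQp0⟩ := exists_singular_in Q W (by omega)
  obtain ⟨a, ha, b, hb, hab⟩ := hS.dec (toOG Q g p0)
  by_cases hb0 : b = 0
  · exact hS.alpha hne hg hp0W hp00 hQp0 (by rw [hab, hb0, add_zero]; exact ha)
  by_cases ha0 : a = 0
  · exfalso
    exact hS.gamma hne hg hp0W hp00 hQp0 (by rw [hab, ha0, zero_add]; exact hb)
  have hfin : ∀ s ∈ W, s ≠ 0 → Q s = 0 → toOG Q g⁻¹ s ∈ W → ∀ x ∈ W, toOG Q g x ∈ W := by
    intro s hsW hs0 hQs hgs
    exact stab_of_inv_stab (hS.alpha hne hginv hsW hs0 hQs hgs)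
  have hfin' : ∀ s ∈ W, s ≠ 0 → Q s = 0 → toOG Q g⁻¹ s ∉ W' :=
    fun s hsW hs0 hQs => hS.gamma hne hginv hsW hs0 hQs
  have hab' : polar Q a b = 0 := hS.orth a ha b hb
  obtain ⟨gW, hgW⟩ : ∃ gW : Submodule F (ι → F), ∀ v, v ∈ gW ↔ ∃ x ∈ W, toOG Q g x = v :=
    ⟨W.map ((toOG Q g : (ι → F) ≃ₗ[F] (ι → F)) : (ι → F) →ₗ[F] (ι → F)), fun v => by
      rw [Submodule.mem_map]; rfl⟩
  -- Claim C
  have hCg : ∀ h ∈ Cfsg.Omega F ⇑Q, (∀ x ∈ W, toOG Q h x ∈ W) → toOG Q h a = a →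
      toOG Q h b = b → ∀ v ∈ gW, toOG Q h v ∈ gW := by
    intro h hhΩ hhW hha hhb v hv
    obtain ⟨x, hx, rfl⟩ := (hgW v).1 hv
    have hhM : h ∈ M := hS.stab h hhΩ hhW
    have hmM : g⁻¹ * h * g ∈ M := M.mul_mem (M.mul_mem hginv hhM) hg
    have hmp0 : toOG Q (g⁻¹ * h * g) p0 = p0 := by
      rw [map_mul, map_mul, LinearEquiv.mul_apply, LinearEquiv.mul_apply]
      apply toOG_inv_of_eq
      rw [hab, map_add, hha, hhb]
    have hst := hS.alpha hne hmM hp0W hp00 hQp0 (by rw [hmp0]; exact hp0W)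
    refine (hgW _).2 ⟨toOG Q (g⁻¹ * h * g) x, hst x hx, ?_⟩
    rw [map_mul, map_mul, LinearEquiv.mul_apply, LinearEquiv.mul_apply]
    exact toOG_mul_inv_apply g _
  have hperpW' : ∀ s, (∀ v ∈ gW, polar Q s v = 0) → toOG Q g⁻¹ s ∈ W' := by
    intro s hs
    apply hS.mem_W'_of_perp
    intro x hx
    rw [← polar_toOG Q g, toOG_mul_inv_apply]
    exact hs _ ((hgW _).2 ⟨x, hx, rfl⟩)
  have hinvW : ∀ s, s ∈ gW → toOG Q g⁻¹ s ∈ W := by
    intro s hs
    obtain ⟨x, hx, rfl⟩ := (hgW s).1 hs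
    rw [toOG_inv_of_eq g rfl]
    exact hx
  by_cases hQa : Q a = 0
  · -- (3a)
    by_cases hperp : ∀ v ∈ gW, polar Q a v = 0
    · exfalso
      exact hfin' a ha ha0 hQa (hperpW' a hperp)
    push Not at hperp
    obtain ⟨v, hv, hav⟩ := hperp
    obtain ⟨fa, hfaW, hQfa, hafa⟩ := exists_hyp_partner Q W hS.ndW ha ha0 hQa
    have hNnd := perpPair_nd Q W hS.ndW ha hfaW hQa hQfa hafa
    have hNfr := perpPair_finrank Q W ha hfaW hQa hQfa hafa
    have hNpos : 0 < finrank F (perpPair Q W a fa) := by omega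
    obtain ⟨⟨n1, hn1N⟩, hn10⟩ := Module.finrank_pos_iff_exists_ne_zero.1 hNpos
    have hn10' : n1 ≠ 0 := fun h => hn10 (Subtype.ext h)
    obtain ⟨n2, hn2N, hn12⟩ : ∃ n2 ∈ perpPair Q W a fa, polar Q n1 n2 ≠ 0 := by
      by_contra hcon
      push Not at hcon
      exact hn10' (hNnd n1 hn1N hcon)
    rw [mem_perpPair] at hn1N hn2N
    have hE : ∀ n ∈ W, polar Q a n = 0 → egen Q a n v ∈ gW := by
      intro n hnW han
      obtain ⟨e, heΩ, he⟩ := exists_egen Q hQ hn ha0 hQa han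
      have h1 := hCg e heΩ (fun x hx => by
        rw [he]
        unfold egen
        exact W.sub_mem (W.sub_mem (W.add_mem hx (W.smul_mem _ hnW)) (W.smul_mem _ ha))
          (W.smul_mem _ ha)) (by rw [he]; exact egen_fix Q (pself Q hQa) (by rw [polar_comm]; exact han))
        (by rw [he]; exact egen_fix Q hab' (hS.orth n hnW b hb)) v hv
      rwa [he] at h1
    have h12 := hE (n1 + n2) (W.add_mem hn1N.1 hn2N.1)
      (by rw [polar_add_right, hn1N.2.1, hn2N.2.1, add_zero])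
    have h1 := hE n1 hn1N.1 hn1N.2.1
    have h2' := hE n2 hn2N.1 hn2N.2.1
    have hd : egen Q a (n1 + n2) v - egen Q a n1 v - egen Q a n2 v + v =
        (-(polar Q n1 n2 * polar Q a v)) • a := by
      unfold egen
      rw [Cfsg.Agent.Lib.Helper25.MaxTS.Q_add, polar_add_left]
      module
    have hamem : a ∈ gW := by
      have h3 := gW.add_mem (gW.sub_mem (gW.sub_mem h12 h1) h2') hv
      rw [hd] at h3
      have h4 := gW.smul_mem (-(polar Q n1 n2 * polar Q a v))⁻¹ h3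
      rwa [smul_smul, inv_mul_cancel₀ (neg_ne_zero.2 (mul_ne_zero hn12 hav)), one_smul] at h4
    exact hfin a ha ha0 hQa (hinvW a hamem)
  · -- (3b)
    have hA3nd := perpV_nd h2 hS.ndW ha hQa
    have hA3fr := perpV_finrank hQ W a
    have hA3 : ∀ x, x ∈ perpV Q W a ↔ x ∈ W ∧ polar Q a x = 0 := fun x => mem_perpV
    have hρ : ∀ x ∈ perpV Q W a, ∀ y ∈ perpV Q W a, Q x ≠ 0 → Q y = Q x → ∀ v ∈ gW,
        reflE Q x (reflE Q y v) ∈ gW := by
      intro x hx y hy hQx hQy v hv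
      rw [hA3] at hx hy
      have hmΩ : reflM Q x * reflM Q y ∈ Cfsg.Omega F ⇑Q :=
        refl_pair_mem_omega Q hQ hn hQx rfl hQy
      have hmapply : ∀ u, toOG Q (reflM Q x * reflM Q y) u = reflE Q x (reflE Q y u) := by
        intro u
        rw [map_mul, LinearEquiv.mul_apply, toOG_reflM, toOG_reflM]
      have h1 := hCg _ hmΩ (fun u hu => by
        rw [hmapply, reflE_apply Q y u, reflE_apply]
        exact W.sub_mem (W.sub_mem hu (W.smul_mem _ hy.1)) (W.smul_mem _ hx.1))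
        (by
          rw [hmapply]
          have e0 : reflE Q y a = a := reflE_of_perp Q (by rw [polar_comm]; exact hy.2)
          rw [e0]
          exact reflE_of_perp Q (by rw [polar_comm]; exact hx.2))
        (by
          rw [hmapply]
          have e0 : reflE Q y b = b := reflE_of_perp Q (hS.orth y hy.1 b hb)
          rw [e0]
          exact reflE_of_perp Q (hS.orth x hx.1 b hb)) v hv
      rwa [hmapply] at h1
    have hε : ∀ p ∈ perpV Q W a, p ≠ 0 → Q p = 0 → ∀ z ∈ perpV Q W a, polar Q p z = 0 →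
        ∀ v ∈ gW, egen Q p z v ∈ gW := by
      intro p hp hp0 hQp z hz hpz v hv
      rw [hA3] at hp hz
      obtain ⟨e, heΩ, he⟩ := exists_egen Q hQ hn hp0 hQp hpz
      have h1 := hCg e heΩ (fun x hx => by
        rw [he]
        unfold egen
        exact W.sub_mem (W.sub_mem (W.add_mem hx (W.smul_mem _ hz.1)) (W.smul_mem _ hp.1))
          (W.smul_mem _ hp.1))
        (by
          rw [he]
          exact egen_fix Q (by rw [polar_comm]; exact hp.2) (by rw [polar_comm]; exact hz.2))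
        (by
          rw [he]
          exact egen_fix Q (hS.orth p hp.1 b hb) (hS.orth z hz.1 b hb)) v hv
      rwa [he] at h1
    have hεA3 : ∀ p ∈ perpV Q W a, ∀ z ∈ perpV Q W a, ∀ x ∈ perpV Q W a,
        egen Q p z x ∈ perpV Q W a := by
      intro p hp z hz x hx
      unfold egen
      exact Submodule.sub_mem _ (Submodule.sub_mem _ (Submodule.add_mem _ hx
        (Submodule.smul_mem _ _ hz)) (Submodule.smul_mem _ _ hp)) (Submodule.smul_mem _ _ hp)
    obtain ⟨s0, hs0A, hs00, hQs0⟩ := exists_singular_in Q (perpV Q W a) (by omega)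
    by_cases hs : ∃ s ∈ perpV Q W a ⊓ gW, s ≠ 0 ∧ Q s = 0
    · obtain ⟨s, hsY, hs0, hQs⟩ := hs
      exact hfin s ((hA3 s).1 hsY.1).1 hs0 hQs (hinvW s hsY.2)
    push Not at hs
    exfalso
    by_cases hY : perpV Q W a ⊓ gW = ⊥
    · -- every vector of gW is orthogonal to A3
      have hperp : ∀ v ∈ gW, polar Q s0 v = 0 := by
        intro v hv
        obtain ⟨a', ha', b', hb', hv'⟩ := hS.dec v
        have haa : polar Q a a ≠ 0 := by
          rw [Cfsg.Agent.Lib.Helper25.MaxTS.polar_self]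
          exact mul_ne_zero h2 hQa
        obtain ⟨lam, hlam⟩ : ∃ lam, lam = polar Q a a' / polar Q a a := ⟨_, rfl⟩
        obtain ⟨v3, hv3⟩ : ∃ v3, v3 = a' - lam • a := ⟨_, rfl⟩
        have hv3A : v3 ∈ perpV Q W a := by
          rw [hA3, hv3]
          refine ⟨W.sub_mem ha' (W.smul_mem _ ha), ?_⟩
          rw [polar_sub_right, polar_smul_right, hlam, smul_eq_mul, div_mul_cancel₀ _ haa, sub_self]
        have hv30 : v3 = 0 := by
          by_contra hne3
          obtain ⟨p, hpA, hQp, hv3p⟩ := exists_sing_not_perp Q hA3nd (by omega) hv3A hne3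
          have hp0 : p ≠ 0 := by
            rintro rfl
            apply hv3p
            simp
          obtain ⟨fp, hfpA, hQfp, hpfp⟩ := exists_hyp_partner Q _ hA3nd hpA hp0 hQp
          have hN'fr := perpPair_finrank Q _ hpA hfpA hQp hQfp hpfp
          have hN'pos : 0 < finrank F (perpPair Q (perpV Q W a) p fp) := by omega
          obtain ⟨⟨z, hzN⟩, hz0⟩ := Module.finrank_pos_iff_exists_ne_zero.1 hN'pos
          have hz0' : z ≠ 0 := fun h => hz0 (Subtype.ext h)
          rw [mem_perpPair] at hzN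
          obtain ⟨hzA, hpz, hfpz⟩ := hzN
          have h1 := hε p hpA hp0 hQp z hzA hpz v hv
          have hpW := ((hA3 p).1 hpA)
          have hzW := ((hA3 z).1 hzA)
          have hpv : polar Q p v = polar Q p v3 := by
            rw [hv', polar_add_right, hS.orth p hpW.1 b' hb', add_zero]
            have e : a' = v3 + lam • a := by rw [hv3]; abel
            rw [e, polar_add_right, polar_smul_right, polar_comm Q p a, hpW.2]
            simp
          have hd : egen Q p z v - v =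
              polar Q p v • z - (polar Q z v + Q z * polar Q p v) • p := by
            unfold egen
            module
          have hdY : egen Q p z v - v ∈ perpV Q W a ⊓ gW := by
            refine ⟨?_, gW.sub_mem h1 hv⟩
            rw [hd]
            exact Submodule.sub_mem _ (Submodule.smul_mem _ _ hzA) (Submodule.smul_mem _ _ hpA)
          rw [hY, Submodule.mem_bot, hd] at hdY
          have h3 : polar Q fp (polar Q p v • z - (polar Q z v + Q z * polar Q p v) • p) = 0 := by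
            rw [hdY]; simp
          rw [polar_sub_right, polar_smul_right, polar_smul_right, hfpz, polar_comm Q fp p, hpfp]
            at h3
          simp only [smul_eq_mul, mul_zero, mul_one, zero_sub, neg_eq_zero] at h3
          rw [h3, zero_smul, sub_zero] at hdY
          have hpv0 : polar Q p v ≠ 0 := by
            rw [hpv, polar_comm]
            exact hv3p
          exact hz0' ((smul_eq_zero.1 hdY).resolve_left hpv0)
        have hs0W := (hA3 s0).1 hs0A
        have e : a' = lam • a := by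
          rw [hv3, sub_eq_zero] at hv30
          exact hv30
        rw [hv', e, polar_add_right, polar_smul_right, polar_comm Q s0 a, hs0W.2,
          hS.orth s0 hs0W.1 b' hb']
        simp
      exact hfin' s0 ((hA3 s0).1 hs0A).1 hs00 hQs0 (hperpW' s0 hperp)
    · have hrefl : ∀ x ∈ perpV Q W a ⊓ gW, ∀ w ∈ perpV Q W a, Q w ≠ 0 → polar Q w x ≠ 0 →
          w ∈ perpV Q W a ⊓ gW := by
        intro x hxY w hwA hQw hwx
        have hx0 : x ≠ 0 := by
          rintro rfl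
          apply hwx
          simp
        have hQx : Q x ≠ 0 := hs x hxY hx0
        have hA2nd := perpV_nd h2 hA3nd hxY.1 hQx
        have hA2fr := perpV_finrank hQ (perpV Q W a) x
        obtain ⟨y, hyA2, hQy⟩ := universal Q hA2nd (by omega) (Q w)
        rw [mem_perpV] at hyA2
        have h1 := hρ w hwA y hyA2.1 hQw hQy x hxY.2
        have e0 : reflE Q y x = x := reflE_of_perp Q (by rw [polar_comm]; exact hyA2.2)
        rw [e0, reflE_apply] at h1
        have h3 := gW.sub_mem hxY.2 h1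
        rw [sub_sub_cancel] at h3
        have h4 := gW.smul_mem ((Q w)⁻¹ * polar Q w x)⁻¹ h3
        rw [smul_smul, inv_mul_cancel₀ (mul_ne_zero (inv_ne_zero hQw) hwx), one_smul] at h4
        exact ⟨hwA, h4⟩
      have hegen : ∀ x ∈ perpV Q W a ⊓ gW, ∀ p ∈ perpV Q W a, Q p = 0 → ∀ z ∈ perpV Q W a,
          polar Q p z = 0 → egen Q p z x ∈ perpV Q W a ⊓ gW := by
        intro x hxY p hpA hQp z hzA hpz
        by_cases hp0 : p = 0
        · have e : egen Q p z x = x := by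
            rw [hp0]
            unfold egen
            simp
          rw [e]
          exact hxY
        exact ⟨hεA3 p hpA z hzA x hxY.1, hε p hpA hp0 hQp z hzA hpz x hxY.2⟩
      have hall := irred Q hA3nd inf_le_left hY hrefl hegen (by
        rintro ⟨-, h3, -⟩
        omega)
      exact hs s0 (hall hs0A) hs00 hQs0

end setup

variable (Q)


/-- The stabiliser in `Ω` of a nondegenerate subspace `W` (with `W' = W^⊥`, `dim W ≥ 4, dim W' < dim W, char ≠ 2`, `W'` not a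
hyperbolic plane over a field with at most three elements, and no element of `Ω` mapping `W` into
`W'`) is a maximal subgroup of `Ω`. -/
theorem isMaximalIn_nd4 (hQ : (polarBilin Q).Nondegenerate) (hcard : 7 ≤ Fintype.card ι)
    {W W' : Submodule F (ι → F)} (horth : ∀ x ∈ W, ∀ y ∈ W', polar Q x y = 0)
    (hdisj : W ⊓ W' = ⊥) (hsup : W ⊔ W' = ⊤) (hbig : 4 ≤ finrank F W) (hfrlt : finrank F W' < finrank F W) (hW'0 : W' ≠ ⊥)
    (htwo : (2 : F) ≠ 0)
    (hexc : ¬ (Fintype.card F ≤ 3 ∧ finrank F W' = 2 ∧ ∃ e ∈ W', e ≠ 0 ∧ Q e = 0)) :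
    Cfsg.Geo.IsMaximalIn (Cfsg.Geo.omegaGL ⇑Q)
      (Cfsg.Geo.subspaceStabilizer W ⊓ Cfsg.Geo.omegaGL ⇑Q) := by
  have e1 : Cfsg.Geo.subspaceStabilizer W ⊓ Cfsg.Geo.omegaGL ⇑Q =
      (stabSub Q W ⊓ Cfsg.Omega F ⇑Q).map (Cfsg.isometryGroup F ⇑Q).subtype := by
    ext x
    constructor
    · rintro ⟨hx1, g, hg, rfl⟩
      exact ⟨g, ⟨hx1, hg⟩, rfl⟩
    · rintro ⟨g, ⟨hg1, hg2⟩, rfl⟩
      exact ⟨hg1, g, hg2, rfl⟩
  rw [e1]
  have hlt : stabSub Q W ⊓ Cfsg.Omega F ⇑Q < Cfsg.Omega F ⇑Q := by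
    refine lt_of_le_of_ne inf_le_right (fun heq => ?_)
    have hS0 : NS4 Q (Cfsg.Omega F ⇑Q) W W' :=
      ⟨hQ, hcard, horth, hdisj, hsup, hbig, hfrlt, fun g hg _ => hg, le_rfl, hexc, htwo⟩
    obtain ⟨u, huW, hu0, hQu⟩ := exists_singular_in Q W (by omega)
    obtain ⟨f, hfW, hQf, huf⟩ := exists_hyp_partner Q W hS0.ndW huW hu0 hQu
    obtain ⟨y, hyW', hy0⟩ := (Submodule.ne_bot_iff W').1 hW'0
    obtain ⟨g, hgΩ, hg⟩ := exists_egen Q hQ hcard hu0 hQu (y := y) (horth u huW y hyW')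
    have hgS : g ∈ stabSub Q W := by
      have h5 : g ∈ stabSub Q W ⊓ Cfsg.Omega F ⇑Q := by
        rw [heq]
        exact hgΩ
      exact h5.1
    have h1 : toOG Q g f ∈ W := by
      have h5 := (mem_stabSub Q).1 hgS
      rw [← h5]
      exact Submodule.mem_map_of_mem hfW
    rw [hg] at h1
    unfold egen at h1
    rw [huf, polar_comm Q y f, horth f hfW y hyW'] at h1
    have h2 : y ∈ W := by
      have e : y = (f + (1 : F) • y - (0 : F) • u - (Q y * 1) • u) - f + Q y • u := by module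
      rw [e]
      exact W.add_mem (W.sub_mem h1 hfW) (W.smul_mem _ huW)
    have h3 : y ∈ W ⊓ W' := ⟨h2, hyW'⟩
    rw [hdisj, Submodule.mem_bot] at h3
    exact hy0 h3
  refine isMaximalIn_map _ (Subgroup.subtype_injective _) hlt (fun M h1 h2 => ?_)
  by_cases hM : M = Cfsg.Omega F ⇑Q
  · exact Or.inr hM
  · left
    have hS : NS4 Q M W W' :=
      ⟨hQ, hcard, horth, hdisj, hsup, hbig, hfrlt,
        fun g hg hx => h1 ⟨mem_stabSub_of_le Q hx, hg⟩, h2, hexc, htwo⟩
    apply le_antisymm _ h1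
    intro g hg
    exact ⟨mem_stabSub_of_le Q (hS.le_stab hM hg), h2 hg⟩

end Cfsg.Agent.Lib.Helper10.NDMax4
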