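import Cfsg.Agent.Lib.Helper5.NDGlue
import Cfsg.Agent.Lib.Helper10.NDMax4

/-!
helper10, S5813 (`Ω₇(q)`): helper5's wrapper `NDGlue.isMaximalIn_nd'` with `7 ≤ card ι` (char ≠ 2)
instead of `13 ≤ card ι`, on `NDMax4.isMaximalIn_nd4` (the larger of `W`, `W^⊥` has dimension at
least 4 as soon as `card ι ≥ 7` and the dimensions differ).
-/

set_option autoImplicit false
set_option linter.unusedSectionVars false
set_option linter.unusedVariables false
set_option linter.unusedSimpArgs false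

namespace Cfsg.Agent.Lib.Helper10.NDMax4

open Module QuadraticMap Matrix Cfsg.Agent.Lib.Helper25.CD Cfsg.Agent.Lib.Helper25.Spin
  Cfsg.Agent.Lib.Helper25.Fam Cfsg.Agent.Lib.Helper25.Siegel
  Cfsg.Agent.Lib.Helper25.PS Cfsg.Agent.Lib.Helper25.OGeom Cfsg.Agent.Lib.Helper15
  Cfsg.Agent.Lib.Helper5.TSMax Cfsg.Agent.Lib.Helper5.NSMax Cfsg.Agent.Lib.Helper5.PairMax
  Cfsg.Agent.Lib.Helper5.NDMax

variable {ι : Type} [Fintype ι] [DecidableEq ι] {F : Type*} [Field F] [Fintype F]
  (Q : QuadraticForm F (ι → F))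

/-- Maximality of the stabiliser of a nondegenerate subspace whose dimension differs from that of
its orthogonal complement, `7 ≤ card ι`, characteristic `≠ 2`. -/
theorem isMaximalIn_nd7 (hQ : (polarBilin Q).Nondegenerate) (hcard : 7 ≤ Fintype.card ι)
    (htwo : (2 : F) ≠ 0)
    {W : Submodule F (ι → F)} (hW : NdOn Q W) (hW0 : W ≠ ⊥) (hW1 : W ≠ ⊤)
    (hdim : 2 * finrank F W ≠ Fintype.card ι)
    (hexc : ∀ U : Submodule F (ι → F), (U = W ∨ U = Cfsg.Agent.Lib.Helper25.MaxTS.perp Q W) →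
      ¬ (Fintype.card F ≤ 3 ∧ finrank F U = 2 ∧ ∃ e ∈ U, e ≠ 0 ∧ Q e = 0)) :
    Cfsg.Geo.IsMaximalIn (Cfsg.Geo.omegaGL ⇑Q)
      (Cfsg.Geo.subspaceStabilizer W ⊓ Cfsg.Geo.omegaGL ⇑Q) := by
  have hfr := Cfsg.Agent.Lib.Helper25.MaxTS.finrank_perp hQ W
  rw [Module.finrank_fintype_fun_eq_card] at hfr
  have hle : finrank F W ≤ Fintype.card ι := by
    have h := Submodule.finrank_le W
    rwa [Module.finrank_fintype_fun_eq_card] at h
  have hWlt : finrank F W < Fintype.card ι := by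
    by_contra h
    apply hW1
    apply Submodule.eq_top_of_finrank_eq
    rw [Module.finrank_fintype_fun_eq_card]
    omega
  have hWpos : 0 < finrank F W := by
    rw [Nat.pos_iff_ne_zero]
    intro h
    exact hW0 (Submodule.finrank_eq_zero.1 h)
  rcases Nat.lt_or_ge (finrank F (Cfsg.Agent.Lib.Helper25.MaxTS.perp Q W)) (finrank F W) with
    hlt | hge
  · exact isMaximalIn_nd4 Q hQ hcard (perp_orth Q W) (perp_disj Q hW) (perp_sup Q hQ hW)
      (by omega) hlt (by
        intro h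
        rw [h, finrank_bot] at hfr
        omega) htwo (hexc _ (Or.inr rfl))
  · have hlt : finrank F W < finrank F (Cfsg.Agent.Lib.Helper25.MaxTS.perp Q W) := by omega
    have h := isMaximalIn_nd4 Q hQ hcard (W := Cfsg.Agent.Lib.Helper25.MaxTS.perp Q W)
      (W' := W) (fun x hx y hy => by rw [polar_comm]; exact perp_orth Q W y hy x hx)
      (by rw [inf_comm]; exact perp_disj Q hW) (by rw [sup_comm]; exact perp_sup Q hQ hW)
      (by omega) hlt hW0 htwo (hexc _ (Or.inl rfl))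
    rwa [stab_perp_inf_eq Q hQ] at h

end Cfsg.Agent.Lib.Helper10.NDMax4
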