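import Mathlib

/-!
# S3894 leaf B1 (helper18's plan): the centralizer of an irreducible 2×2 matrix

For `g : Matrix (Fin 2) (Fin 2) F` without eigenvector (`NoEigen g`):
* `comm_eq_lin` : every matrix commuting with `g` is `a • 1 + b • g`;
* `det_lin_ne_zero` : `a • 1 + b • g` is invertible unless `a = b = 0`;
* `eq_zero_or_det_ne_zero_of_comm` : a matrix commuting with `g` is `0` or invertible;
* `lin_inj` : `(a, b) ↦ a • 1 + b • g` is injective;
* `centralizer_comm`, `card_centralizer` : the centralizer of `g` in `GL (Fin 2) F` is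
  commutative, of order `q ^ 2 - 1`.
-/

set_option autoImplicit false

namespace Cfsg.Agent.Lib.Helper10.NilCovB1

open Matrix

variable {F : Type*} [Field F]

/-- `g` has no eigenvector in `F ^ 2`. -/
def NoEigen (g : Matrix (Fin 2) (Fin 2) F) : Prop :=
  ∀ v : Fin 2 → F, v ≠ 0 → ∀ c : F, g *ᵥ v ≠ c • v

theorem NoEigen.entry10_ne (g : Matrix (Fin 2) (Fin 2) F) (hg : NoEigen g) : g 1 0 ≠ 0 := by
  intro h
  refine hg ![1, 0] ?_ (g 0 0) ?_
  · intro h0
    have := congrFun h0 0
    simp at this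
  · ext i
    fin_cases i <;> simp [Matrix.mulVec, dotProduct, Fin.sum_univ_two, h]

theorem NoEigen.entry01_ne (g : Matrix (Fin 2) (Fin 2) F) (hg : NoEigen g) : g 0 1 ≠ 0 := by
  intro h
  refine hg ![0, 1] ?_ (g 1 1) ?_
  · intro h0
    have := congrFun h0 1
    simp at this
  · ext i
    fin_cases i <;> simp [Matrix.mulVec, dotProduct, Fin.sum_univ_two, h]

/-- Every matrix commuting with an irreducible `g` is a linear polynomial in `g`. -/
theorem comm_eq_lin (g : Matrix (Fin 2) (Fin 2) F) (hg : NoEigen g)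
    (x : Matrix (Fin 2) (Fin 2) F) (hx : x * g = g * x) :
    ∃ a b : F, x = a • (1 : Matrix (Fin 2) (Fin 2) F) + b • g := by
  have hc : g 1 0 ≠ 0 := hg.entry10_ne
  have e00 := congrFun (congrFun hx 0) 0
  have e10 := congrFun (congrFun hx 1) 0
  simp only [Matrix.mul_apply, Fin.sum_univ_two] at e00 e10
  refine ⟨x 0 0 - x 1 0 / g 1 0 * g 0 0, x 1 0 / g 1 0, ?_⟩
  ext i j
  fin_cases i <;> fin_cases j
  · simp
  · simp
    field_simp
    linear_combination e00
  · simp
    field_simp
  · simp
    field_simp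
    linear_combination e10

/-- A nonzero linear polynomial in an irreducible `g` is invertible. -/
theorem det_lin_ne_zero (g : Matrix (Fin 2) (Fin 2) F) (hg : NoEigen g) (a b : F)
    (hab : a ≠ 0 ∨ b ≠ 0) : (a • (1 : Matrix (Fin 2) (Fin 2) F) + b • g).det ≠ 0 := by
  intro hdet
  obtain ⟨v, hv, hv0⟩ := (Matrix.exists_mulVec_eq_zero_iff).2 hdet
  rw [Matrix.add_mulVec, Matrix.smul_mulVec, Matrix.smul_mulVec, Matrix.one_mulVec] at hv0
  by_cases hb : b = 0
  · subst hb
    have ha : a ≠ 0 := by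
      rcases hab with h | h
      · exact h
      · exact absurd rfl h
    simp only [zero_smul, add_zero] at hv0
    exact hv ((smul_eq_zero.1 hv0).resolve_left ha)
  · refine hg v hv (-a / b) ?_
    have h1 : b • (g *ᵥ v) = -(a • v) := eq_neg_of_add_eq_zero_right hv0
    calc g *ᵥ v = b⁻¹ • (b • (g *ᵥ v)) := by rw [smul_smul, inv_mul_cancel₀ hb, one_smul]
      _ = b⁻¹ • (-(a • v)) := by rw [h1]
      _ = (-a / b) • v := by
        rw [smul_neg, smul_smul, ← neg_smul]
        congr 1
        field_simp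

/-- A matrix commuting with an irreducible `g` is zero or invertible. -/
theorem eq_zero_or_det_ne_zero_of_comm (g : Matrix (Fin 2) (Fin 2) F) (hg : NoEigen g)
    (x : Matrix (Fin 2) (Fin 2) F) (hx : x * g = g * x) : x = 0 ∨ x.det ≠ 0 := by
  obtain ⟨a, b, rfl⟩ := comm_eq_lin g hg x hx
  by_cases hab : a ≠ 0 ∨ b ≠ 0
  · exact Or.inr (det_lin_ne_zero g hg a b hab)
  · push_neg at hab
    left
    rw [hab.1, hab.2]
    simp

/-- `(a, b) ↦ a • 1 + b • g` is injective. -/
theorem lin_inj (g : Matrix (Fin 2) (Fin 2) F) (hg : NoEigen g) (a b a' b' : F)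
    (h : a • (1 : Matrix (Fin 2) (Fin 2) F) + b • g = a' • (1 : Matrix (Fin 2) (Fin 2) F) + b' • g) :
    a = a' ∧ b = b' := by
  have hc : g 1 0 ≠ 0 := hg.entry10_ne
  have e10 := congrFun (congrFun h 1) 0
  have e00 := congrFun (congrFun h 0) 0
  simp at e10 e00
  have hb : b = b' := by
    rcases e10 with h | h
    · exact h
    · exact absurd h hc
  subst hb
  exact ⟨by simpa using e00, rfl⟩

/-- Two matrices commuting with an irreducible `g` commute. -/
theorem comm_of_comm (g : Matrix (Fin 2) (Fin 2) F) (hg : NoEigen g)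
    (x y : Matrix (Fin 2) (Fin 2) F) (hx : x * g = g * x) (hy : y * g = g * y) :
    x * y = y * x := by
  obtain ⟨a, b, rfl⟩ := comm_eq_lin g hg x hx
  obtain ⟨c, d, rfl⟩ := comm_eq_lin g hg y hy
  simp only [add_mul, mul_add, smul_mul_assoc, mul_smul_comm, one_mul, mul_one, smul_add,
    smul_smul]
  rw [mul_comm c a, mul_comm d a, mul_comm c b, mul_comm d b]
  abel

/-! ### The centralizer in `GL (Fin 2) F` -/

/-- Membership in the centralizer of `g` in `GL`, as a matrix identity. -/
theorem mem_centralizer_iff_matrix (g x : GL (Fin 2) F) :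
    x ∈ Subgroup.centralizer ({g} : Set (GL (Fin 2) F)) ↔
      (x : Matrix (Fin 2) (Fin 2) F) * (g : Matrix (Fin 2) (Fin 2) F) =
        (g : Matrix (Fin 2) (Fin 2) F) * (x : Matrix (Fin 2) (Fin 2) F) := by
  rw [Subgroup.mem_centralizer_iff]
  constructor
  · intro h
    have := h g (Set.mem_singleton g)
    have h2 := congrArg (fun y : GL (Fin 2) F => (y : Matrix (Fin 2) (Fin 2) F)) this
    simpa using h2.symm
  · intro h y hy
    rw [Set.mem_singleton_iff] at hy
    subst hy
    apply Units.ext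
    simpa using h.symm

/-- The centralizer of an irreducible `g` in `GL (Fin 2) F` is commutative. -/
theorem centralizer_comm (g : GL (Fin 2) F) (hg : NoEigen (g : Matrix (Fin 2) (Fin 2) F))
    (x y : GL (Fin 2) F) (hx : x ∈ Subgroup.centralizer ({g} : Set (GL (Fin 2) F)))
    (hy : y ∈ Subgroup.centralizer ({g} : Set (GL (Fin 2) F))) : x * y = y * x := by
  apply Units.ext
  simpa using comm_of_comm _ hg _ _ ((mem_centralizer_iff_matrix g x).1 hx)
    ((mem_centralizer_iff_matrix g y).1 hy)

/-- For `x` in the centralizer of an irreducible `g` and a scalar `c`, `x - c` is zero or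
invertible (`F[g]` is a field). -/
theorem sub_smul_eq_zero_or_det_ne_zero (g : GL (Fin 2) F)
    (hg : NoEigen (g : Matrix (Fin 2) (Fin 2) F)) (x : GL (Fin 2) F)
    (hx : x ∈ Subgroup.centralizer ({g} : Set (GL (Fin 2) F))) (c : F) :
    (x : Matrix (Fin 2) (Fin 2) F) - c • 1 = 0 ∨
      ((x : Matrix (Fin 2) (Fin 2) F) - c • 1).det ≠ 0 := by
  apply eq_zero_or_det_ne_zero_of_comm _ hg
  have := (mem_centralizer_iff_matrix g x).1 hx
  rw [sub_mul, mul_sub, this]
  simp

/-- The parametrisation `(a, b) ↦ a + b g` of the centralizer of an irreducible `g`. -/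
noncomputable def linUnit (g : GL (Fin 2) F) (hg : NoEigen (g : Matrix (Fin 2) (Fin 2) F))
    (p : {p : F × F // p ≠ 0}) : Subgroup.centralizer ({g} : Set (GL (Fin 2) F)) :=
  ⟨Matrix.GeneralLinearGroup.mkOfDetNeZero
      (p.1.1 • (1 : Matrix (Fin 2) (Fin 2) F) + p.1.2 • (g : Matrix (Fin 2) (Fin 2) F))
      (det_lin_ne_zero _ hg _ _ (by
        by_contra h
        push_neg at h
        exact p.2 (Prod.ext h.1 h.2))), by
    rw [mem_centralizer_iff_matrix]
    simp [Matrix.GeneralLinearGroup.mkOfDetNeZero, add_mul, mul_add]⟩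

theorem linUnit_bijective (g : GL (Fin 2) F) (hg : NoEigen (g : Matrix (Fin 2) (Fin 2) F)) :
    Function.Bijective (linUnit g hg) := by
  constructor
  · intro p p' h
    have h1 := congrArg (fun y : Subgroup.centralizer ({g} : Set (GL (Fin 2) F)) =>
      ((y : GL (Fin 2) F) : Matrix (Fin 2) (Fin 2) F)) h
    simp only [linUnit, Matrix.GeneralLinearGroup.mkOfDetNeZero] at h1
    have h2 := lin_inj _ hg _ _ _ _ h1
    exact Subtype.ext (Prod.ext h2.1 h2.2)
  · rintro ⟨x, hx⟩
    obtain ⟨a, b, hab⟩ := comm_eq_lin _ hg _ ((mem_centralizer_iff_matrix g x).1 hx)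
    have hne : (a, b) ≠ (0 : F × F) := by
      intro h0
      have ha : a = 0 := congrArg Prod.fst h0
      have hb : b = 0 := congrArg Prod.snd h0
      rw [ha, hb] at hab
      have hdet : (x : Matrix (Fin 2) (Fin 2) F).det = 0 := by
        rw [hab]; simp
      exact (Matrix.GeneralLinearGroup.det_ne_zero x) hdet
    refine ⟨⟨(a, b), hne⟩, ?_⟩
    apply Subtype.ext
    apply Units.ext
    simp [linUnit, Matrix.GeneralLinearGroup.mkOfDetNeZero, hab]

/-- The centralizer of an irreducible `g` in `GL (Fin 2) F` has `q ^ 2 - 1` elements. -/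
theorem card_centralizer [Fintype F] (g : GL (Fin 2) F)
    (hg : NoEigen (g : Matrix (Fin 2) (Fin 2) F)) :
    Nat.card (Subgroup.centralizer ({g} : Set (GL (Fin 2) F))) = Fintype.card F ^ 2 - 1 := by
  classical
  rw [← Nat.card_congr (Equiv.ofBijective _ (linUnit_bijective g hg))]
  rw [Nat.card_eq_fintype_card, Fintype.card_subtype_compl, Fintype.card_subtype_eq,
    Fintype.card_prod, sq]

end Cfsg.Agent.Lib.Helper10.NilCovB1
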