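/-
A finite nilpotent group whose abelianization is a `p`-group is a `p`-group (helper10).
-/
import Mathlib

set_option autoImplicit false

namespace Cfsg.Agent.Lib.Helper10

universe u

/-- A finite nilpotent group whose abelianization is a `p`-group is a `p`-group. -/
theorem isPGroup_of_abelianization {Q : Type u} [Group Q] [Finite Q] (hnil : Group.IsNilpotent Q)
    (p : ℕ) [hp : Fact p.Prime] (hab : IsPGroup p (Abelianization Q)) : IsPGroup p Q := by
  classical
  by_contra hnot
  -- a prime r ≠ p dividing |Q|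
  have hex : ∃ r : ℕ, r.Prime ∧ r ∣ Nat.card Q ∧ r ≠ p := by
    by_contra hno
    push Not at hno
    apply hnot
    have hcard : Nat.card Q ≠ 0 := Nat.card_pos.ne'
    have h1 : ∀ r : ℕ, r.Prime → r ∣ Nat.card Q → r = p := hno
    exact IsPGroup.of_card
      (Nat.eq_prime_pow_of_unique_prime_dvd hcard (fun {r} hr hrd => h1 r hr hrd))
  obtain ⟨r, hr, hrd, hrp⟩ := hex
  have : Fact r.Prime := ⟨hr⟩
  obtain ⟨φ⟩ := (Group.isNilpotent_of_finite_tfae (G := Q)).out 0 4 |>.mp hnil
  have hrmem : r ∈ (Nat.card Q).primeFactors :=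
    Nat.mem_primeFactors.mpr ⟨hr, hrd, Nat.card_pos.ne'⟩
  let R : Sylow r Q := default
  -- the projection onto R
  let π : Q →* (R : Subgroup Q) :=
    ((Pi.evalMonoidHom (fun P : Sylow r Q => ((P : Subgroup Q) : Type u)) R).comp
      (Pi.evalMonoidHom (fun q : (Nat.card Q).primeFactors =>
        ((P : Sylow (q : ℕ) Q) → ((P : Subgroup Q) : Type u))) ⟨r, hrmem⟩)).comp
      φ.symm.toMonoidHom
  have hπ : Function.Surjective π := by
    intro y
    refine ⟨φ (fun q => if h : q = ⟨r, hrmem⟩ then h ▸ (fun P => if h' : P = R then h' ▸ y else 1)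
      else 1), ?_⟩
    simp [π]
  -- R is a nontrivial r-group
  have hRcard : Nat.card (R : Subgroup Q) = r ^ (Nat.card Q).factorization r :=
    Sylow.card_eq_multiplicity R
  have hfac : (Nat.card Q).factorization r ≠ 0 := by
    have := (Nat.Prime.factorization_pos_of_dvd hr Nat.card_pos.ne' hrd)
    omega
  have : Nontrivial (R : Subgroup Q) := by
    rw [← Finite.one_lt_card_iff_nontrivial, hRcard]
    exact Nat.one_lt_pow hfac hr.one_lt
  have hRnil : Group.IsNilpotent (R : Subgroup Q) := IsPGroup.isNilpotent R.isPGroup'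
  have hRsolv : Group.IsSolvable (R : Subgroup Q) := inferInstance
  have : Nontrivial (Abelianization (R : Subgroup Q)) :=
    QuotientGroup.nontrivial_iff.mpr
      (Group.IsSolvable.commutator_lt_top_of_nontrivial (R : Subgroup Q)).ne
  -- the induced surjection of abelianizations
  let f : Q →* Abelianization (R : Subgroup Q) := Abelianization.of.comp π
  have hf : Function.Surjective f := by
    intro y
    obtain ⟨z, rfl⟩ : ∃ z : (R : Subgroup Q), Abelianization.of z = y := QuotientGroup.mk_surjective y
    obtain ⟨x, rfl⟩ := hπ z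
    exact ⟨x, rfl⟩
  let g : Abelianization Q →* Abelianization (R : Subgroup Q) := Abelianization.lift f
  have hg : Function.Surjective g := by
    intro y
    obtain ⟨x, rfl⟩ := hf y
    exact ⟨Abelianization.of x, by simp [g]⟩
  have h1 : Nat.card (Abelianization (R : Subgroup Q)) ∣ Nat.card (Abelianization Q) :=
    Subgroup.card_dvd_of_surjective g hg
  obtain ⟨k, hk⟩ := IsPGroup.iff_card.mp hab
  rw [hk] at h1
  have h2 : Nat.card (Abelianization (R : Subgroup Q)) ∣ Nat.card (R : Subgroup Q) :=
    Subgroup.card_dvd_of_surjective Abelianization.of (by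
      intro y
      exact QuotientGroup.mk_surjective y)
  rw [hRcard] at h2
  have hcop : Nat.Coprime (p ^ k) (r ^ (Nat.card Q).factorization r) :=
    Nat.Coprime.pow _ _ ((Nat.coprime_primes hp.out hr).mpr (Ne.symm hrp))
  have h3 : Nat.card (Abelianization (R : Subgroup Q)) = 1 :=
    Nat.eq_one_of_dvd_coprimes hcop h1 h2
  have h4 : 1 < Nat.card (Abelianization (R : Subgroup Q)) := Finite.one_lt_card
  omega

end Cfsg.Agent.Lib.Helper10
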