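import Mathlib
import Cfsg.Prelude.Def_Characters
import Cfsg.Agent.Lib.Lead.CharMain
import Cfsg.Agent.Lib.Helper24.CentralChar
import Cfsg.Agent.Lib.Helper10.GenOrtho

/-! Sums of an irreducible character over cosets of a normal subgroup:
`(∑ n ∈ N, χ (x n)) χ(1) = (∑ n ∈ N, χ n) χ(x)`, and `∑ n ∈ N, χ n = 0` unless `N ≤ ker χ`. -/

namespace Cfsg.Agent.Lib.Helper10
open Cfsg Cfsg.Agent.CharLib Module
open scoped ComplexConjugate

universe u
variable {G : Type u} [Group G]

theorem sum_normal_translate [Fintype G] (N : Subgroup G) [N.Normal] [Fintype N] {χ : G → ℂ}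
    (hχ : IsIrrCharacter G χ) (x : G) :
    (∑ n : N, χ (x * (n : G))) * χ 1 = (∑ n : N, χ (n : G)) * χ x := by
  classical
  obtain ⟨k, ρ, hirr, rfl⟩ := hχ
  haveI := hirr
  set a : G → ℂ := fun g => if g ∈ N then 1 else 0 with ha
  have hcf : ∀ g h : G, a (h * g * h⁻¹) = a g := by
    intro g h
    simp only [ha]
    have : h * g * h⁻¹ ∈ N ↔ g ∈ N := by
      constructor
      · intro hh
        have := ‹N.Normal›.conj_mem _ hh h⁻¹
        simpa [mul_assoc] using this
      · intro hh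
        exact ‹N.Normal›.conj_mem _ hh h
    simp only [this]
  have h1 := Cfsg.Agent.Lib.Helper24.coeffSum_eq_omega_smul ρ a hcf
  have hpos := Cfsg.Agent.Lib.Helper24.finrank_pos_of_isIrreducible ρ
  have hn : (finrank ℂ (Fin k → ℂ) : ℂ) ≠ 0 := by exact_mod_cast hpos.ne'
  have hone : ρ.character 1 = (finrank ℂ (Fin k → ℂ) : ℂ) := by simp
  have hsumN : ∀ f : G → ℂ, ∑ g : G, a g * f g = ∑ n : N, f (n : G) := by
    intro f
    simp only [ha, ite_mul, one_mul, zero_mul]
    rw [← Finset.sum_filter]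
    rw [← Finset.sum_subtype (Finset.univ.filter (fun g => g ∈ N)) (p := fun g => g ∈ N)]
    intro g
    simp
  have h3 : ∑ g : G, a g * ρ.character (x * g) =
      LinearMap.trace ℂ (Fin k → ℂ) (ρ x * Cfsg.Agent.Lib.Helper24.coeffSum ρ a) := by
    unfold Cfsg.Agent.Lib.Helper24.coeffSum
    simp only [Finset.mul_sum, map_sum, mul_smul_comm, map_smul, smul_eq_mul]
    apply Finset.sum_congr rfl
    intro b _
    rw [← map_mul]
    rfl
  have h4 := hsumN (fun g => ρ.character (x * g))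
  have h5 := hsumN (fun g => ρ.character g)
  rw [← h4, ← h5, h3, h1, mul_smul_comm, mul_one, map_smul, smul_eq_mul, hone]
  unfold Cfsg.Agent.Lib.Helper24.omega
  simp only [Representation.character]
  field_simp

theorem sum_normal_eq_zero_or [Fintype G] (N : Subgroup G) [N.Normal] [Fintype N] {χ : G → ℂ}
    (hχ : IsIrrCharacter G χ) :
    (∑ n : N, χ (n : G)) = 0 ∨ ∀ n ∈ N, χ n = χ 1 := by
  classical
  set S := ∑ n : N, χ (n : G) with hS
  have h1 : ∀ m : N, (∑ n : N, χ ((m : G) * (n : G))) = S := by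
    intro m
    rw [hS]
    exact Fintype.sum_equiv (Equiv.mulLeft m) _ _ (fun n => rfl)
  have h2 : ∀ m : N, S * χ 1 = S * χ (m : G) := by
    intro m
    have := sum_normal_translate N hχ (m : G)
    rwa [h1 m] at this
  have h3 : (Nat.card N : ℂ) * (S * χ 1) = S * S := by
    have : ∑ m : N, S * χ 1 = ∑ m : N, S * χ (m : G) := Finset.sum_congr rfl (fun m _ => h2 m)
    rw [Finset.sum_const, ← Finset.mul_sum, Finset.card_univ, nsmul_eq_mul,
      ← Nat.card_eq_fintype_card] at this
    exact this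
  by_cases hS0 : S = 0
  · left; exact hS0
  right
  have h4 : S = (Nat.card N : ℂ) * χ 1 := by
    have : S * ((Nat.card N : ℂ) * χ 1) = S * S := by rw [← h3]; ring
    exact (mul_left_cancel₀ hS0 this).symm
  -- χ 1 is a positive real
  obtain ⟨k, hk⟩ : ∃ k : ℕ, χ 1 = (k : ℂ) := by
    obtain ⟨k, ρ, hirr, rfl⟩ := hχ
    exact ⟨finrank ℂ (Fin k → ℂ), by simp⟩
  have hle : ∀ g : G, (χ g).re ≤ (k : ℝ) := by
    intro g
    have := irr_norm_le hχ g
    rw [hk, Complex.norm_natCast] at this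
    exact (Complex.re_le_norm _).trans this
  have hre : ∑ n : N, ((k : ℝ) - (χ (n : G)).re) = 0 := by
    rw [Finset.sum_sub_distrib, Finset.sum_const, Finset.card_univ, nsmul_eq_mul,
      ← Nat.card_eq_fintype_card]
    have := congrArg Complex.re h4
    rw [hS, Complex.re_sum, hk] at this
    rw [this]
    simp
  have hz := (Finset.sum_eq_zero_iff_of_nonneg (s := (Finset.univ : Finset N))
    (f := fun n : N => (k : ℝ) - (χ (n : G)).re) (fun n _ => sub_nonneg.mpr (hle (n : G)))).mp hre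
  intro n hn
  have h5 : (χ n).re = (k : ℝ) := by
    have := hz ⟨n, hn⟩ (Finset.mem_univ _)
    simp only at this
    linarith
  have h6 : ‖χ n‖ ≤ (k : ℝ) := by
    have := irr_norm_le hχ n
    rwa [hk, Complex.norm_natCast] at this
  have h7 : (χ n).im = 0 := by
    have hsq : ‖χ n‖ ^ 2 = (χ n).re ^ 2 + (χ n).im ^ 2 := by
      rw [Complex.sq_norm, Complex.normSq_apply]; ring
    have h8 : ‖χ n‖ ^ 2 ≤ (k : ℝ) ^ 2 := by
      apply pow_le_pow_left₀ (norm_nonneg _) h6
    rw [hsq, h5] at h8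
    have : (χ n).im ^ 2 ≤ 0 := by linarith
    exact pow_eq_zero_iff (two_ne_zero) |>.mp (le_antisymm this (sq_nonneg _))
  rw [hk]
  apply Complex.ext
  · simpa using h5
  · simpa using h7

end Cfsg.Agent.Lib.Helper10
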