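import Mathlib
import Cfsg.Agent.Lib.Helper28.SchurFoxA

/-!
# A retraction onto a central elementary abelian kernel (helper19's request (R) for S2052)

If `σ : Γ →* G` has central kernel of exponent `p`, `W ≤ V` are subgroups with `V/W` elementary
abelian of exponent `p` and `ker σ ∩ W = 1`, then there is a retraction of `V` onto `ker σ ∩ V`
(in the sense of helper28's `SchurFox.Retraction`).
-/

set_option linter.style.haveILetI false

namespace Cfsg.Agent.Lib.Helper10.ONRetr

open Subgroup
open scoped commutatorElement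
open Cfsg.Agent.Lib.Helper28.SchurFox

theorem retraction_of_inter {Γ G : Type*} [Group Γ] [Group G] [Finite Γ] (σ : Γ →* G)
    (hc : σ.ker ≤ center Γ) (p : ℕ) (hp : p.Prime) (hexp : ∀ a ∈ σ.ker, a ^ p = 1)
    (V W : Subgroup Γ) (hWV : W ≤ V) (hcomm : ⁅V, V⁆ ≤ W) (hpow : ∀ v ∈ V, v ^ p ∈ W)
    (h : ∀ a ∈ σ.ker, a ∈ W → a = 1) : Nonempty (Retraction σ V) := by
  classical
  haveI : Fact p.Prime := ⟨hp⟩
  -- `W' = W ∩ V` inside `V`, normal since it contains the commutator subgroup
  let W' : Subgroup V := W.subgroupOf V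
  have hmemW' : ∀ x : V, x ∈ W' ↔ (x : Γ) ∈ W := fun x => Subgroup.mem_subgroupOf
  have hcommW : ∀ x y : V, ((x : Γ) * y * (x : Γ)⁻¹ * (y : Γ)⁻¹) ∈ W := by
    intro x y
    apply hcomm
    have := Subgroup.commutator_mem_commutator x.2 y.2
    simpa [commutatorElement_def] using this
  haveI hW'n : W'.Normal := by
    constructor
    intro n hn g
    rw [hmemW'] at hn ⊢
    have h1 := hcommW g n
    have : ((g * n * g⁻¹ : V) : Γ) = ((g : Γ) * n * (g : Γ)⁻¹ * (n : Γ)⁻¹) * n := by
      simp [mul_assoc]
    rw [this]
    exact W.mul_mem h1 hn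
  -- the quotient is commutative of exponent `p`
  letI instQ : CommGroup (V ⧸ W') :=
    { (inferInstance : Group (V ⧸ W')) with
      mul_comm := by
        intro a b
        induction a using QuotientGroup.induction_on with
        | H x =>
          induction b using QuotientGroup.induction_on with
          | H y =>
            rw [← QuotientGroup.mk_mul, ← QuotientGroup.mk_mul, QuotientGroup.eq, hmemW']
            have h1 := hcommW y⁻¹ x⁻¹
            have : (((x * y)⁻¹ * (y * x) : V) : Γ)
                = ((y⁻¹ : V) : Γ) * ((x⁻¹ : V) : Γ) * ((y⁻¹ : V) : Γ)⁻¹ * ((x⁻¹ : V) : Γ)⁻¹ := by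
              simp [mul_assoc]
            rw [this]
            exact h1 }
  have hQexp : ∀ x : Additive (V ⧸ W'), p • x = 0 := by
    intro x
    induction x using Additive.rec with
    | ofMul q =>
      induction q using QuotientGroup.induction_on with
      | H v =>
        rw [← ofMul_pow, ← QuotientGroup.mk_pow]
        have : ((v ^ p : V) : V ⧸ W') = 1 := by
          rw [QuotientGroup.eq_one_iff, hmemW']
          simpa using hpow v v.2
        rw [this]; rfl
  letI modQ : Module (ZMod p) (Additive (V ⧸ W')) := AddCommGroup.zmodModule hQexp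
  -- the kernel part
  let K : Subgroup Γ := σ.ker ⊓ V
  letI instK : CommGroup K :=
    { (inferInstance : Group K) with
      mul_comm := by
        intro a b
        apply Subtype.ext
        have ha : (a : Γ) ∈ center Γ := hc a.2.1
        exact ((Subgroup.mem_center_iff.mp ha) b.1).symm }
  have hKexp : ∀ x : Additive K, p • x = 0 := by
    intro x
    induction x using Additive.rec with
    | ofMul a =>
      rw [← ofMul_pow]
      have : a ^ p = 1 := by
        apply Subtype.ext
        simpa using hexp a a.2.1
      rw [this]; rfl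
  letI modK : Module (ZMod p) (Additive K) := AddCommGroup.zmodModule hKexp
  -- the injection `K → V/W'`
  let ι : K →* (V ⧸ W') :=
    (QuotientGroup.mk' W').comp (Subgroup.inclusion (inf_le_right : K ≤ V))
  have hιinj : Function.Injective ι := by
    rw [injective_iff_map_eq_one]
    intro a ha
    have : (Subgroup.inclusion (inf_le_right : K ≤ V) a) ∈ W' := by
      rwa [MonoidHom.comp_apply, QuotientGroup.mk'_apply, QuotientGroup.eq_one_iff] at ha
    rw [hmemW'] at this
    apply Subtype.ext
    exact h a a.2.1 this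
  let ιl : Additive K →ₗ[ZMod p] Additive (V ⧸ W') :=
    (MonoidHom.toAdditive ι).toZModLinearMap p
  obtain ⟨g, hg⟩ := LinearMap.exists_leftInverse_of_injective ιl
    (LinearMap.ker_eq_bot.mpr (fun x y hxy => hιinj hxy))
  let g' : (V ⧸ W') →* K := MonoidHom.toAdditive.symm g.toAddMonoidHom
  have hg' : ∀ a : K, g' (ι a) = a := by
    intro a
    have := LinearMap.congr_fun hg (Additive.ofMul a)
    exact this
  let j : K →* center Γ := Subgroup.inclusion (le_trans inf_le_left hc)
  refine ⟨⟨(j.comp g').comp (QuotientGroup.mk' W'), ?_, ?_⟩⟩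
  · intro v
    exact (g' (QuotientGroup.mk' W' v)).2.1
  · intro a ha haV
    have h1 : QuotientGroup.mk' W' ⟨a, haV⟩ = ι ⟨a, ⟨ha, haV⟩⟩ := rfl
    show ((j (g' (QuotientGroup.mk' W' ⟨a, haV⟩)) : center Γ) : Γ) = a
    rw [h1, hg']
    rfl

end Cfsg.Agent.Lib.Helper10.ONRetr
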