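import Mathlib

/-!
# S2345 leaf CNT (helper27's plan): the number of rank-2 alternating matrices

`rk2 = {u vᵀ - v uᵀ : u, v linearly independent}` has `(q^n - 1)(q^(n-1) - 1)/(q^2 - 1)` elements,
`q = |F|`, `n = |ι|`.  Method: the map `(u, v) ↦ u ∧ v` from independent pairs has fibres that are
regular `SL₂(F)`-orbits.
-/

set_option autoImplicit false

namespace Cfsg.Agent.Lib.Helper10.OPMinCnt

open Matrix

section SL2

variable {F : Type*} [Field F] [Fintype F]

/-- `|SL_n(F)| * (q - 1) = |GL_n(F)|` for `n ≥ 1` (as in helper13's `SL2.card_SL_mul`). -/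
theorem card_SL_mul (n : ℕ) (hn : 1 ≤ n) :
    Nat.card (SpecialLinearGroup (Fin n) F) * (Fintype.card F - 1) = Nat.card (GL (Fin n) F) := by
  have : Nonempty (Fin n) := ⟨⟨0, hn⟩⟩
  let d : GL (Fin n) F →* Fˣ := Matrix.GeneralLinearGroup.det
  have hsurj : Function.Surjective d := Matrix.GeneralLinearGroup.det_surjective
  have hker : Nat.card d.ker = Nat.card (SpecialLinearGroup (Fin n) F) := by
    refine (Nat.card_congr (Equiv.ofBijective
      (fun A : SpecialLinearGroup (Fin n) F => (⟨SpecialLinearGroup.toGL A, ?_⟩ : d.ker)) ⟨?_, ?_⟩)).symm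
    · rw [MonoidHom.mem_ker]
      exact SpecialLinearGroup.coeToGL_det A
    · intro A B h
      exact SpecialLinearGroup.toGL_injective (congrArg Subtype.val h)
    · rintro ⟨g, hg⟩
      rw [MonoidHom.mem_ker] at hg
      have hdet : (g : Matrix (Fin n) (Fin n) F).det = 1 := by
        have := congrArg Units.val hg
        rwa [Matrix.GeneralLinearGroup.val_det_apply] at this
      refine ⟨⟨(g : Matrix (Fin n) (Fin n) F), hdet⟩, ?_⟩
      apply Subtype.ext
      apply Units.ext
      rfl
  have h1 := Subgroup.card_mul_index d.ker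
  rw [Subgroup.index_ker, hker] at h1
  rw [← h1]
  congr 1
  have : d.range = ⊤ := MonoidHom.range_eq_top.mpr hsurj
  rw [this, Nat.card_congr (Subgroup.topEquiv (G := Fˣ)).toEquiv, Nat.card_units,
    Nat.card_eq_fintype_card]

/-- `|SL₂(F)| = q (q² - 1)`. -/
theorem card_SL2 :
    Nat.card (SpecialLinearGroup (Fin 2) F) = Fintype.card F * (Fintype.card F ^ 2 - 1) := by
  have h := card_SL_mul (F := F) 2 (by norm_num)
  rw [Matrix.card_GL_field] at h
  simp only [Fin.prod_univ_two, Fin.val_zero, Fin.val_one, pow_zero, pow_one] at h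
  have hq : 2 ≤ Fintype.card F := Fintype.one_lt_card
  set q := Fintype.card F
  have hq1 : 0 < q - 1 := by omega
  apply Nat.eq_of_mul_eq_mul_right hq1
  rw [h]
  have : q ^ 2 - q = q * (q - 1) := by
    rw [Nat.mul_sub, mul_one, pow_two]
  rw [this]
  ring

end SL2

section wedge

variable {F : Type*} [Field F] {ι : Type*}

/-- `u ∧ v = u vᵀ - v uᵀ`. -/
def wedge (u v : ι → F) : Matrix ι ι F := Matrix.of fun i j => u i * v j - v i * u j

@[simp] theorem wedge_apply (u v : ι → F) (i j : ι) : wedge u v i j = u i * v j - v i * u j := rfl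

theorem wedge_eq (u v : ι → F) : wedge u v = vecMulVec u v - vecMulVec v u := by
  ext i j
  simp [vecMulVec_apply]

theorem wedge_transpose (u v : ι → F) : (wedge u v)ᵀ = -wedge u v := by
  ext i j
  simp
  ring

theorem wedge_act (u v : ι → F) (a b c d : F) :
    wedge (a • u + c • v) (b • u + d • v) = (a * d - b * c) • wedge u v := by
  ext i j
  simp
  ring

theorem wedge_ne_zero (u v : ι → F) (h : LinearIndependent F ![u, v]) : wedge u v ≠ 0 := by
  intro h0
  have hu : u ≠ 0 := h.ne_zero 0
  obtain ⟨i, hi⟩ : ∃ i, u i ≠ 0 := by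
    by_contra hcon
    push Not at hcon
    exact hu (funext hcon)
  rw [LinearIndependent.pair_iff] at h
  have h1 := h (-(v i)) (u i) (by
    funext j
    have := congrFun (congrFun h0 i) j
    simp at this
    simp
    linear_combination this)
  exact hi h1.2

/-- independence is preserved by a unimodular change of the pair -/
theorem indep_act (u v : ι → F) (h : LinearIndependent F ![u, v]) (a b c d : F)
    (hdet : a * d - b * c = 1) : LinearIndependent F ![a • u + c • v, b • u + d • v] := by
  rw [LinearIndependent.pair_iff] at h ⊢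
  intro x y hxy
  have h1 : (x * a + y * b) • u + (x * c + y * d) • v = 0 := by
    rw [← hxy]
    simp only [smul_add, smul_smul, add_smul]
    abel
  obtain ⟨e1, e2⟩ := h _ _ h1
  constructor
  · have : x = x * (a * d - b * c) := by rw [hdet, mul_one]
    rw [this]
    linear_combination d * e1 - b * e2
  · have : y = y * (a * d - b * c) := by rw [hdet, mul_one]
    rw [this]
    linear_combination a * e2 - c * e1

/-- the key solving step: a pair with the same wedge lies in the span, with explicit coefficients -/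
theorem exists_coeff (u v u' v' : ι → F) (h : LinearIndependent F ![u, v])
    (hw : wedge u' v' = wedge u v) :
    ∃ a b c d : F, u' = a • u + c • v ∧ v' = b • u + d • v := by
  have hne := wedge_ne_zero u v h
  obtain ⟨i, j, hij⟩ : ∃ i j, wedge u v i j ≠ 0 := by
    by_contra hcon
    push Not at hcon
    exact hne (Matrix.ext hcon)
  have hY : ∀ r k, u' r * v' k - v' r * u' k = u r * v k - v r * u k := by
    intro r k
    have := congrFun (congrFun hw r) k
    simpa using this
  set δ := u i * v j - v i * u j with hδ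
  have hδ0 : δ ≠ 0 := by simpa using hij
  refine ⟨δ⁻¹ * (u' i * v j - u' j * v i), δ⁻¹ * (v' i * v j - v' j * v i),
    δ⁻¹ * (u' j * u i - u' i * u j), δ⁻¹ * (v' j * u i - v' i * u j), ?_, ?_⟩
  · funext k
    have e1 := hY i j
    have e2 := hY i k
    have e3 := hY j k
    simp only [Pi.add_apply, Pi.smul_apply, smul_eq_mul]
    field_simp
    rw [hδ]
    linear_combination (-(u' k)) * e1 + (u' j) * e2 - (u' i) * e3
  · funext k
    have e1 := hY i j
    have e2 := hY i k
    have e3 := hY j k
    simp only [Pi.add_apply, Pi.smul_apply, smul_eq_mul]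
    field_simp
    rw [hδ]
    linear_combination (-(v' k)) * e1 + (v' j) * e2 - (v' i) * e3

end wedge

section count

variable {F : Type*} [Field F] {ι : Type*}

/-- the set of rank-2 alternating matrices `u ∧ v`, `u, v` linearly independent. -/
def rk2 (F : Type*) [Field F] (ι : Type*) : Set (Matrix ι ι F) :=
  {Y | ∃ u v : ι → F, LinearIndependent F ![u, v] ∧ Y = wedge u v}

/-- linearly independent pairs -/
abbrev IPair (F : Type*) [Field F] (ι : Type*) :=
  {p : (ι → F) × (ι → F) // LinearIndependent F ![p.1, p.2]}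

/-- `(u, v) ↦ (a u + c v, b u + d v)` for `[[a, b], [c, d]] ∈ SL₂(F)`. -/
def actPair (p : IPair F ι) (g : SpecialLinearGroup (Fin 2) F) : IPair F ι :=
  ⟨(g 0 0 • p.1.1 + g 1 0 • p.1.2, g 0 1 • p.1.1 + g 1 1 • p.1.2),
    indep_act _ _ p.2 _ _ _ _ (by
      have := g.2
      rw [det_fin_two] at this
      linear_combination this)⟩

theorem wedge_actPair (p : IPair F ι) (g : SpecialLinearGroup (Fin 2) F) :
    wedge (actPair p g).1.1 (actPair p g).1.2 = wedge p.1.1 p.1.2 := by
  have hdet : g 0 0 * g 1 1 - g 0 1 * g 1 0 = 1 := by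
    have := g.2
    rw [det_fin_two] at this
    linear_combination this
  show wedge (g 0 0 • p.1.1 + g 1 0 • p.1.2) (g 0 1 • p.1.1 + g 1 1 • p.1.2) = _
  rw [wedge_act, hdet, one_smul]

theorem actPair_injective (p : IPair F ι) : Function.Injective (actPair p) := by
  intro g g' h
  have h1 := congrArg (fun q : IPair F ι => q.1.1) h
  have h2 := congrArg (fun q : IPair F ι => q.1.2) h
  simp only [actPair] at h1 h2
  have hli := p.2
  rw [LinearIndependent.pair_iff] at hli
  have e1 := hli (g 0 0 - g' 0 0) (g 1 0 - g' 1 0) (by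
    rw [sub_smul, sub_smul]
    have : g 0 0 • p.1.1 + g 1 0 • p.1.2 - (g' 0 0 • p.1.1 + g' 1 0 • p.1.2) = 0 :=
      sub_eq_zero.2 h1
    rw [← this]
    abel)
  have e2 := hli (g 0 1 - g' 0 1) (g 1 1 - g' 1 1) (by
    rw [sub_smul, sub_smul]
    have : g 0 1 • p.1.1 + g 1 1 • p.1.2 - (g' 0 1 • p.1.1 + g' 1 1 • p.1.2) = 0 :=
      sub_eq_zero.2 h2
    rw [← this]
    abel)
  apply Subtype.ext
  ext i j
  fin_cases i <;> fin_cases j
  · exact sub_eq_zero.1 e1.1
  · exact sub_eq_zero.1 e2.1
  · exact sub_eq_zero.1 e1.2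
  · exact sub_eq_zero.1 e2.2

theorem actPair_surjective (p p' : IPair F ι)
    (hw : wedge p'.1.1 p'.1.2 = wedge p.1.1 p.1.2) : ∃ g, actPair p g = p' := by
  obtain ⟨a, b, c, d, hu, hv⟩ := exists_coeff p.1.1 p.1.2 p'.1.1 p'.1.2 p.2 hw
  have hdet : a * d - b * c = 1 := by
    have h1 : wedge p'.1.1 p'.1.2 = (a * d - b * c) • wedge p.1.1 p.1.2 := by
      rw [hu, hv, wedge_act]
    rw [hw] at h1
    have h2 : ((a * d - b * c) - 1) • wedge p.1.1 p.1.2 = 0 := by
      rw [sub_smul, one_smul, ← h1, sub_self]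
    have h3 := (smul_eq_zero.1 h2).resolve_right (wedge_ne_zero _ _ p.2)
    exact sub_eq_zero.1 h3
  refine ⟨⟨!![a, b; c, d], by rw [det_fin_two_of]; exact hdet⟩, ?_⟩
  apply Subtype.ext
  apply Prod.ext
  · show (!![a, b; c, d] : Matrix (Fin 2) (Fin 2) F) 0 0 • p.1.1 +
      (!![a, b; c, d] : Matrix (Fin 2) (Fin 2) F) 1 0 • p.1.2 = p'.1.1
    rw [hu]
    simp
  · show (!![a, b; c, d] : Matrix (Fin 2) (Fin 2) F) 0 1 • p.1.1 +
      (!![a, b; c, d] : Matrix (Fin 2) (Fin 2) F) 1 1 • p.1.2 = p'.1.2
    rw [hv]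
    simp

/-- a chosen independent pair representing a rank-2 alternating matrix -/
noncomputable def rep (y : rk2 F ι) : IPair F ι :=
  ⟨(Classical.choose y.2, Classical.choose (Classical.choose_spec y.2)),
    (Classical.choose_spec (Classical.choose_spec y.2)).1⟩

theorem wedge_rep (y : rk2 F ι) : wedge (rep y).1.1 (rep y).1.2 = y.1 :=
  (Classical.choose_spec (Classical.choose_spec y.2)).2.symm

theorem pairs_bijective :
    Function.Bijective (fun yg : rk2 F ι × SpecialLinearGroup (Fin 2) F =>
      actPair (rep yg.1) yg.2) := by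
  constructor
  · rintro ⟨y, g⟩ ⟨y', g'⟩ h
    have h1 : y = y' := by
      apply Subtype.ext
      rw [← wedge_rep y, ← wedge_rep y', ← wedge_actPair (rep y) g, ← wedge_actPair (rep y') g']
      exact congrArg (fun q : IPair F ι => wedge q.1.1 q.1.2) h
    subst h1
    have h2 : g = g' := actPair_injective (rep y) h
    rw [h2]
  · intro p
    let y : rk2 F ι := ⟨wedge p.1.1 p.1.2, p.1.1, p.1.2, p.2, rfl⟩
    obtain ⟨g, hg⟩ := actPair_surjective (rep y) p (by rw [wedge_rep y])
    exact ⟨(y, g), hg⟩

theorem card_IPair_eq :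
    Nat.card (IPair F ι) = Nat.card (rk2 F ι) * Nat.card (SpecialLinearGroup (Fin 2) F) := by
  rw [← Nat.card_prod]
  exact (Nat.card_congr (Equiv.ofBijective _ pairs_bijective)).symm

/-- independent pairs as independent `Fin 2`-families -/
def ipairEquiv : IPair F ι ≃ {s : Fin 2 → (ι → F) // LinearIndependent F s} where
  toFun p := ⟨![p.1.1, p.1.2], p.2⟩
  invFun s := ⟨(s.1 0, s.1 1), by
    have h : ![s.1 0, s.1 1] = s.1 := by
      funext i
      fin_cases i <;> rfl
    rw [h]
    exact s.2⟩
  left_inv p := Subtype.ext (Prod.ext rfl rfl)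
  right_inv s := Subtype.ext (by
    funext i
    fin_cases i <;> rfl)

variable [Fintype F] [Fintype ι]

theorem card_IPair :
    Nat.card (IPair F ι) =
      (Fintype.card F ^ Fintype.card ι - 1) * (Fintype.card F ^ Fintype.card ι - Fintype.card F) := by
  have hfr : Module.finrank F (ι → F) = Fintype.card ι := Module.finrank_fintype_fun_eq_card F
  rw [Nat.card_congr ipairEquiv]
  by_cases hn : 2 ≤ Fintype.card ι
  · have h := card_linearIndependent (K := F) (V := ι → F) (k := 2) (by rw [hfr]; exact hn)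
    rw [h, hfr]
    simp [Fin.prod_univ_two]
  · -- no independent pairs
    have hempty : IsEmpty {s : Fin 2 → (ι → F) // LinearIndependent F s} := by
      constructor
      rintro ⟨s, hs⟩
      have := hs.fintype_card_le_finrank
      rw [hfr, Fintype.card_fin] at this
      exact hn this
    rw [Nat.card_of_isEmpty]
    have hq : 1 ≤ Fintype.card F := Fintype.card_pos
    have hcases : Fintype.card ι = 0 ∨ Fintype.card ι = 1 := by omega
    rcases hcases with h0 | h1
    · rw [h0]; simp
    · rw [h1]; simp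

/-- CNT, multiplicative form: `|rk2| · q (q² - 1) = (q^n - 1)(q^n - q)`. -/
theorem card_rk2_mul_SL2 :
    Nat.card (rk2 F ι) * (Fintype.card F * (Fintype.card F ^ 2 - 1)) =
      (Fintype.card F ^ Fintype.card ι - 1) * (Fintype.card F ^ Fintype.card ι - Fintype.card F) := by
  rw [← card_SL2, ← card_IPair_eq, card_IPair]

/-- CNT: `|rk2| · (q² - 1) = (q^n - 1)(q^(n-1) - 1)` for `n ≥ 1`. -/
theorem card_rk2_mul (hn : 1 ≤ Fintype.card ι) :
    Nat.card (rk2 F ι) * (Fintype.card F ^ 2 - 1) =
      (Fintype.card F ^ Fintype.card ι - 1) * (Fintype.card F ^ (Fintype.card ι - 1) - 1) := by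
  have h := card_rk2_mul_SL2 (F := F) (ι := ι)
  have hq : 0 < Fintype.card F := Fintype.card_pos
  set q := Fintype.card F
  set n := Fintype.card ι
  have h1 : q ^ n - q = q * (q ^ (n - 1) - 1) := by
    have hn' : n = (n - 1) + 1 := by omega
    rw [Nat.mul_sub, mul_one]
    conv_lhs => rw [hn', pow_succ]
    rw [mul_comm]
  rw [h1] at h
  apply Nat.eq_of_mul_eq_mul_left hq
  calc q * (Nat.card (rk2 F ι) * (q ^ 2 - 1)) = Nat.card (rk2 F ι) * (q * (q ^ 2 - 1)) := by ring
    _ = (q ^ n - 1) * (q * (q ^ (n - 1) - 1)) := h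
    _ = q * ((q ^ n - 1) * (q ^ (n - 1) - 1)) := by ring

/-- CNT, divided form. -/
theorem card_rk2 (hn : 1 ≤ Fintype.card ι) :
    Nat.card (rk2 F ι) =
      (Fintype.card F ^ Fintype.card ι - 1) * (Fintype.card F ^ (Fintype.card ι - 1) - 1) /
        (Fintype.card F ^ 2 - 1) := by
  have h := card_rk2_mul (F := F) (ι := ι) hn
  have hq : 2 ≤ Fintype.card F := Fintype.one_lt_card
  have hpos : 0 < Fintype.card F ^ 2 - 1 := by
    have : 2 ^ 2 ≤ Fintype.card F ^ 2 := Nat.pow_le_pow_left hq 2
    omega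
  rw [← h, Nat.mul_div_cancel _ hpos]

end count

section sub

variable {F : Type*} [Field F] {ι : Type*}

/-- the wedges of the independent pairs satisfying an `SL₂`-invariant predicate `T`. -/
def rk2Sub (T : IPair F ι → Prop) : Set (Matrix ι ι F) :=
  {Y | ∃ p : IPair F ι, T p ∧ wedge p.1.1 p.1.2 = Y}

/-- a chosen pair with property `T` representing an element of `rk2Sub T` -/
noncomputable def repSub (T : IPair F ι → Prop) (y : rk2Sub T) : IPair F ι :=
  Classical.choose y.2

theorem repSub_spec (T : IPair F ι → Prop) (y : rk2Sub T) :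
    T (repSub T y) ∧ wedge (repSub T y).1.1 (repSub T y).1.2 = y.1 :=
  Classical.choose_spec y.2

/-- Relative version of `card_IPair_eq`: for an `SL₂(F)`-invariant predicate `T` on independent
pairs, `#{p // T p} = #{wedges of such pairs} · |SL₂(F)|`. -/
theorem card_sub (T : IPair F ι → Prop) (hT : ∀ p g, T p → T (actPair p g)) :
    Nat.card {p : IPair F ι // T p} =
      Nat.card (rk2Sub T) * Nat.card (SpecialLinearGroup (Fin 2) F) := by
  rw [← Nat.card_prod]
  symm
  refine Nat.card_congr (Equiv.ofBijective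
    (fun yg : rk2Sub T × SpecialLinearGroup (Fin 2) F =>
      (⟨actPair (repSub T yg.1) yg.2, hT _ _ (repSub_spec T yg.1).1⟩ : {p : IPair F ι // T p}))
    ⟨?_, ?_⟩)
  · rintro ⟨y, g⟩ ⟨y', g'⟩ h
    have h0 : actPair (repSub T y) g = actPair (repSub T y') g' := congrArg Subtype.val h
    have h1 : y = y' := by
      apply Subtype.ext
      rw [← (repSub_spec T y).2, ← (repSub_spec T y').2, ← wedge_actPair (repSub T y) g,
        ← wedge_actPair (repSub T y') g']
      exact congrArg (fun q : IPair F ι => wedge q.1.1 q.1.2) h0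
    subst h1
    have h2 : g = g' := actPair_injective (repSub T y) h0
    rw [h2]
  · rintro ⟨p, hp⟩
    let y : rk2Sub T := ⟨wedge p.1.1 p.1.2, p, hp, rfl⟩
    obtain ⟨g, hg⟩ := actPair_surjective (repSub T y) p (by rw [(repSub_spec T y).2])
    exact ⟨(y, g), Subtype.ext hg⟩

end sub

end Cfsg.Agent.Lib.Helper10.OPMinCnt
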