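import Mathlib
import Cfsg.Agent.Lib.Helper10.OPMinCnt
import Cfsg.Agent.Lib.Helper15.PlusFrames

/-!
# S2345 (helper27's plan), part of O6: the number of totally singular bivectors

`TS2 m F p`: the independent pair `p = (u, v)` of vectors of `F^(2m)` spans a totally singular
2-space of `quadFormPlus m F`.  The set `rk2Sub (TS2 m F)` of the bivectors `u ∧ v` of such pairs
(= the long root elements of `Ω⁺_{2m}(q)`, as `1 + (u ∧ v) J`) has
`(q^m-1)(q^(m-1)+1)(q^(m-1)-1)(q^(m-2)+1)/(q^2-1)` elements.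
-/

namespace Cfsg.Agent.Lib.Helper10.OPMinCntL

open Matrix Cfsg.Agent.Lib.Helper10.OPMinCnt Cfsg.Agent.Lib.Helper14
  Cfsg.Agent.Lib.Helper15.PlusFrames

section defs

variable {F : Type*} [Field F] {m : ℕ}

/-- the independent pair `p` spans a totally singular plane of `quadFormPlus m F` -/
def TS2 (m : ℕ) (F : Type*) [Field F] (p : IPair F (Fin m ⊕ Fin m)) : Prop :=
  Cfsg.quadFormPlus m F p.1.1 = 0 ∧ Cfsg.quadFormPlus m F p.1.2 = 0 ∧
    plusPolar m F p.1.1 p.1.2 = 0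

theorem ts2_iff (p : IPair F (Fin m ⊕ Fin m)) :
    TS2 m F p ↔ TSF m F 2 ![p.1.1, p.1.2] := by
  have hQ := isQF_plus (F := F) (m := m)
  constructor
  · rintro ⟨h1, h2, h3⟩
    refine ⟨p.2, ?_, ?_⟩
    · intro i
      fin_cases i
      · simpa using h1
      · simpa using h2
    · intro i j
      fin_cases i <;> fin_cases j
      · simp [hQ.b_self, h1]
      · simpa using h3
      · simp only [Fin.mk_one, Fin.isValue, cons_val_one, cons_val_fin_one, Fin.zero_eta,
          cons_val_zero]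
        rw [hQ.b_symm]
        exact h3
      · simp [hQ.b_self, h2]
  · rintro ⟨-, h1, h2⟩
    exact ⟨by simpa using h1 0, by simpa using h1 1, by simpa using h2 0 1⟩

theorem ts2_act (p : IPair F (Fin m ⊕ Fin m)) (g : SpecialLinearGroup (Fin 2) F)
    (hp : TS2 m F p) : TS2 m F (actPair p g) := by
  have hQ := isQF_plus (F := F) (m := m)
  obtain ⟨h1, h2, h3⟩ := hp
  have key : ∀ a c : F, Cfsg.quadFormPlus m F (a • p.1.1 + c • p.1.2) = 0 := by
    intro a c
    rw [hQ.polar, hQ.q_smul, hQ.q_smul, hQ.b_smul, hQ.b_smul_right, h1, h2, h3]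
    ring
  have key2 : ∀ a b c d : F,
      plusPolar m F (a • p.1.1 + c • p.1.2) (b • p.1.1 + d • p.1.2) = 0 := by
    intro a b c d
    have h4 : plusPolar m F p.1.2 p.1.1 = 0 := by rw [hQ.b_symm]; exact h3
    simp only [hQ.b_add, hQ.b_add_right, hQ.b_smul, hQ.b_smul_right, hQ.b_self, h1, h2, h3, h4]
    ring
  exact ⟨key _ _, key _ _, key2 _ _ _ _⟩

theorem mem_rk2Sub_ts2 (Y : Matrix (Fin m ⊕ Fin m) (Fin m ⊕ Fin m) F) :
    Y ∈ rk2Sub (TS2 m F) ↔ ∃ u v : Fin m ⊕ Fin m → F, LinearIndependent F ![u, v] ∧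
      Cfsg.quadFormPlus m F u = 0 ∧ Cfsg.quadFormPlus m F v = 0 ∧ plusPolar m F u v = 0 ∧
      Y = wedge u v := by
  constructor
  · rintro ⟨p, ⟨h1, h2, h3⟩, rfl⟩
    exact ⟨p.1.1, p.1.2, p.2, h1, h2, h3, rfl⟩
  · rintro ⟨u, v, hi, h1, h2, h3, rfl⟩
    exact ⟨⟨(u, v), hi⟩, ⟨h1, h2, h3⟩, rfl⟩

/-- totally singular independent pairs `≃` totally singular 2-frames -/
def ts2Equiv : {p : IPair F (Fin m ⊕ Fin m) // TS2 m F p} ≃
    {v : Fin 2 → (Fin m ⊕ Fin m → F) // TSF m F 2 v} where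
  toFun p := ⟨![p.1.1.1, p.1.1.2], (ts2_iff p.1).1 p.2⟩
  invFun v :=
    have h : ![v.1 0, v.1 1] = v.1 := by
      funext i
      fin_cases i <;> rfl
    ⟨⟨(v.1 0, v.1 1), by rw [h]; exact v.2.1⟩, by
      rw [ts2_iff]
      show TSF m F 2 ![v.1 0, v.1 1]
      rw [h]
      exact v.2⟩
  left_inv p := by
    apply Subtype.ext
    apply Subtype.ext
    rfl
  right_inv v := by
    apply Subtype.ext
    funext i
    fin_cases i <;> rfl

end defs

section count

variable {F : Type*} [Field F] [Fintype F] [DecidableEq F] {m : ℕ}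

/-- `#(t.s. bivectors) · |SL₂(q)| = #(t.s. 2-frames)` -/
theorem card_ts2_mul_SL2 (hm : 2 ≤ m) :
    Nat.card (rk2Sub (TS2 m F)) * (Fintype.card F * (Fintype.card F ^ 2 - 1)) =
      ((Fintype.card F ^ m - 1) * (Fintype.card F ^ (m - 1) + 1)) *
        (Fintype.card F * ((Fintype.card F ^ (m - 1) - 1) * (Fintype.card F ^ (m - 2) + 1))) := by
  rw [← card_SL2, ← card_sub (TS2 m F) (fun p g hp => ts2_act p g hp), Nat.card_congr ts2Equiv,
    card_tsf m 2 hm, Finset.prod_range_succ, Finset.prod_range_one]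
  simp only [pow_zero, one_mul, pow_one, Nat.sub_zero]
  rfl

/-- the number of totally singular bivectors (= long root elements of `Ω⁺_{2m}(q)`), `m ≥ 2`. -/
theorem card_ts2_mul (hm : 2 ≤ m) :
    Nat.card (rk2Sub (TS2 m F)) * (Fintype.card F ^ 2 - 1) =
      (Fintype.card F ^ m - 1) * (Fintype.card F ^ (m - 1) + 1) *
        ((Fintype.card F ^ (m - 1) - 1) * (Fintype.card F ^ (m - 2) + 1)) := by
  have h := card_ts2_mul_SL2 (F := F) hm
  have hq : 0 < Fintype.card F := Fintype.card_pos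
  apply Nat.eq_of_mul_eq_mul_left hq
  calc Fintype.card F * (Nat.card (rk2Sub (TS2 m F)) * (Fintype.card F ^ 2 - 1))
      = Nat.card (rk2Sub (TS2 m F)) * (Fintype.card F * (Fintype.card F ^ 2 - 1)) := by ring
    _ = _ := h
    _ = _ := by ring

theorem card_ts2 (hm : 2 ≤ m) :
    Nat.card (rk2Sub (TS2 m F)) =
      (Fintype.card F ^ m - 1) * (Fintype.card F ^ (m - 1) + 1) *
        ((Fintype.card F ^ (m - 1) - 1) * (Fintype.card F ^ (m - 2) + 1)) /
          (Fintype.card F ^ 2 - 1) := by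
  have hq : 1 < Fintype.card F := Fintype.one_lt_card
  have hpos : 0 < Fintype.card F ^ 2 - 1 := by
    have : 1 < Fintype.card F ^ 2 := Nat.one_lt_pow (by norm_num) hq
    omega
  rw [← card_ts2_mul (F := F) hm, Nat.mul_div_cancel _ hpos]

end count

end Cfsg.Agent.Lib.Helper10.OPMinCntL
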