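import Mathlib
import Cfsg.Agent.Lib.Helper9.OqTools

/-!
helper10: OQ leaf GEO4 (market S2143, planner helper9; twin): `B` is not identically zero on
`<x, c, u>^⊥` (dimension `≥ 2m - 2 > m`).
-/

set_option autoImplicit false

open Cfsg.Agent.Lib.Helper9.Oq

namespace Cfsg.Agent.Lib.Helper10.OqLeaf

variable {F V G : Type*} [Field F] [AddCommGroup V] [Module F V] [Group G] [DistribMulAction G V]
  (S : Setting F V G)

/-- GEO4: `B` is not identically zero on `<x, c, u>^⊥` (dimension `≥ 2m - 2 ≥ 4 > 3`). -/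
theorem exists_B_ne_zero_perp3 [Finite F] [Finite V] {q m : ℕ} (hS : S.Std q m) (hm : 3 ≤ m)
    (x c u : V) :
    ∃ b b', S.B x b = 0 ∧ S.B c b = 0 ∧ S.B u b = 0 ∧ S.B x b' = 0 ∧ S.B c b' = 0 ∧
      S.B u b' = 0 ∧ S.B b b' ≠ 0 := by
  have hfd : Module.Finite F V := hS.moduleFinite
  let φ : V →ₗ[F] (Fin 3 → F) := LinearMap.pi ![S.B x, S.B c, S.B u]
  let W : Submodule F V := LinearMap.ker φ
  have hmemW : ∀ z, z ∈ W ↔ S.B x z = 0 ∧ S.B c z = 0 ∧ S.B u z = 0 := by
    intro z
    show φ z = 0 ↔ _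
    constructor
    · intro h
      have h0 := congrFun h 0
      have h1 := congrFun h 1
      have h2 := congrFun h 2
      simp [φ] at h0 h1 h2
      exact ⟨h0, h1, h2⟩
    · rintro ⟨h0, h1, h2⟩
      funext i
      fin_cases i <;> simp [φ, h0, h1, h2]
  have hrk : Module.finrank F W + 3 ≥ 2 * m + 1 := by
    have h1 := LinearMap.finrank_range_add_finrank_ker φ
    have h2 : Module.finrank F (LinearMap.range φ) ≤ 3 := by
      have := Submodule.finrank_le (LinearMap.range φ)
      simpa using this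
    rw [hS.rank] at h1
    show Module.finrank F (LinearMap.ker φ) + 3 ≥ 2 * m + 1
    omega
  by_contra hcon
  have hzero : ∀ b b', b ∈ W → b' ∈ W → S.B b b' = 0 := by
    intro b b' hb hb'
    by_contra hne
    apply hcon
    obtain ⟨h1, h2, h3⟩ := (hmemW b).mp hb
    obtain ⟨h1', h2', h3'⟩ := (hmemW b').mp hb'
    exact ⟨b, b', h1, h2, h3, h1', h2', h3', hne⟩
  have hle : W ≤ LinearMap.BilinForm.orthogonal S.B W := by
    intro z hz
    rw [LinearMap.BilinForm.mem_orthogonal_iff]
    intro n hn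
    exact hzero n z hn hz
  have hker : LinearMap.ker S.B = ⊥ := by
    rw [LinearMap.ker_eq_bot']
    intro z hz
    apply S.nondeg z
    intro y
    rw [hz]
    rfl
  have hsum := LinearMap.BilinForm.finrank_add_finrank_orthogonal' (B := S.B) W
  rw [hker, inf_bot_eq, finrank_bot, add_zero, hS.rank] at hsum
  have hle2 := Submodule.finrank_mono hle
  omega

end Cfsg.Agent.Lib.Helper10.OqLeaf
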