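/-
helper10: S4705 (degree `p - 2`), the block-free part, file A.
Over the hypothesis (STAR) `ζ(g)² - ζ(g²) = (p - 3) ζ(g^s)` for `p`-regular `g` (it comes from
`Alt² ζ_j = ∑_{k ≠ 2j} ζ'_k` and `Helper23.isIrrCharacter_comp_pow`):
`ζ(u) = -1` on involutions, no elements of order `4`, `ζ = 0` on the `p`-regular elements of odd order outside `Z(G)`.
-/
import Mathlib
import Cfsg.Prelude.Def_Characters
import Cfsg.Agent.Lib.Lead.CharBurnside
import Cfsg.Agent.Lib.Helper24.GaloisNorm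

set_option autoImplicit false
set_option linter.unusedSectionVars false

namespace Cfsg.Agent.Lib.Helper10.P2CIT

open Cfsg Cfsg.Agent.CharLib

universe u

/-- `r (i+1) = r i ^ 2 / c` and `r` periodic: `r 0 = 0` or `r 0 = c`. -/
theorem cycle_sq (c : ℝ) (hc : 0 < c) (r : ℕ → ℝ) (h0 : ∀ i, 0 ≤ r i)
    (hrec : ∀ i, r i ^ 2 = c * r (i + 1)) (l : ℕ) (hl : 0 < l) (hper : r l = r 0) :
    r 0 = 0 ∨ r 0 = c := by
  have hx : ∀ i, r i = c * (r 0 / c) ^ (2 ^ i) := by
    intro i
    induction i with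
    | zero => simp; field_simp
    | succ i ih =>
      have h1 := hrec i
      rw [ih] at h1
      have h2 : c * r (i + 1) = c * (c * (r 0 / c) ^ (2 ^ (i + 1))) := by
        rw [← h1, pow_succ 2 i, pow_mul]; ring
      exact mul_left_cancel₀ hc.ne' h2
  set x := r 0 / c with hxdef
  have hx0 : 0 ≤ x := div_nonneg (h0 0) hc.le
  have h1 : c * x ^ (2 ^ l) = c * x := by
    rw [← hx l, hper, hxdef]; field_simp
  have h2 : x ^ (2 ^ l) = x := mul_left_cancel₀ hc.ne' h1
  by_cases hx1 : x = 0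
  · left
    have : r 0 = x * c := by rw [hxdef]; field_simp
    rw [this, hx1, zero_mul]
  · right
    have h3 : 1 ≤ 2 ^ l - 1 := by
      have : 2 ≤ 2 ^ l := by
        calc 2 = 2 ^ 1 := by norm_num
          _ ≤ 2 ^ l := Nat.pow_le_pow_right (by norm_num) hl
      omega
    have h4 : x ^ (2 ^ l - 1) * x = 1 * x := by
      rw [← pow_succ, Nat.sub_add_cancel (Nat.one_le_two_pow), h2, one_mul]
    have h5 : x ^ (2 ^ l - 1) = 1 := mul_right_cancel₀ hx1 h4
    have h6 : x = 1 := by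
      have := (pow_eq_one_iff_of_nonneg hx0 (by omega : 2 ^ l - 1 ≠ 0)).mp h5
      exact this
    have : r 0 = x * c := by rw [hxdef]; field_simp
    rw [this, h6, one_mul]

variable {G : Type u} [Group G] [Finite G]

/-- The hypotheses of the block-free part. -/
structure Star (G : Type u) [Group G] (p : ℕ) (ζ : G → ℂ) (s : ℕ) : Prop where
  hp7 : 7 ≤ p
  hpodd : Odd p
  irr : IsIrrCharacter G ζ
  faith : ∀ g : G, ζ g = ζ 1 → g = 1
  deg : ζ 1 = (p : ℂ) - 2
  zodd : Odd (Nat.card (Subgroup.center G))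
  s_two : ∀ (g : G) (k : ℕ), g ^ 2 ^ k = 1 → g ^ s = g
  s_odd : ∀ g : G, Odd (orderOf g) → g ^ s = g ^ 2
  star : ∀ g : G, ¬ p ∣ orderOf g → ζ g ^ 2 - ζ (g ^ 2) = ((p : ℂ) - 3) * ζ (g ^ s)
  reg : ∀ u x : G, orderOf u = 2 → orderOf x = p → Commute u x → False

variable {p : ℕ} {ζ : G → ℂ} {s : ℕ}

/-- `ζ(u) = -1` on involutions. -/
theorem Star.apply_invol (h : Star G p ζ s) {u : G} (hu : orderOf u = 2) : ζ u = -1 := by
  have hreg : ¬ p ∣ orderOf u := by
    rw [hu]; intro hd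
    have := Nat.le_of_dvd (by norm_num) hd
    have := h.hp7; omega
  have h1 := h.star u hreg
  have hu2 : u ^ 2 = 1 := by rw [← hu]; exact pow_orderOf_eq_one u
  have hus : u ^ s = u := h.s_two u 1 (by simpa using hu2)
  rw [hu2, hus, h.deg] at h1
  have h2 : (ζ u + 1) * (ζ u - ((p : ℂ) - 2)) = 0 := by linear_combination h1
  rcases mul_eq_zero.mp h2 with h3 | h3
  · linear_combination h3
  · exfalso
    have h4 : ζ u = ζ 1 := by rw [h.deg]; linear_combination h3
    have h5 := h.faith u h4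
    rw [h5, orderOf_one] at hu
    omega

/-- `p`-regularity passes to powers. -/
theorem not_dvd_orderOf_pow {g : G} (hg : ¬ p ∣ orderOf g) (k : ℕ) : ¬ p ∣ orderOf (g ^ k) :=
  fun hd => hg (dvd_trans hd (orderOf_pow_dvd k))

/-- an element at which the faithful irreducible `ζ` has norm `ζ 1` is central -/
theorem Star.mem_center_of_norm_eq (h : Star G p ζ s) (g : G) (hn : ‖ζ g‖ = (p : ℝ) - 2) :
    g ∈ Subgroup.center G := by
  obtain ⟨n, ρ, hirr, hρ⟩ := h.irr
  have hfr : Module.finrank ℂ (Fin n → ℂ) = n := by simp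
  have hχ1 : ζ 1 = n := by rw [← hρ]; simp
  have hp2 : 2 ≤ p := by have := h.hp7; omega
  have hdn : (n : ℝ) = (p : ℝ) - 2 := by
    have h1 : (n : ℂ) = (p : ℂ) - 2 := by rw [← hχ1, h.deg]
    have h2 : (n : ℂ) = ((p - 2 : ℕ) : ℂ) := by rw [h1]; push_cast [hp2]; ring
    have h3 : n = p - 2 := by exact_mod_cast h2
    rw [h3]; push_cast [hp2]; ring
  have hnorm : ‖ρ.character g‖ = (Module.finrank ℂ (Fin n → ℂ) : ℝ) := by
    rw [hρ, hn, hfr, hdn]
  obtain ⟨ω, hω⟩ := exists_scalar_of_norm_char_eq ρ g hnorm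
  rw [Subgroup.mem_center_iff]
  intro k
  have e1 : ρ (k * g) = ρ (g * k) := by
    rw [map_mul, map_mul, hω]
    ext v
    simp
  have e2 : ρ (k * g * (g * k)⁻¹) = 1 := by
    rw [map_mul, e1, ← map_mul, mul_inv_cancel, map_one]
  have e3 : ζ (k * g * (g * k)⁻¹) = ζ 1 := by
    rw [← hρ]
    unfold Representation.character
    rw [e2, ← map_one ρ]
  have e4 := h.faith _ e3
  exact mul_inv_eq_one.mp e4

/-- `ζ` vanishes on the `p`-regular elements of odd order outside the centre. -/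
theorem Star.apply_eq_zero_of_odd (h : Star G p ζ s) {g : G} (hodd : Odd (orderOf g))
    (hreg : ¬ p ∣ orderOf g) (hg : g ∉ Subgroup.center G) : ζ g = 0 := by
  have hp7 := h.hp7
  have hc : (0 : ℝ) < (p : ℝ) - 2 := by
    have : (7 : ℝ) ≤ p := by exact_mod_cast hp7
    linarith
  have hoddpow : ∀ k : ℕ, Odd (orderOf (g ^ k)) := by
    intro k
    obtain ⟨c, hc⟩ := orderOf_pow_dvd (x := g) k
    rw [hc] at hodd
    exact (Nat.odd_mul.mp hodd).1
  have hrec : ∀ i : ℕ, ‖ζ (g ^ 2 ^ i)‖ ^ 2 = ((p : ℝ) - 2) * ‖ζ (g ^ 2 ^ (i + 1))‖ := by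
    intro i
    have h1 := h.star (g ^ 2 ^ i) (not_dvd_orderOf_pow hreg _)
    rw [h.s_odd _ (hoddpow _)] at h1
    have h2 : (g ^ 2 ^ i) ^ 2 = g ^ 2 ^ (i + 1) := by rw [← pow_mul, ← pow_succ]
    rw [h2] at h1
    have h3 : ζ (g ^ 2 ^ i) ^ 2 = ((p : ℂ) - 2) * ζ (g ^ 2 ^ (i + 1)) := by linear_combination h1
    have h4 := congrArg norm h3
    rw [norm_pow, norm_mul] at h4
    rw [h4]
    congr 1
    have : ((p : ℂ) - 2) = (((p : ℝ) - 2 : ℝ) : ℂ) := by push_cast; ring
    rw [this, Complex.norm_real, Real.norm_of_nonneg hc.le]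
  have hopos : 0 < orderOf g := orderOf_pos g
  have hcop : Nat.Coprime 2 (orderOf g) := by
    rw [Nat.coprime_comm]; exact Nat.Coprime.symm (Nat.coprime_two_left.mpr hodd)
  have hl : 0 < Nat.totient (orderOf g) := Nat.totient_pos.mpr hopos
  have hper : g ^ 2 ^ Nat.totient (orderOf g) = g ^ 2 ^ 0 := by
    rw [pow_eq_pow_iff_modEq]
    simpa using Nat.ModEq.pow_totient hcop
  have hcyc := cycle_sq ((p : ℝ) - 2) hc (fun i => ‖ζ (g ^ 2 ^ i)‖) (fun i => norm_nonneg _) hrec
    (Nat.totient (orderOf g)) hl (by rw [hper])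
  simp only [pow_zero, pow_one] at hcyc
  rcases hcyc with h0 | h1
  · exact norm_eq_zero.mp h0
  · exact absurd (h.mem_center_of_norm_eq g h1) hg

/-- a fourth root of unity is a Gaussian integer -/
theorem gauss_of_pow_four {μ : ℂ} (h : μ ^ 4 = 1) : ∃ a b : ℤ, μ = (a : ℂ) + (b : ℂ) * Complex.I := by
  have h1 : (μ - 1) * (μ + 1) * ((μ - Complex.I) * (μ + Complex.I)) = 0 := by
    have hI : Complex.I ^ 2 = -1 := Complex.I_sq
    linear_combination h - (μ ^ 2 - 1) * hI
  rcases mul_eq_zero.mp h1 with h2 | h2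
  · rcases mul_eq_zero.mp h2 with h3 | h3
    · exact ⟨1, 0, by push_cast; linear_combination h3⟩
    · exact ⟨-1, 0, by push_cast; linear_combination h3⟩
  · rcases mul_eq_zero.mp h2 with h3 | h3
    · exact ⟨0, 1, by push_cast; linear_combination h3⟩
    · exact ⟨0, -1, by push_cast; linear_combination h3⟩

/-- a sum of fourth roots of unity is a Gaussian integer -/
theorem gauss_sum {ι : Type*} (S : Finset ι) (μ : ι → ℂ) (h : ∀ i ∈ S, μ i ^ 4 = 1) :
    ∃ a b : ℤ, ∑ i ∈ S, μ i = (a : ℂ) + (b : ℂ) * Complex.I := by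
  classical
  induction S using Finset.induction_on with
  | empty => exact ⟨0, 0, by simp⟩
  | insert i S hi ih =>
    obtain ⟨a, b, hab⟩ := ih (fun j hj => h j (Finset.mem_insert_of_mem hj))
    obtain ⟨a', b', hab'⟩ := gauss_of_pow_four (h i (Finset.mem_insert_self i S))
    refine ⟨a' + a, b' + b, ?_⟩
    rw [Finset.sum_insert hi, hab, hab']
    push_cast; ring

/-- no elements of order `4` -/
theorem Star.orderOf_ne_four (h : Star G p ζ s) (g : G) : orderOf g ≠ 4 := by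
  intro hg
  have hp7 := h.hp7
  have hreg : ¬ p ∣ orderOf g := by
    rw [hg]; intro hd
    have := Nat.le_of_dvd (by norm_num) hd
    omega
  have hg4 : g ^ 4 = 1 := by rw [← hg]; exact pow_orderOf_eq_one g
  have hgs : g ^ s = g := h.s_two g 2 (by simpa using hg4)
  have hg2 : orderOf (g ^ 2) = 2 := by
    rw [orderOf_pow' g (by norm_num), hg]
    decide
  have h1 := h.star g hreg
  rw [hgs, h.apply_invol hg2] at h1
  obtain ⟨n, ρ, hirr, hρ⟩ := h.irr
  obtain ⟨ι, hι, μ, hμ1, hμ2, hμ3, hμ4⟩ := Cfsg.Agent.Lib.Helper24.exists_roots_char_pow ρ g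
  have hζg : ζ g = ∑ i, μ i := by
    have := hμ4 1
    simpa [hρ] using this
  obtain ⟨a, b, hab⟩ := gauss_sum Finset.univ μ (fun i _ => by rw [← hg]; exact hμ1 i)
  rw [hζg, hab] at h1
  have hre := congrArg Complex.re h1
  have him := congrArg Complex.im h1
  simp [pow_two] at hre him
  have hq : (4 : ℤ) ≤ (p : ℤ) - 3 := by
    have : (7 : ℤ) ≤ p := by exact_mod_cast hp7
    linarith
  have hreZ : a * a - b * b + 1 = ((p : ℤ) - 3) * a := by
    have : ((a * a - b * b + 1 : ℤ) : ℝ) = ((((p : ℤ) - 3) * a : ℤ) : ℝ) := by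
      push_cast; linarith
    exact_mod_cast this
  have himZ : a * b + b * a = ((p : ℤ) - 3) * b := by
    have : ((a * b + b * a : ℤ) : ℝ) = ((((p : ℤ) - 3) * b : ℤ) : ℝ) := by
      push_cast; linarith
    exact_mod_cast this
  by_cases hb : b = 0
  · subst hb
    have h2 : a * ((p : ℤ) - 3 - a) = 1 := by linarith
    rcases Int.eq_one_or_neg_one_of_mul_eq_one h2 with ha | ha
    · rw [ha] at h2; linarith
    · rw [ha] at h2; linarith
  · have h2 : (2 * a - ((p : ℤ) - 3)) * b = 0 := by linarith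
    have h3 : 2 * a = (p : ℤ) - 3 := by
      rcases mul_eq_zero.mp h2 with h4 | h4
      · linarith
      · exact absurd h4 hb
    have h4 : a * a + b * b = 1 := by nlinarith
    have h5 : a * a ≤ 1 := by nlinarith [mul_self_nonneg b]
    have h6 : a ≤ 1 := by nlinarith
    linarith

end Cfsg.Agent.Lib.Helper10.P2CIT
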