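/-
helper10: S4705 (degree `p - 2`), the block-free part, file B: the Fourier count on a cyclic group of
eigenvalues, used for "an element of odd order commuting with an involution is central".
-/
import Mathlib
import Cfsg.Prelude.Def_Characters
import Cfsg.Agent.Lib.Helper10.P2CITA
import Cfsg.Agent.Lib.Helper24.CentralElt

set_option autoImplicit false
set_option linter.unusedSectionVars false

namespace Cfsg.Agent.Lib.Helper10.P2CIT

open Cfsg Cfsg.Agent.CharLib Finset

universe u

/-- a sum over `range (d * m)` of a function supported on the multiples of `d` -/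
theorem sum_range_mul_of_dvd (d m : ℕ) (hd : 0 < d) (f : ℕ → ℂ) (hf : ∀ j, ¬ d ∣ j → f j = 0) :
    ∑ j ∈ range (d * m), f j = ∑ j' ∈ range m, f (d * j') := by
  induction m with
  | zero => simp
  | succ m ih =>
    rw [Nat.mul_succ, sum_range_add, ih, sum_range_succ]
    congr 1
    have h1 : ∑ x ∈ range d, f (d * m + x) = ∑ x ∈ range d, if x = 0 then f (d * m) else 0 := by
      apply sum_congr rfl
      intro x hx
      have hx' := mem_range.mp hx
      by_cases h0 : x = 0
      · simp [h0]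
      · rw [if_neg h0]
        apply hf
        intro hdvd
        have h2 : d ∣ x := (Nat.dvd_add_right (dvd_mul_right d m)).mp hdvd
        have := Nat.le_of_dvd (Nat.pos_of_ne_zero h0) h2
        omega
    rw [h1, sum_ite_eq' (range d) 0 (fun _ => f (d * m))]
    simp [hd]

/-- geometric sum of a root of unity -/
theorem geom_root (η : ℂ) (m : ℕ) (hη : η ^ m = 1) :
    ∑ j ∈ range m, η ^ j = if η = 1 then (m : ℂ) else 0 := by
  by_cases h1 : η = 1
  · simp [h1]
  · rw [if_neg h1, geom_sum_eq h1, hη, sub_self, zero_div]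

/-- THE COUNT.  `κ i`, `i ∈ J`, are `o`-th roots of unity, `o = d m`; the power sums `T j = ∑_J κ_i ^ j` vanish for
`d ∤ j` and are `A c^{j'}` at `j = d j'`.  Then every value `κ i₀` is taken exactly `A / d` times. -/
theorem count_eq {ι : Type*} [DecidableEq ι] (J : Finset ι) (κ : ι → ℂ) (d m : ℕ) (hd : 0 < d) (hm : 0 < m)
    (hκ : ∀ i ∈ J, κ i ^ (d * m) = 1) (c A : ℂ) (hc : c ^ m = 1)
    (h0 : ∀ j, ¬ d ∣ j → ∑ i ∈ J, κ i ^ j = 0)
    (h1 : ∀ j', ∑ i ∈ J, κ i ^ (d * j') = A * c ^ j') (i₀ : ι) (hi₀ : i₀ ∈ J) :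
    (d : ℂ) * ((J.filter (fun i => κ i = κ i₀)).card : ℂ) = A := by
  classical
  set ω := κ i₀ with hω
  have hωo : ω ^ (d * m) = 1 := hκ i₀ hi₀
  have hω0 : ω ≠ 0 := by
    intro h
    rw [h, zero_pow (by positivity)] at hωo
    exact zero_ne_one hωo
  -- left side
  have hL : ∑ j ∈ range (d * m), (∑ i ∈ J, κ i ^ j) * (ω⁻¹) ^ j
      = ((d * m : ℕ) : ℂ) * ((J.filter (fun i => κ i = ω)).card : ℂ) := by
    calc ∑ j ∈ range (d * m), (∑ i ∈ J, κ i ^ j) * (ω⁻¹) ^ j
        = ∑ j ∈ range (d * m), ∑ i ∈ J, (κ i * ω⁻¹) ^ j := by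
          apply sum_congr rfl; intro j _
          rw [sum_mul]
          apply sum_congr rfl; intro i _
          rw [mul_pow]
      _ = ∑ i ∈ J, ∑ j ∈ range (d * m), (κ i * ω⁻¹) ^ j := sum_comm
      _ = ∑ i ∈ J, if κ i = ω then ((d * m : ℕ) : ℂ) else 0 := by
          apply sum_congr rfl; intro i hi
          have hη : (κ i * ω⁻¹) ^ (d * m) = 1 := by
            rw [mul_pow, hκ i hi, inv_pow, hωo]; simp
          rw [geom_root _ _ hη]
          have hiff : κ i * ω⁻¹ = 1 ↔ κ i = ω := by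
            constructor
            · intro h; field_simp at h; exact h
            · intro h; rw [h]; field_simp
          simp only [hiff]
      _ = ((d * m : ℕ) : ℂ) * ((J.filter (fun i => κ i = ω)).card : ℂ) := by
          rw [← sum_filter, sum_const, nsmul_eq_mul, mul_comm]
  -- right side
  set η := c * (ω⁻¹) ^ d with hη
  have hηm : η ^ m = 1 := by
    rw [hη, mul_pow, hc, one_mul, ← pow_mul, inv_pow, hωo]; simp
  have hR : ∑ j ∈ range (d * m), (∑ i ∈ J, κ i ^ j) * (ω⁻¹) ^ j = A * ∑ j' ∈ range m, η ^ j' := by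
    rw [sum_range_mul_of_dvd d m hd (fun j => (∑ i ∈ J, κ i ^ j) * (ω⁻¹) ^ j)
      (fun j hj => by rw [h0 j hj, zero_mul]), mul_sum]
    apply sum_congr rfl; intro j' _
    rw [h1 j', hη, mul_pow, ← pow_mul]; ring
  have hcard : 1 ≤ (J.filter (fun i => κ i = ω)).card :=
    Finset.card_pos.mpr ⟨i₀, by simp [hi₀, hω]⟩
  rw [hL, geom_root η m hηm] at hR
  by_cases hη1 : η = 1
  · rw [if_pos hη1] at hR
    have hm0 : (m : ℂ) ≠ 0 := by exact_mod_cast hm.ne'
    have : ((d : ℂ) * ((J.filter (fun i => κ i = ω)).card : ℂ)) * (m : ℂ) = A * (m : ℂ) := by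
      rw [← hR]; push_cast; ring
    exact mul_right_cancel₀ hm0 this
  · exfalso
    rw [if_neg hη1, mul_zero] at hR
    have h2 : ((d * m : ℕ) : ℂ) ≠ 0 := by
      have : 0 < d * m := Nat.mul_pos hd hm
      exact_mod_cast this.ne'
    have h3 : ((J.filter (fun i => κ i = ω)).card : ℂ) ≠ 0 := by
      exact_mod_cast (by omega : (J.filter (fun i => κ i = ω)).card ≠ 0)
    exact (mul_ne_zero h2 h3) hR

end Cfsg.Agent.Lib.Helper10.P2CIT
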