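/-
helper10: S4705 (degree `p - 2`), the block-free part, file C: eigenvalue set-up for `g = u k`
(`u` an involution, `k` of odd order commuting with `u`) and the central scalar.
-/
import Mathlib
import Cfsg.Prelude.Def_Characters
import Cfsg.Agent.Lib.Helper10.P2CITA
import Cfsg.Agent.Lib.Helper10.P2CITB
import Cfsg.Agent.Lib.Helper24.CentralElt

set_option autoImplicit false
set_option linter.unusedSectionVars false

namespace Cfsg.Agent.Lib.Helper10.P2CIT

open Cfsg Cfsg.Agent.CharLib Finset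

universe u

variable {G : Type u} [Group G] [Finite G] {p : ℕ} {ζ : G → ℂ} {s : ℕ}

theorem pow_odd_of_sq_eq_one {u : G} (hu : u ^ 2 = 1) {o : ℕ} (ho : Odd o) : u ^ o = u := by
  obtain ⟨m, rfl⟩ := ho
  rw [pow_succ, pow_mul, hu, one_pow, one_mul]

theorem pow_even_of_sq_eq_one {u : G} (hu : u ^ 2 = 1) {o : ℕ} (ho : Even o) : u ^ o = 1 := by
  obtain ⟨m, rfl⟩ := ho
  rw [← two_mul, pow_mul, hu, one_pow]

/-- an element of odd order commuting with an involution is `p`-regular -/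
theorem Star.reg_of_commute (h : Star G p ζ s) {u k : G} (hu : orderOf u = 2) (hc : Commute u k) :
    ¬ p ∣ orderOf k := by
  intro hd
  have hx : orderOf (k ^ (orderOf k / p)) = p := orderOf_pow_orderOf_div (orderOf_pos k).ne' hd
  exact h.reg u _ hu hx (hc.pow_right _)

/-- THE EIGENVALUES of `g = u k`. -/
theorem Star.eigen_setup (h : Star G p ζ s) {u k : G} (hu : orderOf u = 2) (hk : Odd (orderOf k))
    (hc : Commute u k) :
    ∃ (ι : Type) (_ : Fintype ι) (sg κ : ι → ℂ),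
      Fintype.card ι = p - 2 ∧ (∀ i, sg i = 1 ∨ sg i = -1) ∧ (∀ i, κ i ^ orderOf k = 1) ∧
      (∀ i, ‖κ i‖ = 1) ∧ (∀ j : ℕ, ζ (k ^ j) = ∑ i, κ i ^ j) ∧
      (∀ j : ℕ, ζ (u * k ^ j) = ∑ i, sg i * κ i ^ j) ∧ ∑ i, sg i = -1 := by
  obtain ⟨n, ρ, hirr, hρ⟩ := h.irr
  obtain ⟨ι, hι, μ, hμ1, hμ2, hμ3, hμ4⟩ := Cfsg.Agent.Lib.Helper24.exists_roots_char_pow ρ (u * k)
  set o := orderOf k with ho
  have hu2 : u ^ 2 = 1 := by rw [← hu]; exact pow_orderOf_eq_one u
  have hko : k ^ o = 1 := pow_orderOf_eq_one k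
  have hgo : (u * k) ^ o = u := by
    rw [hc.mul_pow, hko, mul_one, pow_odd_of_sq_eq_one hu2 hk]
  have ho1 : Even (o + 1) := Odd.add_one hk
  have hgo1 : (u * k) ^ (o + 1) = k := by
    rw [hc.mul_pow, pow_even_of_sq_eq_one hu2 ho1, one_mul, pow_succ, hko, one_mul]
  have hg2o : (u * k) ^ (2 * o) = 1 := by
    rw [mul_comm, pow_mul, hgo, hu2]
  have hμ2o : ∀ i, μ i ^ (2 * o) = 1 := by
    intro i
    obtain ⟨c, hc'⟩ := orderOf_dvd_of_pow_eq_one hg2o
    rw [hc', pow_mul, hμ1 i, one_pow]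
  have hp2 : 2 ≤ p := by have := h.hp7; omega
  have hn : n = p - 2 := by
    have hχ1 : ζ 1 = n := by rw [← hρ]; simp
    have h1 : (n : ℂ) = (p : ℂ) - 2 := by rw [← hχ1, h.deg]
    have h2 : (n : ℂ) = ((p - 2 : ℕ) : ℂ) := by rw [h1]; push_cast [hp2]; ring
    exact_mod_cast h2
  refine ⟨ι, hι, fun i => μ i ^ o, fun i => μ i ^ (o + 1), ?_, ?_, ?_, ?_, ?_, ?_, ?_⟩
  · rw [hμ3]; simp [hn]
  · intro i
    have h1 : (μ i ^ o - 1) * (μ i ^ o + 1) = 0 := by
      have := hμ2o i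
      rw [mul_comm, pow_mul] at this
      linear_combination this
    rcases mul_eq_zero.mp h1 with h2 | h2
    · left; linear_combination h2
    · right; linear_combination h2
  · intro i
    obtain ⟨m, hm⟩ := ho1
    show (μ i ^ (o + 1)) ^ o = 1
    rw [hm, ← two_mul, ← pow_mul, mul_assoc, mul_comm m o, ← mul_assoc, pow_mul, hμ2o i, one_pow]
  · intro i
    show ‖μ i ^ (o + 1)‖ = 1
    rw [norm_pow, hμ2 i, one_pow]
  · intro j
    have h1 := hμ4 ((o + 1) * j)
    rw [pow_mul, hgo1, hρ] at h1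
    rw [h1]
    apply sum_congr rfl; intro i _
    rw [pow_mul]
  · intro j
    have h1 := hμ4 (o + (o + 1) * j)
    rw [pow_add, pow_mul, hgo1, hgo, hρ] at h1
    rw [h1]
    apply sum_congr rfl; intro i _
    rw [pow_add, pow_mul]
  · have h1 := hμ4 o
    rw [hgo, hρ, h.apply_invol hu] at h1
    exact h1.symm

/-- the central scalar of `k ^ d` -/
theorem Star.central_scalar (h : Star G p ζ s) {z : G} (hz : z ∈ Subgroup.center G) :
    ∃ c : ℂ, ∀ (j : ℕ) (g : G), ζ (z ^ j * g) = c ^ j * ζ g := by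
  obtain ⟨n, ρ, hirr, hρ⟩ := h.irr
  haveI := hirr
  obtain ⟨c, hc⟩ := Cfsg.Agent.Lib.Helper24.exists_central_scalar ρ z hz
  refine ⟨c, ?_⟩
  intro j
  induction j with
  | zero => intro g; simp
  | succ j ih =>
    intro g
    rw [pow_succ', mul_assoc, ← hρ, Cfsg.Agent.Lib.Helper24.char_scalar_mul ρ z c hc, hρ, ih g, pow_succ']
    ring

end Cfsg.Agent.Lib.Helper10.P2CIT
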