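/-
helper10: S4705 (degree `p - 2`), the block-free part, file D:
an element of odd order commuting with an involution is central.
-/
import Mathlib
import Cfsg.Prelude.Def_Characters
import Cfsg.Agent.Lib.Helper10.P2CITA
import Cfsg.Agent.Lib.Helper10.P2CITB
import Cfsg.Agent.Lib.Helper10.P2CITC

set_option autoImplicit false
set_option linter.unusedSectionVars false

namespace Cfsg.Agent.Lib.Helper10.P2CIT

open Cfsg Cfsg.Agent.CharLib Finset

universe u

variable {G : Type u} [Group G] [Finite G] {p : ℕ} {ζ : G → ℂ} {s : ℕ}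

/-- Finset form of `all_eq_of_norm_sum_eq_card` -/
theorem all_eq_of_norm_sum_eq_card_finset {ι : Type*} (J : Finset ι) (κ : ι → ℂ) (h1 : ∀ i ∈ J, ‖κ i‖ = 1)
    (h2 : ‖∑ i ∈ J, κ i‖ = J.card) : ∃ ω : ℂ, ∀ i ∈ J, κ i = ω := by
  classical
  have h3 := all_eq_of_norm_sum_eq_card (fun i : J => κ i) (fun i => h1 i i.2)
    (by rw [Finset.sum_coe_sort J κ, h2]; simp)
  obtain ⟨ω, _, hω⟩ := h3
  exact ⟨ω, fun i hi => hω ⟨i, hi⟩⟩

/-- the order of `k` modulo the centre -/
theorem pow_mem_center_iff (k : G) (j : ℕ) :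
    k ^ j ∈ Subgroup.center G ↔ orderOf (QuotientGroup.mk k : G ⧸ Subgroup.center G) ∣ j := by
  rw [orderOf_dvd_iff_pow_eq_one, ← QuotientGroup.mk_pow, QuotientGroup.eq_one_iff]

theorem odd_orderOf_pow {k : G} (hk : Odd (orderOf k)) (j : ℕ) : Odd (orderOf (k ^ j)) := by
  obtain ⟨c, hc⟩ := orderOf_pow_dvd (x := k) j
  rw [hc] at hk
  exact (Nat.odd_mul.mp hk).1

/-- the data `d, m, c` for a non-central `k` of odd order -/
theorem Star.central_data (h : Star G p ζ s) {k : G} (hk : Odd (orderOf k)) (hkZ : k ∉ Subgroup.center G) :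
    ∃ (d m : ℕ) (c : ℂ), 3 ≤ d ∧ 0 < m ∧ orderOf k = d * m ∧ c ^ m = 1 ∧
      (∀ j, k ^ j ∈ Subgroup.center G ↔ d ∣ j) ∧ ∀ (j : ℕ) (g : G), ζ (k ^ (d * j) * g) = c ^ j * ζ g := by
  set d := orderOf (QuotientGroup.mk k : G ⧸ Subgroup.center G) with hd
  have hdo : d ∣ orderOf k := by
    rw [← pow_mem_center_iff, pow_orderOf_eq_one]; exact Subgroup.one_mem _
  obtain ⟨m, hm⟩ := hdo
  have hopos := orderOf_pos k
  have hdpos : 0 < d := Nat.pos_of_ne_zero (by rintro h0; rw [hm, h0, zero_mul] at hopos; omega)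
  have hmpos : 0 < m := Nat.pos_of_ne_zero (by rintro h0; rw [hm, h0, mul_zero] at hopos; omega)
  have hd1 : d ≠ 1 := by
    intro h1
    apply hkZ
    have := (pow_mem_center_iff k 1).mpr (by rw [← hd, h1])
    simpa using this
  have hdodd : Odd d := by
    rw [hm] at hk; exact (Nat.odd_mul.mp hk).1
  have hd3 : 3 ≤ d := by
    obtain ⟨e, he⟩ := hdodd
    omega
  have hz : k ^ d ∈ Subgroup.center G := (pow_mem_center_iff k d).mpr (dvd_refl _)
  obtain ⟨c, hc⟩ := h.central_scalar hz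
  have hdeg : ζ 1 ≠ 0 := by
    rw [h.deg]
    have h7 : (7 : ℝ) ≤ p := by exact_mod_cast h.hp7
    intro h0
    have : ((p : ℝ) - 2 : ℝ) = 0 := by exact_mod_cast h0
    linarith
  refine ⟨d, m, c, hd3, hmpos, hm, ?_, fun j => pow_mem_center_iff k j, ?_⟩
  · have h1 := hc m 1
    rw [← pow_mul, ← hm, pow_orderOf_eq_one, one_mul] at h1
    have h2 : (c ^ m - 1) * ζ 1 = 0 := by linear_combination -h1
    rcases mul_eq_zero.mp h2 with h3 | h3
    · linear_combination h3
    · exact absurd h3 hdeg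
  · intro j g
    rw [pow_mul]; exact hc j g

/-- a non-central power of `k` -/
theorem not_mem_center_of_coprime_pow {k : G} (hkZ : k ∉ Subgroup.center G) {n : ℕ}
    (hn : n.Coprime (orderOf k)) : k ^ n ∉ Subgroup.center G := by
  intro hmem
  obtain ⟨m, hm⟩ := exists_pow_eq_self_of_coprime hn
  apply hkZ
  rw [← hm]
  exact Subgroup.pow_mem _ hmem m

/-- CLAIM A: `ζ(u k) = 0` for `k` of odd order, non-central, commuting with the involution `u`. -/
theorem Star.apply_mul_eq_zero (h : Star G p ζ s) {u k : G} (hu : orderOf u = 2) (hk : Odd (orderOf k))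
    (hc : Commute u k) (hkZ : k ∉ Subgroup.center G) : ζ (u * k) = 0 := by
  classical
  have hp7 := h.hp7
  have hp7r : (7 : ℝ) ≤ p := by exact_mod_cast hp7
  have hcpos : (0 : ℝ) < (p : ℝ) - 3 := by linarith
  have hu2 : u ^ 2 = 1 := by rw [← hu]; exact pow_orderOf_eq_one u
  have hkreg := h.reg_of_commute hu hc
  have hcop2 : ∀ i : ℕ, (2 ^ i).Coprime (orderOf k) :=
    fun i => Nat.Coprime.pow_left i (Nat.coprime_two_left.mpr hk)
  -- the recursion
  have hrec : ∀ i : ℕ, ‖ζ (u * k ^ 2 ^ i)‖ ^ 2 = ((p : ℝ) - 3) * ‖ζ (u * k ^ 2 ^ (i + 1))‖ := by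
    intro i
    set a := k ^ 2 ^ i with ha
    have hca : Commute u a := hc.pow_right _
    have hoa : Odd (orderOf a) := odd_orderOf_pow hk _
    have hgreg : ¬ p ∣ orderOf (u * a) :=
      h.reg_of_commute hu ((Commute.refl u).mul_right hca)
    have h1 := h.star (u * a) hgreg
    have ha2 : a ^ 2 = k ^ 2 ^ (i + 1) := by rw [ha, ← pow_mul, ← pow_succ]
    have hg2 : (u * a) ^ 2 = k ^ 2 ^ (i + 1) := by rw [hca.mul_pow, hu2, one_mul, ha2]
    have hgs : (u * a) ^ s = u * k ^ 2 ^ (i + 1) := by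
      rw [hca.mul_pow, h.s_two u 1 (by simpa using hu2), h.s_odd a hoa, ha2]
    have hz : ζ (k ^ 2 ^ (i + 1)) = 0 :=
      h.apply_eq_zero_of_odd (odd_orderOf_pow hk _) (not_dvd_orderOf_pow hkreg _)
        (not_mem_center_of_coprime_pow hkZ (hcop2 _))
    rw [hg2, hgs, hz, sub_zero] at h1
    have h4 := congrArg norm h1
    rw [norm_pow, norm_mul] at h4
    rw [h4]
    congr 1
    have : ((p : ℂ) - 3) = (((p : ℝ) - 3 : ℝ) : ℂ) := by push_cast; ring
    rw [this, Complex.norm_real, Real.norm_of_nonneg hcpos.le]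
  have hl : 0 < Nat.totient (orderOf k) := Nat.totient_pos.mpr (orderOf_pos k)
  have hper : k ^ 2 ^ Nat.totient (orderOf k) = k ^ 2 ^ 0 := by
    rw [pow_eq_pow_iff_modEq]
    simpa using Nat.ModEq.pow_totient (Nat.coprime_two_left.mpr hk)
  have hcyc := cycle_sq ((p : ℝ) - 3) hcpos (fun i => ‖ζ (u * k ^ 2 ^ i)‖) (fun i => norm_nonneg _) hrec
    (Nat.totient (orderOf k)) hl (by rw [hper])
  simp only [pow_zero, pow_one] at hcyc
  rcases hcyc with h0 | h1
  · exact norm_eq_zero.mp h0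
  · exfalso
    obtain ⟨ι, hι, sg, κ, hcard, hsg, hκo, hκn, hζk, hζuk, hsum⟩ := h.eigen_setup hu hk hc
    obtain ⟨d, m, c, hd3, hmpos, hdm, hcm, hZiff, hscal⟩ := h.central_data hk hkZ
    have hζk0 : ζ k = 0 := h.apply_eq_zero_of_odd hk hkreg hkZ
    have hs1 : ∑ i, κ i = 0 := by have := hζk 1; simpa [hζk0] using this.symm
    have hs2 : ζ (u * k) = ∑ i, sg i * κ i := by have := hζuk 1; simpa using this
    set Jp := Finset.univ.filter (fun i => sg i = 1) with hJp
    have hs3 : ζ (u * k) = 2 * ∑ i ∈ Jp, κ i := by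
      rw [hs2, hJp, Finset.sum_filter, mul_sum]
      have : ∑ i, sg i * κ i = ∑ i, sg i * κ i + ∑ i, κ i := by rw [hs1, add_zero]
      rw [this, ← sum_add_distrib]
      apply sum_congr rfl; intro i _
      rcases hsg i with h1' | h1'
      · rw [h1', if_pos rfl]; ring
      · rw [h1', if_neg (by norm_num)]; ring
    -- cardinality of Jp
    have hcardJ : (2 * Jp.card : ℤ) = (p : ℤ) - 3 := by
      have h2 : ∑ i, sg i = ∑ i, ((if sg i = 1 then (2 : ℂ) else 0) - 1) := by
        apply sum_congr rfl; intro i _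
        rcases hsg i with h1' | h1'
        · rw [h1', if_pos rfl]; ring
        · rw [h1', if_neg (by norm_num)]; ring
      rw [sum_sub_distrib, ← sum_filter, sum_const, sum_const, card_univ, hcard] at h2
      rw [hsum] at h2
      have hp2 : 2 ≤ p := by omega
      have h3 : ((2 * Jp.card : ℤ) : ℂ) = (((p : ℤ) - 3 : ℤ) : ℂ) := by
        push_cast
        simp only [nsmul_eq_mul, mul_one] at h2
        rw [Nat.cast_sub hp2] at h2
        push_cast at h2
        rw [hJp]
        linear_combination -h2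
      exact_mod_cast h3
    have hnorm : ‖∑ i ∈ Jp, κ i‖ = Jp.card := by
      have h2 : ‖ζ (u * k)‖ = 2 * ‖∑ i ∈ Jp, κ i‖ := by rw [hs3, norm_mul]; simp
      rw [h1] at h2
      have h3 : ((2 * Jp.card : ℤ) : ℝ) = (((p : ℤ) - 3 : ℤ) : ℝ) := by exact_mod_cast hcardJ
      push_cast at h3
      linarith
    obtain ⟨ω, hω⟩ := all_eq_of_norm_sum_eq_card_finset Jp κ (fun i _ => hκn i) hnorm
    have hJpos : 0 < Jp.card := by
      have : (0 : ℤ) < 2 * Jp.card := by rw [hcardJ]; have : (7 : ℤ) ≤ p := by exact_mod_cast hp7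
                                         linarith
      omega
    obtain ⟨i₀, hi₀⟩ := Finset.card_pos.mp hJpos
    have hcount := count_eq (Finset.univ : Finset ι) κ d m (by omega) hmpos
      (fun i _ => by rw [← hdm]; exact hκo i) c ((p : ℂ) - 2) hcm
      (fun j hj => by
        rw [← hζk j]
        exact h.apply_eq_zero_of_odd (odd_orderOf_pow hk _) (not_dvd_orderOf_pow hkreg _)
          (fun hmem => hj ((hZiff j).mp hmem)))
      (fun j' => by
        rw [← hζk (d * j')]
        have := hscal j' 1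
        rw [mul_one, h.deg] at this
        rw [this]; ring) i₀ (Finset.mem_univ _)
    set M := ((Finset.univ : Finset ι).filter (fun i => κ i = κ i₀)).card with hM
    have hsub : Jp ⊆ (Finset.univ : Finset ι).filter (fun i => κ i = κ i₀) := by
      intro i hi
      rw [Finset.mem_filter]
      exact ⟨Finset.mem_univ _, by rw [hω i hi, hω i₀ hi₀]⟩
    have hle : Jp.card ≤ M := Finset.card_le_card hsub
    have hp2 : 2 ≤ p := by omega
    have hdM : d * M = p - 2 := by
      have : ((d * M : ℕ) : ℂ) = ((p - 2 : ℕ) : ℂ) := by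
        push_cast [hp2]; rw [hcount]
      exact_mod_cast this
    have h3M : 3 * M ≤ p - 2 := by
      calc 3 * M ≤ d * M := Nat.mul_le_mul_right M hd3
        _ = p - 2 := hdM
    have h2J : 2 * Jp.card + 3 = p := by
      have : (2 * Jp.card : ℤ) + 3 = p := by rw [hcardJ]; ring
      exact_mod_cast this
    omega

end Cfsg.Agent.Lib.Helper10.P2CIT
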