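/-
helper10: S4705 (degree `p - 2`), the block-free part, file E:
CLAIM B (an element of odd order commuting with an involution is central) and `g ^ 2 ∈ Z(G)` on involution centralizers.
-/
import Mathlib
import Cfsg.Prelude.Def_Characters
import Cfsg.Agent.Lib.Helper10.P2CITA
import Cfsg.Agent.Lib.Helper10.P2CITB
import Cfsg.Agent.Lib.Helper10.P2CITC
import Cfsg.Agent.Lib.Helper10.P2CITD

set_option autoImplicit false
set_option linter.unusedSectionVars false

namespace Cfsg.Agent.Lib.Helper10.P2CIT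

open Cfsg Cfsg.Agent.CharLib Finset

universe u

variable {G : Type u} [Group G] [Finite G] {p : ℕ} {ζ : G → ℂ} {s : ℕ}

/-- CLAIM B: an element of odd order commuting with an involution is central. -/
theorem Star.mem_center_of_odd_of_commute (h : Star G p ζ s) {u k : G} (hu : orderOf u = 2)
    (hk : Odd (orderOf k)) (hc : Commute u k) : k ∈ Subgroup.center G := by
  classical
  by_contra hkZ
  have hp7 := h.hp7
  have hkreg := h.reg_of_commute hu hc
  obtain ⟨ι, hι, sg, κ, hcard, hsg, hκo, hκn, hζk, hζuk, hsum⟩ := h.eigen_setup hu hk hc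
  obtain ⟨d, m, c, hd3, hmpos, hdm, hcm, hZiff, hscal⟩ := h.central_data hk hkZ
  have hζu := h.apply_invol hu
  -- the count for the sign `e`
  have key : ∀ e : ℂ, e ^ 2 = 1 → (p : ℂ) - 2 - e ≠ 0 →
      ∃ M : ℕ, (d : ℂ) * (M : ℂ) * 2 = (p : ℂ) - 2 - e := by
    intro e he hne
    set J := Finset.univ.filter (fun i => sg i = e) with hJ
    have hT : ∀ j : ℕ, 2 * ∑ i ∈ J, κ i ^ j = ζ (k ^ j) + e * ζ (u * k ^ j) := by
      intro j
      rw [hζk j, hζuk j, hJ, Finset.sum_filter, mul_sum, mul_sum, ← sum_add_distrib]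
      apply sum_congr rfl; intro i _
      by_cases hi : sg i = e
      · rw [if_pos hi, hi]; linear_combination (-(κ i ^ j)) * he
      · rw [if_neg hi]
        have h2 : sg i = -e := by
          rcases hsg i with h1 | h1
          · have h3 : (e - 1) * (e + 1) = 0 := by linear_combination he
            rcases mul_eq_zero.mp h3 with h4 | h4
            · exact absurd (by rw [h1]; linear_combination -h4) hi
            · rw [h1]; linear_combination h4
          · have h3 : (e - 1) * (e + 1) = 0 := by linear_combination he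
            rcases mul_eq_zero.mp h3 with h4 | h4
            · rw [h1]; linear_combination h4
            · exact absurd (by rw [h1]; linear_combination -h4) hi
        rw [h2]; linear_combination (κ i ^ j) * he
    have h0 : ∀ j, ¬ d ∣ j → ∑ i ∈ J, κ i ^ j = 0 := by
      intro j hj
      have hnc : k ^ j ∉ Subgroup.center G := fun hmem => hj ((hZiff j).mp hmem)
      have h1 := hT j
      rw [h.apply_eq_zero_of_odd (odd_orderOf_pow hk _) (not_dvd_orderOf_pow hkreg _) hnc,
        h.apply_mul_eq_zero hu (odd_orderOf_pow hk _) (hc.pow_right _) hnc] at h1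
      have : (2 : ℂ) * ∑ i ∈ J, κ i ^ j = 2 * 0 := by rw [h1]; ring
      exact mul_left_cancel₀ two_ne_zero this
    have h1 : ∀ j', ∑ i ∈ J, κ i ^ (d * j') = (((p : ℂ) - 2 - e) / 2) * c ^ j' := by
      intro j'
      have h2 := hT (d * j')
      have h3 := hscal j' 1
      rw [mul_one, h.deg] at h3
      have h4 := hscal j' u
      have hcomm : u * k ^ (d * j') = k ^ (d * j') * u := (hc.pow_right _).eq
      rw [h3, hcomm, h4, hζu] at h2
      have : (2 : ℂ) * ∑ i ∈ J, κ i ^ (d * j') = 2 * ((((p : ℂ) - 2 - e) / 2) * c ^ j') := by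
        rw [h2]; ring
      exact mul_left_cancel₀ two_ne_zero this
    have hJne : J.Nonempty := by
      rw [Finset.nonempty_iff_ne_empty]
      intro hem
      have h2 := h1 0
      rw [hem] at h2
      simp at h2
      exact hne (by linear_combination (-2 : ℂ) * h2)
    obtain ⟨i₀, hi₀⟩ := hJne
    have hcount := count_eq J κ d m (by omega) hmpos (fun i _ => by rw [← hdm]; exact hκo i) c
      (((p : ℂ) - 2 - e) / 2) hcm h0 h1 i₀ hi₀
    refine ⟨(J.filter (fun i => κ i = κ i₀)).card, ?_⟩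
    rw [hcount]; ring
  have h7c : (7 : ℝ) ≤ p := by exact_mod_cast hp7
  obtain ⟨M1, hM1⟩ := key 1 (by norm_num) (by
    intro h0
    have : ((p : ℝ) - 2 - 1 : ℝ) = 0 := by exact_mod_cast h0
    linarith)
  obtain ⟨M2, hM2⟩ := key (-1) (by norm_num) (by
    intro h0
    have : ((p : ℝ) - 2 - (-1) : ℝ) = 0 := by exact_mod_cast h0
    linarith)
  have hp3 : 3 ≤ p := by omega
  have e1 : d * M1 * 2 = p - 3 := by
    have : ((d * M1 * 2 : ℕ) : ℂ) = ((p - 3 : ℕ) : ℂ) := by
      push_cast [hp3]; rw [hM1]; ring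
    exact_mod_cast this
  have e2 : d * M2 * 2 = p - 1 := by
    have : ((d * M2 * 2 : ℕ) : ℂ) = ((p - 1 : ℕ) : ℂ) := by
      push_cast [(by omega : 1 ≤ p)]; rw [hM2]; ring
    exact_mod_cast this
  have d1 : d ∣ p - 3 := ⟨M1 * 2, by rw [← e1]; ring⟩
  have d2 : d ∣ p - 1 := ⟨M2 * 2, by rw [← e2]; ring⟩
  have d3 : d ∣ (p - 1) - (p - 3) := Nat.dvd_sub d2 d1
  have : (p - 1) - (p - 3) = 2 := by omega
  rw [this] at d3
  have := Nat.le_of_dvd (by norm_num) d3
  omega

/-- on the centralizer of an involution, squares are central -/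
theorem Star.sq_mem_center (h : Star G p ζ s) {u g : G} (hu : orderOf u = 2) (hc : Commute u g) :
    g ^ 2 ∈ Subgroup.center G := by
  -- split the order of `g`
  set n := orderOf g with hn
  have hnpos : 0 < n := orderOf_pos g
  obtain ⟨a, m, hm, hnam⟩ := Nat.exists_eq_two_pow_mul_odd hnpos.ne'
  -- the odd part `g ^ (2 ^ a)` has odd order, so is central
  have hodd : Odd (orderOf (g ^ 2 ^ a)) := by
    have h1 : orderOf (g ^ 2 ^ a) ∣ m := by
      apply orderOf_dvd_of_pow_eq_one
      rw [← pow_mul, ← hnam]; exact pow_orderOf_eq_one g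
    obtain ⟨c, hc'⟩ := h1
    rw [hc'] at hm
    exact (Nat.odd_mul.mp hm).1
  have hcen : g ^ 2 ^ a ∈ Subgroup.center G := h.mem_center_of_odd_of_commute hu hodd (hc.pow_right _)
  -- the 2-part `g ^ m` has order dividing `2 ^ a`; no element of order 4: its square is 1
  have h2pow : (g ^ m) ^ 2 ^ a = 1 := by
    rw [← pow_mul, mul_comm, ← hnam]; exact pow_orderOf_eq_one g
  have hsq : (g ^ m) ^ 2 = 1 := by
    obtain ⟨b, hb⟩ := (Nat.dvd_prime_pow Nat.prime_two).mp (orderOf_dvd_of_pow_eq_one h2pow) |>.imp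
      (fun b hb => hb.2)
    by_cases hb2 : b ≤ 1
    · have : orderOf (g ^ m) ∣ 2 := by
        rw [hb]
        interval_cases b
        · norm_num
        · norm_num
      exact orderOf_dvd_iff_pow_eq_one.mp this
    · exfalso
      have hb2' : 2 ≤ b := by omega
      have : orderOf ((g ^ m) ^ 2 ^ (b - 2)) = 4 := by
        rw [orderOf_pow' _ (by positivity), hb]
        have : Nat.gcd (2 ^ b) (2 ^ (b - 2)) = 2 ^ (b - 2) :=
          Nat.gcd_eq_right (pow_dvd_pow 2 (by omega))
        rw [this, Nat.pow_div (by omega) (by norm_num)]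
        have : b - (b - 2) = 2 := by omega
        rw [this]
      exact h.orderOf_ne_four _ this
  -- Bezout
  have hcop : Nat.Coprime (2 ^ a) m := Nat.Coprime.pow_left a (Nat.coprime_two_left.mpr hm)
  have hbez := Nat.gcd_eq_gcd_ab (2 ^ a) m
  rw [hcop.gcd_eq_one] at hbez
  have hg : g = (g ^ 2 ^ a) ^ (Nat.gcdA (2 ^ a) m) * (g ^ m) ^ (Nat.gcdB (2 ^ a) m) := by
    rw [← zpow_natCast g (2 ^ a), ← zpow_natCast g m, ← zpow_mul, ← zpow_mul, ← zpow_add, ← hbez]
    simp
  have hg2 : g ^ 2 = ((g ^ 2 ^ a) ^ (Nat.gcdA (2 ^ a) m)) ^ 2 * ((g ^ m) ^ 2) ^ (Nat.gcdB (2 ^ a) m) := by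
    have hcomm : Commute ((g ^ 2 ^ a) ^ (Nat.gcdA (2 ^ a) m)) ((g ^ m) ^ (Nat.gcdB (2 ^ a) m)) :=
      (((Commute.refl g).pow_left _).pow_right _).zpow_zpow _ _
    conv_lhs => rw [hg]
    rw [hcomm.mul_pow]
    congr 1
    rw [← zpow_natCast, ← zpow_natCast ((g ^ m)) 2, ← zpow_mul, ← zpow_mul, mul_comm]
  rw [hg2, hsq, one_zpow, mul_one]
  exact Subgroup.pow_mem _ (Subgroup.zpow_mem _ hcen _) 2

end Cfsg.Agent.Lib.Helper10.P2CIT
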