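/-
helper10: S4705 (degree `p - 2`), the block-free part, file F:
the quotient `G ⧸ Z(G)` is a CIT group with elementary abelian involution centralizers (the hypothesis of S1230),
a Sylow 2-subgroup has order dividing `p - 1`, and the exponent `s` exists.
-/
import Mathlib
import Cfsg.Prelude.Def_Characters
import Cfsg.Agent.Lib.Helper10.P2CITA
import Cfsg.Agent.Lib.Helper10.P2CITE
import Cfsg.Agent.Lib.Lead.CharEquiv

set_option autoImplicit false
set_option linter.unusedSectionVars false

namespace Cfsg.Agent.Lib.Helper10.P2CIT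

open Cfsg Cfsg.Agent.CharLib Finset

universe u

variable {G : Type u} [Group G] [Finite G] {p : ℕ} {ζ : G → ℂ} {s : ℕ}

/-- an element of odd order whose square is `1` is `1` -/
theorem eq_one_of_sq_of_odd {H : Type*} [Group H] {z : H} (hz : z ^ 2 = 1) (hodd : Odd (orderOf z)) : z = 1 := by
  have h1 : orderOf z ∣ 2 := orderOf_dvd_of_pow_eq_one hz
  have h2 : orderOf z = 1 := by
    rcases (Nat.dvd_prime Nat.prime_two).mp h1 with h | h
    · exact h
    · rw [h] at hodd; exact absurd hodd (by decide)
  exact orderOf_eq_one_iff.mp h2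

/-- THE CIT PROPERTY of `G ⧸ Z(G)`, in the shape of the hypothesis `hC` of S1230. -/
theorem Star.quotient_cit (h : Star G p ζ s) :
    ∀ t : G ⧸ Subgroup.center G, orderOf t = 2 →
      IsMulCommutative (Subgroup.centralizer ({t} : Set (G ⧸ Subgroup.center G))) ∧
        ∀ c ∈ Subgroup.centralizer ({t} : Set (G ⧸ Subgroup.center G)), c ^ 2 = 1 := by
  intro t ht
  have hsq : ∀ c ∈ Subgroup.centralizer ({t} : Set (G ⧸ Subgroup.center G)), c ^ 2 = 1 := by
    intro cbar hcbar
    obtain ⟨t0, rfl⟩ := QuotientGroup.mk_surjective t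
    obtain ⟨c, rfl⟩ := QuotientGroup.mk_surjective cbar
    set nZ := Nat.card (Subgroup.center G) with hnZ
    have hZodd : Odd nZ := h.zodd
    have ht2 : (QuotientGroup.mk t0 : G ⧸ Subgroup.center G) ^ 2 = 1 := by
      rw [← ht]; exact pow_orderOf_eq_one _
    have ht0sq : t0 ^ 2 ∈ Subgroup.center G := by
      rw [← QuotientGroup.eq_one_iff, QuotientGroup.mk_pow]; exact ht2
    -- the involution `u = t0 ^ nZ`
    set u := t0 ^ nZ with hu
    have hu2 : u ^ 2 = 1 := by
      rw [hu, ← pow_mul, mul_comm, pow_mul]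
      have : (⟨t0 ^ 2, ht0sq⟩ : Subgroup.center G) ^ nZ = 1 := by
        rw [hnZ]; exact pow_card_eq_one'
      have := congrArg Subtype.val this
      simpa using this
    have hmku : (QuotientGroup.mk u : G ⧸ Subgroup.center G) = QuotientGroup.mk t0 := by
      rw [hu, QuotientGroup.mk_pow]
      obtain ⟨e, he⟩ := hZodd
      rw [he, pow_succ, pow_mul, ht2, one_pow, one_mul]
    have hu1 : u ≠ 1 := by
      intro h1
      rw [h1, QuotientGroup.mk_one] at hmku
      rw [← hmku, orderOf_one] at ht
      omega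
    have huord : orderOf u = 2 := orderOf_eq_prime hu2 hu1
    -- `c` commutes with `u` modulo the centre, hence commutes
    have hcomm_bar : (QuotientGroup.mk t0 : G ⧸ Subgroup.center G) * QuotientGroup.mk c
        = QuotientGroup.mk c * QuotientGroup.mk t0 :=
      (Subgroup.mem_centralizer_iff.mp hcbar) _ (Set.mem_singleton _)
    have hz : c * u * c⁻¹ * u⁻¹ ∈ Subgroup.center G := by
      rw [← QuotientGroup.eq_one_iff]
      simp only [QuotientGroup.mk_mul, QuotientGroup.mk_inv, hmku]
      rw [← hcomm_bar]; group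
    set z := c * u * c⁻¹ * u⁻¹ with hzdef
    have hcuc : c * u * c⁻¹ = z * u := by rw [hzdef]; group
    have hzu : Commute z u := (Subgroup.mem_center_iff.mp hz u).symm
    have hz2 : z ^ 2 = 1 := by
      have h1 : (c * u * c⁻¹) ^ 2 = 1 := by
        rw [pow_two]
        have : c * u * c⁻¹ * (c * u * c⁻¹) = c * (u ^ 2) * c⁻¹ := by rw [pow_two]; group
        rw [this, hu2]; group
      rw [hcuc, hzu.mul_pow, hu2, mul_one] at h1
      exact h1
    have hzodd : Odd (orderOf z) := by
      have h1 : orderOf (⟨z, hz⟩ : Subgroup.center G) ∣ nZ := orderOf_dvd_natCard _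
      have h2 : orderOf (⟨z, hz⟩ : Subgroup.center G) = orderOf z := by
        rw [← Subgroup.orderOf_coe]
      rw [h2] at h1
      obtain ⟨e, he⟩ := h1
      rw [he] at hZodd
      exact (Nat.odd_mul.mp hZodd).1
    have hz1 : z = 1 := eq_one_of_sq_of_odd hz2 hzodd
    have hcu : Commute u c := by
      have h1 : c * u * c⁻¹ = u := by rw [hcuc, hz1, one_mul]
      have h2 : c * u = u * c := by
        calc c * u = c * u * c⁻¹ * c := by group
          _ = u * c := by rw [h1]
      exact h2.symm
    have := h.sq_mem_center huord hcu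
    rw [← QuotientGroup.mk_pow, QuotientGroup.eq_one_iff]
    exact this
  refine ⟨⟨⟨?_⟩⟩, hsq⟩
  intro a b
  have ha := hsq a.1 a.2
  have hb := hsq b.1 b.2
  have hab := hsq (a * b).1 (a * b).2
  apply Subtype.ext
  simp only [Subgroup.coe_mul] at hab ⊢
  have h1 : (a : G ⧸ Subgroup.center G)⁻¹ = a := by
    rw [inv_eq_iff_mul_eq_one, ← pow_two]; exact ha
  have h2 : (b : G ⧸ Subgroup.center G)⁻¹ = b := by
    rw [inv_eq_iff_mul_eq_one, ← pow_two]; exact hb
  have h3 : ((a : G ⧸ Subgroup.center G) * b)⁻¹ = a * b := by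
    rw [inv_eq_iff_mul_eq_one, ← pow_two]; exact hab
  rw [mul_inv_rev, h1, h2] at h3
  exact h3.symm

end Cfsg.Agent.Lib.Helper10.P2CIT
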