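/-
helper10: S4705 (degree `p - 2`), the block-free part, file G:
a Sylow 2-subgroup is elementary abelian of order dividing `p - 1`; the exponent `s` exists.
-/
import Mathlib
import Cfsg.Prelude.Def_Characters
import Cfsg.Agent.Lib.Helper10.P2CITA
import Cfsg.Agent.Lib.Lead.CharEquiv

set_option autoImplicit false
set_option linter.unusedSectionVars false

namespace Cfsg.Agent.Lib.Helper10.P2CIT

open Cfsg Cfsg.Agent.CharLib Finset

universe u

variable {G : Type u} [Group G] [Finite G] {p : ℕ} {ζ : G → ℂ} {s : ℕ}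

/-- a non-trivial 2-element is an involution -/
theorem Star.orderOf_eq_two_of_two_pow (h : Star G p ζ s) {g : G} (k : ℕ) (hg : g ^ 2 ^ k = 1) (hg1 : g ≠ 1) :
    orderOf g = 2 := by
  obtain ⟨b, hb⟩ := (Nat.dvd_prime_pow Nat.prime_two).mp (orderOf_dvd_of_pow_eq_one hg) |>.imp
    (fun b hb => hb.2)
  by_cases hb2 : b ≤ 1
  · interval_cases b
    · rw [pow_zero, orderOf_eq_one_iff] at hb; exact absurd hb hg1
    · simpa using hb
  · exfalso
    have hb2' : 2 ≤ b := by omega
    have : orderOf (g ^ 2 ^ (b - 2)) = 4 := by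
      rw [orderOf_pow' _ (by positivity), hb]
      have : Nat.gcd (2 ^ b) (2 ^ (b - 2)) = 2 ^ (b - 2) :=
        Nat.gcd_eq_right (pow_dvd_pow 2 (by omega))
      rw [this, Nat.pow_div (by omega) (by norm_num)]
      have : b - (b - 2) = 2 := by omega
      rw [this]
    exact h.orderOf_ne_four _ this

/-- `|T|` divides `p - 1` for a Sylow 2-subgroup `T`. -/
theorem Star.card_sylow_two_dvd (h : Star G p ζ s) (T : Sylow 2 G) : Nat.card T ∣ p - 1 := by
  classical
  let _ : Fintype T := Fintype.ofFinite T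
  have hp7 := h.hp7
  have hval : ∀ t : T, t ≠ 1 → ζ (t : G) = -1 := by
    intro t ht
    obtain ⟨k, hk⟩ := (IsPGroup.iff_orderOf.mp T.2) t
    have h1 : (t : G) ^ 2 ^ k = 1 := by
      have : t ^ 2 ^ k = 1 := by rw [← hk]; exact pow_orderOf_eq_one t
      have := congrArg Subtype.val this
      simpa using this
    have h2 : (t : G) ≠ 1 := fun h0 => ht (Subtype.ext (by simpa using h0))
    exact h.apply_invol (h.orderOf_eq_two_of_two_pow k h1 h2)
  have hchar : IsCharacter T (fun t : T => ζ t) := IsCharacter.restrict (IsIrrCharacter.isCharacter h.irr) _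
  obtain ⟨n, hn⟩ := IsCharacter.classInner_nat hchar (isCharacter_one (G := T))
  unfold classInner at hn
  have hsum : ∑ t : T, ζ (t : G) * (starRingEnd ℂ) ((1 : T → ℂ) t) = (p : ℂ) - 1 - (Nat.card T : ℂ) := by
    have h1 : ∀ t : T, ζ (t : G) * (starRingEnd ℂ) ((1 : T → ℂ) t) = (if t = 1 then ((p : ℂ) - 1) else 0) + (-1) := by
      intro t
      by_cases ht : t = 1
      · rw [if_pos ht, ht]; simp [h.deg]; ring
      · rw [if_neg ht, hval t ht]; simp
    have h2 : ∑ t : T, ζ (t : G) * (starRingEnd ℂ) ((1 : T → ℂ) t)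
        = ∑ t : T, ((if t = 1 then ((p : ℂ) - 1) else 0) + (-1)) := Finset.sum_congr rfl (fun t _ => h1 t)
    rw [h2, sum_add_distrib]
    have h3 : ∑ x : T, (if x = 1 then ((p : ℂ) - 1) else 0) = (p : ℂ) - 1 := by
      simp
    rw [h3]
    simp [Nat.card_eq_fintype_card]
    ring
  rw [hsum] at hn
  have hT0 : (Nat.card T : ℂ) ≠ 0 := by
    have : 0 < Nat.card T := Nat.card_pos
    exact_mod_cast this.ne'
  have h2 : (p : ℂ) - 1 = (Nat.card T : ℂ) * ((n : ℂ) + 1) := by
    field_simp at hn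
    linear_combination hn
  have h3 : p - 1 = Nat.card T * (n + 1) := by
    have : ((p - 1 : ℕ) : ℂ) = ((Nat.card T * (n + 1) : ℕ) : ℂ) := by
      push_cast [(by omega : 1 ≤ p)]; exact h2
    exact_mod_cast this
  exact ⟨n + 1, h3⟩

/-- the exponent `s` : `1` on the 2-part, `2` on the odd part -/
theorem exists_exponent (G : Type u) [Group G] [Finite G] :
    ∃ s : ℕ, s.Coprime (Nat.card G) ∧ (∀ (g : G) (k : ℕ), g ^ 2 ^ k = 1 → g ^ s = g) ∧
      ∀ g : G, Odd (orderOf g) → g ^ s = g ^ 2 := by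
  have hNpos : 0 < Nat.card G := Nat.card_pos
  obtain ⟨a, m, hm, hN⟩ := Nat.exists_eq_two_pow_mul_odd hNpos.ne'
  have hcop : Nat.Coprime (2 ^ a) m := Nat.Coprime.pow_left a (Nat.coprime_two_left.mpr hm)
  obtain ⟨s, hs1, hs2⟩ := Nat.chineseRemainder hcop 1 2
  refine ⟨s, ?_, ?_, ?_⟩
  · rw [hN]
    apply Nat.Coprime.mul_right
    · -- s ≡ 1 mod 2^a
      have : Nat.gcd s (2 ^ a) = Nat.gcd 1 (2 ^ a) := hs1.gcd_eq
      rw [Nat.coprime_iff_gcd_eq_one, this]; simp
    · have : Nat.gcd s m = Nat.gcd 2 m := hs2.gcd_eq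
      rw [Nat.coprime_iff_gcd_eq_one, this]
      exact Nat.coprime_two_left.mpr hm
  · intro g k hg
    have h1 : orderOf g ∣ 2 ^ k := orderOf_dvd_of_pow_eq_one hg
    have h2 : orderOf g ∣ 2 ^ a * m := by rw [← hN]; exact orderOf_dvd_natCard g
    have h3 : Nat.Coprime (orderOf g) m := Nat.Coprime.coprime_dvd_left h1
      (Nat.Coprime.pow_left k (Nat.coprime_two_left.mpr hm))
    have h4 : orderOf g ∣ 2 ^ a := h3.dvd_of_dvd_mul_right h2
    have h5 : s ≡ 1 [MOD orderOf g] := hs1.of_dvd h4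
    have := pow_eq_pow_iff_modEq.mpr h5
    simpa using this
  · intro g hg
    have h2 : orderOf g ∣ 2 ^ a * m := by rw [← hN]; exact orderOf_dvd_natCard g
    have h3 : Nat.Coprime (orderOf g) (2 ^ a) :=
      Nat.Coprime.pow_right a (Nat.coprime_two_right.mpr hg)
    have h4 : orderOf g ∣ m := h3.dvd_of_dvd_mul_left h2
    have h5 : s ≡ 2 [MOD orderOf g] := hs2.of_dvd h4
    exact pow_eq_pow_iff_modEq.mpr h5

end Cfsg.Agent.Lib.Helper10.P2CIT
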