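/-
helper10: S4705 (degree `p - 2`), the block-free part, file H: the end over S1230.
`G ⧸ Z(G) ≃* PSL(2, F)` with `|F|` the order of a Sylow 2-subgroup, a divisor of `p - 1`.
-/
import Mathlib
import Cfsg.Prelude.Def_Characters
import Cfsg.Agent.Lib.Helper10.P2CITA
import Cfsg.Agent.Lib.Helper10.P2CITF
import Cfsg.Agent.Lib.Helper10.P2CITG
import Cfsg.Agent.S1230

set_option autoImplicit false
set_option linter.unusedSectionVars false

namespace Cfsg.Agent.Lib.Helper10.P2CIT

open Cfsg Cfsg.Agent.CharLib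

universe u

variable {G : Type u} [Group G] [Finite G] {p : ℕ} {ζ : G → ℂ} {s : ℕ}

/-- THE END: `G ⧸ Z(G)` is `PSL(2, F)`, `|F| = |T|` for a Sylow 2-subgroup `T` of the quotient that is neither cyclic nor normal. -/
theorem Star.exists_psl (h : Star G p ζ s) (T : Sylow 2 (G ⧸ Subgroup.center G))
    (hnc : ¬ IsCyclic (T : Subgroup (G ⧸ Subgroup.center G)))
    (hnn : ¬ (T : Subgroup (G ⧸ Subgroup.center G)).Normal) :
    ∃ (F : Type) (_ : Field F) (_ : Fintype F), Fintype.card F = Nat.card T ∧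
      Nonempty ((G ⧸ Subgroup.center G) ≃* Matrix.ProjectiveSpecialLinearGroup (Fin 2) F) :=
  Cfsg.Agent.S1230.result T hnc hnn h.quotient_cit

/-- a Sylow 2-subgroup of the quotient has order dividing `p - 1` -/
theorem Star.card_sylow_two_quotient_dvd (h : Star G p ζ s) (T : Sylow 2 (G ⧸ Subgroup.center G)) :
    Nat.card T ∣ p - 1 := by
  haveI : Fact (Nat.Prime 2) := ⟨Nat.prime_two⟩
  obtain ⟨T0⟩ : Nonempty (Sylow 2 G) := inferInstance
  have h1 : Nat.card T = 2 ^ (Nat.card (G ⧸ Subgroup.center G)).factorization 2 := T.card_eq_multiplicity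
  have h2 : Nat.card T0 = 2 ^ (Nat.card G).factorization 2 := T0.card_eq_multiplicity
  have h3 : Nat.card G = Nat.card (G ⧸ Subgroup.center G) * Nat.card (Subgroup.center G) :=
    Subgroup.card_eq_card_quotient_mul_card_subgroup _
  have hq0 : Nat.card (G ⧸ Subgroup.center G) ≠ 0 := Nat.card_pos.ne'
  have hz0 : Nat.card (Subgroup.center G) ≠ 0 := Nat.card_pos.ne'
  have h4 : (Nat.card (Subgroup.center G)).factorization 2 = 0 := by
    apply Nat.factorization_eq_zero_of_not_dvd
    intro hd
    have := h.zodd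
    rw [Nat.odd_iff] at this
    omega
  have h5 : (Nat.card G).factorization 2 = (Nat.card (G ⧸ Subgroup.center G)).factorization 2 := by
    rw [h3, Nat.factorization_mul hq0 hz0]
    simp [h4]
  rw [h1, ← h5, ← h2]
  exact h.card_sylow_two_dvd T0

end Cfsg.Agent.Lib.Helper10.P2CIT
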