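/-
Sets of characters induced from a normal subgroup (`Cfsg.inducedIrrAbove`): basic facts, degree sums
(helper10).  Towards Peterfalvi (6.2).
-/
import Mathlib
import Cfsg.Prelude.Def_OddOrderChar
import Cfsg.Agent.Lib.Lead.CharInd
import Cfsg.Agent.Lib.Lead.Taketa
import Cfsg.Agent.Lib.Lead.CharEquiv
import Cfsg.Agent.Lib.Lead.CharFS
import Cfsg.Agent.Lib.Helper6.CharExtra
import Cfsg.Agent.Lib.Helper6.LinChar
import Cfsg.Agent.Lib.Helper25.Inflate
import Cfsg.Agent.Lib.Helper24.IrrFacts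
import Cfsg.Agent.Lib.Helper10.CentralSection
import Cfsg.Agent.Lib.Helper10.Coherence4

set_option autoImplicit false

namespace Cfsg.Agent.Lib.Helper10

open Cfsg Cfsg.Agent.CharLib
open scoped ComplexConjugate

universe u v

section basics

variable {L : Type u} [Group L] [Fintype L]

attribute [local instance] fintypeIrr

open Classical in
/-- The non-principal irreducible characters of `K` with `A ⊓ K` in the kernel. -/
noncomputable def seqT (K A : Subgroup L) : Finset (IrrCharacter K) :=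
  Finset.univ.filter (fun ψ => (ψ : K → ℂ) ≠ (fun _ => 1) ∧
    ∀ a : K, (a : L) ∈ A → (ψ : K → ℂ) a = (ψ : K → ℂ) 1)

open Classical in
/-- `inducedIrrAbove K A` as a finset. -/
noncomputable def seqS (K A : Subgroup L) : Finset (L → ℂ) :=
  (seqT K A).image (fun ψ : IrrCharacter K => indFun K ψ.1)

theorem mem_seqT {K A : Subgroup L} {ψ : IrrCharacter K} :
    ψ ∈ seqT K A ↔ (ψ : K → ℂ) ≠ (fun _ => 1) ∧
      ∀ a : K, (a : L) ∈ A → (ψ : K → ℂ) a = (ψ : K → ℂ) 1 := by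
  classical
  simp [seqT]

theorem mem_seqS {K A : Subgroup L} {φ : L → ℂ} : φ ∈ seqS K A ↔ φ ∈ inducedIrrAbove K A := by
  classical
  unfold seqS inducedIrrAbove
  rw [Finset.mem_image, Set.mem_setOf_eq]
  constructor
  · rintro ⟨ψ, hψ, rfl⟩
    rw [mem_seqT] at hψ
    exact ⟨ψ.1, ψ.2, hψ.1, hψ.2, rfl⟩
  · rintro ⟨θ, hθ, h1, h2, rfl⟩
    exact ⟨⟨θ, hθ⟩, mem_seqT.mpr ⟨h1, h2⟩, rfl⟩

theorem coe_seqS (K A : Subgroup L) : (↑(seqS K A) : Set (L → ℂ)) = inducedIrrAbove K A := by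
  ext φ
  rw [Finset.mem_coe, mem_seqS]

theorem inducedIrrAbove_subset_bot (K A : Subgroup L) :
    inducedIrrAbove K A ⊆ inducedIrrAbove K ⊥ := by
  rintro φ ⟨θ, hθ, h1, h2, rfl⟩
  refine ⟨θ, hθ, h1, ?_, rfl⟩
  intro a ha
  have : a = 1 := by
    apply Subtype.ext
    simpa using ha
  rw [this]

omit [Fintype L] in
theorem conjFun_extendByZero (K : Subgroup L) (θ : K → ℂ) (y : L) :
    conj (extendByZero K θ y) = extendByZero K (conjFun θ) y := by
  by_cases hy : y ∈ K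
  · rw [show y = ((⟨y, hy⟩ : K) : L) from rfl, extendByZero_apply_coe, extendByZero_apply_coe]
    rfl
  · rw [extendByZero_apply_of_not_mem _ _ hy, extendByZero_apply_of_not_mem _ _ hy, map_zero]

theorem conjFun_indFun (K : Subgroup L) (θ : K → ℂ) :
    conjFun (indFun K θ) = indFun K (conjFun θ) := by
  funext g
  simp only [conjFun, indFun, map_mul, map_inv₀, map_natCast, map_sum]
  congr 1
  apply Finset.sum_congr rfl
  intro x _
  exact conjFun_extendByZero K θ _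

theorem inducedIrrAbove_conj {K A : Subgroup L} {φ : L → ℂ} (hφ : φ ∈ inducedIrrAbove K A) :
    conjFun φ ∈ inducedIrrAbove K A := by
  obtain ⟨θ, hθ, h1, h2, rfl⟩ := hφ
  refine ⟨conjFun θ, IsIrrCharacter.conj' hθ, ?_, ?_, conjFun_indFun K θ⟩
  · intro h
    apply h1
    funext k
    have := congrFun h k
    simp only [conjFun] at this
    have h3 := congrArg (starRingEnd ℂ) this
    simpa using h3
  · intro a ha
    simp only [conjFun]
    rw [h2 a ha]

theorem indFun_apply_one_index (K : Subgroup L) (θ : K → ℂ) :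
    indFun K θ 1 = (K.index : ℂ) * θ 1 := by
  rw [indFun_apply_one]
  have hK : (Nat.card K : ℂ) ≠ 0 := by
    have : 0 < Nat.card K := Nat.card_pos
    exact_mod_cast this.ne'
  have h1 : (Nat.card L : ℂ) = (Nat.card K : ℂ) * (K.index : ℂ) := by
    rw [← Nat.cast_mul, Subgroup.card_mul_index]
  rw [h1]
  field_simp

theorem index_ne_zero_complex (K : Subgroup L) : (K.index : ℂ) ≠ 0 := by
  have : K.index ≠ 0 := Subgroup.index_ne_zero_of_finite
  exact_mod_cast this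

end basics


section fiber

variable {L : Type u} [Group L] [Fintype L]

attribute [local instance] fintypeIrr

open Cfsg.Agent.Lib.Helper24 in
open Classical in
/-- The fibre of `θ ↦ Ind θ` above `φ` has at most `|L:K| / ⟨φ,φ⟩` elements. -/
theorem card_fiber_mul_le (K : Subgroup L) (ψ₀ : IrrCharacter K) (n : ℕ)
    (hn : classInner (indFun K ψ₀.1) (indFun K ψ₀.1) = n) :
    (Finset.univ.filter (fun ψ : IrrCharacter K => indFun K ψ.1 = indFun K ψ₀.1)).card * n
      ≤ K.index := by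
  set φ := indFun K ψ₀.1 with hφ
  set F := Finset.univ.filter (fun ψ : IrrCharacter K => indFun K ψ.1 = φ) with hF
  have hφc : IsCharacter L φ := IsCharacter.indFun K (IsIrrCharacter.isCharacter ψ₀.2)
  have hΦ : IsCharacter K (fun k : K => φ k) := IsCharacter.restrict hφc K
  obtain ⟨m, hm, hcoef⟩ := Cfsg.Agent.Lib.Helper6.IsCharacter.exists_decomp_sum hΦ
  have hmF : ∀ ψ ∈ F, m ψ = n := by
    intro ψ hψ
    rw [hF, Finset.mem_filter] at hψ
    have h1 := frobenius_reciprocity K ψ.1 (IsCharacter.isClassFunction hφc)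
    rw [hψ.2, hn] at h1
    have h2 := hcoef ψ
    rw [← Cfsg.Agent.CharLib.classInner_conj_symm, ← h1] at h2
    have : (m ψ : ℂ) = n := by rw [← h2]; simp
    exact_mod_cast this
  have hdegF : ∀ ψ ∈ F, charDegree ψ.1 = charDegree ψ₀.1 := by
    intro ψ hψ
    rw [hF, Finset.mem_filter] at hψ
    have h1 := congrFun hψ.2 1
    rw [hφ, indFun_apply_one_index, indFun_apply_one_index, irr_apply_one, irr_apply_one] at h1
    have h2 := mul_left_cancel₀ (index_ne_zero_complex K) h1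
    exact_mod_cast h2
  have h1 : K.index * charDegree ψ₀.1 = ∑ ψ : IrrCharacter K, m ψ * charDegree ψ.1 := by
    have h2 := congrFun hm 1
    simp only [OneMemClass.coe_one, Finset.sum_apply, Pi.smul_apply, nsmul_eq_mul] at h2
    rw [hφ, indFun_apply_one_index, irr_apply_one] at h2
    have h3 : ((K.index * charDegree ψ₀.1 : ℕ) : ℂ) =
        ((∑ ψ : IrrCharacter K, m ψ * charDegree ψ.1 : ℕ) : ℂ) := by
      push_cast
      rw [h2]
      apply Finset.sum_congr rfl
      intro ψ _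
      rw [Pi.mul_apply, Pi.natCast_apply, irr_apply_one]
    exact_mod_cast h3
  have h2 : ∑ ψ ∈ F, m ψ * charDegree ψ.1 ≤ ∑ ψ : IrrCharacter K, m ψ * charDegree ψ.1 :=
    Finset.sum_le_sum_of_subset (Finset.subset_univ _)
  have h3 : ∑ ψ ∈ F, m ψ * charDegree ψ.1 = F.card * n * charDegree ψ₀.1 := by
    rw [Finset.sum_congr rfl (fun ψ hψ => by rw [hmF ψ hψ, hdegF ψ hψ]), Finset.sum_const,
      smul_eq_mul]
    ring
  have hpos : 0 < charDegree ψ₀.1 := irr_charDegree_pos ψ₀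
  have h4 : F.card * n * charDegree ψ₀.1 ≤ K.index * charDegree ψ₀.1 := by
    rw [← h3, h1]; exact h2
  exact Nat.le_of_mul_le_mul_right h4 hpos


/-- the principal character as an element of `IrrCharacter` -/
noncomputable def trivIrr (K : Type u) [Group K] : IrrCharacter K :=
  ⟨fun _ => 1, by
    have h := Cfsg.Agent.Lib.Helper6.isIrrCharacter_of_hom (1 : K →* ℂˣ)
    simpa using h⟩

open Cfsg.Agent.Lib.Helper24 Cfsg.Agent.Lib.Helper25 in
open Classical in
/-- `∑ θ(1)² = |K:A| - 1` over the non-principal irreducible characters of `K` with `A` in the kernel. -/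
theorem sum_seqT_sq (K A : Subgroup L) [hN : (A.subgroupOf K).Normal] :
    ∑ ψ ∈ seqT K A, (charDegree ψ.1 : ℂ) ^ 2 = (A.relIndex K : ℂ) - 1 := by
  set N := A.subgroupOf K with hNdef
  have h1 := sum_irr_quotient N (fun ψ => ψ.1 1 * ψ.1 1)
  have h2 : ∑ θ : IrrCharacter (K ⧸ N), (inflateIrr N θ).1 1 * (inflateIrr N θ).1 1 =
      (Fintype.card (K ⧸ N) : ℂ) := by
    have h3 := sum_irr_degree_mul (G := K ⧸ N) 1
    rw [if_pos rfl] at h3
    rw [← h3]
    apply Finset.sum_congr rfl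
    intro θ _
    rw [inflateIrr_apply]
    rfl
  rw [h2] at h1
  have hcard : (Fintype.card (K ⧸ N) : ℂ) = (A.relIndex K : ℂ) := by
    rw [← Nat.card_eq_fintype_card, ← Subgroup.index_eq_card]
    rfl
  rw [hcard] at h1
  have htriv : trivIrr K ∈ Finset.univ.filter
      (fun ψ : IrrCharacter K => ∀ n ∈ N, (ψ : K → ℂ) n = (ψ : K → ℂ) 1) := by
    rw [Finset.mem_filter]
    exact ⟨Finset.mem_univ _, fun _ _ => rfl⟩
  have herase : seqT K A = (Finset.univ.filter
      (fun ψ : IrrCharacter K => ∀ n ∈ N, (ψ : K → ℂ) n = (ψ : K → ℂ) 1)).erase (trivIrr K) := by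
    ext ψ
    rw [mem_seqT, Finset.mem_erase, Finset.mem_filter]
    constructor
    · rintro ⟨h3, h4⟩
      refine ⟨fun h5 => h3 (by rw [h5]; rfl), Finset.mem_univ _, fun n hn => h4 n ?_⟩
      exact Subgroup.mem_subgroupOf.mp hn
    · rintro ⟨h3, -, h4⟩
      refine ⟨fun h5 => h3 (Subtype.ext h5), fun a ha => h4 a ?_⟩
      exact Subgroup.mem_subgroupOf.mpr ha
  rw [← Finset.add_sum_erase _ _ htriv, ← herase] at h1
  have h5 : (trivIrr K).1 1 * (trivIrr K).1 1 = 1 := by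
    change (1 : ℂ) * 1 = 1
    ring
  rw [h5] at h1
  rw [h1]
  have h6 : ∑ ψ ∈ seqT K A, (charDegree ψ.1 : ℂ) ^ 2 = ∑ ψ ∈ seqT K A, ψ.1 1 * ψ.1 1 := by
    apply Finset.sum_congr rfl
    intro ψ _
    rw [irr_apply_one]
    ring
  rw [h6]
  ring

open Cfsg.Agent.Lib.Helper24 in
open Classical in
/-- The lower bound `|L:K| (|K:A| - 1) ≤ ∑_{φ ∈ S(A)} φ(1)² / ⟨φ,φ⟩`. -/
theorem seqS_sum_lower_bound (K A : Subgroup L) [(A.subgroupOf K).Normal]
    (d n : (L → ℂ) → ℕ) (hd : ∀ φ ∈ inducedIrrAbove K A, φ 1 = (d φ : ℂ))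
    (hn : ∀ φ ∈ inducedIrrAbove K A, classInner φ φ = (n φ : ℂ)) :
    (K.index : ℝ) * ((A.relIndex K : ℝ) - 1) ≤ ∑ φ ∈ seqS K A, (d φ : ℝ) ^ 2 / (n φ : ℝ) := by
  have hepos : (0 : ℝ) < K.index := by
    have : K.index ≠ 0 := Subgroup.index_ne_zero_of_finite
    exact_mod_cast Nat.pos_of_ne_zero this
  have hsq : ∑ ψ ∈ seqT K A, (charDegree ψ.1 : ℝ) ^ 2 = (A.relIndex K : ℝ) - 1 := by
    have h1 := sum_seqT_sq K A
    have h2 : ((∑ ψ ∈ seqT K A, (charDegree ψ.1 : ℝ) ^ 2 : ℝ) : ℂ) = (((A.relIndex K : ℝ) - 1 : ℝ) : ℂ) := by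
      push_cast
      exact h1
    exact_mod_cast h2
  have hmaps : ∀ ψ ∈ seqT K A, indFun K ψ.1 ∈ seqS K A := by
    intro ψ hψ
    exact Finset.mem_image_of_mem _ hψ
  have hfib := Finset.sum_fiberwise_of_maps_to (g := fun ψ : IrrCharacter K => indFun K ψ.1) hmaps
    (fun ψ => (charDegree ψ.1 : ℝ) ^ 2 * (K.index : ℝ))
  rw [← hsq, mul_comm, Finset.sum_mul, ← hfib]
  apply Finset.sum_le_sum
  intro φ hφ
  have hφ' : φ ∈ inducedIrrAbove K A := mem_seqS.mp hφ
  obtain ⟨ψ₀, hψ₀, hψ₀φ⟩ := Finset.mem_image.mp hφ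
  -- degree
  have hdφ : (d φ : ℝ) = K.index * charDegree ψ₀.1 := by
    have h1 := hd φ hφ'
    rw [← hψ₀φ, indFun_apply_one_index, irr_apply_one] at h1
    have h2 : ((d (indFun K ψ₀.1) : ℕ) : ℂ) = ((K.index * charDegree ψ₀.1 : ℕ) : ℂ) := by
      push_cast; exact h1.symm
    have h3 : d (indFun K ψ₀.1) = K.index * charDegree ψ₀.1 := by exact_mod_cast h2
    rw [← hψ₀φ, h3]
    push_cast
    ring
  -- n ≠ 0
  have hnφ : n φ ≠ 0 := by
    intro h0
    have h1 := hn φ hφ'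
    rw [h0, Nat.cast_zero] at h1
    have h2 := Cfsg.Agent.Lib.Helper10.classInner_self_eq_zero h1
    have h3 := hd φ hφ'
    have h3' : φ 1 = 0 := by rw [h2]; rfl
    rw [h3'] at h3
    have h4 : (d φ : ℝ) = 0 := by
      have : d φ = 0 := by exact_mod_cast h3.symm
      rw [this, Nat.cast_zero]
    rw [hdφ] at h4
    have h5 : 0 < charDegree ψ₀.1 := irr_charDegree_pos ψ₀
    have h6 : (0 : ℝ) < charDegree ψ₀.1 := by exact_mod_cast h5
    have := mul_pos hepos h6
    linarith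
  have hnpos : (0 : ℝ) < n φ := by exact_mod_cast Nat.pos_of_ne_zero hnφ
  -- fibre bound
  have hfibre := card_fiber_mul_le K ψ₀ (n φ) (by rw [hψ₀φ]; exact hn φ hφ')
  rw [hψ₀φ] at hfibre
  have hsub : (seqT K A).filter (fun ψ : IrrCharacter K => indFun K ψ.1 = φ) ⊆
      Finset.univ.filter (fun ψ : IrrCharacter K => indFun K ψ.1 = φ) := by
    intro ψ hψ
    rw [Finset.mem_filter] at hψ ⊢
    exact ⟨Finset.mem_univ _, hψ.2⟩
  have hcard := Finset.card_le_card hsub
  have hdeg : ∀ ψ ∈ (seqT K A).filter (fun ψ : IrrCharacter K => indFun K ψ.1 = φ),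
      (charDegree ψ.1 : ℝ) ^ 2 * (K.index : ℝ) = (charDegree ψ₀.1 : ℝ) ^ 2 * (K.index : ℝ) := by
    intro ψ hψ
    rw [Finset.mem_filter] at hψ
    have h1 := congrFun (hψ.2.trans hψ₀φ.symm) 1
    rw [indFun_apply_one_index, indFun_apply_one_index, irr_apply_one, irr_apply_one] at h1
    have h2 := mul_left_cancel₀ (index_ne_zero_complex K) h1
    have h3 : charDegree ψ.1 = charDegree ψ₀.1 := by exact_mod_cast h2
    rw [h3]
  rw [Finset.sum_congr rfl hdeg, Finset.sum_const, nsmul_eq_mul, hdφ]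
  set c := ((seqT K A).filter (fun ψ : IrrCharacter K => indFun K ψ.1 = φ)).card with hc
  have h7 : (c : ℝ) * (n φ : ℝ) ≤ K.index := by
    have h8 : c * n φ ≤ K.index := le_trans (Nat.mul_le_mul_right _ hcard) hfibre
    exact_mod_cast h8
  rw [le_div_iff₀ hnpos]
  have h9 : (0 : ℝ) ≤ (charDegree ψ₀.1 : ℝ) ^ 2 * (K.index : ℝ) := by positivity
  calc (c : ℝ) * ((charDegree ψ₀.1 : ℝ) ^ 2 * (K.index : ℝ)) * (n φ : ℝ)
      = ((c : ℝ) * (n φ : ℝ)) * ((charDegree ψ₀.1 : ℝ) ^ 2 * (K.index : ℝ)) := by ring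
    _ ≤ (K.index : ℝ) * ((charDegree ψ₀.1 : ℝ) ^ 2 * (K.index : ℝ)) :=
        mul_le_mul_of_nonneg_right h7 h9
    _ = ((K.index : ℝ) * (charDegree ψ₀.1 : ℝ)) ^ 2 := by ring


open Classical in
/-- A solvable `K` has a non-principal linear character trivial on `A < K`. -/
theorem exists_linear_seqT (K A : Subgroup L) (hsolv : Group.IsSolvable K) (hAK : A < K)
    [(A.subgroupOf K).Normal] : ∃ ψ ∈ seqT K A, ψ.1 1 = 1 := by
  set N := A.subgroupOf K with hNdef
  have hNtop : N ≠ ⊤ := by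
    intro h
    rw [hNdef, Subgroup.subgroupOf_eq_top] at h
    exact (not_le_of_gt hAK) h
  haveI : Nontrivial (K ⧸ N) := QuotientGroup.nontrivial_iff.mpr hNtop
  haveI : Nontrivial (Abelianization (K ⧸ N)) :=
    QuotientGroup.nontrivial_iff.mpr (Group.IsSolvable.commutator_lt_top_of_nontrivial (K ⧸ N)).ne
  obtain ⟨a, ha⟩ := exists_ne (1 : Abelianization (K ⧸ N))
  obtain ⟨φ, hφ⟩ := CommGroup.exists_apply_ne_one_of_hasEnoughRootsOfUnity
    (Abelianization (K ⧸ N)) ℂ ha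
  set lam : K →* ℂˣ := (φ.comp Abelianization.of).comp (QuotientGroup.mk' N) with hlam
  refine ⟨⟨fun k => ((lam k : ℂˣ) : ℂ), Cfsg.Agent.Lib.Helper6.isIrrCharacter_of_hom lam⟩, ?_, ?_⟩
  · rw [mem_seqT]
    constructor
    · intro h
      apply hφ
      obtain ⟨q, rfl⟩ : ∃ q : K ⧸ N, Abelianization.of q = a := QuotientGroup.mk_surjective a
      obtain ⟨k, rfl⟩ := QuotientGroup.mk_surjective q
      have h1 := congrFun h k
      simp only at h1
      have h2 : lam k = 1 := by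
        apply Units.ext
        rw [h1]; rfl
      exact h2
    · intro k hk
      have hkN : k ∈ N := Subgroup.mem_subgroupOf.mpr hk
      have h1 : lam k = 1 := by
        rw [hlam, MonoidHom.comp_apply, QuotientGroup.mk'_apply,
          (QuotientGroup.eq_one_iff k).mpr hkN, map_one]
      simp only [h1, map_one]
  · simp

/-- Peterfalvi (6.1) for members of `seqT K B`. -/
theorem seqT_degree_bound (K B C D : Subgroup L) (hDC : D ≤ C) (hCK : C ≤ K)
    (hcent : ∀ x ∈ D, ∀ y ∈ C, x * y * x⁻¹ * y⁻¹ ∈ B) (ψ : IrrCharacter K) (hψ : ψ ∈ seqT K B) :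
    (Cfsg.charDegree ψ.1) ^ 2 * Nat.card C * Nat.card D ≤ (Nat.card K) ^ 2 := by
  rw [mem_seqT] at hψ
  have h := degree_bound_central_section ψ.1 ψ.2 (B.subgroupOf K) (C.subgroupOf K) (D.subgroupOf K)
    (by
      intro x hx
      exact Subgroup.mem_subgroupOf.mpr (hDC (Subgroup.mem_subgroupOf.mp hx)))
    (by
      intro d hd c hc
      rw [Subgroup.mem_subgroupOf] at hd hc ⊢
      exact hcent _ hd _ hc)
    (by
      intro b hb
      exact hψ.2 b (Subgroup.mem_subgroupOf.mp hb))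
  have hC : Nat.card (C.subgroupOf K) = Nat.card C :=
    Nat.card_congr (Subgroup.subgroupOfEquivOfLe hCK).toEquiv
  have hD : Nat.card (D.subgroupOf K) = Nat.card D :=
    Nat.card_congr (Subgroup.subgroupOfEquivOfLe (hDC.trans hCK)).toEquiv
  rw [hC, hD, Cfsg.Agent.Lib.Helper24.irr_apply_one] at h
  have h1 : ‖((Cfsg.charDegree ψ.1 : ℕ) : ℂ)‖ = (Cfsg.charDegree ψ.1 : ℝ) := by simp
  rw [h1] at h
  exact_mod_cast h

end fiber

section coherent

variable {L : Type u} [Group L] [Fintype L] {G : Type v} [Group G] [Fintype G]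

/-- A subset of a coherent set containing a pair `χ, conj χ` is coherent. -/
theorem isCoherent_subset {S : Set (L → ℂ)} {τ : (L → ℂ) → (G → ℂ)} {R : (L → ℂ) → Finset (G → ℂ)}
    (hS : IsCoherenceSystem S τ R) {S₁ S₂ : Set (L → ℂ)} (h12 : S₁ ⊆ S₂) (h2 : S₂ ⊆ S)
    (hne : S₁.Nonempty) (hconj : ∀ φ ∈ S₁, conjFun φ ∈ S₁)
    (hcoh : IsCoherent S₂ {1}ᶜ τ) : IsCoherent S₁ {1}ᶜ τ := by
  obtain ⟨-, τ₁, ⟨hadd, hsmul, hinner, hgen⟩, hagree⟩ := hcoh
  refine ⟨?_, τ₁, ⟨?_, ?_, ?_, ?_⟩, ?_⟩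
  · obtain ⟨χ, hχ⟩ := hne
    have hχS : χ ∈ S := h2 (h12 hχ)
    refine ⟨χ - conjFun χ, ⟨zspan_sub (subset_zspan hχ) (subset_zspan (hconj χ hχ)), ?_⟩, ?_⟩
    · intro x hx
      have hx1 : x = 1 := by simpa using hx
      rw [hx1, Pi.sub_apply, cohsys_conj_one hS hχS, sub_self]
    · intro h0
      exact hS.conj_ne χ hχS (sub_eq_zero.mp h0).symm
  · intro α hα β hβ
    exact hadd α (zspan_mono h12 hα) β (zspan_mono h12 hβ)
  · intro α hα n
    exact hsmul α (zspan_mono h12 hα) n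
  · intro α hα β hβ
    exact hinner α (zspan_mono h12 hα) β (zspan_mono h12 hβ)
  · intro α hα
    exact hgen α (zspan_mono h12 hα)
  · intro α hα
    exact hagree α (zspanOn_mono h12 _ hα)

end coherent

end Cfsg.Agent.Lib.Helper10
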