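import Mathlib
import Cfsg.Agent.S1496
import Cfsg.Agent.Lib.Helper10.CyclicSup

/-! A conjugacy class of a normal subgroup `K` stable under an element `x` of order coprime to `|K|`
contains an element commuting with `x` (a Glauberman-type fixed point lemma). -/

namespace Cfsg.Agent.Lib.Helper10

theorem exists_commute_of_stable_class {L : Type*} [Group L] [Finite L] (K : Subgroup L)
    [hK : K.Normal] (x : L) (hx : Nat.Coprime (orderOf x) (Nat.card K)) (k : K)
    (hC : ConjClasses.mk ((MulAut.conjNormal x : MulAut K) k) = ConjClasses.mk k) :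
    ∃ k' : K, ConjClasses.mk k' = ConjClasses.mk k ∧ Commute x (k' : L) := by
  classical
  have hxn : x ∈ Subgroup.normalizer (K : Set L) := by
    have : Subgroup.normalizer (K : Set L) = ⊤ := Subgroup.normalizer_eq_top_iff.mpr hK
    rw [this]; exact Subgroup.mem_top x
  rw [ConjClasses.mk_eq_mk_iff_isConj, isConj_iff] at hC
  obtain ⟨u, hu⟩ := hC
  have hu' : (u : L) * (x * k * x⁻¹) * (u : L)⁻¹ = k := by
    have := congrArg Subtype.val hu
    simpa [MulAut.conjNormal_apply] using this
  obtain ⟨z, hz, c, hc, hcx, hzc⟩ := Cfsg.Agent.S1496.result K x hxn hx (u : L) u.2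
  refine ⟨⟨z * k * z⁻¹, hK.conj_mem k k.2 z⟩, ?_, ?_⟩
  · rw [ConjClasses.mk_eq_mk_iff_isConj, isConj_iff]
    refine ⟨(⟨z, hz⟩ : K)⁻¹, ?_⟩
    apply Subtype.ext
    simp only [Subgroup.coe_mul, Subgroup.coe_inv, inv_inv]
    group
  · have h1 : Commute (c * x) (z * k * z⁻¹) := by
      rw [← hzc]
      unfold Commute SemiconjBy
      have e1 : z * (↑u * x) * z⁻¹ * (z * ↑k * z⁻¹)
          = z * (↑u * (x * ↑k * x⁻¹) * (↑u)⁻¹) * (↑u * x) * z⁻¹ := by
        group
      rw [e1, hu']
      group
    obtain ⟨j, hj⟩ := exists_pow_mul_eq_left (G := L) (orderOf x) (Nat.card K) hx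
    have hcK : c ^ Nat.card K = 1 := by
      have h2 : ((⟨c, hc⟩ : K) ^ Nat.card K : K) = 1 := pow_card_eq_one'
      have h3 := congrArg Subtype.val h2
      simpa only [SubmonoidClass.coe_pow, OneMemClass.coe_one] using h3
    have hxj : (x * c) ^ j = x := hj x c hcx.symm (pow_orderOf_eq_one x) hcK
    show Commute x (z * k * z⁻¹)
    rw [← hxj, ← hcx]
    exact h1.pow_left j

end Cfsg.Agent.Lib.Helper10
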