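/-
L = K ⋊ W₁ with W₁ a cyclic Hall subgroup and C_K(x) = W₂ (cyclic) for all 1 ≠ x ∈ W₁: the irreducible
characters of K fixed by W₁ (helper10).  Peterfalvi (4.3)-type facts.
-/
import Mathlib
import Cfsg.Prelude.Def_Characters
import Cfsg.Agent.Lib.Lead.CharMore
import Cfsg.Agent.Lib.Helper1.Coprime
import Cfsg.Agent.Lib.Helper1.Hall
import Cfsg.Agent.Lib.Helper10.StableClass
import Cfsg.Agent.Lib.Helper6.CliffordCorr
import Cfsg.Agent.Lib.Helper6.CyclicExtRep
import Cfsg.Agent.Lib.Helper6.Gallagher2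
import Cfsg.Agent.Lib.Helper6.CentralHom
import Cfsg.Agent.Lib.Helper10.SeqInd

set_option autoImplicit false

namespace Cfsg.Agent.Lib.Helper10

open Cfsg Cfsg.Agent.CharLib
open scoped ComplexConjugate commutatorElement

universe u

section setup

variable {L : Type u} [Group L] [Finite L] (K W₁ W₂ : Subgroup L) [hK : K.Normal]

/-- `|K| = |L : W₁|` for a complement `W₁` of the normal subgroup `K`. -/
theorem card_eq_index_of_compl (hKW₁ : K ⊓ W₁ = ⊥) (hKW₁' : K ⊔ W₁ = ⊤) :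
    Nat.card K = W₁.index := by
  have hcompl : Subgroup.IsComplement' K W₁ := by
    apply Subgroup.isComplement'_of_disjoint_and_mul_eq_univ (disjoint_iff.mpr hKW₁)
    rw [← Subgroup.normal_mul, hKW₁']
    rfl
  have h1 := hcompl.card_mul
  have h2 := Subgroup.card_mul_index W₁
  have hpos : 0 < Nat.card W₁ := Nat.card_pos
  have : Nat.card K * Nat.card W₁ = W₁.index * Nat.card W₁ := by rw [h1, ← h2]; ring
  exact Nat.eq_of_mul_eq_mul_right hpos this

/-- The classes of `K` fixed by `1 ≠ x ∈ W₁` are parametrised by `W₂ = C_K(x)`. -/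
theorem card_fixed_classes (hKW₁ : K ⊓ W₁ = ⊥) (hKW₁' : K ⊔ W₁ = ⊤)
    (hHall : Nat.Coprime (Nat.card W₁) W₁.index) (hW₂c : IsCyclic W₂) (hW₂K : W₂ ≤ K)
    (x : L) (hx : x ∈ W₁) (hCx : K ⊓ Subgroup.centralizer ({x} : Set L) = W₂) :
    Nat.card {C : ConjClasses K //
      ConjClasses.map (MulAut.conjNormal x : MulAut K).toMonoidHom C = C} = Nat.card W₂ := by
  classical
  have hcardK := card_eq_index_of_compl K W₁ hKW₁ hKW₁'
  have hcopx : Nat.Coprime (orderOf x) (Nat.card K) := by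
    rw [hcardK]
    apply Nat.Coprime.coprime_dvd_left _ hHall
    have := orderOf_dvd_natCard (⟨x, hx⟩ : W₁)
    rwa [Subgroup.orderOf_mk] at this
  have hcomm : ∀ w ∈ W₂, w * x = x * w := by
    intro w hw
    rw [← hCx] at hw
    exact (Subgroup.mem_centralizer_singleton_iff.mp (Subgroup.mem_inf.mp hw).2)
  symm
  apply Nat.card_congr
  refine Equiv.ofBijective (fun w : W₂ => ⟨ConjClasses.mk ⟨w, hW₂K w.2⟩, ?_⟩) ⟨?_, ?_⟩
  · show ConjClasses.mk ((MulAut.conjNormal x : MulAut K) ⟨w, hW₂K w.2⟩) = ConjClasses.mk ⟨w, hW₂K w.2⟩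
    congr 1
    apply Subtype.ext
    rw [MulAut.conjNormal_apply]
    simp only
    rw [← hcomm w w.2]
    group
  · -- injective
    intro w w' hww'
    have h1 : ConjClasses.mk (⟨w, hW₂K w.2⟩ : K) = ConjClasses.mk ⟨w', hW₂K w'.2⟩ :=
      congrArg Subtype.val hww'
    rw [ConjClasses.mk_eq_mk_iff_isConj, isConj_iff] at h1
    obtain ⟨k, hk⟩ := h1
    have hk' : (k : L) * w * (k : L)⁻¹ = w' := by
      have := congrArg Subtype.val hk
      simpa using this
    -- Glauberman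
    set A := Subgroup.zpowers x with hA
    set N := K ⊓ Subgroup.centralizer ({(w : L)} : Set L) with hN
    have hAcomm_w : ∀ a ∈ A, a * (w : L) = w * a := by
      intro a ha
      obtain ⟨j, rfl⟩ := Subgroup.mem_zpowers_iff.mp ha
      exact ((Commute.zpow_right (hcomm w w.2) j).eq).symm
    have hAcomm_w' : ∀ a ∈ A, a * (w' : L) = w' * a := by
      intro a ha
      obtain ⟨j, rfl⟩ := Subgroup.mem_zpowers_iff.mp ha
      exact ((Commute.zpow_right (hcomm w' w'.2) j).eq).symm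
    have hnorm : A ≤ Subgroup.normalizer (N : Set L) := by
      intro a ha
      rw [Subgroup.mem_normalizer_iff]
      intro n
      have hkey : ∀ b ∈ A, ∀ m : L, m ∈ N → b * m * b⁻¹ ∈ N := by
        intro b hb m hm
        have hm' := Subgroup.mem_inf.mp hm
        refine Subgroup.mem_inf.mpr ⟨hK.conj_mem m hm'.1 b, ?_⟩
        rw [Subgroup.mem_centralizer_singleton_iff]
        have h2 := Subgroup.mem_centralizer_singleton_iff.mp hm'.2
        have h3 := hAcomm_w b hb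
        have h4 : b⁻¹ * (w : L) = w * b⁻¹ := by
          have := hAcomm_w b⁻¹ (A.inv_mem hb)
          exact this
        calc b * m * b⁻¹ * (w : L) = b * (m * (w : L)) * b⁻¹ := by rw [mul_assoc, h4]; group
          _ = b * ((w : L) * m) * b⁻¹ := by rw [h2]
          _ = (w : L) * (b * m * b⁻¹) := by
              rw [← mul_assoc, h3]; group
      constructor
      · intro hn
        exact hkey a ha n hn
      · intro hn
        have := hkey a⁻¹ (A.inv_mem ha) _ hn
        simpa [mul_assoc] using this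
    have hcop : Nat.Coprime (Nat.card A) (Nat.card N) := by
      rw [hA, Nat.card_zpowers]
      apply Nat.Coprime.coprime_dvd_right _ hcopx
      exact Subgroup.card_dvd_of_le inf_le_left
    have hxk : ∀ a ∈ A, (k : L)⁻¹ * a * (k : L) * a⁻¹ ∈ N := by
      intro a ha
      apply Subgroup.mem_inf.mpr
      constructor
      · have h1 : (k : L)⁻¹ * a * (k : L) * a⁻¹ = (k : L)⁻¹ * (a * (k : L) * a⁻¹) := by group
        rw [h1]
        exact K.mul_mem (K.inv_mem k.2) (hK.conj_mem k k.2 a)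
      · rw [Subgroup.mem_centralizer_singleton_iff]
        have h3 := hAcomm_w a ha
        have h4 := hAcomm_w' a ha
        have h3' : a⁻¹ * (w : L) = w * a⁻¹ := hAcomm_w a⁻¹ (A.inv_mem ha)
        have hw' : (k : L) * w = w' * k := by rw [← hk']; group
        have hw'' : (k : L)⁻¹ * w' = w * (k : L)⁻¹ := by rw [← hk']; group
        calc (k : L)⁻¹ * a * (k : L) * a⁻¹ * (w : L)
            = (k : L)⁻¹ * a * ((k : L) * (w : L)) * a⁻¹ := by rw [mul_assoc _ a⁻¹, h3']; group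
          _ = (k : L)⁻¹ * (a * (w' : L)) * (k : L) * a⁻¹ := by rw [hw']; group
          _ = ((k : L)⁻¹ * (w' : L)) * a * (k : L) * a⁻¹ := by rw [h4]; group
          _ = (w : L) * ((k : L)⁻¹ * a * (k : L) * a⁻¹) := by rw [hw'']; group
    obtain ⟨n, hn, hkn⟩ := Cfsg.Agent.Lib.Helper1.exists_mul_mem_centralizer hnorm hcop
      (Or.inl inferInstance) (k : L) hxk
    have hknx : (k : L) * n * x = x * ((k : L) * n) := by
      have := hkn x (Subgroup.mem_zpowers x)
      exact this.symm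
    have hknW₂ : (k : L) * n ∈ W₂ := by
      rw [← hCx]
      refine Subgroup.mem_inf.mpr ⟨K.mul_mem k.2 (Subgroup.mem_inf.mp hn).1, ?_⟩
      rw [Subgroup.mem_centralizer_singleton_iff]
      exact hknx
    have hnw : n * (w : L) = w * n :=
      Subgroup.mem_centralizer_singleton_iff.mp (Subgroup.mem_inf.mp hn).2
    have h5 : ((k : L) * n) * w * ((k : L) * n)⁻¹ = w' := by
      rw [← hk']
      calc (k : L) * n * w * ((k : L) * n)⁻¹ = (k : L) * (n * w) * n⁻¹ * (k : L)⁻¹ := by group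
        _ = (k : L) * w * (k : L)⁻¹ := by rw [hnw]; group
    haveI := hW₂c
    have hW₂comm : ∀ a b : W₂, a * b = b * a := by
      intro a b
      have : IsMulCommutative W₂ := IsCyclic.commutative
      exact this.is_comm.comm a b
    have h6 := hW₂comm ⟨(k : L) * n, hknW₂⟩ w
    have h7 : ((k : L) * n) * (w : L) = w * ((k : L) * n) := congrArg Subtype.val h6
    apply Subtype.ext
    rw [← h5, h7]
    group
  · -- surjective
    rintro ⟨C, hC⟩
    obtain ⟨k, rfl⟩ := ConjClasses.mk_surjective C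
    obtain ⟨k', hk', hcomm'⟩ := exists_commute_of_stable_class K x hcopx k hC
    have hk'W₂ : (k' : L) ∈ W₂ := by
      rw [← hCx]
      refine Subgroup.mem_inf.mpr ⟨k'.2, ?_⟩
      rw [Subgroup.mem_centralizer_singleton_iff]
      exact hcomm'.eq.symm
    refine ⟨⟨k', hk'W₂⟩, ?_⟩
    apply Subtype.ext
    exact hk'


/-- the stabiliser in `L` of a function on the normal subgroup `K` -/
def fnStab (θ : K → ℂ) : Subgroup L where
  carrier := {y | θ ∘ (MulAut.conjNormal y : MulAut K) = θ}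
  one_mem' := by
    show θ ∘ (MulAut.conjNormal (1 : L) : MulAut K) = θ
    rw [map_one]; rfl
  mul_mem' := by
    intro a b ha hb
    show θ ∘ (MulAut.conjNormal (a * b) : MulAut K) = θ
    rw [map_mul]
    have : θ ∘ ((MulAut.conjNormal a : MulAut K) * (MulAut.conjNormal b : MulAut K)) =
        (θ ∘ (MulAut.conjNormal a : MulAut K)) ∘ (MulAut.conjNormal b : MulAut K) := rfl
    rw [this, ha, hb]
  inv_mem' := by
    intro a ha
    show θ ∘ (MulAut.conjNormal a⁻¹ : MulAut K) = θ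
    have ha' : θ ∘ (MulAut.conjNormal a : MulAut K) = θ := ha
    rw [map_inv]
    funext k
    have h1 := congrFun ha' ((MulAut.conjNormal a : MulAut K)⁻¹ k)
    simp only [Function.comp_apply] at h1 ⊢
    rw [MulAut.apply_inv_self] at h1
    exact h1.symm

theorem mem_fnStab {θ : K → ℂ} {y : L} :
    y ∈ fnStab K θ ↔ θ ∘ (MulAut.conjNormal y : MulAut K) = θ := Iff.rfl

theorem comp_conjNormal (θ : K → ℂ) (x : L) :
    θ ∘ (MulAut.conjNormal x : MulAut K) =
      fun k : K => θ ⟨x * k * x⁻¹, hK.conj_mem (k : L) k.2 x⟩ := by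
  funext k
  simp only [Function.comp_apply]
  congr 1

/-- `K` fixes every class function of `K`. -/
theorem le_fnStab {θ : K → ℂ} (hθ : IsClassFunction K θ) : K ≤ fnStab K θ := by
  intro y hy
  rw [mem_fnStab, comp_conjNormal]
  funext k
  have := hθ k ⟨y, hy⟩
  rw [← this]
  congr 1

/-- An irreducible character of `K` fixed by some `1 ≠ x ∈ W₁` is fixed by all of `W₁`. -/
theorem fnStab_of_fixed (hKW₁ : K ⊓ W₁ = ⊥) (hKW₁' : K ⊔ W₁ = ⊤) (hW₁c : IsCyclic W₁)
    (hHall : Nat.Coprime (Nat.card W₁) W₁.index) (hW₂c : IsCyclic W₂) (hW₂K : W₂ ≤ K)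
    (hC : ∀ x ∈ W₁, x ≠ 1 → K ⊓ Subgroup.centralizer ({x} : Set L) = W₂)
    (θ : IrrCharacter K) (x : L) (hx : x ∈ W₁) (hx1 : x ≠ 1) (hfix : x ∈ fnStab K θ.1) :
    W₁ ≤ fnStab K θ.1 := by
  classical
  obtain ⟨⟨x₀, hx₀⟩, hgen⟩ := hW₁c.exists_generator
  have hW₁eq : W₁ = Subgroup.zpowers x₀ := by
    apply le_antisymm
    · intro y hy
      obtain ⟨j, hj⟩ := Subgroup.mem_zpowers_iff.mp (hgen ⟨y, hy⟩)
      rw [Subgroup.mem_zpowers_iff]
      exact ⟨j, by have := congrArg Subtype.val hj; simpa using this⟩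
    · rw [Subgroup.zpowers_le]; exact hx₀
  have hx₀1 : x₀ ≠ 1 := by
    rintro rfl
    rw [hW₁eq, Subgroup.zpowers_one_eq_bot] at hx
    exact hx1 (Subgroup.mem_bot.mp hx)
  -- the two fixed sets
  set S₀ : Set (IrrCharacter K) := {χ | (χ : K → ℂ) ∘ (MulAut.conjNormal x₀ : MulAut K) = χ} with hS₀
  set S₁ : Set (IrrCharacter K) := {χ | (χ : K → ℂ) ∘ (MulAut.conjNormal x : MulAut K) = χ} with hS₁
  have hsub : S₀ ⊆ S₁ := by
    intro χ hχ
    have h1 : Subgroup.zpowers x₀ ≤ fnStab K χ.1 := by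
      rw [Subgroup.zpowers_le]; exact hχ
    exact h1 (hW₁eq ▸ hx)
  have hcard : ∀ y ∈ W₁, y ≠ 1 →
      Set.ncard {χ : IrrCharacter K | (χ : K → ℂ) ∘ (MulAut.conjNormal y : MulAut K) = χ} =
        Nat.card W₂ := by
    intro y hy hy1
    rw [← card_fixed_classes K W₁ W₂ hKW₁ hKW₁' hHall hW₂c hW₂K y hy (hC y hy hy1),
      card_fixed_classes_eq_card_fixed_irr]
    rfl
  have hfin : S₁.Finite := Set.toFinite _
  have hEq : S₀ = S₁ := by
    apply Set.eq_of_subset_of_ncard_le hsub _ hfin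
    rw [hS₀, hS₁, hcard x₀ hx₀ hx₀1, hcard x hx hx1]
  have hθ : θ ∈ S₀ := by rw [hEq]; exact hfix
  rw [hW₁eq, Subgroup.zpowers_le]
  exact hθ

end setup

section main

variable {L : Type u} [Group L] [Fintype L] (K W₁ W₂ : Subgroup L) [hK : K.Normal]

theorem mem_fnStab_iff_conjFun {θ : K → ℂ} {y : L} :
    y ∈ fnStab K θ ↔ Cfsg.Agent.Lib.Helper6.conjFun K y θ = θ := by
  rw [mem_fnStab, comp_conjNormal]
  rfl

/-- Part (1): an irreducible character of `K` moved by some element of `W₁` induces irreducibly. -/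
theorem indFun_irr_of_moved (hKW₁ : K ⊓ W₁ = ⊥) (hKW₁' : K ⊔ W₁ = ⊤) (hW₁c : IsCyclic W₁)
    (hHall : Nat.Coprime (Nat.card W₁) W₁.index) (hW₂c : IsCyclic W₂) (hW₂K : W₂ ≤ K)
    (hC : ∀ x ∈ W₁, x ≠ 1 → K ⊓ Subgroup.centralizer ({x} : Set L) = W₂)
    (θ : K → ℂ) (hθ : IsIrrCharacter K θ)
    (hmoved : ∃ x ∈ W₁, (fun k : K => θ ⟨x * k * x⁻¹, hK.conj_mem (k : L) k.2 x⟩) ≠ θ) :
    IsIrrCharacter L (indFun K θ) := by
  classical
  have hθcf : IsClassFunction K θ := IsCharacter.isClassFunction (IsIrrCharacter.isCharacter hθ)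
  obtain ⟨x', hx', hx'θ⟩ := hmoved
  have hT : ∀ g : L, g ∈ K ↔ Cfsg.Agent.Lib.Helper6.conjFun K g θ = θ := by
    intro g
    constructor
    · intro hg
      exact Cfsg.Agent.Lib.Helper6.conjFun_of_mem K hθcf hg
    · intro hg
      have hgtop : g ∈ K ⊔ W₁ := by rw [hKW₁']; trivial
      obtain ⟨k, hk, x, hx, rfl⟩ := Cfsg.Agent.Lib.Helper1.mem_sup_of_normal_left K W₁ g hgtop
      rw [Cfsg.Agent.Lib.Helper6.conjFun_mul, Cfsg.Agent.Lib.Helper6.conjFun_of_mem K hθcf hk] at hg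
      by_cases hx1 : x = 1
      · rw [hx1, mul_one]; exact hk
      · exfalso
        have hfix : x ∈ fnStab K θ := (mem_fnStab_iff_conjFun K).mpr hg
        have hall := fnStab_of_fixed K W₁ W₂ hKW₁ hKW₁' hW₁c hHall hW₂c hW₂K hC ⟨θ, hθ⟩ x hx hx1 hfix
        have := (mem_fnStab_iff_conjFun K).mp (hall hx')
        exact hx'θ this
  have hres : Cfsg.Agent.Lib.Helper6.resLE (le_refl K) θ = θ := by
    funext n
    rfl
  have hf : classInner (Cfsg.Agent.Lib.Helper6.resLE (le_refl K) θ) θ ≠ 0 := by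
    rw [hres, classInner_irr hθ hθ, if_pos rfl]
    exact one_ne_zero
  exact (Cfsg.Agent.Lib.Helper6.isIrrCharacter_indFun_inertia (le_refl K) hθ hT hθ hf).1

/-- Part (2): the number of irreducible characters of `K` fixed by `W₁` is `|W₂|`. -/
theorem card_fixed_irr (hKW₁ : K ⊓ W₁ = ⊥) (hKW₁' : K ⊔ W₁ = ⊤) (hW₁ : W₁ ≠ ⊥) (hW₁c : IsCyclic W₁)
    (hHall : Nat.Coprime (Nat.card W₁) W₁.index) (hW₂c : IsCyclic W₂) (hW₂K : W₂ ≤ K)
    (hC : ∀ x ∈ W₁, x ≠ 1 → K ⊓ Subgroup.centralizer ({x} : Set L) = W₂) :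
    Nat.card {θ : IrrCharacter K // ∀ x ∈ W₁,
      (fun k : K => (θ : K → ℂ) ⟨x * k * x⁻¹, hK.conj_mem (k : L) k.2 x⟩) = θ} = Nat.card W₂ := by
  classical
  obtain ⟨⟨x₀, hx₀⟩, hgen⟩ := hW₁c.exists_generator
  have hW₁eq : W₁ = Subgroup.zpowers x₀ := by
    apply le_antisymm
    · intro y hy
      obtain ⟨j, hj⟩ := Subgroup.mem_zpowers_iff.mp (hgen ⟨y, hy⟩)
      rw [Subgroup.mem_zpowers_iff]
      exact ⟨j, by have := congrArg Subtype.val hj; simpa using this⟩
    · rw [Subgroup.zpowers_le]; exact hx₀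
  have hx₀1 : x₀ ≠ 1 := by
    rintro rfl
    apply hW₁
    rw [hW₁eq, Subgroup.zpowers_one_eq_bot]
  rw [← card_fixed_classes K W₁ W₂ hKW₁ hKW₁' hHall hW₂c hW₂K x₀ hx₀ (hC x₀ hx₀ hx₀1),
    card_fixed_classes_eq_card_fixed_irr]
  apply Nat.card_congr
  apply Equiv.subtypeEquivRight
  intro θ
  constructor
  · intro h
    have := h x₀ hx₀
    rw [← comp_conjNormal] at this
    exact this
  · intro h x hx
    have h1 : Subgroup.zpowers x₀ ≤ fnStab K θ.1 := by
      rw [Subgroup.zpowers_le]; exact h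
    have h2 : x ∈ fnStab K θ.1 := h1 (hW₁eq ▸ hx)
    rw [← comp_conjNormal]
    exact h2

/-- Part (3): an irreducible character of `K` fixed by `W₁` induces to a sum of `|W₁|` distinct
irreducible characters. -/
theorem indFun_of_fixed (hKW₁ : K ⊓ W₁ = ⊥) (hKW₁' : K ⊔ W₁ = ⊤) (hW₁c : IsCyclic W₁)
    (θ : K → ℂ) (hθ : IsIrrCharacter K θ)
    (hfix : ∀ x ∈ W₁, (fun k : K => θ ⟨x * k * x⁻¹, hK.conj_mem (k : L) k.2 x⟩) = θ) :
    ∃ C : Finset (L → ℂ), C.card = Nat.card W₁ ∧ (∀ μ ∈ C, IsIrrCharacter L μ) ∧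
      indFun K θ = ∑ μ ∈ C, μ := by
  classical
  let _ := fintypeIrr L
  have hθcf : IsClassFunction K θ := IsCharacter.isClassFunction (IsIrrCharacter.isCharacter hθ)
  -- L/K is cyclic
  have hsurj : Function.Surjective ((QuotientGroup.mk' K).comp W₁.subtype) := by
    intro q
    obtain ⟨g, rfl⟩ := QuotientGroup.mk'_surjective K q
    have hgtop : g ∈ K ⊔ W₁ := by rw [hKW₁']; trivial
    obtain ⟨k, hk, x, hx, rfl⟩ := Cfsg.Agent.Lib.Helper1.mem_sup_of_normal_left K W₁ g hgtop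
    refine ⟨⟨x, hx⟩, ?_⟩
    show (QuotientGroup.mk' K) x = (QuotientGroup.mk' K) (k * x)
    rw [map_mul]
    have : (QuotientGroup.mk' K) k = 1 := (QuotientGroup.eq_one_iff k).mpr hk
    rw [this, one_mul]
  have hcyc : IsCyclic (L ⧸ K) := by
    haveI := hW₁c
    exact isCyclic_of_surjective _ hsurj
  have hinv : ∀ (g : L) (n : K), θ ⟨g * n * g⁻¹, hK.conj_mem (n : L) n.2 g⟩ = θ n := by
    intro g n
    have hgtop : g ∈ K ⊔ W₁ := by rw [hKW₁']; trivial
    obtain ⟨k, hk, x, hx, rfl⟩ := Cfsg.Agent.Lib.Helper1.mem_sup_of_normal_left K W₁ g hgtop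
    have h1 : Cfsg.Agent.Lib.Helper6.conjFun K (k * x) θ = θ := by
      rw [Cfsg.Agent.Lib.Helper6.conjFun_mul, Cfsg.Agent.Lib.Helper6.conjFun_of_mem K hθcf hk]
      exact hfix x hx
    exact congrFun h1 n
  obtain ⟨χ, hχ, hχK⟩ := Cfsg.Agent.Lib.Helper6.exists_irr_extension_of_cyclic K hcyc hθ hinv
  have hresχ : Cfsg.Agent.Lib.Helper6.resFun K χ = θ := by
    funext n
    exact hχK n
  have hχN : IsIrrCharacter K (Cfsg.Agent.Lib.Helper6.resFun K χ) := by rw [hresχ]; exact hθ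
  have hgal := Cfsg.Agent.Lib.Helper6.gallagher_bijOn K hχ hχN
  rw [hresχ] at hgal
  -- commutators lie in K
  have hcommK : ∀ g k : L, ⁅g, k⁆ ∈ K := by
    intro g k
    rw [← QuotientGroup.eq_one_iff]
    show (QuotientGroup.mk' K) ⁅g, k⁆ = 1
    rw [map_commutatorElement]
    have : IsMulCommutative (L ⧸ K) := IsCyclic.commutative
    rw [commutatorElement_eq_one_iff_commute]
    exact this.is_comm.comm _ _
  -- the constituents
  have hkey : ∀ ψ : L → ℂ, IsIrrCharacter L ψ → classInner (indFun K θ) ψ ≠ 0 →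
      classInner (indFun K θ) ψ = 1 ∧ ψ 1 = θ 1 := by
    intro ψ hψ hne
    obtain ⟨β, ⟨hβ, hβ1⟩, hβψ⟩ := hgal.surjOn ⟨hψ, hne⟩
    obtain ⟨-, hβconst⟩ := Cfsg.Agent.Lib.Helper6.apply_mul_of_indFun_one_ne_zero K hβ hβ1
    have hβK : ∀ k : L, k ∈ K → β k = β 1 := by
      intro k hk
      have := hβconst ⟨k, hk⟩ 1
      rwa [mul_one] at this
    have hβone : β 1 = 1 := by
      apply Cfsg.Agent.Lib.Helper6.IsIrrCharacter.apply_one_eq_one_of_commutator hβ
      intro g k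
      exact hβK _ (hcommK g k)
    have hψK : ∀ k : K, ψ k = θ k := by
      intro k
      rw [← hβψ]
      show β k * χ k = θ k
      rw [hβK k k.2, hβone, one_mul, hχK]
    have hψcf : IsClassFunction L ψ := IsCharacter.isClassFunction (IsIrrCharacter.isCharacter hψ)
    constructor
    · rw [frobenius_reciprocity K θ hψcf]
      have : (fun h : K => ψ h) = θ := funext hψK
      rw [this, classInner_irr hθ hθ, if_pos rfl]
    · have := hψK 1
      simpa using this
  obtain ⟨m, hm, hcoef⟩ := Cfsg.Agent.Lib.Helper6.IsCharacter.exists_decomp_sum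
    (IsCharacter.indFun K (IsIrrCharacter.isCharacter hθ))
  have hm01 : ∀ ψ : IrrCharacter L, m ψ ≠ 0 → m ψ = 1 := by
    intro ψ hψ
    have h1 := hcoef ψ
    have h2 : classInner (indFun K θ) (ψ : L → ℂ) ≠ 0 := by
      rw [h1]; exact_mod_cast hψ
    have h3 := (hkey ψ.1 ψ.2 h2).1
    rw [h1] at h3
    exact_mod_cast h3
  set T : Finset (IrrCharacter L) := Finset.univ.filter (fun ψ => m ψ ≠ 0) with hT
  have hsum : indFun K θ = ∑ ψ ∈ T, (ψ : L → ℂ) := by
    conv_lhs => rw [hm]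
    rw [hT, Finset.sum_filter]
    apply Finset.sum_congr rfl
    intro ψ _
    by_cases h : m ψ = 0
    · rw [if_neg (not_not.mpr h), h, zero_smul]
    · rw [if_pos h, hm01 ψ h, one_smul]
  refine ⟨T.image (fun ψ : IrrCharacter L => (ψ : L → ℂ)), ?_, ?_, ?_⟩
  · rw [Finset.card_image_of_injective _ Subtype.val_injective]
    -- compare degrees
    have h1 := congrFun hsum 1
    rw [indFun_apply_one_index, Finset.sum_apply] at h1
    have h2 : ∀ ψ ∈ T, (ψ : L → ℂ) 1 = θ 1 := by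
      intro ψ hψ
      have hmψ : m ψ ≠ 0 := (Finset.mem_filter.mp hψ).2
      have h2 : classInner (indFun K θ) (ψ : L → ℂ) ≠ 0 := by
        rw [hcoef ψ]; exact_mod_cast hmψ
      exact (hkey ψ.1 ψ.2 h2).2
    rw [Finset.sum_congr rfl h2, Finset.sum_const, nsmul_eq_mul] at h1
    obtain ⟨d, hdpos, hd⟩ := IsIrrCharacter.apply_one_pos hθ
    have hd0 : θ 1 ≠ 0 := by rw [hd]; exact_mod_cast hdpos.ne'
    have h3 : (K.index : ℂ) = (T.card : ℂ) := mul_right_cancel₀ hd0 h1
    have h4 : K.index = T.card := by exact_mod_cast h3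
    rw [← h4]
    -- K.index = |W₁|
    have hcompl : Subgroup.IsComplement' K W₁ := by
      apply Subgroup.isComplement'_of_disjoint_and_mul_eq_univ (disjoint_iff.mpr hKW₁)
      rw [← Subgroup.normal_mul, hKW₁']
      rfl
    exact hcompl.symm.index_eq_card
  · intro μ hμ
    obtain ⟨ψ, -, rfl⟩ := Finset.mem_image.mp hμ
    exact ψ.2
  · rw [Finset.sum_image (fun a _ b _ h => Subtype.val_injective h)]
    exact hsum

end main

end Cfsg.Agent.Lib.Helper10
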