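/-
Peterfalvi (4.3)-(4.5), part a (helper10): L = K ⋊ W₁, W₂ = C_K(x) for 1 ≠ x ∈ W₁, W = W₁ ⊔ W₂.
Fusion of W ∖ W₂, induction from W.
-/
import Mathlib
import Cfsg.Prelude.Def_Characters
import Cfsg.Prelude.Def_OddOrderChar
import Cfsg.Agent.Lib.Helper1.Hall
import Cfsg.Agent.Lib.Helper10.CyclicSup
import Cfsg.Agent.Lib.Helper10.IndFun
import Cfsg.Agent.Lib.Helper10.TIInd
import Cfsg.Agent.Lib.Helper10.W1Fixed
import Cfsg.Agent.Lib.Lead.CharInd

set_option autoImplicit false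

namespace Cfsg.Agent.Lib.Helper10

open Cfsg Cfsg.Agent.CharLib
open scoped ComplexConjugate

universe u

/-- the hypotheses on `K, W₁, W₂` -/
structure PF43Hyp {L : Type u} [Group L] (K W₁ W₂ : Subgroup L) : Prop where
  inf : K ⊓ W₁ = ⊥
  sup : K ⊔ W₁ = ⊤
  cyc : IsCyclic W₁
  cyc₂ : IsCyclic W₂
  hall : Nat.Coprime (Nat.card W₁) W₁.index
  le : W₂ ≤ K
  cent : ∀ x ∈ W₁, x ≠ 1 → K ⊓ Subgroup.centralizer ({x} : Set L) = W₂

namespace PF43Hyp

variable {L : Type u} [Group L] {K W₁ W₂ : Subgroup L}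

theorem comm (h : PF43Hyp K W₁ W₂) {x c : L} (hx : x ∈ W₁) (hc : c ∈ W₂) : x * c = c * x := by
  by_cases hx1 : x = 1
  · rw [hx1, one_mul, mul_one]
  · have := h.cent x hx hx1
    rw [← this] at hc
    exact (Subgroup.mem_centralizer_singleton_iff.mp (Subgroup.mem_inf.mp hc).2).symm

theorem inf₁₂ (h : PF43Hyp K W₁ W₂) : W₁ ⊓ W₂ = ⊥ := by
  rw [eq_bot_iff, ← h.inf]
  intro x hx
  exact Subgroup.mem_inf.mpr ⟨h.le (Subgroup.mem_inf.mp hx).2, (Subgroup.mem_inf.mp hx).1⟩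

theorem le_normalizer (h : PF43Hyp K W₁ W₂) : W₂ ≤ Subgroup.normalizer (W₁ : Set L) := by
  intro c hc
  rw [Subgroup.mem_normalizer_iff]
  intro x
  constructor
  · intro hx
    have := h.comm hx hc
    have e : c * x * c⁻¹ = x := by rw [← this]; group
    rw [e]; exact hx
  · intro hx
    have := h.comm hx hc
    have e : c * (c * x * c⁻¹) * c⁻¹ = c * x * c⁻¹ := by rw [← this]; group
    have e2 : x = c⁻¹ * (c * x * c⁻¹) * c := by group
    have hcomm2 : (c * x * c⁻¹) * c = c * (c * x * c⁻¹) := h.comm hx hc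
    rw [e2, mul_assoc, hcomm2]
    simpa using hx

theorem mem_sup (h : PF43Hyp K W₁ W₂) {w : L} :
    w ∈ W₁ ⊔ W₂ ↔ ∃ x ∈ W₁, ∃ c ∈ W₂, x * c = w := by
  rw [← SetLike.mem_coe, sup_comm, Subgroup.coe_mul_of_left_le_normalizer_right W₂ W₁ h.le_normalizer,
    Set.mem_mul]
  constructor
  · rintro ⟨c, hc, x, hx, rfl⟩
    exact ⟨x, hx, c, hc, h.comm hx hc⟩
  · rintro ⟨x, hx, c, hc, rfl⟩
    exact ⟨c, hc, x, hx, (h.comm hx hc).symm⟩

theorem sup_comm' (h : PF43Hyp K W₁ W₂) {a b : L} (ha : a ∈ W₁ ⊔ W₂) (hb : b ∈ W₁ ⊔ W₂) :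
    a * b = b * a := by
  obtain ⟨x, hx, c, hc, rfl⟩ := h.mem_sup.mp ha
  obtain ⟨y, hy, d, hd, rfl⟩ := h.mem_sup.mp hb
  have hxy : x * y = y * x := by
    have := h.cyc
    have hcomm : IsMulCommutative W₁ := IsCyclic.isMulCommutative
    have := hcomm.is_comm.comm ⟨x, hx⟩ ⟨y, hy⟩
    exact congrArg Subtype.val this
  have hcd : c * d = d * c := by
    have := h.cyc₂
    have hcomm : IsMulCommutative W₂ := IsCyclic.isMulCommutative
    have := hcomm.is_comm.comm ⟨c, hc⟩ ⟨d, hd⟩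
    exact congrArg Subtype.val this
  have hxd := h.comm hx hd
  have hyc := h.comm hy hc
  calc x * c * (y * d) = x * (c * y) * d := by group
    _ = x * (y * c) * d := by rw [hyc]
    _ = (x * y) * (c * d) := by group
    _ = (y * x) * (d * c) := by rw [hxy, hcd]
    _ = y * (x * d) * c := by group
    _ = y * (d * x) * c := by rw [hxd]
    _ = y * d * (x * c) := by group

section finite
variable [Finite L]

theorem card_K (h : PF43Hyp K W₁ W₂) [K.Normal] : Nat.card K = W₁.index :=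
  card_eq_index_of_compl K W₁ h.inf h.sup

theorem coprime₁₂ (h : PF43Hyp K W₁ W₂) [K.Normal] : Nat.Coprime (Nat.card W₁) (Nat.card W₂) := by
  have h1 := h.hall
  rw [← h.card_K] at h1
  exact Nat.Coprime.coprime_dvd_right (Subgroup.card_dvd_of_le h.le) h1

/-- the `W₁`-part of an element of `W` is a power of it -/
theorem exists_pow (h : PF43Hyp K W₁ W₂) [K.Normal] :
    ∃ m : ℕ, ∀ x ∈ W₁, ∀ c ∈ W₂, (x * c) ^ m = x := by
  obtain ⟨m, hm⟩ := exists_pow_mul_eq_left (G := L) (Nat.card W₁) (Nat.card W₂) h.coprime₁₂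
  refine ⟨m, fun x hx c hc => hm x c (h.comm hx hc) ?_ ?_⟩
  · have := pow_card_eq_one' (G := W₁) (x := ⟨x, hx⟩)
    exact congrArg Subtype.val this
  · have := pow_card_eq_one' (G := W₂) (x := ⟨c, hc⟩)
    exact congrArg Subtype.val this

/-- elements of `W` killed by `|W₁|` lie in `W₁` -/
theorem mem_W₁_of_pow (h : PF43Hyp K W₁ W₂) [K.Normal] {w : L} (hw : w ∈ W₁ ⊔ W₂)
    (hpow : w ^ Nat.card W₁ = 1) : w ∈ W₁ := by
  obtain ⟨x, hx, c, hc, rfl⟩ := h.mem_sup.mp hw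
  have hcomm : Commute x c := h.comm hx hc
  rw [hcomm.mul_pow] at hpow
  have hx1 : x ^ Nat.card W₁ = 1 := by
    have := pow_card_eq_one' (G := W₁) (x := ⟨x, hx⟩)
    exact congrArg Subtype.val this
  rw [hx1, one_mul] at hpow
  have hc1 : c ^ Nat.card W₂ = 1 := by
    have := pow_card_eq_one' (G := W₂) (x := ⟨c, hc⟩)
    exact congrArg Subtype.val this
  have hord1 : orderOf c ∣ Nat.card W₁ := orderOf_dvd_of_pow_eq_one hpow
  have hord2 : orderOf c ∣ Nat.card W₂ := orderOf_dvd_of_pow_eq_one hc1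
  have : orderOf c = 1 := Nat.eq_one_of_dvd_coprimes h.coprime₁₂ hord1 hord2
  rw [orderOf_eq_one_iff] at this
  rw [this, mul_one]; exact hx

/-- `W ⊓ K = W₂` -/
theorem mem_W₂_of_mem_K (h : PF43Hyp K W₁ W₂) {w : L} (hw : w ∈ W₁ ⊔ W₂) (hwK : w ∈ K) :
    w ∈ W₂ := by
  obtain ⟨x, hx, c, hc, rfl⟩ := h.mem_sup.mp hw
  have hxK : x ∈ K := by
    have := K.mul_mem hwK (K.inv_mem (h.le hc))
    simpa using this
  have : x ∈ K ⊓ W₁ := Subgroup.mem_inf.mpr ⟨hxK, hx⟩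
  rw [h.inf, Subgroup.mem_bot] at this
  rw [this, one_mul]; exact hc

/-- **Fusion**: an element conjugating some `a ∈ W ∖ W₂` into `W` lies in `W`. -/
theorem mem_of_conj_mem (h : PF43Hyp K W₁ W₂) [hK : K.Normal] {a g : L} (ha : a ∈ W₁ ⊔ W₂)
    (ha₂ : a ∉ W₂) (hg : g * a * g⁻¹ ∈ W₁ ⊔ W₂) : g ∈ W₁ ⊔ W₂ := by
  obtain ⟨m, hm⟩ := h.exists_pow
  obtain ⟨x, hx, c, hc, rfl⟩ := h.mem_sup.mp ha
  have hx1 : x ≠ 1 := by
    rintro rfl
    rw [one_mul] at ha₂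
    exact ha₂ hc
  -- g x g⁻¹ ∈ W₁
  have hgx : g * x * g⁻¹ ∈ W₁ := by
    have e : g * x * g⁻¹ = (g * (x * c) * g⁻¹) ^ m := by
      rw [conj_pow, hm x hx c hc]
    apply h.mem_W₁_of_pow
    · rw [e]; exact (W₁ ⊔ W₂).pow_mem hg m
    · rw [conj_pow]
      have := pow_card_eq_one' (G := W₁) (x := ⟨x, hx⟩)
      have hx' : x ^ Nat.card W₁ = 1 := congrArg Subtype.val this
      rw [hx']; group
  have hgtop : g ∈ K ⊔ W₁ := by rw [h.sup]; trivial
  obtain ⟨k, hk, y, hy, rfl⟩ := Cfsg.Agent.Lib.Helper1.mem_sup_of_normal_left K W₁ g hgtop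
  have hyx : y * x = x * y := by
    have := h.cyc
    have hcomm : IsMulCommutative W₁ := IsCyclic.isMulCommutative
    have := hcomm.is_comm.comm ⟨y, hy⟩ ⟨x, hx⟩
    exact congrArg Subtype.val this
  have hkx : k * x * k⁻¹ ∈ W₁ := by
    have e : k * y * x * (k * y)⁻¹ = k * x * k⁻¹ := by
      calc k * y * x * (k * y)⁻¹ = k * (y * x) * y⁻¹ * k⁻¹ := by group
        _ = k * (x * y) * y⁻¹ * k⁻¹ := by rw [hyx]
        _ = k * x * k⁻¹ := by group
    rw [← e]; exact hgx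
  have hcomm : k * x * k⁻¹ * x⁻¹ = 1 := by
    have h1 : k * x * k⁻¹ * x⁻¹ ∈ W₁ := W₁.mul_mem hkx (W₁.inv_mem hx)
    have h2 : k * x * k⁻¹ * x⁻¹ ∈ K := by
      have : k * x * k⁻¹ * x⁻¹ = k * (x * k⁻¹ * x⁻¹) := by group
      rw [this]
      exact K.mul_mem hk (hK.conj_mem _ (K.inv_mem hk) x)
    have : k * x * k⁻¹ * x⁻¹ ∈ K ⊓ W₁ := Subgroup.mem_inf.mpr ⟨h2, h1⟩
    rwa [h.inf, Subgroup.mem_bot] at this
  have hkW₂ : k ∈ W₂ := by
    rw [← h.cent x hx hx1]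
    refine Subgroup.mem_inf.mpr ⟨hk, ?_⟩
    rw [Subgroup.mem_centralizer_singleton_iff]
    calc k * x = (k * x * k⁻¹ * x⁻¹) * (x * k) := by group
      _ = x * k := by rw [hcomm, one_mul]
  exact h.mem_sup.mpr ⟨y, hy, k, hkW₂, (h.comm hy hkW₂)▸ rfl⟩

/-- the centraliser of an element of `W ∖ W₂` is `W` -/
theorem centralizer_eq (h : PF43Hyp K W₁ W₂) [hK : K.Normal] {a : L} (ha : a ∈ W₁ ⊔ W₂)
    (ha₂ : a ∉ W₂) : Subgroup.centralizer ({a} : Set L) = W₁ ⊔ W₂ := by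
  apply le_antisymm
  · intro g hg
    rw [Subgroup.mem_centralizer_singleton_iff] at hg
    apply h.mem_of_conj_mem ha ha₂
    have : g * a * g⁻¹ = a := by rw [hg]; group
    rw [this]; exact ha
  · intro g hg
    rw [Subgroup.mem_centralizer_singleton_iff]
    exact h.sup_comm' hg ha

/-- elements of `W₁` other than `1` lie outside `W₂` -/
theorem not_mem_W₂ (h : PF43Hyp K W₁ W₂) {x : L} (hx : x ∈ W₁) (hx1 : x ≠ 1) : x ∉ W₂ := by
  intro hx2
  have : x ∈ W₁ ⊓ W₂ := Subgroup.mem_inf.mpr ⟨hx, hx2⟩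
  rw [h.inf₁₂, Subgroup.mem_bot] at this
  exact hx1 this

end finite

section induction
variable [Fintype L]

/-- values of functions induced from `W` on `W ∖ W₂` -/
theorem indFun_apply (h : PF43Hyp K W₁ W₂) [hK : K.Normal] (φ : ↥(W₁ ⊔ W₂) → ℂ)
    (w : ↥(W₁ ⊔ W₂)) (hw : (w : L) ∉ W₂) : indFun (W₁ ⊔ W₂) φ w = φ w := by
  classical
  have hW0 : (Nat.card ↥(W₁ ⊔ W₂) : ℂ) ≠ 0 := Nat.cast_ne_zero.mpr Nat.card_pos.ne'
  have key : ∀ x : L, extendByZero (W₁ ⊔ W₂) φ (x⁻¹ * w * x) = if x ∈ W₁ ⊔ W₂ then φ w else 0 := by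
    intro x
    by_cases hx : x ∈ W₁ ⊔ W₂
    · rw [if_pos hx]
      have h1 := h.sup_comm' hx w.2
      have h2 : x⁻¹ * w * x = w := by rw [mul_assoc, ← h1]; group
      rw [h2, extendByZero_apply_coe]
    · rw [if_neg hx]
      by_cases hc : x⁻¹ * (w : L) * x ∈ W₁ ⊔ W₂
      · exfalso
        apply hx
        have h3 : x⁻¹ ∈ W₁ ⊔ W₂ := by
          apply h.mem_of_conj_mem w.2 hw
          rw [inv_inv]; exact hc
        have := (W₁ ⊔ W₂).inv_mem h3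
        rwa [inv_inv] at this
      · rw [extendByZero_apply_not_mem _ _ hc]
  unfold indFun
  simp_rw [key]
  rw [Finset.sum_ite, Finset.sum_const_zero, add_zero, Finset.sum_const, nsmul_eq_mul]
  have hcard : (Finset.univ.filter (fun x : L => x ∈ W₁ ⊔ W₂)).card = Nat.card ↥(W₁ ⊔ W₂) := by
    rw [Nat.card_eq_fintype_card, Fintype.card_subtype]
  rw [hcard]
  field_simp

/-- every function on the abelian group `W` is a class function -/
theorem isClassFunction_W (h : PF43Hyp K W₁ W₂) (φ : ↥(W₁ ⊔ W₂) → ℂ) :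
    IsClassFunction ↥(W₁ ⊔ W₂) φ := by
  intro g k
  congr 1
  apply Subtype.ext
  have := h.sup_comm' k.2 g.2
  simp only [Subgroup.coe_mul, Subgroup.coe_inv]
  rw [this]; group

/-- induction from `W` is isometric against functions vanishing on `W₂` -/
theorem classInner_indFun (h : PF43Hyp K W₁ W₂) [hK : K.Normal] [Fintype ↥(W₁ ⊔ W₂)]
    (φ ψ : ↥(W₁ ⊔ W₂) → ℂ)
    (hφ : ∀ w : ↥(W₁ ⊔ W₂), (w : L) ∈ W₂ → φ w = 0) :
    classInner (indFun (W₁ ⊔ W₂) φ) (indFun (W₁ ⊔ W₂) ψ) = classInner φ ψ := by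
  have hcl : IsClassFunction L (indFun (W₁ ⊔ W₂) ψ) :=
    isClassFunction_indFun (W₁ ⊔ W₂) ψ
  rw [frobenius_reciprocity (W₁ ⊔ W₂) φ hcl]
  unfold classInner
  congr 1
  apply Finset.sum_congr rfl
  intro w _
  by_cases hw : (w : L) ∈ W₂
  · rw [hφ w hw, zero_mul, zero_mul]
  · show φ w * conj (indFun (W₁ ⊔ W₂) ψ (w : L)) = φ w * conj (ψ w)
    rw [h.indFun_apply ψ w hw]

end induction

end PF43Hyp

end Cfsg.Agent.Lib.Helper10
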