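/-
Peterfalvi (4.3)-(4.5), part b (helper10): the characters μ_ω and signs δ_ω.
-/
import Mathlib
import Cfsg.Agent.Lib.Helper10.PF43a
import Cfsg.Agent.Lib.Helper10.LinChar
import Cfsg.Agent.Lib.Helper10.GenChar
import Cfsg.Agent.Lib.Helper10.CyclicTIGalois2
import Cfsg.Agent.Lib.Helper6.LinChar
import Cfsg.Agent.Lib.Lead.CharMain
import Cfsg.Agent.S0198

set_option autoImplicit false

namespace Cfsg.Agent.Lib.Helper10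

open Cfsg Cfsg.Agent.CharLib
open scoped ComplexConjugate

universe u

/-- the function of a linear character -/
def fnOf {W : Type*} [Group W] (ω : W →* ℂˣ) : W → ℂ := fun w => ((ω w : ℂˣ) : ℂ)

theorem fnOf_apply {W : Type*} [Group W] (ω : W →* ℂˣ) (w : W) : fnOf ω w = ((ω w : ℂˣ) : ℂ) := rfl

theorem fnOf_injective {W : Type*} [Group W] : Function.Injective (fnOf (W := W)) := by
  intro ω ω' h
  ext w
  exact congrFun h w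

theorem isIrr_fnOf {W : Type u} [Group W] (ω : W →* ℂˣ) : IsIrrCharacter W (fnOf ω) :=
  Cfsg.Agent.Lib.Helper6.isIrrCharacter_of_hom ω

section main
variable {L : Type u} [Group L] [Fintype L] {K W₁ W₂ : Subgroup L}

/-- two linear characters of `W` agreeing on `W₂` -/
def AgreeOn (W₁ W₂ : Subgroup L) (ω ω' : ↥(W₁ ⊔ W₂) →* ℂˣ) : Prop :=
  ∀ w : ↥(W₁ ⊔ W₂), (w : L) ∈ W₂ → ω w = ω' w

theorem indFun_zero (H : Subgroup L) : indFun H (0 : H → ℂ) = 0 := by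
  have := indFun_sub H (0 : H → ℂ) 0
  simpa using this

/-- the exceptional characters attached to a class of linear characters agreeing on `W₂` -/
theorem star_class (h : PF43Hyp K W₁ W₂) [hK : K.Normal] (J : Finset (↥(W₁ ⊔ W₂) →* ℂˣ))
    (hJ : ∀ ω ∈ J, ∀ ω' ∈ J, AgreeOn W₁ W₂ ω ω') :
    ∃ ε : ℂ, (ε = 1 ∨ ε = -1) ∧ ∃ μ : (↥(W₁ ⊔ W₂) →* ℂˣ) → (L → ℂ),
      (∀ ω ∈ J, IsIrrCharacter L (μ ω)) ∧ Set.InjOn μ (J : Set (↥(W₁ ⊔ W₂) →* ℂˣ)) ∧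
      ∀ ω ∈ J, ∀ ω' ∈ J, indFun (W₁ ⊔ W₂) (fnOf ω - fnOf ω') = ε • (μ ω - μ ω') := by
  classical
  haveI : Fintype ↥(W₁ ⊔ W₂) := Fintype.ofFinite _
  by_cases hne : J.Nonempty
  swap
  · rw [Finset.not_nonempty_iff_eq_empty] at hne
    subst hne
    exact ⟨1, Or.inl rfl, fun _ => 0, by simp, by simp, by simp⟩
  set n := J.card with hn
  have hnpos : 0 < n := Finset.card_pos.mpr hne
  let e : Fin n ≃ ↥J := J.equivFin.symm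
  let i₀ : Fin n := ⟨0, hnpos⟩
  let ω : Fin n → (↥(W₁ ⊔ W₂) →* ℂˣ) := fun i => (e i : ↥(W₁ ⊔ W₂) →* ℂˣ)
  have hωJ : ∀ i, ω i ∈ J := fun i => (e i).2
  have hωinj : Function.Injective ω := fun i j hij => e.injective (Subtype.ext hij)
  let τ : Fin n → (L → ℂ) := fun i => indFun (W₁ ⊔ W₂) (fnOf (ω i) - fnOf (ω i₀))
  have h0 : τ i₀ = 0 := by
    show indFun (W₁ ⊔ W₂) (fnOf (ω i₀) - fnOf (ω i₀)) = 0
    rw [sub_self, indFun_zero]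
  have hchar : ∀ i, IsCharacter L (indFun (W₁ ⊔ W₂) (fnOf (ω i))) := fun i =>
    IsCharacter.indFun _ (IsIrrCharacter.isCharacter (isIrr_fnOf (ω i)))
  have hgen : ∀ i, IsGeneralizedCharacter L (τ i) := by
    intro i
    refine ⟨_, _, hchar i, hchar i₀, ?_⟩
    show indFun (W₁ ⊔ W₂) (fnOf (ω i) - fnOf (ω i₀)) = _
    rw [indFun_sub]
  have hone : ∀ i, τ i 1 = 0 := by
    intro i
    show indFun (W₁ ⊔ W₂) (fnOf (ω i) - fnOf (ω i₀)) 1 = 0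
    rw [indFun_apply_one]
    have : (fnOf (ω i) - fnOf (ω i₀)) 1 = 0 := by
      simp [fnOf]
    rw [this, mul_zero, mul_zero]
  have hvan : ∀ i, ∀ w : ↥(W₁ ⊔ W₂), (w : L) ∈ W₂ → (fnOf (ω i) - fnOf (ω i₀)) w = 0 := by
    intro i w hw
    have := hJ (ω i) (hωJ i) (ω i₀) (hωJ i₀) w hw
    simp only [Pi.sub_apply, fnOf, this, sub_self]
  have hgram : ∀ i j, i ≠ i₀ → j ≠ i₀ → classInner (τ i) (τ j) = if i = j then 2 else 1 := by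
    intro i j hi hj
    show classInner (indFun (W₁ ⊔ W₂) (fnOf (ω i) - fnOf (ω i₀)))
      (indFun (W₁ ⊔ W₂) (fnOf (ω j) - fnOf (ω i₀))) = _
    rw [h.classInner_indFun _ _ (hvan i)]
    rw [classInner_sub_sub_irr (isIrr_fnOf (ω i)) (isIrr_fnOf (ω i₀)) (isIrr_fnOf (ω j))
      (isIrr_fnOf (ω i₀))]
    have e1 : (fnOf (ω i) = fnOf (ω j)) ↔ i = j :=
      ⟨fun hh => hωinj (fnOf_injective hh), fun hh => by rw [hh]⟩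
    have e2 : ¬ (fnOf (ω i) = fnOf (ω i₀)) := fun hh => hi (hωinj (fnOf_injective hh))
    have e3 : ¬ (fnOf (ω i₀) = fnOf (ω j)) := fun hh => hj (hωinj (fnOf_injective hh)).symm
    rw [if_neg e2, if_neg e3, if_pos rfl]
    by_cases hij : i = j
    · rw [if_pos hij, if_pos (e1.mpr hij)]; norm_num
    · rw [if_neg hij, if_neg (fun hh => hij (e1.mp hh))]; norm_num
  obtain ⟨ε, hε, ν, hνirr, hνinj, hν⟩ := Cfsg.Agent.S0198.result n i₀ τ h0 hgen hone hgram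
  refine ⟨ε, hε, fun χ => if hχ : χ ∈ J then ν (e.symm ⟨χ, hχ⟩) else 0, ?_, ?_, ?_⟩
  · intro χ hχ
    simp only [dif_pos hχ]
    exact hνirr _
  · intro χ hχ χ' hχ' heq
    simp only [dif_pos (Finset.mem_coe.mp hχ), dif_pos (Finset.mem_coe.mp hχ')] at heq
    have := e.symm.injective (hνinj heq)
    exact congrArg Subtype.val this
  · intro χ hχ χ' hχ'
    simp only [dif_pos hχ, dif_pos hχ']
    have h1 := hν (e.symm ⟨χ, hχ⟩)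
    have h2 := hν (e.symm ⟨χ', hχ'⟩)
    have hω1 : ω (e.symm ⟨χ, hχ⟩) = χ := by simp [ω]
    have hω2 : ω (e.symm ⟨χ', hχ'⟩) = χ' := by simp [ω]
    have t1 : τ (e.symm ⟨χ, hχ⟩) = indFun (W₁ ⊔ W₂) (fnOf χ - fnOf (ω i₀)) := by
      show indFun (W₁ ⊔ W₂) (fnOf (ω (e.symm ⟨χ, hχ⟩)) - fnOf (ω i₀)) = _
      rw [hω1]
    have t2 : τ (e.symm ⟨χ', hχ'⟩) = indFun (W₁ ⊔ W₂) (fnOf χ' - fnOf (ω i₀)) := by
      show indFun (W₁ ⊔ W₂) (fnOf (ω (e.symm ⟨χ', hχ'⟩)) - fnOf (ω i₀)) = _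
      rw [hω2]
    rw [t1] at h1
    rw [t2] at h2
    have : fnOf χ - fnOf χ' = (fnOf χ - fnOf (ω i₀)) - (fnOf χ' - fnOf (ω i₀)) := by abel
    rw [this, indFun_sub, h1, h2, ← smul_sub]
    congr 1
    abel

theorem agreeOn_refl (ω : ↥(W₁ ⊔ W₂) →* ℂˣ) : AgreeOn W₁ W₂ ω ω := fun _ _ => rfl

theorem AgreeOn.symm {ω ω' : ↥(W₁ ⊔ W₂) →* ℂˣ} (h : AgreeOn W₁ W₂ ω ω') : AgreeOn W₁ W₂ ω' ω :=
  fun w hw => (h w hw).symm

theorem AgreeOn.trans {ω ω' ω'' : ↥(W₁ ⊔ W₂) →* ℂˣ} (h : AgreeOn W₁ W₂ ω ω')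
    (h' : AgreeOn W₁ W₂ ω' ω'') : AgreeOn W₁ W₂ ω ω'' :=
  fun w hw => (h w hw).trans (h' w hw)

/-- multiplying by a character trivial on `W₂` stays in the class -/
theorem agreeOn_mul (ω φ : ↥(W₁ ⊔ W₂) →* ℂˣ)
    (hφ : ∀ y ∈ W₂.subgroupOf (W₁ ⊔ W₂), φ y = 1) : AgreeOn W₁ W₂ ω (ω * φ) := by
  intro w hw
  rw [MonoidHom.mul_apply, hφ w (by rw [Subgroup.mem_subgroupOf]; exact hw), mul_one]

open Classical in
/-- the class of `ω` -/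
noncomputable def cls (W₁ W₂ : Subgroup L) (ω : ↥(W₁ ⊔ W₂) →* ℂˣ) :
    Finset (↥(W₁ ⊔ W₂) →* ℂˣ) :=
  haveI : Fintype (↥(W₁ ⊔ W₂) →* ℂˣ) := Fintype.ofFinite _
  Finset.univ.filter (fun ω' => AgreeOn W₁ W₂ ω ω')

theorem mem_cls {ω ω' : ↥(W₁ ⊔ W₂) →* ℂˣ} : ω' ∈ cls W₁ W₂ ω ↔ AgreeOn W₁ W₂ ω ω' := by
  unfold cls
  simp

theorem cls_eq {ω ω' : ↥(W₁ ⊔ W₂) →* ℂˣ} (h : AgreeOn W₁ W₂ ω ω') : cls W₁ W₂ ω = cls W₁ W₂ ω' := by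
  ext χ
  rw [mem_cls, mem_cls]
  exact ⟨fun h1 => h.symm.trans h1, fun h1 => h.trans h1⟩

/-- existence of `μ` and `δ` with the induction identity and injectivity inside classes -/
theorem exists_mu_delta (h : PF43Hyp K W₁ W₂) [hK : K.Normal] :
    ∃ (μ : (↥(W₁ ⊔ W₂) →* ℂˣ) → (L → ℂ)) (δ : (↥(W₁ ⊔ W₂) →* ℂˣ) → ℂ),
      (∀ ω, IsIrrCharacter L (μ ω)) ∧ (∀ ω, δ ω = 1 ∨ δ ω = -1) ∧
      (∀ ω ω', AgreeOn W₁ W₂ ω ω' → δ ω = δ ω' ∧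
        indFun (W₁ ⊔ W₂) (fnOf ω - fnOf ω') = δ ω • (μ ω - μ ω')) ∧
      (∀ ω ω', AgreeOn W₁ W₂ ω ω' → μ ω = μ ω' → ω = ω') := by
  classical
  have hstar : ∀ J : Finset (↥(W₁ ⊔ W₂) →* ℂˣ), ∃ ε : ℂ, (ε = 1 ∨ ε = -1) ∧
      ∃ μ : (↥(W₁ ⊔ W₂) →* ℂˣ) → (L → ℂ), (∀ ω ∈ J, ∀ ω' ∈ J, AgreeOn W₁ W₂ ω ω') →
      ((∀ ω ∈ J, IsIrrCharacter L (μ ω)) ∧ Set.InjOn μ (J : Set (↥(W₁ ⊔ W₂) →* ℂˣ)) ∧
      ∀ ω ∈ J, ∀ ω' ∈ J, indFun (W₁ ⊔ W₂) (fnOf ω - fnOf ω') = ε • (μ ω - μ ω')) := by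
    intro J
    by_cases hJ : ∀ ω ∈ J, ∀ ω' ∈ J, AgreeOn W₁ W₂ ω ω'
    · obtain ⟨ε, hε, μ, h1, h2, h3⟩ := star_class h J hJ
      exact ⟨ε, hε, μ, fun _ => ⟨h1, h2, h3⟩⟩
    · exact ⟨1, Or.inl rfl, fun _ => 0, fun hJ' => absurd hJ' hJ⟩
  choose ε hε ν hν using hstar
  have hclsJ : ∀ ω, ∀ χ ∈ cls W₁ W₂ ω, ∀ χ' ∈ cls W₁ W₂ ω, AgreeOn W₁ W₂ χ χ' := by
    intro ω χ hχ χ' hχ'
    exact (mem_cls.mp hχ).symm.trans (mem_cls.mp hχ')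
  have hself : ∀ ω, ω ∈ cls W₁ W₂ ω := fun ω => mem_cls.mpr (agreeOn_refl ω)
  refine ⟨fun ω => ν (cls W₁ W₂ ω) ω, fun ω => ε (cls W₁ W₂ ω), ?_, ?_, ?_, ?_⟩
  · intro ω
    exact (hν _ (hclsJ ω)).1 ω (hself ω)
  · intro ω
    exact hε _
  · intro ω ω' hag
    have hc := cls_eq hag
    refine ⟨by simp only [hc], ?_⟩
    have := (hν _ (hclsJ ω)).2.2 ω (hself ω) ω' (mem_cls.mpr hag)
    rw [this]
    simp only [hc]
  · intro ω ω' hag hμ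
    have hc := cls_eq hag
    simp only [hc] at hμ
    exact (hν _ (hclsJ ω')).2.1 (Finset.mem_coe.mpr (mem_cls.mpr hag.symm))
      (Finset.mem_coe.mpr (hself ω')) hμ

/-- a nontrivial character trivial on `W₂` -/
theorem exists_trivOn_ne_one (h : PF43Hyp K W₁ W₂) (hW₁ : W₁ ≠ ⊥) :
    ∃ φ₀ : ↥(W₁ ⊔ W₂) →* ℂˣ, (∀ y ∈ W₂.subgroupOf (W₁ ⊔ W₂), φ₀ y = 1) ∧ φ₀ ≠ 1 := by
  obtain ⟨x, hx1⟩ := (Subgroup.ne_bot_iff_exists_ne_one.mp hW₁)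
  have hx1' : (x : L) ≠ 1 := fun hh => hx1 (Subtype.ext hh)
  have hxW : (x : L) ∈ W₁ ⊔ W₂ := (le_sup_left : W₁ ≤ W₁ ⊔ W₂) x.2
  have hcomm : ∀ a b : ↥(W₁ ⊔ W₂), a * b = b * a := fun a b =>
    Subtype.ext (h.sup_comm' a.2 b.2)
  obtain ⟨φ₀, h1, h2⟩ := exists_linChar_trivOn hcomm (W₂.subgroupOf (W₁ ⊔ W₂)) ⟨(x : L), hxW⟩
    (by rw [Subgroup.mem_subgroupOf]; exact h.not_mem_W₂ x.2 hx1')
  refine ⟨φ₀, h1, ?_⟩
  intro hh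
  apply h2
  rw [hh]; rfl

/-- global injectivity of `μ` -/
theorem mu_injective (h : PF43Hyp K W₁ W₂) [hK : K.Normal] (hW₁ : W₁ ≠ ⊥)
    (μ : (↥(W₁ ⊔ W₂) →* ℂˣ) → (L → ℂ)) (δ : (↥(W₁ ⊔ W₂) →* ℂˣ) → ℂ)
    (hirr : ∀ ω, IsIrrCharacter L (μ ω)) (hδ : ∀ ω, δ ω = 1 ∨ δ ω = -1)
    (hind : ∀ ω ω', AgreeOn W₁ W₂ ω ω' → δ ω = δ ω' ∧
        indFun (W₁ ⊔ W₂) (fnOf ω - fnOf ω') = δ ω • (μ ω - μ ω'))
    (hinj : ∀ ω ω', AgreeOn W₁ W₂ ω ω' → μ ω = μ ω' → ω = ω') : Function.Injective μ := by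
  classical
  haveI : Fintype ↥(W₁ ⊔ W₂) := Fintype.ofFinite _
  intro ω ω' hμ
  by_cases hag : AgreeOn W₁ W₂ ω ω'
  · exact hinj ω ω' hag hμ
  exfalso
  obtain ⟨φ₀, hφ₀, hφ₀1⟩ := exists_trivOn_ne_one h hW₁
  set ω₂ := ω * φ₀ with hω₂
  set ω₂' := ω' * φ₀ with hω₂'
  have hag2 : AgreeOn W₁ W₂ ω ω₂ := agreeOn_mul ω φ₀ hφ₀
  have hag2' : AgreeOn W₁ W₂ ω' ω₂' := agreeOn_mul ω' φ₀ hφ₀
  have hne2 : ω ≠ ω₂ := by
    intro hh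
    apply hφ₀1
    have : ω * 1 = ω * φ₀ := (mul_one ω).trans hh
    exact (mul_left_cancel this).symm
  have hne2' : ω' ≠ ω₂' := by
    intro hh
    apply hφ₀1
    have : ω' * 1 = ω' * φ₀ := (mul_one ω').trans hh
    exact (mul_left_cancel this).symm
  -- the four characters are distinct across the classes
  have d1 : ω ≠ ω' := fun hh => hag (hh ▸ agreeOn_refl ω)
  have d2 : ω ≠ ω₂' := fun hh => hag ((hh ▸ hag2'.symm : AgreeOn W₁ W₂ ω ω'))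
  have d3 : ω₂ ≠ ω' := fun hh => hag (hh ▸ hag2)
  have d4 : ω₂ ≠ ω₂' := fun hh => hag (hag2.trans (hh ▸ hag2'.symm))
  -- inner product on the W side
  have hvan : ∀ w : ↥(W₁ ⊔ W₂), (w : L) ∈ W₂ → (fnOf ω - fnOf ω₂) w = 0 := by
    intro w hw
    have := hag2 w hw
    simp only [Pi.sub_apply, fnOf, this, sub_self]
  have hW : classInner (indFun (W₁ ⊔ W₂) (fnOf ω - fnOf ω₂)) (indFun (W₁ ⊔ W₂) (fnOf ω' - fnOf ω₂'))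
      = 0 := by
    rw [h.classInner_indFun _ _ hvan,
      classInner_sub_sub_irr (isIrr_fnOf ω) (isIrr_fnOf ω₂) (isIrr_fnOf ω') (isIrr_fnOf ω₂')]
    rw [if_neg (fun hh => d1 (fnOf_injective hh)), if_neg (fun hh => d2 (fnOf_injective hh)),
      if_neg (fun hh => d3 (fnOf_injective hh)), if_neg (fun hh => d4 (fnOf_injective hh))]
    norm_num
  rw [(hind ω ω₂ hag2).2, (hind ω' ω₂' hag2').2, Cfsg.Agent.Lib.Helper10.classInner_smul_left,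
    Cfsg.Agent.Lib.Helper10.classInner_smul_right,
    classInner_sub_sub_irr (hirr ω) (hirr ω₂) (hirr ω') (hirr ω₂')] at hW
  have n1 : ¬ (μ ω = μ ω₂') := by
    rw [hμ]
    exact fun hh => hne2' (hinj ω' ω₂' hag2' hh)
  have n2 : ¬ (μ ω₂ = μ ω') := by
    rw [← hμ]
    exact fun hh => hne2 (hinj ω ω₂ hag2 hh.symm)
  rw [if_pos hμ, if_neg n1, if_neg n2] at hW
  have hδ0 : δ ω ≠ 0 := by rcases hδ ω with hh | hh <;> rw [hh] <;> norm_num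
  have hδ0' : conj (δ ω') ≠ 0 := by
    rcases hδ ω' with hh | hh <;> rw [hh] <;> simp
  have hne : (1 : ℂ) - 0 - (0 - if μ ω₂ = μ ω₂' then (1 : ℂ) else 0) ≠ 0 := by
    split_ifs <;> norm_num
  exact hne ((mul_eq_zero.mp ((mul_eq_zero.mp hW).resolve_left hδ0)).resolve_left hδ0')

end main

end Cfsg.Agent.Lib.Helper10
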