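/-
Peterfalvi (4.3)-(4.5), part c (helper10): values of μ_ω on W ∖ W₂ via column orthogonality.
-/
import Mathlib
import Cfsg.Agent.Lib.Helper10.PF43b
import Cfsg.Agent.Lib.Helper10.CyclicTIFew
import Cfsg.Agent.Lib.Helper6.CharExtra
import Cfsg.Agent.Lib.Lead.CharBurnside

set_option autoImplicit false

namespace Cfsg.Agent.Lib.Helper10

open Cfsg Cfsg.Agent.CharLib
open scoped ComplexConjugate

universe u

section main
variable {L : Type u} [Group L] [Fintype L] {K W₁ W₂ : Subgroup L}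

theorem fnOf_mul_conj {W : Type*} [Group W] [Finite W] (ω : W →* ℂˣ) (w : W) :
    fnOf ω w * conj (fnOf ω w) = 1 := by
  unfold fnOf
  rw [linChar_conj, ← Units.val_mul, ← map_mul, mul_inv_cancel, map_one, Units.val_one]

/-- the number of linear characters of `W` -/
theorem card_linChar_W (h : PF43Hyp K W₁ W₂) :
    Nat.card (↥(W₁ ⊔ W₂) →* ℂˣ) = Nat.card ↥(W₁ ⊔ W₂) := by
  have hcomm : ∀ a b : ↥(W₁ ⊔ W₂), a * b = b * a := fun a b =>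
    Subtype.ext (h.sup_comm' a.2 b.2)
  have h1 := card_linChar_trivOn hcomm (⊥ : Subgroup ↥(W₁ ⊔ W₂))
  rw [Subgroup.index_bot] at h1
  rw [← h1]
  apply Nat.card_congr
  refine (Equiv.subtypeUnivEquiv ?_).symm
  intro φ y hy
  rw [Subgroup.mem_bot] at hy
  rw [hy, map_one]

/-- values on `W ∖ W₂` -/
theorem mu_values (h : PF43Hyp K W₁ W₂) [hK : K.Normal]
    (μ : (↥(W₁ ⊔ W₂) →* ℂˣ) → (L → ℂ)) (δ : (↥(W₁ ⊔ W₂) →* ℂˣ) → ℂ)
    (hirr : ∀ ω, IsIrrCharacter L (μ ω)) (hδ : ∀ ω, δ ω = 1 ∨ δ ω = -1)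
    (hind : ∀ ω ω', AgreeOn W₁ W₂ ω ω' → δ ω = δ ω' ∧
        indFun (W₁ ⊔ W₂) (fnOf ω - fnOf ω') = δ ω • (μ ω - μ ω'))
    (hμinj : Function.Injective μ) (w : ↥(W₁ ⊔ W₂)) (hw : (w : L) ∉ W₂) :
    (∀ ω, μ ω w = δ ω * fnOf ω w) ∧
      (∀ θ : L → ℂ, IsIrrCharacter L θ → (∀ ω, θ ≠ μ ω) → θ w = 0) := by
  classical
  haveI : Fintype (↥(W₁ ⊔ W₂) →* ℂˣ) := Fintype.ofFinite _
  letI := fintypeIrr L
  have hcomm : ∀ a b : ↥(W₁ ⊔ W₂), a * b = b * a := fun a b =>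
    Subtype.ext (h.sup_comm' a.2 b.2)
  have hδsq : ∀ ω, δ ω * δ ω = 1 := by
    intro ω; rcases hδ ω with hh | hh <;> rw [hh] <;> norm_num
  have hδconj : ∀ ω, conj (δ ω) = δ ω := by
    intro ω; rcases hδ ω with hh | hh <;> rw [hh] <;> simp
  set c : (↥(W₁ ⊔ W₂) →* ℂˣ) → ℂ := fun ω => μ ω w - δ ω * fnOf ω w with hc
  -- c is constant on classes
  have hc_const : ∀ ω ω', AgreeOn W₁ W₂ ω ω' → c ω = c ω' := by
    intro ω ω' hag
    obtain ⟨hδeq, hid⟩ := hind ω ω' hag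
    have h1 := congrFun hid (w : L)
    rw [h.indFun_apply _ w hw] at h1
    simp only [Pi.sub_apply, Pi.smul_apply, smul_eq_mul] at h1
    have h2 : δ ω * (fnOf ω w - fnOf ω' w) = μ ω w - μ ω' w := by
      rw [h1, ← mul_assoc, hδsq, one_mul]
    simp only [hc]
    rw [← hδeq]
    linear_combination (-1 : ℂ) * h2
  -- a character detecting w
  obtain ⟨φ₀, hφ₀, hφ₀w⟩ := exists_linChar_trivOn hcomm (W₂.subgroupOf (W₁ ⊔ W₂)) w
    (by rw [Subgroup.mem_subgroupOf]; exact hw)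
  have hφ₀w' : fnOf φ₀ w ≠ 1 := by
    intro hh
    apply hφ₀w
    exact Units.ext hh
  -- the cross term vanishes
  set T : ℂ := ∑ ω : ↥(W₁ ⊔ W₂) →* ℂˣ, conj (c ω) * (δ ω * fnOf ω w) with hT
  have hT0 : T = 0 := by
    have h1 : T = fnOf φ₀ w * T := by
      rw [hT, Finset.mul_sum]
      apply Fintype.sum_equiv (Equiv.mulRight φ₀⁻¹)
      intro ω
      rw [Equiv.coe_mulRight]
      have hag : AgreeOn W₁ W₂ (ω * φ₀⁻¹) ω := by
        have := agreeOn_mul (ω * φ₀⁻¹) φ₀ hφ₀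
        have e : ω * φ₀⁻¹ * φ₀ = ω := inv_mul_cancel_right ω φ₀
        rwa [e] at this
      rw [hc_const _ _ hag, (hind _ _ hag).1]
      have : fnOf ω w = fnOf (ω * φ₀⁻¹) w * fnOf φ₀ w := by
        have e : ω * φ₀⁻¹ * φ₀ = ω := inv_mul_cancel_right ω φ₀
        unfold fnOf
        rw [← Units.val_mul, ← MonoidHom.mul_apply, e]
      rw [this]
      ring
    have h2 : (fnOf φ₀ w - 1) * T = 0 := by rw [sub_mul, one_mul, ← h1, sub_self]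
    exact (mul_eq_zero.mp h2).resolve_left (sub_ne_zero.mpr hφ₀w')
  -- the norm identity
  have hnorm : ∑ ω : ↥(W₁ ⊔ W₂) →* ℂˣ, μ ω w * conj (μ ω w) =
      (Fintype.card (↥(W₁ ⊔ W₂) →* ℂˣ) : ℂ) + ∑ ω : ↥(W₁ ⊔ W₂) →* ℂˣ, c ω * conj (c ω) := by
    have h1 : ∀ ω : ↥(W₁ ⊔ W₂) →* ℂˣ, μ ω w * conj (μ ω w) =
        1 + c ω * conj (c ω) + (conj (c ω) * (δ ω * fnOf ω w) + conj (conj (c ω) * (δ ω * fnOf ω w))) := by
      intro ω
      have hμ : μ ω w = δ ω * fnOf ω w + c ω := by simp only [hc]; ring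
      have hz : (δ ω * fnOf ω w) * conj (δ ω * fnOf ω w) = 1 := by
        rw [map_mul, hδconj, mul_mul_mul_comm, hδsq, fnOf_mul_conj, mul_one]
      rw [hμ, map_add, map_mul (starRingEnd ℂ) (conj (c ω)), Complex.conj_conj]
      linear_combination hz
    rw [Finset.sum_congr rfl (fun ω _ => h1 ω), Finset.sum_add_distrib, Finset.sum_add_distrib,
      Finset.sum_add_distrib, ← map_sum, ← hT, hT0, map_zero, add_zero, add_zero]
    simp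
  -- column orthogonality
  have hcol : ∑ χ : IrrCharacter L, (χ : L → ℂ) w * conj ((χ : L → ℂ) w) =
      (Nat.card ↥(W₁ ⊔ W₂) : ℂ) := by
    rw [sum_irr_mul_conj (w : L) (w : L), h.centralizer_eq w.2 hw]
    have : classIndicator (w : L) (w : L) = 1 := by
      unfold classIndicator
      rw [if_pos (IsConj.refl _)]
    rw [this, one_mul]
  -- pass to real numbers
  have hcardX : (Fintype.card (↥(W₁ ⊔ W₂) →* ℂˣ) : ℝ) = (Nat.card ↥(W₁ ⊔ W₂) : ℝ) := by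
    rw [← Nat.card_eq_fintype_card, card_linChar_W h]
  have hA : ∑ ω : ↥(W₁ ⊔ W₂) →* ℂˣ, Complex.normSq (μ ω w) =
      (Fintype.card (↥(W₁ ⊔ W₂) →* ℂˣ) : ℝ) + ∑ ω : ↥(W₁ ⊔ W₂) →* ℂˣ, Complex.normSq (c ω) := by
    have := hnorm
    simp only [Complex.mul_conj] at this
    exact_mod_cast this
  have hB : ∑ χ : IrrCharacter L, Complex.normSq ((χ : L → ℂ) w) = (Nat.card ↥(W₁ ⊔ W₂) : ℝ) := by
    have := hcol
    simp only [Complex.mul_conj] at this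
    exact_mod_cast this
  -- the image of μ
  let g : (↥(W₁ ⊔ W₂) →* ℂˣ) → IrrCharacter L := fun ω => ⟨μ ω, hirr ω⟩
  have hg : Function.Injective g := fun ω ω' hh => hμinj (congrArg Subtype.val hh)
  have hAimg : ∑ ω : ↥(W₁ ⊔ W₂) →* ℂˣ, Complex.normSq (μ ω w) =
      ∑ χ ∈ Finset.univ.image g, Complex.normSq ((χ : L → ℂ) w) := by
    rw [Finset.sum_image (fun a _ b _ hab => hg hab)]
  have hsplit : ∑ χ ∈ Finset.univ.image g, Complex.normSq ((χ : L → ℂ) w) +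
      ∑ χ ∈ (Finset.univ.image g)ᶜ, Complex.normSq ((χ : L → ℂ) w) =
      ∑ χ : IrrCharacter L, Complex.normSq ((χ : L → ℂ) w) := Finset.sum_add_sum_compl _ _
  have hcnonneg : 0 ≤ ∑ ω : ↥(W₁ ⊔ W₂) →* ℂˣ, Complex.normSq (c ω) :=
    Finset.sum_nonneg (fun ω _ => Complex.normSq_nonneg _)
  have hrestnonneg : 0 ≤ ∑ χ ∈ (Finset.univ.image g)ᶜ, Complex.normSq ((χ : L → ℂ) w) :=
    Finset.sum_nonneg (fun χ _ => Complex.normSq_nonneg _)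
  have hc0 : ∑ ω : ↥(W₁ ⊔ W₂) →* ℂˣ, Complex.normSq (c ω) = 0 := by linarith
  have hrest0 : ∑ χ ∈ (Finset.univ.image g)ᶜ, Complex.normSq ((χ : L → ℂ) w) = 0 := by linarith
  constructor
  · intro ω
    have := (Finset.sum_eq_zero_iff_of_nonneg (fun ω _ => Complex.normSq_nonneg _)).mp hc0 ω
      (Finset.mem_univ _)
    have hcω : c ω = 0 := Complex.normSq_eq_zero.mp this
    simp only [hc] at hcω
    exact sub_eq_zero.mp hcω
  · intro θ hθ hne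
    have hmem : (⟨θ, hθ⟩ : IrrCharacter L) ∈ (Finset.univ.image g)ᶜ := by
      rw [Finset.mem_compl, Finset.mem_image]
      rintro ⟨ω, -, hω⟩
      exact hne ω (congrArg Subtype.val hω).symm
    have := (Finset.sum_eq_zero_iff_of_nonneg (fun χ _ => Complex.normSq_nonneg _)).mp hrest0 _ hmem
    exact Complex.normSq_eq_zero.mp this

/-- the sum of a character over a subgroup is a multiple of the order of the subgroup -/
theorem sum_subgroup_eq_card_mul {χ : L → ℂ} (hχ : IsCharacter L χ) (H : Subgroup L) [Fintype H] :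
    ∃ m : ℕ, ∑ x : H, χ x = (Nat.card H : ℂ) * m := by
  classical
  letI := fintypeIrr H
  have hres : IsCharacter H (fun x : H => χ x) := IsCharacter.restrict hχ H
  obtain ⟨m, -, hm⟩ := Cfsg.Agent.Lib.Helper6.IsCharacter.exists_decomp_sum hres
  have h1 := hm ⟨(1 : H → ℂ), Cfsg.Agent.CharLib.isIrrCharacter_one⟩
  refine ⟨m ⟨(1 : H → ℂ), Cfsg.Agent.CharLib.isIrrCharacter_one⟩, ?_⟩
  rw [← h1]
  unfold classInner
  have hH0 : (Nat.card H : ℂ) ≠ 0 := Nat.cast_ne_zero.mpr Nat.card_pos.ne'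
  rw [← mul_assoc, mul_inv_cancel₀ hH0, one_mul]
  apply Finset.sum_congr rfl
  intro x _
  simp

/-- `μ ω 1 ≡ δ ω` modulo `|W₁|` -/
theorem mu_one_cong (h : PF43Hyp K W₁ W₂)
    (μ : (↥(W₁ ⊔ W₂) →* ℂˣ) → (L → ℂ)) (δ : (↥(W₁ ⊔ W₂) →* ℂˣ) → ℂ)
    (hirr : ∀ ω, IsIrrCharacter L (μ ω)) (hδ : ∀ ω, δ ω = 1 ∨ δ ω = -1)
    (hval : ∀ ω, ∀ w : ↥(W₁ ⊔ W₂), (w : L) ∉ W₂ → μ ω w = δ ω * fnOf ω w)
    (ω : ↥(W₁ ⊔ W₂) →* ℂˣ) : ∃ n : ℤ, μ ω 1 - δ ω = n * (Nat.card W₁ : ℂ) := by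
  classical
  haveI : Fintype W₁ := Fintype.ofFinite _
  obtain ⟨m, hm⟩ := sum_subgroup_eq_card_mul (IsIrrCharacter.isCharacter (hirr ω)) W₁
  set ω₁ : W₁ →* ℂˣ := ω.comp (Subgroup.inclusion (le_sup_left : W₁ ≤ W₁ ⊔ W₂)) with hω₁
  have hx : ∀ x : W₁, μ ω x = if x = 1 then μ ω 1 else δ ω * fnOf ω₁ x := by
    intro x
    by_cases hx1 : x = 1
    · rw [if_pos hx1, hx1]; rfl
    · rw [if_neg hx1]
      have hx1' : (x : L) ≠ 1 := fun hh => hx1 (Subtype.ext hh)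
      have := hval ω ⟨(x : L), (le_sup_left : W₁ ≤ W₁ ⊔ W₂) x.2⟩ (h.not_mem_W₂ x.2 hx1')
      exact this
  have hsum : ∑ x : W₁, μ ω x = μ ω 1 - δ ω + δ ω * ∑ x : W₁, fnOf ω₁ x := by
    rw [Finset.sum_congr rfl (fun x _ => hx x), Finset.mul_sum]
    rw [← Finset.add_sum_erase _ _ (Finset.mem_univ (1 : W₁)),
      ← Finset.add_sum_erase (f := fun x : W₁ => δ ω * fnOf ω₁ x) _ (Finset.mem_univ (1 : W₁))]
    rw [if_pos rfl]
    have h1 : ∑ x ∈ Finset.univ.erase (1 : W₁), (if x = 1 then μ ω 1 else δ ω * fnOf ω₁ x) =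
        ∑ x ∈ Finset.univ.erase (1 : W₁), δ ω * fnOf ω₁ x := by
      apply Finset.sum_congr rfl
      intro x hx'
      rw [if_neg (Finset.ne_of_mem_erase hx')]
    rw [h1]
    have h2 : fnOf ω₁ 1 = 1 := by unfold fnOf; rw [map_one, Units.val_one]
    rw [h2]
    ring
  have hS : (∑ x : W₁, fnOf ω₁ x = (Nat.card W₁ : ℂ)) ∨ (∑ x : W₁, fnOf ω₁ x = 0) := by
    by_cases h1 : ω₁ = 1
    · left
      rw [h1]
      simp [fnOf, Nat.card_eq_fintype_card]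
    · right
      exact sum_linChar_of_ne_one ω₁ h1
  rw [hm] at hsum
  rcases hδ ω with hd | hd <;> rcases hS with hs | hs
  · refine ⟨(m : ℤ) - 1, ?_⟩
    rw [hs, hd] at hsum
    rw [hd]
    push_cast
    linear_combination (-1 : ℂ) * hsum
  · refine ⟨(m : ℤ), ?_⟩
    rw [hs, hd] at hsum
    rw [hd]
    push_cast
    linear_combination (-1 : ℂ) * hsum
  · refine ⟨(m : ℤ) + 1, ?_⟩
    rw [hs, hd] at hsum
    rw [hd]
    push_cast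
    linear_combination (-1 : ℂ) * hsum
  · refine ⟨(m : ℤ), ?_⟩
    rw [hs, hd] at hsum
    rw [hd]
    push_cast
    linear_combination (-1 : ℂ) * hsum

/-- **Peterfalvi (4.3)-(4.5)** (= S1511). -/
theorem pf43 (K W₁ W₂ : Subgroup L) [hK : K.Normal] (hKW₁ : K ⊓ W₁ = ⊥) (hKW₁' : K ⊔ W₁ = ⊤)
    (hW₁ : W₁ ≠ ⊥) (hW₁c : IsCyclic W₁) (hHall : Nat.Coprime (Nat.card W₁) W₁.index)
    (hW₂c : IsCyclic W₂) (hW₂K : W₂ ≤ K)
    (hC : ∀ x ∈ W₁, x ≠ 1 → K ⊓ Subgroup.centralizer ({x} : Set L) = W₂) :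
    ∃ (μ : (↥(W₁ ⊔ W₂) →* ℂˣ) → (L → ℂ)) (δ : (↥(W₁ ⊔ W₂) →* ℂˣ) → ℂ), Function.Injective μ ∧
      (∀ ω, IsIrrCharacter L (μ ω)) ∧ (∀ ω, δ ω = 1 ∨ δ ω = -1) ∧
      (∀ ω ω' : ↥(W₁ ⊔ W₂) →* ℂˣ, (∀ w : ↥(W₁ ⊔ W₂), (w : L) ∈ W₂ → ω w = ω' w) →
        δ ω = δ ω' ∧ indFun (W₁ ⊔ W₂) (fun w => (ω w : ℂ) - (ω' w : ℂ)) = δ ω • (μ ω - μ ω')) ∧
      (∀ ω, ∀ w : ↥(W₁ ⊔ W₂), (w : L) ∉ W₂ → μ ω w = δ ω * (ω w : ℂ)) ∧
      (∀ θ : L → ℂ, IsIrrCharacter L θ → (∀ ω, θ ≠ μ ω) →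
        ∀ w : ↥(W₁ ⊔ W₂), (w : L) ∉ W₂ → θ w = 0) ∧
      (∀ ω, ∃ n : ℤ, μ ω 1 - δ ω = n * (Nat.card W₁ : ℂ)) := by
  have h : PF43Hyp K W₁ W₂ := ⟨hKW₁, hKW₁', hW₁c, hW₂c, hHall, hW₂K, hC⟩
  obtain ⟨μ, δ, hirr, hδ, hind, hinj⟩ := exists_mu_delta h
  have hμinj := mu_injective h hW₁ μ δ hirr hδ hind hinj
  have hval : ∀ ω, ∀ w : ↥(W₁ ⊔ W₂), (w : L) ∉ W₂ → μ ω w = δ ω * fnOf ω w :=
    fun ω w hw => (mu_values h μ δ hirr hδ hind hμinj w hw).1 ω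
  refine ⟨μ, δ, hμinj, hirr, hδ, ?_, ?_, ?_, ?_⟩
  · intro ω ω' hag
    exact hind ω ω' hag
  · intro ω w hw
    exact hval ω w hw
  · intro θ hθ hne w hw
    exact (mu_values h μ δ hirr hδ hind hμinj w hw).2 θ hθ hne
  · intro ω
    exact mu_one_cong h μ δ hirr hδ hval ω

end main

end Cfsg.Agent.Lib.Helper10
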