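/-
Peterfalvi (6.2): coherence of `S(B)` from coherence of `S(A)` and a numerical condition (helper10).
-/
import Mathlib
import Cfsg.Agent.Lib.Helper10.SeqInd
import Cfsg.Agent.S1516

set_option autoImplicit false

namespace Cfsg.Agent.Lib.Helper10

open Cfsg Cfsg.Agent.CharLib
open scoped ComplexConjugate

universe u v

attribute [local instance] fintypeIrr

/-- arithmetic core of (6.2) -/
theorem pf62_arith {e t k c dd j r cidx : ℕ} (hdd : 0 < dd) (hj : 0 < j) (hcidx : k * e = cidx)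
    (h1 : t ^ 2 * c * dd ≤ (c * k) ^ 2) (hc : dd * j = c)
    (hlt : 4 * cidx ^ 2 * j < (r - 1) ^ 2) : 2 * e * t < r - 1 := by
  have h2 : t ^ 2 ≤ k ^ 2 * j := by
    subst hc
    have h3 : t ^ 2 * (dd * j * dd) ≤ k ^ 2 * j * (dd * j * dd) := by
      calc t ^ 2 * (dd * j * dd) = t ^ 2 * (dd * j) * dd := by ring
        _ ≤ (dd * j * k) ^ 2 := h1
        _ = k ^ 2 * j * (dd * j * dd) := by ring
    have hpos : 0 < dd * j * dd := by positivity
    exact Nat.le_of_mul_le_mul_right h3 hpos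
  have h4 : (2 * e * t) ^ 2 ≤ 4 * cidx ^ 2 * j := by
    subst hcidx
    calc (2 * e * t) ^ 2 = 4 * e ^ 2 * t ^ 2 := by ring
      _ ≤ 4 * e ^ 2 * (k ^ 2 * j) := Nat.mul_le_mul_left _ h2
      _ = 4 * (k * e) ^ 2 * j := by ring
  exact lt_of_pow_lt_pow_left₀ 2 (Nat.zero_le _) (lt_of_le_of_lt h4 hlt)


section main

variable {L : Type u} [Group L] [Fintype L] {G : Type v} [Group G] [Fintype G]

open Classical in
/-- degree and norm functions on a coherence system of characters -/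
theorem exists_deg_norm {S : Set (L → ℂ)} (hchar : ∀ φ ∈ S, IsCharacter L φ) :
    ∃ d n : (L → ℂ) → ℕ, (∀ φ ∈ S, φ 1 = (d φ : ℂ)) ∧ (∀ φ ∈ S, classInner φ φ = (n φ : ℂ)) := by
  have hdex : ∀ φ ∈ S, ∃ k : ℕ, φ 1 = k := fun φ hφ => IsCharacter.apply_one (hchar φ hφ)
  have hnex : ∀ φ ∈ S, ∃ k : ℕ, classInner φ φ = k := fun φ hφ =>
    IsCharacter.classInner_nat (hchar φ hφ) (hchar φ hφ)
  refine ⟨fun φ => if h : φ ∈ S then Classical.choose (hdex φ h) else 0,
    fun φ => if h : φ ∈ S then Classical.choose (hnex φ h) else 0, ?_, ?_⟩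
  · intro φ hφ
    simp only [dif_pos hφ]
    exact Classical.choose_spec (hdex φ hφ)
  · intro φ hφ
    simp only [dif_pos hφ]
    exact Classical.choose_spec (hnex φ hφ)

theorem seqT_nonempty (K B : Subgroup L) [(B.subgroupOf K).Normal] (hBK : B < K) :
    (seqT K B).Nonempty := by
  by_contra h
  rw [Finset.not_nonempty_iff_eq_empty] at h
  have h1 := sum_seqT_sq K B
  rw [h, Finset.sum_empty] at h1
  have h2 : (B.relIndex K : ℂ) = 1 := by linear_combination -h1
  have h3 : B.relIndex K = 1 := by exact_mod_cast h2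
  rw [Subgroup.relIndex_eq_one] at h3
  exact (not_le_of_gt hBK) h3

open Cfsg.Agent.Lib.Helper24 in
set_option maxHeartbeats 800000 in
open Classical in
/-- Core of Peterfalvi (6.2): `S(A)` coherent and a degree bound for the members of `S(B)` outside
`S(A)` give the coherence of `S(B)`. -/
theorem pf62_core (K : Subgroup L) (hsolv : Group.IsSolvable K) (τ : (L → ℂ) → (G → ℂ))
    (R : (L → ℂ) → Finset (G → ℂ)) (hS : IsCoherenceSystem (inducedIrrAbove K ⊥) τ R)
    (A B : Subgroup L) [(A.subgroupOf K).Normal] [(B.subgroupOf K).Normal]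
    (hAK : A < K) (hBK : B < K)
    (hdeg : ∀ ψ ∈ seqT K B, indFun K ψ.1 ∉ seqS K A →
      2 * K.index * Cfsg.charDegree ψ.1 < A.relIndex K - 1)
    (hA : IsCoherent (inducedIrrAbove K A) {1}ᶜ τ) :
    IsCoherent (inducedIrrAbove K B) {1}ᶜ τ := by
  set S := inducedIrrAbove K ⊥ with hSdef
  obtain ⟨d, n, hd, hn⟩ := exists_deg_norm hS.isCharacter
  set U := seqS K A ∪ seqS K B with hU
  have hUS : ∀ φ ∈ U, φ ∈ S := by
    intro φ hφ
    rw [hU, Finset.mem_union, mem_seqS, mem_seqS] at hφ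
    rcases hφ with h | h
    · exact inducedIrrAbove_subset_bot K A h
    · exact inducedIrrAbove_subset_bot K B h
  let P : Finset (L → ℂ) → Prop := fun S₁ => seqS K A ⊆ S₁ ∧ S₁ ⊆ U ∧
    (∀ φ ∈ S₁, conjFun φ ∈ S₁) ∧ IsCoherent (↑S₁ : Set (L → ℂ)) {1}ᶜ τ
  have hPA : P (seqS K A) := by
    refine ⟨subset_rfl, Finset.subset_union_left, ?_, ?_⟩
    · intro φ hφ
      rw [mem_seqS] at hφ ⊢
      exact inducedIrrAbove_conj hφ
    · rw [coe_seqS]; exact hA
  have hne : (U.powerset.filter P).Nonempty :=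
    ⟨seqS K A, Finset.mem_filter.mpr ⟨Finset.mem_powerset.mpr Finset.subset_union_left, hPA⟩⟩
  obtain ⟨S₁, hS₁mem, hS₁max⟩ := Finset.exists_max_image (U.powerset.filter P) Finset.card hne
  rw [Finset.mem_filter] at hS₁mem
  obtain ⟨-, hAS₁, hS₁U, hS₁c, hS₁coh⟩ := hS₁mem
  have hSBne : (inducedIrrAbove K B).Nonempty := by
    obtain ⟨ψ, hψ⟩ := seqT_nonempty K B hBK
    exact ⟨indFun K ψ.1, mem_seqS.mp (Finset.mem_image_of_mem _ hψ)⟩
  by_cases hall : U ⊆ S₁
  · -- everything is coherent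
    have hEq : S₁ = U := Finset.Subset.antisymm hS₁U hall
    rw [hEq] at hS₁coh
    apply isCoherent_subset hS (S₂ := (↑U : Set (L → ℂ))) _ _ hSBne _ hS₁coh
    · intro φ hφ
      rw [Finset.mem_coe, hU, Finset.mem_union, mem_seqS, mem_seqS]
      exact Or.inr hφ
    · intro φ hφ
      exact hUS φ (Finset.mem_coe.mp hφ)
    · intro φ hφ
      exact inducedIrrAbove_conj hφ
  · exfalso
    rw [Finset.not_subset] at hall
    obtain ⟨χ, hχU, hχS₁⟩ := hall
    have hχB : χ ∈ seqS K B := by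
      rw [hU, Finset.mem_union] at hχU
      rcases hχU with h | h
      · exact absurd (hAS₁ h) hχS₁
      · exact h
    have hχS : χ ∈ S := hUS χ hχU
    have hχbarB : conjFun χ ∈ seqS K B := by
      rw [mem_seqS] at hχB ⊢
      exact inducedIrrAbove_conj hχB
    have hχbarS₁ : conjFun χ ∉ S₁ := by
      intro h
      have := hS₁c _ h
      rw [conjFun_conjFun] at this
      exact hχS₁ this
    -- the linear character
    obtain ⟨ψ₁, hψ₁, hψ₁1⟩ := exists_linear_seqT K A hsolv hAK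
    set χ₁ := indFun K ψ₁.1 with hχ₁def
    have hχ₁A : χ₁ ∈ seqS K A := Finset.mem_image_of_mem _ hψ₁
    have hχ₁S₁ : χ₁ ∈ S₁ := hAS₁ hχ₁A
    have hχ₁S : χ₁ ∈ S := hUS χ₁ (hS₁U hχ₁S₁)
    have hdχ₁ : d χ₁ = K.index := by
      have h1 := hd χ₁ hχ₁S
      rw [hχ₁def, indFun_apply_one_index, hψ₁1, mul_one] at h1
      exact_mod_cast h1.symm
    -- χ
    obtain ⟨ψ, hψ, hψχ⟩ := Finset.mem_image.mp hχB
    have hdχ : d χ = K.index * charDegree ψ.1 := by
      have h1 := hd χ hχS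
      rw [← hψχ, indFun_apply_one_index, irr_apply_one] at h1
      have h2 : ((d (indFun K ψ.1) : ℕ) : ℂ) = ((K.index * charDegree ψ.1 : ℕ) : ℂ) := by
        push_cast; exact h1.symm
      rw [← hψχ]
      exact_mod_cast h2
    have hdvd : d χ₁ ∣ d χ := by
      rw [hdχ₁, hdχ]; exact Dvd.intro _ rfl
    -- the inequality
    have harith := hdeg ψ hψ (by rw [hψχ]; exact fun h => hχS₁ (hAS₁ h))
    have hrpos : 1 ≤ A.relIndex K := by
      apply Nat.pos_of_ne_zero
      unfold Subgroup.relIndex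
      exact Subgroup.index_ne_zero_of_finite
    have hepos : (0 : ℝ) < K.index := by
      have : K.index ≠ 0 := Subgroup.index_ne_zero_of_finite
      exact_mod_cast Nat.pos_of_ne_zero this
    have hlow := seqS_sum_lower_bound K A d n
      (fun φ hφ => hd φ (inducedIrrAbove_subset_bot K A hφ))
      (fun φ hφ => hn φ (inducedIrrAbove_subset_bot K A hφ))
    have hmono : ∑ φ ∈ seqS K A, (d φ : ℝ) ^ 2 / (n φ : ℝ) ≤ ∑ φ ∈ S₁, (d φ : ℝ) ^ 2 / (n φ : ℝ) :=
      Finset.sum_le_sum_of_subset_of_nonneg hAS₁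
        (fun _ _ _ => div_nonneg (sq_nonneg _) (Nat.cast_nonneg _))
    have hineq : (2 * d χ * d χ₁ : ℝ) < ∑ φ ∈ S₁, ((d φ : ℝ) ^ 2 / (n φ : ℝ)) := by
      refine lt_of_lt_of_le ?_ (le_trans hlow hmono)
      rw [hdχ₁, hdχ]
      have h1 : ((2 * K.index * charDegree ψ.1 : ℕ) : ℝ) < ((A.relIndex K - 1 : ℕ) : ℝ) := by
        exact_mod_cast harith
      rw [Nat.cast_sub hrpos] at h1
      push_cast at h1 ⊢
      nlinarith [h1, hepos]
    have hcoh' := Cfsg.Agent.S1516.result S τ R hS d n hd hn S₁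
      (fun φ hφ => hUS φ (hS₁U (Finset.mem_coe.mp hφ))) hS₁c hS₁coh χ hχS hχS₁ hχbarS₁ χ₁ hχ₁S₁
      hdvd hineq
    -- the bigger set
    set S₂ : Finset (L → ℂ) := insert χ (insert (conjFun χ) S₁) with hS₂
    have hcoe : (↑S₂ : Set (L → ℂ)) = ↑S₁ ∪ {χ, conjFun χ} := by
      ext φ
      simp only [hS₂, Finset.coe_insert, Set.mem_insert_iff, Finset.mem_coe, Set.mem_union,
        Set.mem_singleton_iff]
      tauto
    have hPS₂ : P S₂ := by
      refine ⟨?_, ?_, ?_, ?_⟩
      · intro φ hφ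
        exact Finset.mem_insert_of_mem (Finset.mem_insert_of_mem (hAS₁ hφ))
      · intro φ hφ
        rw [hS₂, Finset.mem_insert, Finset.mem_insert] at hφ
        rcases hφ with rfl | rfl | h
        · exact hχU
        · exact Finset.mem_union_right _ hχbarB
        · exact hS₁U h
      · intro φ hφ
        rw [hS₂, Finset.mem_insert, Finset.mem_insert] at hφ ⊢
        rcases hφ with rfl | rfl | h
        · exact Or.inr (Or.inl rfl)
        · exact Or.inl (conjFun_conjFun _)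
        · exact Or.inr (Or.inr (hS₁c φ h))
      · rw [hcoe]; exact hcoh'
    have hS₂mem : S₂ ∈ U.powerset.filter P :=
      Finset.mem_filter.mpr ⟨Finset.mem_powerset.mpr hPS₂.2.1, hPS₂⟩
    have hcard := hS₁max S₂ hS₂mem
    have hlt' : S₁.card < S₂.card := by
      apply Finset.card_lt_card
      rw [Finset.ssubset_iff_of_subset]
      · exact ⟨χ, Finset.mem_insert_self _ _, hχS₁⟩
      · intro φ hφ
        exact Finset.mem_insert_of_mem (Finset.mem_insert_of_mem hφ)
    omega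

open Classical in
/-- **Peterfalvi (6.2).** -/
theorem pf62 (K : Subgroup L) (hsolv : Group.IsSolvable K) (τ : (L → ℂ) → (G → ℂ))
    (R : (L → ℂ) → Finset (G → ℂ)) (hS : IsCoherenceSystem (inducedIrrAbove K ⊥) τ R)
    (A B C D : Subgroup L) [(A.subgroupOf K).Normal] [(B.subgroupOf K).Normal]
    (hAK : A < K) (hBK : B < K) (hDC : D ≤ C) (hCK : C ≤ K)
    (hcent : ∀ x ∈ D, ∀ y ∈ C, x * y * x⁻¹ * y⁻¹ ∈ B)
    (hA : IsCoherent (inducedIrrAbove K A) {1}ᶜ τ)
    (hlt : 4 * C.index ^ 2 * D.relIndex C < (A.relIndex K - 1) ^ 2) :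
    IsCoherent (inducedIrrAbove K B) {1}ᶜ τ := by
  apply pf62_core K hsolv τ R hS A B hAK hBK _ hA
  intro ψ hψ _
  have hbound := seqT_degree_bound K B C D hDC hCK hcent ψ hψ
  have hDpos : 0 < Nat.card D := Nat.card_pos
  have hjpos : 0 < D.relIndex C := by
    apply Nat.pos_of_ne_zero
    unfold Subgroup.relIndex
    exact Subgroup.index_ne_zero_of_finite
  have hcK : Nat.card C * C.relIndex K = Nat.card K := by
    have := Subgroup.relIndex_mul_relIndex (⊥ : Subgroup L) C K bot_le hCK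
    rwa [Subgroup.relIndex_bot_left, Subgroup.relIndex_bot_left] at this
  have hdC : Nat.card D * D.relIndex C = Nat.card C := by
    have := Subgroup.relIndex_mul_relIndex (⊥ : Subgroup L) D C bot_le hDC
    rwa [Subgroup.relIndex_bot_left, Subgroup.relIndex_bot_left] at this
  rw [← hcK] at hbound
  exact pf62_arith (e := K.index) hDpos hjpos (Subgroup.relIndex_mul_index hCK) hbound hdC hlt

end main

end Cfsg.Agent.Lib.Helper10
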