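/-
Peterfalvi (6.3): coherence descends along nilpotent sections (helper10).
-/
import Mathlib
import Cfsg.Agent.Lib.Helper10.PF62

set_option autoImplicit false

namespace Cfsg.Agent.Lib.Helper10

open Cfsg Cfsg.Agent.CharLib
open scoped commutatorElement

universe u v

section nilp

variable {L : Type u} [Group L]

/-- If `H/M` is nilpotent then some term of the lower central series of `H` lies in `M`. -/
theorem exists_lowerCentralSeries_le (M H : Subgroup L) [hN : (M.subgroupOf H).Normal]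
    (hnil : Group.IsNilpotent (↥H ⧸ M.subgroupOf H)) : ∃ n, H.lowerCentralSeries n ≤ M := by
  obtain ⟨n, hn⟩ := Subgroup.nilpotent_iff_lowerCentralSeries.mp hnil
  refine ⟨n, ?_⟩
  have h1 : Subgroup.map (QuotientGroup.mk' (M.subgroupOf H)) ((⊤ : Subgroup H).lowerCentralSeries n) = ⊥ := by
    rw [Subgroup.map_lowerCentralSeries,
      Subgroup.map_top_of_surjective _ (QuotientGroup.mk'_surjective _), hn]
  have h2 : (⊤ : Subgroup H).lowerCentralSeries n ≤ M.subgroupOf H := by
    have := (Subgroup.map_eq_bot_iff _).mp h1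
    rwa [QuotientGroup.ker_mk'] at this
  rw [← Subgroup.top_subtype_lowerCentralSeries]
  calc Subgroup.map H.subtype ((⊤ : Subgroup H).lowerCentralSeries n)
      ≤ Subgroup.map H.subtype (M.subgroupOf H) := Subgroup.map_mono h2
    _ = M ⊓ H := Subgroup.subgroupOf_map_subtype M H
    _ ≤ M := inf_le_left

/-- `[M Γ, H] ≤ M [Γ, H]` for `M` normal. -/
theorem commutator_sup_le (M Γ H : Subgroup L) [M.Normal] : ⁅M ⊔ Γ, H⁆ ≤ M ⊔ ⁅Γ, H⁆ := by
  rw [Subgroup.commutator_le]
  intro x hx h hh
  have hx' : x ∈ (↑(M ⊔ Γ) : Set L) := hx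
  rw [Subgroup.normal_mul] at hx'
  obtain ⟨m, hm, g, hg, rfl⟩ := Set.mem_mul.mp hx'
  have h1 : ⁅m * g, h⁆ = m * ⁅g, h⁆ * (h * m⁻¹ * h⁻¹) := by
    simp only [commutatorElement_def]; group
  rw [h1]
  apply mul_mem (mul_mem _ _) _
  · exact Subgroup.mem_sup_left hm
  · exact Subgroup.mem_sup_right (Subgroup.commutator_mem_commutator hg hh)
  · exact Subgroup.mem_sup_left (Subgroup.Normal.conj_mem inferInstance _ (inv_mem hm) h)

/-- In a nilpotent section `H/M`, a normal `A` with `M < A ≤ H` has `M [A,H] < A`. -/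
theorem sup_commutator_lt (M A H : Subgroup L) [M.Normal] [A.Normal] (hMA : M < A) (hAH : A ≤ H)
    (hnil : ∃ n, H.lowerCentralSeries n ≤ M) : M ⊔ ⁅A, H⁆ < A := by
  have hle : M ⊔ ⁅A, H⁆ ≤ A := sup_le hMA.le (Subgroup.commutator_le_left A H)
  refine lt_of_le_of_ne hle ?_
  intro heq
  obtain ⟨n, hn⟩ := hnil
  have key : ∀ k, A ≤ M ⊔ H.lowerCentralSeries k := by
    intro k
    induction k with
    | zero => exact le_trans hAH le_sup_right
    | succ k ih =>
      calc A = M ⊔ ⁅A, H⁆ := heq.symm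
        _ ≤ M ⊔ ⁅M ⊔ H.lowerCentralSeries k, H⁆ := sup_le_sup_left (Subgroup.commutator_mono ih le_rfl) _
        _ ≤ M ⊔ (M ⊔ ⁅H.lowerCentralSeries k, H⁆) := sup_le_sup_left (commutator_sup_le _ _ _) _
        _ = M ⊔ H.lowerCentralSeries (k + 1) := by rw [← sup_assoc, sup_idem]; rfl
  have h1 : A ≤ M := le_trans (key n) (sup_le le_rfl hn)
  exact (not_le_of_gt hMA) h1

end nilp

/-- arithmetic for (6.3) -/
theorem pf63_arith {e k h : ℕ} (hk : 1 ≤ k) (hh : 4 * e ^ 2 + 1 < h) :
    4 * (k * e) ^ 2 * h < (h * k - 1) ^ 2 := by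
  obtain ⟨h', rfl⟩ : ∃ h', h = h' + 1 := ⟨h - 1, by omega⟩
  have h1 : h' * k ≤ (h' + 1) * k - 1 := by
    have : (h' + 1) * k = h' * k + k := by ring
    omega
  have h2 : (h' * k) ^ 2 ≤ ((h' + 1) * k - 1) ^ 2 := Nat.pow_le_pow_left h1 2
  refine lt_of_lt_of_le ?_ h2
  have h3 : 4 * e ^ 2 + 1 ≤ h' := by omega
  have h4 : 4 * e ^ 2 * (h' + 1) < h' * h' := by nlinarith
  have hk2 : 0 < k ^ 2 := by positivity
  calc 4 * (k * e) ^ 2 * (h' + 1) = (4 * e ^ 2 * (h' + 1)) * k ^ 2 := by ring
    _ < (h' * h') * k ^ 2 := Nat.mul_lt_mul_of_pos_right h4 hk2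
    _ = (h' * k) ^ 2 := by ring

section main

variable {L : Type u} [Group L] [Fintype L] {G : Type v} [Group G] [Fintype G]

/-- **Peterfalvi (6.3).** -/
theorem pf63 (K : Subgroup L) (hsolv : Group.IsSolvable K) (τ : (L → ℂ) → (G → ℂ))
    (R : (L → ℂ) → Finset (G → ℂ)) (hS : IsCoherenceSystem (inducedIrrAbove K ⊥) τ R)
    (M H₁ H : Subgroup L) [M.Normal] [H.Normal] (hMH₁ : M ≤ H₁) (hH₁H : H₁ ≤ H)
    (hHK : H ≤ K) (hnil : ∃ n, H.lowerCentralSeries n ≤ M)
    (hcoh : IsCoherent (inducedIrrAbove K H₁) {1}ᶜ τ)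
    (hH₁n : H₁.Normal)
    (hbig : 4 * K.index ^ 2 + 1 < H₁.relIndex H) :
    IsCoherent (inducedIrrAbove K M) {1}ᶜ τ := by
  have hH₁ltH : H₁ < H := by
    refine lt_of_le_of_ne hH₁H ?_
    intro h
    rw [h, Subgroup.relIndex_self] at hbig
    omega
  have main : ∀ n : ℕ, ∀ A : Subgroup L, Nat.card A = n → A.Normal → M ≤ A → A ≤ H₁ →
      IsCoherent (inducedIrrAbove K A) {1}ᶜ τ → IsCoherent (inducedIrrAbove K M) {1}ᶜ τ := by
    intro n
    induction n using Nat.strong_induction_on with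
    | _ n ih =>
      intro A hcard hAn hMA hAH₁ hAcoh
      have := hAn
      by_cases hEq : A = M
      · rw [← hEq]; exact hAcoh
      · have hMltA : M < A := lt_of_le_of_ne hMA (Ne.symm hEq)
        have hAH : A ≤ H := hAH₁.trans hH₁H
        set B := M ⊔ ⁅A, H⁆ with hB
        have hBltA : B < A := sup_commutator_lt M A H hMltA hAH hnil
        have hBn : B.Normal := by rw [hB]; infer_instance
        have hAltK : A < K := lt_of_lt_of_le (lt_of_le_of_lt hAH₁ hH₁ltH) hHK
        have hBltK : B < K := lt_trans hBltA hAltK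
        have hcent : ∀ x ∈ A, ∀ y ∈ H, x * y * x⁻¹ * y⁻¹ ∈ B := by
          intro x hx y hy
          have := Subgroup.commutator_mem_commutator hx hy
          rw [commutatorElement_def] at this
          exact Subgroup.mem_sup_right this
        have hlt : 4 * H.index ^ 2 * A.relIndex H < (A.relIndex K - 1) ^ 2 := by
          have h1 : H.relIndex K * K.index = H.index := Subgroup.relIndex_mul_index hHK
          have h2 : A.relIndex H * H.relIndex K = A.relIndex K :=
            Subgroup.relIndex_mul_relIndex A H K hAH hHK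
          have h3 : H₁.relIndex H ∣ A.relIndex H := Subgroup.relIndex_dvd_of_le_left H hAH₁
          have h4 : A.relIndex H ≠ 0 := by
            unfold Subgroup.relIndex; exact Subgroup.index_ne_zero_of_finite
          have h5 : H₁.relIndex H ≤ A.relIndex H := Nat.le_of_dvd (Nat.pos_of_ne_zero h4) h3
          have h6 : 1 ≤ H.relIndex K := by
            apply Nat.pos_of_ne_zero
            unfold Subgroup.relIndex; exact Subgroup.index_ne_zero_of_finite
          rw [← h1, ← h2]
          exact pf63_arith h6 (lt_of_lt_of_le hbig h5)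
        have hBcoh := pf62 K hsolv τ R hS A B H A hAltK hBltK hAH hHK hcent hAcoh hlt
        have hcardlt : Nat.card B < n := by
          rw [← hcard]
          by_contra hnot
          push Not at hnot
          have := Subgroup.eq_of_le_of_card_ge hBltA.le hnot
          exact hBltA.ne this
        exact ih (Nat.card B) hcardlt B rfl hBn le_sup_left (hBltA.le.trans hAH₁) hBcoh
  exact main (Nat.card H₁) H₁ rfl hH₁n hMH₁ le_rfl hcoh

end main

end Cfsg.Agent.Lib.Helper10
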