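/-
Peterfalvi (6.5): coherence of `S(M)` in a Frobenius-type quotient unless `K/H₁` is a small chief
factor of a nonabelian `p`-group with `|L:K| ∤ p - 1` (helper10).
-/
import Mathlib
import Cfsg.Agent.Lib.Helper10.PF63
import Cfsg.Agent.Lib.Helper10.FrobQuot
import Cfsg.Agent.Lib.Helper6.CentralHom
import Cfsg.Agent.Lib.Helper24.Deflation

set_option autoImplicit false

namespace Cfsg.Agent.Lib.Helper10

open Cfsg Cfsg.Agent.CharLib
open scoped commutatorElement

universe u v

section cohsys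

variable {L : Type u} [Group L] [Fintype L] {G : Type v} [Group G] [Fintype G]

/-- A nonempty conjugation-closed subset of a coherence system is a coherence system. -/
theorem cohsys_subset {S : Set (L → ℂ)} {τ : (L → ℂ) → (G → ℂ)} {R : (L → ℂ) → Finset (G → ℂ)}
    (hS : IsCoherenceSystem S τ R) {S' : Set (L → ℂ)} (hsub : S' ⊆ S) (hne : S'.Nonempty)
    (hconj : ∀ χ ∈ S', conjFun χ ∈ S') : IsCoherenceSystem S' τ R := by
  obtain ⟨h1, h2, h3, h4⟩ := hS.isometry
  have hm := zspanOn_mono hsub ({1}ᶜ : Set L)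
  exact
    { nonempty := hne
      isCharacter := fun χ hχ => hS.isCharacter χ (hsub hχ)
      conj_mem := hconj
      conj_ne := fun χ hχ => hS.conj_ne χ (hsub hχ)
      isometry := ⟨fun α hα β hβ => h1 α (hm hα) β (hm hβ), fun α hα n => h2 α (hm hα) n,
        fun α hα β hβ => h3 α (hm hα) β (hm hβ), fun α hα => h4 α (hm hα)⟩
      map_one := fun α hα => hS.map_one α (hm hα)
      orthogonal := fun χ hχ φ hφ => hS.orthogonal χ (hsub hχ) φ (hsub hφ)
      orthonormal := fun χ hχ => hS.orthonormal χ (hsub hχ)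
      virtual := fun χ hχ => hS.virtual χ (hsub hχ)
      sum_eq := fun χ hχ => hS.sum_eq χ (hsub hχ)
      disjoint := fun χ hχ φ hφ => hS.disjoint χ (hsub hχ) φ (hsub hφ) }

/-- `S(H₁)` is coherent when `K' ≤ H₁ < K`: all its members have degree `|L:K|`. -/
theorem seqS_coherent_of_commutator_le (K H₁ : Subgroup L) {τ : (L → ℂ) → (G → ℂ)}
    {R : (L → ℂ) → Finset (G → ℂ)} (hS : IsCoherenceSystem (inducedIrrAbove K ⊥) τ R)
    [(H₁.subgroupOf K).Normal] (hcomm : ⁅K, K⁆ ≤ H₁) (hH₁K : H₁ < K) :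
    IsCoherent (inducedIrrAbove K H₁) {1}ᶜ τ := by
  have hne : (inducedIrrAbove K H₁).Nonempty := by
    obtain ⟨ψ, hψ⟩ := seqT_nonempty K H₁ hH₁K
    exact ⟨indFun K ψ.1, mem_seqS.mp (Finset.mem_image_of_mem _ hψ)⟩
  have hS' := cohsys_subset hS (inducedIrrAbove_subset_bot K H₁) hne
    (fun χ hχ => inducedIrrAbove_conj hχ)
  apply cohsys_coherent_of_constant_degree hS'
  have hdeg : ∀ φ ∈ inducedIrrAbove K H₁, φ 1 = (K.index : ℂ) := by
    rintro φ ⟨θ, hθ, -, hker, rfl⟩
    have h1 : θ 1 = 1 := by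
      apply Cfsg.Agent.Lib.Helper6.IsIrrCharacter.apply_one_eq_one_of_commutator hθ
      intro g k
      apply hker
      apply hcomm
      have := Subgroup.commutator_mem_commutator g.2 k.2
      simpa [commutatorElement_def] using this
    rw [indFun_apply_one_index, h1, mul_one]
  intro φ hφ ψ hψ
  rw [hdeg φ hφ, hdeg ψ hψ]

end cohsys

/-- `a ≡ 1 (mod e)`, `a > 1`, both odd: then `a ≥ 2e + 1`. -/
theorem odd_cong_bound {e a : ℕ} (he : Odd e) (ha : Odd a) (h1 : 1 < a) (hd : e ∣ a - 1) :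
    2 * e + 1 ≤ a := by
  obtain ⟨c, hc⟩ := hd
  have hc0 : c ≠ 0 := by
    rintro rfl
    omega
  have heven : Even (e * c) := by
    rw [← hc]
    obtain ⟨k, hk⟩ := ha
    exact ⟨k, by omega⟩
  have hceven : Even c := by
    rcases Nat.even_mul.mp heven with h | h
    · exact absurd h (Nat.not_even_iff_odd.mpr he)
    · exact h
  obtain ⟨k, hk⟩ := hceven
  have hk1 : 1 ≤ k := by omega
  have : 2 * e ≤ e * c := by
    rw [hk]
    nlinarith
  omega

section frob

variable {L : Type u} [Group L] [Fintype L]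

/-- In the Frobenius-type quotient, an intermediate normal subgroup forces `|K:H₁| > 4e²+1`. -/
theorem frobQuot_bound (K H₁ N : Subgroup L) [K.Normal] [N.Normal] [H₁.Normal]
    (hodd : Odd (Nat.card L)) (hH₁N : H₁ < N) (hNK : N < K) (hcomm : ⁅K, K⁆ ≤ H₁)
    (hfrob : ∀ k ∈ K, k ∉ H₁ → ∀ x : L, x * k * x⁻¹ * k⁻¹ ∈ H₁ → x ∈ K) :
    4 * K.index ^ 2 + 1 < H₁.relIndex K := by
  have h1 := frobQuot_index_dvd K H₁ N hNK.le hcomm hfrob
  have h2 := frobQuot_index_dvd K H₁ K le_rfl hcomm hfrob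
  have h3 : H₁.relIndex N * N.relIndex K = H₁.relIndex K :=
    Subgroup.relIndex_mul_relIndex H₁ N K hH₁N.le hNK.le
  set a := H₁.relIndex N with ha
  set b := N.relIndex K with hb
  set e := K.index with he
  have hoddOf : ∀ m : ℕ, m ∣ Nat.card L → Odd m := fun m hm => Odd.of_dvd_nat hodd hm
  have hcardK : Nat.card K ∣ Nat.card L := Subgroup.card_subgroup_dvd_card K
  have hcardN : Nat.card N ∣ Nat.card L := Subgroup.card_subgroup_dvd_card N
  have hodda : Odd a := hoddOf a (dvd_trans (Subgroup.relIndex_dvd_card H₁ N) hcardN)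
  have hoddb : Odd b := hoddOf b (dvd_trans (Subgroup.relIndex_dvd_card N K) hcardK)
  have hodde : Odd e := hoddOf e (Subgroup.index_dvd_card K)
  have ha1 : 1 < a := by
    have h0 : a ≠ 0 := by
      unfold a Subgroup.relIndex; exact Subgroup.index_ne_zero_of_finite
    have h1' : a ≠ 1 := by
      intro h
      rw [ha, Subgroup.relIndex_eq_one] at h
      exact (not_le_of_gt hH₁N) h
    omega
  have hb1 : 1 < b := by
    have h0 : b ≠ 0 := by
      unfold b Subgroup.relIndex; exact Subgroup.index_ne_zero_of_finite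
    have h1' : b ≠ 1 := by
      intro h
      rw [hb, Subgroup.relIndex_eq_one] at h
      exact (not_le_of_gt hNK) h
    omega
  have hdb : e ∣ b - 1 := by
    rw [← h3] at h2
    have h4 : a * b - 1 = (a - 1) * b + (b - 1) := by
      have : (a - 1) * b = a * b - b := by rw [Nat.sub_mul, one_mul]
      have h5 : b ≤ a * b := Nat.le_mul_of_pos_left b (by omega)
      omega
    rw [h4] at h2
    exact (Nat.dvd_add_right (Dvd.dvd.mul_right h1 b)).mp h2
  have hA := odd_cong_bound hodde hodda ha1 h1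
  have hBd := odd_cong_bound hodde hoddb hb1 hdb
  rw [← h3]
  have hepos : 1 ≤ e := by
    obtain ⟨k, hk⟩ := hodde
    omega
  calc 4 * e ^ 2 + 1 < (2 * e + 1) * (2 * e + 1) := by nlinarith
    _ ≤ a * b := Nat.mul_le_mul hA hBd

end frob


/-- arithmetic for case (e) -/
theorem pf65_arith_e {e p t q : ℕ} (h2e : 2 * e ≤ p - 1) (hp : 2 ≤ p) (hpt : p ≤ t)
    (htq : t ^ 2 ≤ q) : 2 * e * t < q - 1 := by
  have h1 : 2 * e * t ≤ (p - 1) * t := Nat.mul_le_mul_right t h2e
  have h2 : (p - 1) * t + t = p * t := by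
    have : p = (p - 1) + 1 := by omega
    conv_rhs => rw [this]
    ring
  have h3 : p * t ≤ t ^ 2 := by
    rw [pow_two]; exact Nat.mul_le_mul_right t hpt
  have ht2 : 2 ≤ t := le_trans hp hpt
  omega

section caseE

variable {L : Type u} [Group L] [Fintype L] {G : Type v} [Group G] [Fintype G]

attribute [local instance] fintypeIrr

open Cfsg.Agent.Lib.Helper24 Cfsg.Agent.Lib.Helper25 in
/-- an irreducible character of degree one with `M` in its kernel has `K' M` in its kernel -/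
theorem linear_kernel_sup (K M : Subgroup L) (hMK : M ≤ K) (ψ : IrrCharacter K) (h1 : ψ.1 1 = 1)
    (hM : ∀ a : K, (a : L) ∈ M → ψ.1 a = ψ.1 1) (a : K) (ha : (a : L) ∈ ⁅K, K⁆ ⊔ M) :
    ψ.1 a = ψ.1 1 := by
  rw [← mem_irrKer]
  have hle : ⁅K, K⁆ ⊔ M ≤ (irrKer ψ).map K.subtype := by
    apply sup_le
    · rw [Subgroup.commutator_le]
      intro g hg k hk
      refine ⟨⁅(⟨g, hg⟩ : K), (⟨k, hk⟩ : K)⁆, ?_, rfl⟩
      rw [SetLike.mem_coe, mem_irrKer, h1]
      exact apply_eq_one_of_mem_commutator (IsIrrCharacter.isCharacter ψ.2) h1 _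
        (Subgroup.commutator_mem_commutator (Subgroup.mem_top _) (Subgroup.mem_top _))
    · intro m hm
      refine ⟨⟨m, hMK hm⟩, ?_, rfl⟩
      rw [SetLike.mem_coe, mem_irrKer]
      exact hM ⟨m, hMK hm⟩ hm
  obtain ⟨y, hy, hya⟩ := hle ha
  have : y = a := Subtype.ext hya
  rw [← this]
  exact hy

open Cfsg.Agent.Lib.Helper24 in
/-- the degree of an irreducible character with `B` in its kernel divides `|K:B|` -/
theorem charDegree_dvd_relIndex (K B : Subgroup L) [(B.subgroupOf K).Normal] (ψ : IrrCharacter K)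
    (hker : ∀ a : K, (a : L) ∈ B → ψ.1 a = ψ.1 1) : Cfsg.charDegree ψ.1 ∣ B.relIndex K := by
  have h0 := irr_apply_one ψ
  obtain ⟨ψf, n, ρ, hirr, rfl⟩ := ψ
  haveI : ρ.IsIrreducible := hirr
  have h1 := finrank_dvd_index_of_le_ker (B.subgroupOf K) ρ (by
    intro a ha
    have := hker a (Subgroup.mem_subgroupOf.mp ha)
    simp only at this
    rw [this, Representation.char_one])
  rw [Module.finrank_fin_fun] at h1
  simp only [Representation.char_one, Module.finrank_fin_fun] at h0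
  have h2 : n = Cfsg.charDegree ρ.character := by exact_mod_cast h0
  rw [← h2]
  exact h1

open Cfsg.Agent.Lib.Helper24 in
set_option maxHeartbeats 800000 in
/-- Case (e) of Peterfalvi (6.5): `K/M` a `p`-group with `|L:K|` dividing `p - 1`. -/
theorem pf65_case_e (K : Subgroup L) [K.Normal] (hsolv : Group.IsSolvable K)
    (τ : (L → ℂ) → (G → ℂ)) (R : (L → ℂ) → Finset (G → ℂ))
    (hS : IsCoherenceSystem (inducedIrrAbove K ⊥) τ R) (hodd : Odd (Nat.card L))
    (M : Subgroup L) [M.Normal] (hMK : M ≤ K) (hnil : ∃ n, K.lowerCentralSeries n ≤ M)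
    (hH₁K : ⁅K, K⁆ ⊔ M < K) (p m : ℕ) (hp : p.Prime) (hpm : M.relIndex K = p ^ m)
    (hdvd : K.index ∣ p - 1) : IsCoherent (inducedIrrAbove K M) {1}ᶜ τ := by
  set H₁ := ⁅K, K⁆ ⊔ M with hH₁
  have hcomm : ⁅K, K⁆ ≤ H₁ := le_sup_left
  have hMH₁ : M ≤ H₁ := le_sup_right
  have hH₁coh := seqS_coherent_of_commutator_le K H₁ hS hcomm hH₁K
  by_cases hEq : M = H₁
  · rw [hEq]; exact hH₁coh
  have hMltH₁ : M < H₁ := lt_of_le_of_ne hMH₁ hEq
  set B := M ⊔ ⁅H₁, K⁆ with hB
  have hBltH₁ : B < H₁ := sup_commutator_lt M H₁ K hMltH₁ hH₁K.le hnil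
  have hMB : M ≤ B := le_sup_left
  have hBltK : B < K := lt_trans hBltH₁ hH₁K
  -- numbers
  set e := K.index with he
  have hodde : Odd e := Odd.of_dvd_nat hodd (Subgroup.index_dvd_card K)
  have hm0 : m ≠ 0 := by
    rintro rfl
    rw [pow_zero, Subgroup.relIndex_eq_one] at hpm
    exact (not_le_of_gt (lt_of_le_of_lt hMH₁ hH₁K)) hpm
  have hpL : p ∣ Nat.card L := by
    have h1 : p ∣ M.relIndex K := by rw [hpm]; exact dvd_pow_self p hm0
    exact dvd_trans h1 (dvd_trans (Subgroup.relIndex_dvd_card M K) (Subgroup.card_subgroup_dvd_card K))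
  have hoddp : Odd p := Odd.of_dvd_nat hodd hpL
  have hp2 : 2 ≤ p := hp.two_le
  have h2e : 2 * e ≤ p - 1 := by
    have h1 : 2 ∣ p - 1 := by
      obtain ⟨k, hk⟩ := hoddp
      exact ⟨k, by omega⟩
    have hcop : Nat.Coprime 2 e := (Nat.coprime_two_left).mpr hodde
    have h3 : 2 * e ∣ p - 1 := Nat.Coprime.mul_dvd_of_dvd_of_dvd hcop h1 hdvd
    exact Nat.le_of_dvd (by omega) h3
  -- every relative index in the chain M ≤ B ≤ H₁ ≤ K is a power of p
  have hppow : ∀ X Y : Subgroup L, M ≤ X → X ≤ Y → Y ≤ K → X < Y → p ≤ X.relIndex Y := by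
    intro X Y hMX hXY hYK hlt
    have h1 : M.relIndex X * X.relIndex Y = M.relIndex Y :=
      Subgroup.relIndex_mul_relIndex M X Y hMX hXY
    have h2 : M.relIndex Y * Y.relIndex K = M.relIndex K :=
      Subgroup.relIndex_mul_relIndex M Y K (hMX.trans hXY) hYK
    have h3 : X.relIndex Y ∣ p ^ m := by
      rw [← hpm, ← h2, ← h1]
      exact Dvd.dvd.mul_right (Dvd.intro_left _ rfl) _
    obtain ⟨j, -, hj⟩ := (Nat.dvd_prime_pow hp).mp h3
    have hj0 : j ≠ 0 := by
      rintro rfl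
      rw [pow_zero, Subgroup.relIndex_eq_one] at hj
      exact (not_le_of_gt hlt) hj
    rw [hj]
    exact Nat.le_self_pow hj0 p
  -- S(B) is coherent
  have hBcoh : IsCoherent (inducedIrrAbove K B) {1}ᶜ τ := by
    apply pf62_core K hsolv τ R hS H₁ B hH₁K hBltK _ hH₁coh
    intro ψ hψ hnot
    have hψ' := mem_seqT.mp hψ
    set t := Cfsg.charDegree ψ.1 with ht
    have ht1 : t ≠ 1 := by
      intro h1
      apply hnot
      apply Finset.mem_image_of_mem
      rw [mem_seqT]
      refine ⟨hψ'.1, ?_⟩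
      intro a ha
      have h2 : ψ.1 1 = 1 := by rw [irr_apply_one, ← ht, h1, Nat.cast_one]
      exact linear_kernel_sup K M hMK ψ h2 (fun a ha => hψ'.2 a (hMB ha)) a ha
    have htdvd : t ∣ p ^ m := by
      have h1 := charDegree_dvd_relIndex K B ψ hψ'.2
      have h2 : B.relIndex K ∣ M.relIndex K := Subgroup.relIndex_dvd_of_le_left K hMB
      rw [hpm] at h2
      exact dvd_trans h1 h2
    obtain ⟨j, -, hj⟩ := (Nat.dvd_prime_pow hp).mp htdvd
    have hj0 : j ≠ 0 := by
      rintro rfl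
      exact ht1 (by rw [hj, pow_zero])
    have hpt : p ≤ t := by rw [hj]; exact Nat.le_self_pow hj0 p
    have hcent : ∀ x ∈ H₁, ∀ y ∈ K, x * y * x⁻¹ * y⁻¹ ∈ B := by
      intro x hx y hy
      have := Subgroup.commutator_mem_commutator hx hy
      rw [commutatorElement_def] at this
      exact Subgroup.mem_sup_right this
    have hbound := seqT_degree_bound K B K H₁ hH₁K.le le_rfl hcent ψ hψ
    have hcK : Nat.card H₁ * H₁.relIndex K = Nat.card K := by
      have := Subgroup.relIndex_mul_relIndex (⊥ : Subgroup L) H₁ K bot_le hH₁K.le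
      rwa [Subgroup.relIndex_bot_left, Subgroup.relIndex_bot_left] at this
    have htq : t ^ 2 ≤ H₁.relIndex K := by
      have hKpos : 0 < Nat.card K := Nat.card_pos
      have hHpos : 0 < Nat.card H₁ := Nat.card_pos
      have h1 : t ^ 2 * (Nat.card K * Nat.card H₁) ≤ H₁.relIndex K * (Nat.card K * Nat.card H₁) := by
        calc t ^ 2 * (Nat.card K * Nat.card H₁) = t ^ 2 * Nat.card K * Nat.card H₁ := by ring
          _ ≤ Nat.card K ^ 2 := hbound
          _ = Nat.card K * (Nat.card H₁ * H₁.relIndex K) := by rw [hcK]; ring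
          _ = H₁.relIndex K * (Nat.card K * Nat.card H₁) := by ring
      exact Nat.le_of_mul_le_mul_right h1 (Nat.mul_pos hKpos hHpos)
    exact pf65_arith_e h2e hp2 hpt htq
  -- (6.3)
  have hBn : B.Normal := by rw [hB]; infer_instance
  apply pf63 K hsolv τ R hS M B K hMB hBltK.le le_rfl hnil hBcoh hBn
  have h1 : B.relIndex H₁ * H₁.relIndex K = B.relIndex K :=
    Subgroup.relIndex_mul_relIndex B H₁ K hBltH₁.le hH₁K.le
  have h2 := hppow B H₁ hMB hBltH₁.le hH₁K.le hBltH₁
  have h3 := hppow H₁ K hMH₁ hH₁K.le le_rfl hH₁K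
  rw [← h1]
  have h4 : 2 * e + 1 ≤ p := by omega
  have hepos : 1 ≤ e := by
    obtain ⟨k, hk⟩ := hodde
    omega
  calc 4 * e ^ 2 + 1 < (2 * e + 1) * (2 * e + 1) := by nlinarith
    _ ≤ B.relIndex H₁ * H₁.relIndex K := Nat.mul_le_mul (le_trans h4 h2) (le_trans h4 h3)

end caseE

end Cfsg.Agent.Lib.Helper10
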