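/-
Group theory for Peterfalvi (6.5), case (c): if `K/H₁` (abelian) has no proper nontrivial `L`-invariant
subgroup then it has prime power order, and then so does the nilpotent `K/M` (helper10).
-/
import Mathlib
import Cfsg.Agent.Lib.Helper10.NilpAb

set_option autoImplicit false

namespace Cfsg.Agent.Lib.Helper10

open scoped commutatorElement

universe u

section omega

variable {L : Type u} [Group L]

/-- `(a b)^p ≡ a^p b^p` modulo the commutator subgroup -/
theorem mul_pow_mem_commutator (K : Subgroup L) {a b : L} (ha : a ∈ K) (hb : b ∈ K) (p : ℕ) :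
    (a ^ p * b ^ p)⁻¹ * (a * b) ^ p ∈ ⁅K, K⁆ := by
  rw [← Subgroup.map_subtype_commutator]
  refine ⟨((⟨a, ha⟩ : K) ^ p * (⟨b, hb⟩ : K) ^ p)⁻¹ * ((⟨a, ha⟩ : K) * ⟨b, hb⟩) ^ p, ?_, by simp⟩
  rw [SetLike.mem_coe, ← QuotientGroup.ker_mk' (commutator K), MonoidHom.mem_ker]
  change Abelianization.of _ = 1
  rw [map_mul, map_inv, map_mul, map_pow, map_pow, map_pow, map_mul, mul_pow, inv_mul_cancel]

/-- the elements of `K` whose `p`-th power lies in `H₁` -/
def omegaSub (K H₁ : Subgroup L) (p : ℕ) (hcomm : ⁅K, K⁆ ≤ H₁) : Subgroup L where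
  carrier := {n | n ∈ K ∧ n ^ p ∈ H₁}
  one_mem' := ⟨K.one_mem, by rw [one_pow]; exact H₁.one_mem⟩
  mul_mem' := by
    rintro a b ⟨ha, hap⟩ ⟨hb, hbp⟩
    refine ⟨K.mul_mem ha hb, ?_⟩
    have h1 := hcomm (mul_pow_mem_commutator K ha hb p)
    have h2 : (a * b) ^ p = (a ^ p * b ^ p) * ((a ^ p * b ^ p)⁻¹ * (a * b) ^ p) := by group
    rw [h2]
    exact H₁.mul_mem (H₁.mul_mem hap hbp) h1
  inv_mem' := by
    rintro a ⟨ha, hap⟩
    exact ⟨K.inv_mem ha, by rw [inv_pow]; exact H₁.inv_mem hap⟩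

theorem mem_omegaSub {K H₁ : Subgroup L} {p : ℕ} {hcomm : ⁅K, K⁆ ≤ H₁} {n : L} :
    n ∈ omegaSub K H₁ p hcomm ↔ n ∈ K ∧ n ^ p ∈ H₁ := Iff.rfl

instance omegaSub_normal (K H₁ : Subgroup L) [hK : K.Normal] [hH : H₁.Normal] (p : ℕ)
    (hcomm : ⁅K, K⁆ ≤ H₁) : (omegaSub K H₁ p hcomm).Normal := by
  constructor
  rintro n ⟨hn, hnp⟩ x
  refine ⟨hK.conj_mem n hn x, ?_⟩
  rw [conj_pow]
  exact hH.conj_mem _ hnp x

end omega

section main

variable {L : Type u} [Group L] [Finite L]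

/-- Either there is an `L`-invariant subgroup strictly between `H₁` and `K`, or `|K:H₁|` is a prime
power. -/
theorem exists_between_or_prime_pow (K H₁ : Subgroup L) [K.Normal] [H₁.Normal]
    (hcomm : ⁅K, K⁆ ≤ H₁) (hH₁K : H₁ < K) :
    (∃ N : Subgroup L, N.Normal ∧ H₁ < N ∧ N < K) ∨
      ∃ p a : ℕ, p.Prime ∧ H₁.relIndex K = p ^ a := by
  classical
  set q := H₁.relIndex K with hq
  have hq1 : q ≠ 1 := by
    intro h
    rw [hq, Subgroup.relIndex_eq_one] at h
    exact (not_le_of_gt hH₁K) h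
  set p := q.minFac with hp
  have hpp : p.Prime := Nat.minFac_prime hq1
  haveI : Fact p.Prime := ⟨hpp⟩
  have hpq : p ∣ q := Nat.minFac_dvd q
  set N := omegaSub K H₁ p hcomm with hN
  have hNK : N ≤ K := fun n hn => hn.1
  have hH₁N : H₁ ≤ N := fun n hn => ⟨hH₁K.le hn, H₁.pow_mem hn p⟩
  have hcardX : Nat.card (↥K ⧸ H₁.subgroupOf K) = q := by
    rw [← Subgroup.index_eq_card]; rfl
  -- Cauchy
  obtain ⟨x, hx⟩ := exists_prime_orderOf_dvd_card' (G := ↥K ⧸ H₁.subgroupOf K) p (by rw [hcardX]; exact hpq)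
  obtain ⟨n, rfl⟩ := QuotientGroup.mk_surjective x
  have hn1 : (n : L) ∈ N := by
    refine ⟨n.2, ?_⟩
    have h1 : (QuotientGroup.mk n : ↥K ⧸ H₁.subgroupOf K) ^ p = 1 := by
      rw [← hx]; exact pow_orderOf_eq_one _
    rw [← QuotientGroup.mk_pow, QuotientGroup.eq_one_iff, Subgroup.mem_subgroupOf] at h1
    simpa using h1
  have hn2 : (n : L) ∉ H₁ := by
    intro h
    have h1 : (QuotientGroup.mk n : ↥K ⧸ H₁.subgroupOf K) = 1 := by
      rw [QuotientGroup.eq_one_iff, Subgroup.mem_subgroupOf]; exact h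
    rw [h1, orderOf_one] at hx
    exact hpp.one_lt.ne hx
  have hH₁ltN : H₁ < N := lt_of_le_of_ne hH₁N (fun h => hn2 (h ▸ hn1))
  by_cases hNeq : N = K
  · right
    have hpg : IsPGroup p (↥K ⧸ H₁.subgroupOf K) := by
      intro y
      obtain ⟨k, rfl⟩ := QuotientGroup.mk_surjective y
      refine ⟨1, ?_⟩
      rw [pow_one, ← QuotientGroup.mk_pow, QuotientGroup.eq_one_iff, Subgroup.mem_subgroupOf]
      have hk : (k : L) ∈ N := by rw [hNeq]; exact k.2
      simpa using hk.2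
    obtain ⟨a, ha⟩ := IsPGroup.iff_card.mp hpg
    exact ⟨p, a, hpp, by rw [← hcardX, ha]⟩
  · left
    exact ⟨N, inferInstance, hH₁ltN, lt_of_le_of_ne hNK hNeq⟩

/-- If `K/M` is nilpotent and `K/(K'M)` has prime power order then so has `K/M`. -/
theorem relIndex_prime_pow_of_nilpotent (K M : Subgroup L) (hMK : M ≤ K)
    [hMn : (M.subgroupOf K).Normal] (hnil : Group.IsNilpotent (↥K ⧸ M.subgroupOf K))
    (p a : ℕ) (hp : p.Prime) (hpa : (⁅K, K⁆ ⊔ M).relIndex K = p ^ a) :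
    ∃ m : ℕ, M.relIndex K = p ^ m := by
  haveI : Fact p.Prime := ⟨hp⟩
  set Q := ↥K ⧸ M.subgroupOf K with hQ
  let f : K →* Abelianization Q := Abelianization.of.comp (QuotientGroup.mk' (M.subgroupOf K))
  have hf : Function.Surjective f := by
    intro y
    obtain ⟨z, rfl⟩ : ∃ z : Q, Abelianization.of z = y := QuotientGroup.mk_surjective y
    obtain ⟨k, rfl⟩ := QuotientGroup.mk_surjective z
    exact ⟨k, rfl⟩
  have hker : (⁅K, K⁆ ⊔ M).subgroupOf K ≤ f.ker := by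
    have hle : ⁅K, K⁆ ⊔ M ≤ f.ker.map K.subtype := by
      apply sup_le
      · rw [Subgroup.commutator_le]
        intro g hg k hk
        refine ⟨⁅(⟨g, hg⟩ : K), (⟨k, hk⟩ : K)⁆, ?_, rfl⟩
        rw [SetLike.mem_coe, MonoidHom.mem_ker, map_commutatorElement]
        exact commutatorElement_eq_one_iff_commute.mpr (Commute.all _ _)
      · intro m hm
        refine ⟨⟨m, hMK hm⟩, ?_, rfl⟩
        rw [SetLike.mem_coe, MonoidHom.mem_ker]
        change Abelianization.of (QuotientGroup.mk (⟨m, hMK hm⟩ : K)) = 1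
        rw [(QuotientGroup.eq_one_iff _).mpr (Subgroup.mem_subgroupOf.mpr hm), map_one]
    intro k hk
    obtain ⟨y, hy, hyk⟩ := hle (Subgroup.mem_subgroupOf.mp hk)
    have : y = k := Subtype.ext hyk
    rw [← this]; exact hy
  have h1 : f.ker.index ∣ ((⁅K, K⁆ ⊔ M).subgroupOf K).index := Subgroup.index_dvd_of_le hker
  have h2 : f.ker.index = Nat.card (Abelianization Q) := by
    rw [Subgroup.index_ker, MonoidHom.range_eq_top.mpr hf]
    exact Nat.card_congr Subgroup.topEquiv.toEquiv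
  have h3 : ((⁅K, K⁆ ⊔ M).subgroupOf K).index = p ^ a := hpa
  rw [h2, h3] at h1
  obtain ⟨j, -, hj⟩ := (Nat.dvd_prime_pow hp).mp h1
  have hab : IsPGroup p (Abelianization Q) := IsPGroup.of_card hj
  have hQp := isPGroup_of_abelianization hnil p hab
  obtain ⟨m, hm⟩ := IsPGroup.iff_card.mp hQp
  refine ⟨m, ?_⟩
  rw [← hm, ← Subgroup.index_eq_card]
  rfl

end main

end Cfsg.Agent.Lib.Helper10
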