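/-
Peterfalvi (6.5), assembled (helper10).
-/
import Mathlib
import Cfsg.Agent.Lib.Helper10.PF65
import Cfsg.Agent.Lib.Helper10.PF65c

set_option autoImplicit false

namespace Cfsg.Agent.Lib.Helper10

open Cfsg Cfsg.Agent.CharLib

universe u v

variable {L : Type u} [Group L] [Fintype L] {G : Type v} [Group G] [Fintype G]

/-- **Peterfalvi (6.5)** (positive form). -/
theorem pf65 (K : Subgroup L) [K.Normal] (hsolv : Group.IsSolvable K) (τ : (L → ℂ) → (G → ℂ))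
    (R : (L → ℂ) → Finset (G → ℂ)) (hS : IsCoherenceSystem (inducedIrrAbove K ⊥) τ R)
    (hodd : Odd (Nat.card L)) (M : Subgroup L) [M.Normal] (hMK : M ≤ K)
    [(M.subgroupOf K).Normal] (hnil : Group.IsNilpotent (↥K ⧸ M.subgroupOf K))
    (H₁ : Subgroup L) (hH₁ : H₁ = ⁅K, K⁆ ⊔ M) (hH₁K : H₁ < K)
    (hfrob : ∀ k ∈ K, k ∉ H₁ → ∀ x : L, x * k * x⁻¹ * k⁻¹ ∈ H₁ → x ∈ K)
    (hgood : (∃ N : Subgroup L, N.Normal ∧ H₁ < N ∧ N < K) ∨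
      4 * K.index ^ 2 + 1 < H₁.relIndex K ∨
      (¬ ∃ p m : ℕ, p.Prime ∧ M.relIndex K = p ^ m) ∨ ⁅K, K⁆ ≤ M ∨
      (∃ p m : ℕ, p.Prime ∧ M.relIndex K = p ^ m ∧ K.index ∣ p - 1)) :
    IsCoherent (inducedIrrAbove K M) {1}ᶜ τ := by
  subst hH₁
  have hnil' := exists_lowerCentralSeries_le M K hnil
  have hcomm : ⁅K, K⁆ ≤ ⁅K, K⁆ ⊔ M := le_sup_left
  have hMH₁ : M ≤ ⁅K, K⁆ ⊔ M := le_sup_right
  have hH₁coh := seqS_coherent_of_commutator_le K (⁅K, K⁆ ⊔ M) hS hcomm hH₁K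
  have caseB : 4 * K.index ^ 2 + 1 < (⁅K, K⁆ ⊔ M).relIndex K →
      IsCoherent (inducedIrrAbove K M) {1}ᶜ τ := fun hbig =>
    pf63 K hsolv τ R hS M (⁅K, K⁆ ⊔ M) K hMH₁ hH₁K.le le_rfl hnil' hH₁coh inferInstance hbig
  have caseA : (∃ N : Subgroup L, N.Normal ∧ ⁅K, K⁆ ⊔ M < N ∧ N < K) →
      IsCoherent (inducedIrrAbove K M) {1}ᶜ τ := by
    rintro ⟨N, hNn, hH₁N, hNK⟩
    haveI := hNn
    exact caseB (frobQuot_bound K (⁅K, K⁆ ⊔ M) N hodd hH₁N hNK hcomm hfrob)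
  rcases hgood with ha | hb | hc | hd | ⟨p, m, hp, hpm, hdvd⟩
  · exact caseA ha
  · exact caseB hb
  · rcases exists_between_or_prime_pow K (⁅K, K⁆ ⊔ M) hcomm hH₁K with hN | ⟨p, a, hp, hpa⟩
    · exact caseA hN
    · exfalso
      obtain ⟨m, hm⟩ := relIndex_prime_pow_of_nilpotent K M hMK hnil p a hp hpa
      exact hc ⟨p, m, hp, hm⟩
  · have hEq : ⁅K, K⁆ ⊔ M = M := sup_eq_right.mpr hd
    rw [hEq] at hH₁coh
    exact hH₁coh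
  · exact pf65_case_e K hsolv τ R hS hodd M hMK hnil' hH₁K p m hp hpm hdvd

end Cfsg.Agent.Lib.Helper10
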