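import Mathlib
import Cfsg.Prelude.Def_SporadicCombinatorics
import Cfsg.Agent.Lib.Helper10.QStabB
set_option autoImplicit false

/-!
The quartet stabiliser: conjugation on the normal subgroup of order nine gives a homomorphism onto
`GL (Fin 2) (ZMod 3)` with that subgroup as kernel.
-/

namespace Cfsg.Agent.Lib.Helper10.QStab
open Cfsg Cfsg.Agent.Lib.Helper28.GolayCode Cfsg.Agent.Lib.Helper28.M24Fam
  Cfsg.Agent.Lib.Helper10.Sextet
open scoped Pointwise

/-- the base dodecad. -/
abbrev d0s : Finset GolayPt :=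
  Cfsg.Agent.Lib.Helper3.Golay.bitSet Cfsg.Agent.Lib.Helper3.Golay.d0

/-- the base quartet. -/
abbrev Q0s : Finset (Finset GolayPt) := Cfsg.Agent.Lib.Helper10.Quartet.Q0

/-- the stabiliser of the base quartet. -/
abbrev G0 : Type := ↥(QH d0s Q0s)

theorem d0s_eq : d0s = bset dm := d0_eq

theorem Q0s_eq : Q0s = fam q0l := Q0_eq

theorem entry_spec432 {P : ℕ} (hP : P ∈ L432) :
    inM24 P = true ∧ P < 2 ^ 120 ∧ applyMask P dm = dm ∧
      famEq (q0l.map (applyMask P)) q0l = true := by
  have := List.all_eq_true.mp L432_ok P hP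
  unfold entryOK432 at this
  simp only [Bool.and_eq_true, nat_beq_iff] at this
  obtain ⟨h1, h2, h3, h4⟩ := this
  exact ⟨h1, by simpa using h2, h3, h4⟩

theorem isPerm_of_mem432 {P : ℕ} (hP : P ∈ L432) : isPerm P = true :=
  isPerm_of_inM24 P (entry_spec432 hP).1

theorem mem_HSet_of_mem {P : ℕ} (hP : P ∈ L432) : permOf P ∈ HSet d0s Q0s := by
  obtain ⟨h1, _, h3, h4⟩ := entry_spec432 hP
  have hp := isPerm_of_inM24 P h1
  refine ⟨permOf_mem_M24 P h1, ?_, ?_⟩
  · rw [d0s_eq, permOf_smul_bset P hp, h3]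
  · rw [Q0s_eq, smul_fam P hp]
    exact fam_eq_of_famEq h4

theorem permOf_injOn432 : Set.InjOn permOf {P | P ∈ L432} := by
  intro P hP Q hQ h
  exact packed_inj (isPerm_of_mem432 hP) (isPerm_of_mem432 hQ) (entry_spec432 hP).2.1
    (entry_spec432 hQ).2.1 h

theorem HSet_base : HSet d0s Q0s = permOf '' {P | P ∈ L432} := by
  symm
  apply Set.eq_of_subset_of_ncard_le
  · rintro _ ⟨P, hP, rfl⟩
    exact mem_HSet_of_mem hP
  · rw [ncard_HSet, card_QH Cfsg.Agent.Lib.Helper3.Golay.d0_mem
      Cfsg.Agent.Lib.Helper10.Quartet.Q0_mem, Set.InjOn.ncard_image permOf_injOn432,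
      ncard_list L432 (nodup_of_nodupB _ L432_nodupB), L432_length]
  · exact Set.toFinite _

theorem exists_packed (g : G0) : ∃ P ∈ L432, valH d0s Q0s g = permOf P := by
  have h := valH_mem g
  rw [HSet_base] at h
  obtain ⟨P, hP, hPe⟩ := h
  exact ⟨P, hP, hPe.symm⟩

/-! ### the normal subgroup of order nine -/

/-- the plane over the field of three elements. -/
abbrev V2 : Type := Fin 2 → ZMod 3

/-- the index `0..8` of a vector. -/
def code2 (v : V2) : ℕ := (v 0).val + 3 * (v 1).val

theorem code2_lt : ∀ v : V2, code2 v < 9 := by decide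

theorem code2_inj : ∀ v w : V2, code2 v = code2 w → v = w := by decide

theorem code2_add : ∀ v w : V2, code2 (v + w) = addIdx (code2 v) (code2 w) := by decide

theorem exists_code2 : ∀ j < 9, ∃ v : V2, code2 v = j := by decide

theorem n9_mem_N9 : ∀ i < 9, n9 i ∈ N9 := by decide

theorem n9_inj : ∀ i < 9, ∀ j < 9, n9 i = n9 j → i = j := by decide

theorem exists_n9 : ∀ P ∈ N9, ∃ j < 9, P = n9 j := by decide

theorem n9_mem {i : ℕ} (hi : i < 9) : n9 i ∈ L432 := by
  have h1 := List.all_eq_true.mp N9_sub (n9 i) (n9_mem_N9 i hi)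
  rw [List.any_eq_true] at h1
  obtain ⟨Q, hQ, hPQ⟩ := h1
  rw [nat_beq_iff] at hPQ
  rw [hPQ]; exact hQ

/-- the element of the normal subgroup attached to a vector. -/
noncomputable def nv (v : V2) : Equiv.Perm GolayPt := permOf (n9 (code2 v))

theorem nv_mem (v : V2) : nv v ∈ HSet d0s Q0s := mem_HSet_of_mem (n9_mem (code2_lt v))

theorem nv_add (v w : V2) : nv (v + w) = nv v * nv w := by
  unfold nv
  rw [code2_add]
  have h := List.all_eq_true.mp (List.all_eq_true.mp N9_mul (code2 v)
    (List.mem_range.mpr (code2_lt v))) (code2 w) (List.mem_range.mpr (code2_lt w))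
  have hlt : addIdx (code2 v) (code2 w) < 9 := by rw [← code2_add]; exact code2_lt _
  exact (mulOK_sound (isPerm_of_mem432 (n9_mem (code2_lt v)))
    (isPerm_of_mem432 (n9_mem (code2_lt w))) (isPerm_of_mem432 (n9_mem hlt)) h).symm

theorem nv_injective : Function.Injective nv := by
  intro v w h
  apply code2_inj
  apply n9_inj _ (code2_lt v) _ (code2_lt w)
  exact permOf_injOn432 (n9_mem (code2_lt v)) (n9_mem (code2_lt w)) h

theorem nv_comm (v w : V2) : nv v * nv w = nv w * nv v := by
  rw [← nv_add, ← nv_add, add_comm]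

/-! ### the conjugation action -/

theorem conjOK_sound {P N N' : ℕ} (hP : isPerm P = true) (hN : isPerm N = true)
    (hN' : isPerm N' = true) (h : conjOK P N N' = true) :
    permOf P * permOf N = permOf N' * permOf P := by
  unfold conjOK at h
  rw [List.all_eq_true] at h
  apply perm_ext_dec
  intro i hi
  rw [permOf_mul_apply hP hN i hi, permOf_mul_apply hN' hP i hi]
  have := h i (List.mem_range.mpr hi)
  rw [nat_beq_iff] at this
  rw [this]

theorem exists_actQ (g : G0) (v : V2) :
    ∃ w : V2, valH d0s Q0s g * nv v * (valH d0s Q0s g)⁻¹ = nv w := by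
  obtain ⟨P, hP, hPe⟩ := exists_packed g
  have h := List.all_eq_true.mp (List.all_eq_true.mp N9_conj P hP) (code2 v)
    (List.mem_range.mpr (code2_lt v))
  rw [List.any_eq_true] at h
  obtain ⟨j, hj, hc⟩ := h
  rw [List.mem_range] at hj
  obtain ⟨w, rfl⟩ := exists_code2 j hj
  refine ⟨w, ?_⟩
  rw [hPe, mul_inv_eq_iff_eq_mul]
  exact conjOK_sound (isPerm_of_mem432 hP) (isPerm_of_mem432 (n9_mem (code2_lt v)))
    (isPerm_of_mem432 (n9_mem (code2_lt w))) hc

/-- the conjugation action on vectors. -/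
noncomputable def actQ (g : G0) (v : V2) : V2 := Classical.choose (exists_actQ g v)

theorem actQ_spec (g : G0) (v : V2) :
    valH d0s Q0s g * nv v * (valH d0s Q0s g)⁻¹ = nv (actQ g v) :=
  Classical.choose_spec (exists_actQ g v)

theorem actQ_unique (g : G0) {v w : V2}
    (h : valH d0s Q0s g * nv v * (valH d0s Q0s g)⁻¹ = nv w) : actQ g v = w :=
  nv_injective ((actQ_spec g v).symm.trans h)

theorem valH_one : valH d0s Q0s (1 : G0) = 1 := rfl

theorem valH_mul (g h : G0) : valH d0s Q0s (g * h) = valH d0s Q0s g * valH d0s Q0s h := rfl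

theorem actQ_one (v : V2) : actQ (1 : G0) v = v := by
  apply actQ_unique
  rw [valH_one, one_mul, inv_one, mul_one]

theorem actQ_mul (g h : G0) (v : V2) : actQ (g * h) v = actQ g (actQ h v) := by
  apply actQ_unique
  rw [valH_mul, ← actQ_spec g, ← actQ_spec h]
  group

theorem actQ_add (g : G0) (v w : V2) : actQ g (v + w) = actQ g v + actQ g w := by
  apply actQ_unique
  rw [nv_add, nv_add, ← actQ_spec g v, ← actQ_spec g w]
  group

/-- the action as a homomorphism to the linear endomorphisms. -/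
noncomputable def actHomQ : G0 →* Module.End (ZMod 3) V2 where
  toFun g := (AddMonoidHom.mk' (actQ g) (actQ_add g)).toZModLinearMap 3
  map_one' := LinearMap.ext fun v => actQ_one v
  map_mul' g h := LinearMap.ext fun v => actQ_mul g h v

/-- the homomorphism to the general linear group. -/
noncomputable def FQ : G0 →* GL (Fin 2) (ZMod 3) :=
  (Matrix.GeneralLinearGroup.toLin (n := Fin 2) (R := ZMod 3)).symm.toMonoidHom.comp
    actHomQ.toHomUnits

theorem FQ_eq_one_iff (g : G0) : FQ g = 1 ↔ ∀ v, actQ g v = v := by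
  unfold FQ
  rw [MonoidHom.comp_apply, MulEquiv.coe_toMonoidHom, MulEquiv.map_eq_one_iff, Units.ext_iff,
    MonoidHom.coe_toHomUnits, Units.val_one, LinearMap.ext_iff]
  rfl

theorem code2_e1 : code2 ![1, 0] = 1 := by decide

theorem code2_e2 : code2 ![0, 1] = 3 := by decide

theorem mem_ker_FQ (g : G0) : g ∈ FQ.ker ↔ valH d0s Q0s g ∈ Set.range nv := by
  rw [MonoidHom.mem_ker, FQ_eq_one_iff]
  constructor
  · intro h
    obtain ⟨P, hP, hPe⟩ := exists_packed g
    have hp := isPerm_of_mem432 hP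
    have c1 : permOf P * permOf (n9 1) = permOf (n9 1) * permOf P := by
      have := actQ_spec g ![1, 0]
      rw [h, mul_inv_eq_iff_eq_mul, hPe] at this
      unfold nv at this
      rw [code2_e1] at this
      exact this
    have c3 : permOf P * permOf (n9 3) = permOf (n9 3) * permOf P := by
      have := actQ_spec g ![0, 1]
      rw [h, mul_inv_eq_iff_eq_mul, hPe] at this
      unfold nv at this
      rw [code2_e2] at this
      exact this
    have k1 := commP_complete hp (isPerm_of_mem432 (n9_mem (by norm_num : 1 < 9))) c1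
    have k3 := commP_complete hp (isPerm_of_mem432 (n9_mem (by norm_num : 3 < 9))) c3
    have h2 := List.all_eq_true.mp N9_cent P hP
    rw [k1, k3] at h2
    simp only [Bool.and_self, Bool.not_true, Bool.false_or, List.any_eq_true, nat_beq_iff] at h2
    obtain ⟨Q, hQ, rfl⟩ := h2
    obtain ⟨j, hj, rfl⟩ := exists_n9 P hQ
    obtain ⟨w, rfl⟩ := exists_code2 j hj
    exact ⟨w, hPe.symm⟩
  · rintro ⟨w, hw⟩ v
    apply actQ_unique
    rw [← hw, nv_comm, mul_inv_cancel_right]

theorem ncard_range_nv : (Set.range nv).ncard = 9 := by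
  rw [← Set.image_univ, Set.ncard_image_of_injective _ nv_injective, Set.ncard_univ,
    Nat.card_eq_fintype_card]
  decide

theorem card_ker_FQ : Nat.card ↥FQ.ker = 9 := by
  rw [← ncard_range_nv, ← ncard_preimage_valH (d := d0s) (Q := Q0s) (Set.range nv)
    (by rintro _ ⟨v, rfl⟩; exact nv_mem v), ← Nat.card_coe_set_eq]
  apply Nat.card_congr
  apply Equiv.subtypeEquivRight
  intro g
  exact mem_ker_FQ g

theorem card_GL23 : Nat.card (GL (Fin 2) (ZMod 3)) = 48 := by
  rw [Matrix.card_GL_field, ZMod.card, Fin.prod_univ_two]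
  decide

theorem FQ_surjective : Function.Surjective FQ := by
  rw [← MonoidHom.range_eq_top]
  apply Subgroup.eq_top_of_card_eq
  have h1 := Subgroup.card_mul_index FQ.ker
  rw [Subgroup.index_ker, card_ker_FQ, card_QH Cfsg.Agent.Lib.Helper3.Golay.d0_mem
    Cfsg.Agent.Lib.Helper10.Quartet.Q0_mem] at h1
  rw [card_GL23]
  omega

theorem enc_mem_dm {p : GolayPt} (hp : p ∈ d0s) : dm.testBit (enc p) = true := by
  have : p ∈ bset dm := by rw [← d0s_eq]; exact hp
  exact (mem_bset dm p).mp this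

theorem qstructure_base : QStructure d0s Q0s := by
  refine ⟨⟨FQ.ker, MonoidHom.normal_ker FQ, card_ker_FQ,
    ⟨QuotientGroup.quotientKerEquivOfSurjective FQ FQ_surjective⟩⟩, ?_⟩
  intro p hp q hq
  obtain ⟨P, hP, hPq⟩ := L432_trans (enc p) (enc_lt p) (enc_mem_dm hp) (enc q) (enc_lt q)
    (enc_mem_dm hq)
  refine ⟨(mkH (mem_HSet_of_mem hP) : G0), (mkH (mem_HSet_of_mem hP)).2, ?_⟩
  show permOf P p = q
  have := permOf_apply_dec P (isPerm_of_mem432 hP) (enc p) (enc_lt p)
  rw [dec_enc, hPq, dec_enc] at this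
  exact this

/-- Structure of a quartet stabiliser. -/
theorem quartet_stabilizer (d : Finset GolayPt) (hd : d ∈ dodecads)
    (Q : Finset (Finset GolayPt)) (hQ : Q ∈ quartets d) :
    Nat.card ↥(MulAction.stabilizer Cfsg.M24 d ⊓ MulAction.stabilizer Cfsg.M24 Q) = 432 ∧
    (∃ (N : Subgroup ↥(MulAction.stabilizer Cfsg.M24 d ⊓ MulAction.stabilizer Cfsg.M24 Q))
      (_ : N.Normal), Nat.card N = 9 ∧
      Nonempty (↥(MulAction.stabilizer Cfsg.M24 d ⊓ MulAction.stabilizer Cfsg.M24 Q) ⧸ N ≃*
        GL (Fin 2) (ZMod 3))) ∧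
    ∀ p ∈ d, ∀ q ∈ d, ∃ g ∈ (MulAction.stabilizer Cfsg.M24 d ⊓ MulAction.stabilizer Cfsg.M24 Q),
      ((g : ↥Cfsg.M24) : Equiv.Perm Cfsg.GolayPt) p = q := by
  have h := qstructure_of_base qstructure_base hd hQ
  exact ⟨card_QH hd hQ, h.1, h.2⟩

end Cfsg.Agent.Lib.Helper10.QStab
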