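import Mathlib
import Cfsg.Prelude.Def_SporadicCombinatorics
import Cfsg.Agent.Lib.Helper10.QStabC
set_option autoImplicit false

/-!
Orbits of a quartet stabiliser on the quartets of the dodecad: the orbits as sets of plain
families, transport along `M24`, and counting families given by lists of masks.
-/

namespace Cfsg.Agent.Lib.Helper10.QStab
open Cfsg Cfsg.Agent.Lib.Helper28.GolayCode Cfsg.Agent.Lib.Helper28.M24Fam
  Cfsg.Agent.Lib.Helper10.Sextet Cfsg.Agent.Lib.Helper10.Quartet
open scoped Pointwise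

/-- the orbit of a family under the quartet stabiliser, via plain permutations. -/
def OrbSet (d : Finset GolayPt) (Q X : Finset (Finset GolayPt)) : Set (Finset (Finset GolayPt)) :=
  {Y | ∃ x ∈ HSet d Q, x • X = Y}

theorem orbit_eq_OrbSet (d : Finset GolayPt) (Q X : Finset (Finset GolayPt)) :
    MulAction.orbit ↥(QH d Q) X = OrbSet d Q X := by
  ext Y
  constructor
  · rintro ⟨g, rfl⟩
    exact ⟨valH d Q g, valH_mem g, rfl⟩
  · rintro ⟨x, hx, rfl⟩
    exact ⟨mkH hx, rfl⟩

theorem conj_mem_HSet {d : Finset GolayPt} {Q : Finset (Finset GolayPt)}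
    {g x : Equiv.Perm GolayPt} (hg : g ∈ M24) (hx : x ∈ HSet d Q) :
    g * x * g⁻¹ ∈ HSet (g • d) (g • Q) := by
  refine ⟨M24.mul_mem (M24.mul_mem hg hx.1) (M24.inv_mem hg), ?_, ?_⟩
  · rw [mul_smul, mul_smul, inv_smul_smul, hx.2.1]
  · rw [mul_smul, mul_smul, inv_smul_smul, hx.2.2]

theorem OrbSet_smul {d : Finset GolayPt} {Q : Finset (Finset GolayPt)} {g : Equiv.Perm GolayPt}
    (hg : g ∈ M24) (X : Finset (Finset GolayPt)) :
    OrbSet (g • d) (g • Q) (g • X) = (fun Y => g • Y) '' OrbSet d Q X := by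
  ext Y
  constructor
  · rintro ⟨x, hx, rfl⟩
    refine ⟨(g⁻¹ * x * g) • X, ⟨g⁻¹ * x * g, ?_, rfl⟩, ?_⟩
    · have := conj_mem_HSet (M24.inv_mem hg) hx
      rwa [inv_smul_smul, inv_smul_smul, inv_inv] at this
    · show g • (g⁻¹ * x * g) • X = x • g • X
      rw [← mul_smul, ← mul_smul]
      congr 1
      group
  · rintro ⟨_, ⟨x, hx, rfl⟩, rfl⟩
    refine ⟨g * x * g⁻¹, conj_mem_HSet hg hx, ?_⟩
    rw [mul_smul, mul_smul, inv_smul_smul]

theorem smul_family_injective (g : Equiv.Perm GolayPt) :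
    Function.Injective (fun Y : Finset (Finset GolayPt) => g • Y) := MulAction.injective g

theorem quartets_smul {g : Equiv.Perm GolayPt} (hg : g ∈ M24) (d : Finset GolayPt) :
    quartets (g • d) = (fun Y => g • Y) '' quartets d := by
  ext Y
  constructor
  · intro hY
    refine ⟨g⁻¹ • Y, ?_, smul_inv_smul g Y⟩
    have := smul_mem_quartets (M24.inv_mem hg) hY
    rwa [inv_smul_smul] at this
  · rintro ⟨X, hX, rfl⟩
    exact smul_mem_quartets hg hX

/-- the orbit statement, in terms of `OrbSet`. -/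
def QOrbits (d : Finset GolayPt) (Q : Finset (Finset GolayPt)) : Prop :=
  ∃ X₁ ∈ quartets d, ∃ X₂ ∈ quartets d, ∃ X₃ ∈ quartets d, ∃ X₄ ∈ quartets d,
    (OrbSet d Q X₁).ncard = 12 ∧ (OrbSet d Q X₂).ncard = 27 ∧ (OrbSet d Q X₃).ncard = 72 ∧
    (OrbSet d Q X₄).ncard = 108 ∧
    quartets d = {Q} ∪ OrbSet d Q X₁ ∪ OrbSet d Q X₂ ∪ OrbSet d Q X₃ ∪ OrbSet d Q X₄

theorem qorbits_smul {d : Finset GolayPt} {Q : Finset (Finset GolayPt)} {g : Equiv.Perm GolayPt}
    (hg : g ∈ M24) (h : QOrbits d Q) : QOrbits (g • d) (g • Q) := by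
  obtain ⟨X₁, h1, X₂, h2, X₃, h3, X₄, h4, c1, c2, c3, c4, hU⟩ := h
  refine ⟨g • X₁, smul_mem_quartets hg h1, g • X₂, smul_mem_quartets hg h2,
    g • X₃, smul_mem_quartets hg h3, g • X₄, smul_mem_quartets hg h4, ?_, ?_, ?_, ?_, ?_⟩
  · rw [OrbSet_smul hg, Set.ncard_image_of_injective _ (smul_family_injective g), c1]
  · rw [OrbSet_smul hg, Set.ncard_image_of_injective _ (smul_family_injective g), c2]
  · rw [OrbSet_smul hg, Set.ncard_image_of_injective _ (smul_family_injective g), c3]
  · rw [OrbSet_smul hg, Set.ncard_image_of_injective _ (smul_family_injective g), c4]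
  · rw [quartets_smul hg, hU, OrbSet_smul hg, OrbSet_smul hg, OrbSet_smul hg, OrbSet_smul hg,
      Set.image_union, Set.image_union, Set.image_union, Set.image_union, Set.image_singleton]

theorem qorbits_of_base (h : QOrbits d0s Q0s) {d : Finset GolayPt} (hd : d ∈ dodecads)
    {Q : Finset (Finset GolayPt)} (hQ : Q ∈ quartets d) : QOrbits d Q := by
  obtain ⟨g, rfl, rfl⟩ := exists_map_base hd hQ
  exact qorbits_smul g.2 h

/-! ### counting families given by lists -/

/-- the listed families are pairwise different. -/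
def famNodupB : List (List ℕ) → Bool
  | [] => true
  | l :: L => (L.all fun l' => !(famEq l l')) && famNodupB L

theorem nodup_map_fam : ∀ (L : List (List ℕ)), (∀ l ∈ L, ∀ m ∈ l, m < 2 ^ 24) →
    famNodupB L = true → (L.map fam).Nodup
  | [], _, _ => List.nodup_nil
  | l :: L, hlt, h => by
    unfold famNodupB at h
    rw [Bool.and_eq_true, List.all_eq_true] at h
    rw [List.map_cons, List.nodup_cons]
    refine ⟨?_, nodup_map_fam L (fun l' hl' => hlt l' (List.mem_cons_of_mem _ hl')) h.2⟩
    intro hmem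
    rw [List.mem_map] at hmem
    obtain ⟨l', hl', he⟩ := hmem
    have h1 := h.1 l' hl'
    have h2 : famEq l l' = true :=
      (famEq_iff (hlt l List.mem_cons_self) (hlt l' (List.mem_cons_of_mem _ hl'))).mpr he.symm
    rw [h2] at h1
    exact absurd h1 (by decide)

theorem ncard_fam_image (L : List (List ℕ)) (hlt : ∀ l ∈ L, ∀ m ∈ l, m < 2 ^ 24)
    (h : famNodupB L = true) : (fam '' {l | l ∈ L}).ncard = L.length := by
  have e : fam '' {l | l ∈ L} = ↑(L.map fam).toFinset := by
    ext S
    simp only [Set.mem_image, Set.mem_setOf_eq, List.coe_toFinset, List.mem_map]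
  rw [e, Set.ncard_coe_finset, List.toFinset_card_of_nodup (nodup_map_fam L hlt h),
    List.length_map]

/-! ### orbits of the base stabiliser -/

theorem smul_fam_of_mem {P : ℕ} (hP : P ∈ L432) (l : List ℕ) :
    permOf P • fam l = fam (l.map (applyMask P)) := smul_fam P (isPerm_of_mem432 hP) l

/-- the orbit of `fam rep` under the base stabiliser is the listed set of families. -/
theorem orbSet_base (rep : List ℕ) (certs : List ℕ) (imgs : List (List ℕ))
    (h1 : ((certs.zip imgs).all fun c => (L432.any fun Q => Nat.beq c.1 Q) &&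
      famEq (rep.map (applyMask c.1)) c.2) = true)
    (hlen : certs.length = imgs.length)
    (h2 : (L432.all fun P => imgs.any fun l => famEq (rep.map (applyMask P)) l) = true) :
    OrbSet d0s Q0s (fam rep) = fam '' {l | l ∈ imgs} := by
  ext Y
  constructor
  · rintro ⟨x, hx, rfl⟩
    rw [HSet_base] at hx
    obtain ⟨P, hP, rfl⟩ := hx
    have := List.all_eq_true.mp h2 P hP
    rw [List.any_eq_true] at this
    obtain ⟨l, hl, hle⟩ := this
    exact ⟨l, hl, by rw [smul_fam_of_mem hP]; exact (fam_eq_of_famEq hle).symm⟩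
  · rintro ⟨l, hl, rfl⟩
    obtain ⟨i, hi, rfl⟩ := List.getElem_of_mem hl
    have hi' : i < certs.length := by rw [hlen]; exact hi
    have hz : (certs[i], imgs[i]) ∈ certs.zip imgs := by
      have hiz : i < (certs.zip imgs).length := by
        rw [List.length_zip, ← hlen, Nat.min_self]; exact hi'
      have := List.getElem_mem hiz
      rwa [List.getElem_zip] at this
    have h3 := List.all_eq_true.mp h1 _ hz
    rw [Bool.and_eq_true, List.any_eq_true] at h3
    obtain ⟨⟨Q, hQ, hcQ⟩, he⟩ := h3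
    rw [nat_beq_iff] at hcQ
    have hcQ' : certs[i] = Q := hcQ
    have he' : famEq (List.map (applyMask certs[i]) rep) imgs[i] = true := he
    have hP : certs[i] ∈ L432 := by rw [hcQ']; exact hQ
    exact ⟨permOf certs[i], by rw [HSet_base]; exact ⟨_, hP, rfl⟩,
      by rw [smul_fam_of_mem hP]; exact fam_eq_of_famEq he'⟩

/-- a family obtained from the base quartet by a packed element of the dodecad stabiliser is a
quartet. -/
theorem mem_quartets_of_cert (g : ℕ) (rep : List ℕ)
    (h : (inM24 g && (Nat.beq (applyMask g dm) dm && famEq (q0l.map (applyMask g)) rep)) = true) :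
    fam rep ∈ quartets d0s := by
  simp only [Bool.and_eq_true, nat_beq_iff] at h
  obtain ⟨h1, h2, h3⟩ := h
  have hp := isPerm_of_inM24 g h1
  have := smul_mem_quartets (permOf_mem_M24 g h1) Q0_mem
  have hd : permOf g • d0s = d0s := by rw [d0s_eq, permOf_smul_bset g hp, h2]
  rw [hd] at this
  have hQ : permOf g • Q0s = fam rep := by
    rw [Q0s_eq, smul_fam g hp]
    exact fam_eq_of_famEq h3
  rw [← hQ]
  exact this

theorem orbSet_subset_quartets {X : Finset (Finset GolayPt)} (hX : X ∈ quartets d0s) :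
    OrbSet d0s Q0s X ⊆ quartets d0s := by
  rintro _ ⟨x, hx, rfl⟩
  have := smul_mem_quartets hx.1 hX
  rwa [hx.2.1] at this

end Cfsg.Agent.Lib.Helper10.QStab
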