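import Mathlib
import Cfsg.Prelude.Def_SporadicCombinatorics
import Cfsg.Agent.Lib.Helper10.QOrbB
set_option autoImplicit false

/-!
A quartet stabiliser has five orbits on the quartets of its dodecad, of sizes 1, 12, 27, 72, 108.
-/

namespace Cfsg.Agent.Lib.Helper10.QStab
open Cfsg Cfsg.Agent.Lib.Helper28.GolayCode Cfsg.Agent.Lib.Helper28.M24Fam
  Cfsg.Agent.Lib.Helper10.Sextet Cfsg.Agent.Lib.Helper10.Quartet
open scoped Pointwise

theorem allQ_lt' : ∀ l ∈ allQ, ∀ m ∈ l, m < 2 ^ 24 := by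
  intro l hl m hm
  have := List.all_eq_true.mp (List.all_eq_true.mp allQ_lt l hl) m hm
  simpa using this

theorem mem_allQ_of_mem12 {l : List ℕ} (h : l ∈ imgs12) : l ∈ allQ :=
  List.mem_cons_of_mem _ (List.mem_append_left _ h)

theorem mem_allQ_of_mem27 {l : List ℕ} (h : l ∈ imgs27) : l ∈ allQ :=
  List.mem_cons_of_mem _ (List.mem_append_right _ (List.mem_append_left _ h))

theorem mem_allQ_of_mem72 {l : List ℕ} (h : l ∈ imgs72) : l ∈ allQ :=
  List.mem_cons_of_mem _ (List.mem_append_right _ (List.mem_append_right _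
    (List.mem_append_left _ h)))

theorem mem_allQ_of_mem108 {l : List ℕ} (h : l ∈ imgs108) : l ∈ allQ :=
  List.mem_cons_of_mem _ (List.mem_append_right _ (List.mem_append_right _
    (List.mem_append_right _ h)))

theorem orb12 : OrbSet d0s Q0s (fam rep12) = fam '' {l | l ∈ imgs12} :=
  orbSet_base rep12 certs12 imgs12 certs_ok12 len12.1 cover12

theorem orb27 : OrbSet d0s Q0s (fam rep27) = fam '' {l | l ∈ imgs27} :=
  orbSet_base rep27 certs27 imgs27 certs_ok27 len27.1 cover27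

theorem orb72 : OrbSet d0s Q0s (fam rep72) = fam '' {l | l ∈ imgs72} :=
  orbSet_base rep72 certs72 imgs72 certs_ok72 len72.1 cover72

theorem orb108 : OrbSet d0s Q0s (fam rep108) = fam '' {l | l ∈ imgs108} :=
  orbSet_base rep108 certs108 imgs108 certs_ok108 len108.1 cover108

theorem union_eq : ({Q0s} : Set (Finset (Finset GolayPt))) ∪ fam '' {l | l ∈ imgs12} ∪
    fam '' {l | l ∈ imgs27} ∪ fam '' {l | l ∈ imgs72} ∪ fam '' {l | l ∈ imgs108} =
    fam '' {l | l ∈ allQ} := by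
  ext S
  simp only [Set.mem_union, Set.mem_singleton_iff, Set.mem_image, Set.mem_setOf_eq, allQ,
    List.mem_cons, List.mem_append]
  constructor
  · rintro ((((h | ⟨l, hl, rfl⟩) | ⟨l, hl, rfl⟩) | ⟨l, hl, rfl⟩) | ⟨l, hl, rfl⟩)
    · exact ⟨q0l, Or.inl rfl, by rw [h, Q0s_eq]⟩
    · exact ⟨l, Or.inr (Or.inl hl), rfl⟩
    · exact ⟨l, Or.inr (Or.inr (Or.inl hl)), rfl⟩
    · exact ⟨l, Or.inr (Or.inr (Or.inr (Or.inl hl))), rfl⟩
    · exact ⟨l, Or.inr (Or.inr (Or.inr (Or.inr hl))), rfl⟩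
  · rintro ⟨l, (rfl | hl | hl | hl | hl), rfl⟩
    · exact Or.inl (Or.inl (Or.inl (Or.inl Q0s_eq.symm)))
    · exact Or.inl (Or.inl (Or.inl (Or.inr ⟨l, hl, rfl⟩)))
    · exact Or.inl (Or.inl (Or.inr ⟨l, hl, rfl⟩))
    · exact Or.inl (Or.inr ⟨l, hl, rfl⟩)
    · exact Or.inr ⟨l, hl, rfl⟩

theorem qorbits_base : QOrbits d0s Q0s := by
  have m12 := mem_quartets_of_cert gcert12 rep12 gcert_ok12
  have m27 := mem_quartets_of_cert gcert27 rep27 gcert_ok27
  have m72 := mem_quartets_of_cert gcert72 rep72 gcert_ok72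
  have m108 := mem_quartets_of_cert gcert108 rep108 gcert_ok108
  refine ⟨fam rep12, m12, fam rep27, m27, fam rep72, m72, fam rep108, m108, ?_, ?_, ?_, ?_, ?_⟩
  · rw [orb12, ncard_fam_image imgs12 (fun l hl => allQ_lt' l (mem_allQ_of_mem12 hl)) nodup12,
      len12.2]
  · rw [orb27, ncard_fam_image imgs27 (fun l hl => allQ_lt' l (mem_allQ_of_mem27 hl)) nodup27,
      len27.2]
  · rw [orb72, ncard_fam_image imgs72 (fun l hl => allQ_lt' l (mem_allQ_of_mem72 hl)) nodup72,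
      len72.2]
  · rw [orb108, ncard_fam_image imgs108 (fun l hl => allQ_lt' l (mem_allQ_of_mem108 hl))
      nodup108, len108.2]
  · symm
    apply Set.eq_of_subset_of_ncard_le
    · intro S hS
      rcases hS with (((hS | hS) | hS) | hS) | hS
      · rw [Set.mem_singleton_iff] at hS
        rw [hS]; exact Q0_mem
      · exact orbSet_subset_quartets m12 hS
      · exact orbSet_subset_quartets m27 hS
      · exact orbSet_subset_quartets m72 hS
      · exact orbSet_subset_quartets m108 hS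
    · rw [orb12, orb27, orb72, orb108, union_eq, ncard_fam_image allQ allQ_lt' allQ_nodup,
        allQ_length, ncard_quartets Cfsg.Agent.Lib.Helper3.Golay.d0_mem]
    · exact Set.toFinite _

/-- Orbits of a quartet stabiliser on the quartets of its dodecad. -/
theorem quartet_orbits (d : Finset GolayPt) (hd : d ∈ dodecads) (Q : Finset (Finset GolayPt))
    (hQ : Q ∈ quartets d) :
    ∃ X₁ ∈ Cfsg.quartets d, ∃ X₂ ∈ Cfsg.quartets d, ∃ X₃ ∈ Cfsg.quartets d,
      ∃ X₄ ∈ Cfsg.quartets d,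
      (MulAction.orbit ↥(MulAction.stabilizer Cfsg.M24 d ⊓ MulAction.stabilizer Cfsg.M24 Q)
        X₁).ncard = 12 ∧
      (MulAction.orbit ↥(MulAction.stabilizer Cfsg.M24 d ⊓ MulAction.stabilizer Cfsg.M24 Q)
        X₂).ncard = 27 ∧
      (MulAction.orbit ↥(MulAction.stabilizer Cfsg.M24 d ⊓ MulAction.stabilizer Cfsg.M24 Q)
        X₃).ncard = 72 ∧
      (MulAction.orbit ↥(MulAction.stabilizer Cfsg.M24 d ⊓ MulAction.stabilizer Cfsg.M24 Q)
        X₄).ncard = 108 ∧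
      Cfsg.quartets d = {Q} ∪
        MulAction.orbit ↥(MulAction.stabilizer Cfsg.M24 d ⊓ MulAction.stabilizer Cfsg.M24 Q) X₁ ∪
        MulAction.orbit ↥(MulAction.stabilizer Cfsg.M24 d ⊓ MulAction.stabilizer Cfsg.M24 Q) X₂ ∪
        MulAction.orbit ↥(MulAction.stabilizer Cfsg.M24 d ⊓ MulAction.stabilizer Cfsg.M24 Q) X₃ ∪
        MulAction.orbit ↥(MulAction.stabilizer Cfsg.M24 d ⊓ MulAction.stabilizer Cfsg.M24 Q)
          X₄ := by
  obtain ⟨X₁, h1, X₂, h2, X₃, h3, X₄, h4, c1, c2, c3, c4, hU⟩ :=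
    qorbits_of_base qorbits_base hd hQ
  refine ⟨X₁, h1, X₂, h2, X₃, h3, X₄, h4, ?_, ?_, ?_, ?_, ?_⟩
  · rw [orbit_eq_OrbSet d Q X₁]; exact c1
  · rw [orbit_eq_OrbSet d Q X₂]; exact c2
  · rw [orbit_eq_OrbSet d Q X₃]; exact c3
  · rw [orbit_eq_OrbSet d Q X₄]; exact c4
  · rw [orbit_eq_OrbSet d Q X₁, orbit_eq_OrbSet d Q X₂, orbit_eq_OrbSet d Q X₃,
      orbit_eq_OrbSet d Q X₄]
    exact hU

end Cfsg.Agent.Lib.Helper10.QStab
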