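/-
Quartets of a dodecad (helper10): transport along M24, hexads sharing five points, the base
configuration by kernel computation.
-/
import Mathlib
import Cfsg.Prelude.Def_SporadicCombinatorics
import Cfsg.Agent.Lib.Helper3.Golay.Dodecad3

set_option autoImplicit false

namespace Cfsg.Agent.Lib.Helper10.Quartet

open Cfsg Cfsg.Agent.Lib.Helper3.Golay
open scoped Pointwise

/-! ### transport -/

theorem smul_mem_hexadsOn {g : Equiv.Perm GolayPt} (hg : g ∈ M24) {d h : Finset GolayPt}
    (hh : h ∈ hexadsOn d) : g • h ∈ hexadsOn (g • d) := by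
  obtain ⟨hcard, o, ho, hod⟩ := hh
  refine ⟨by rw [Finset.card_smul_finset]; exact hcard, g • o, smul_mem_octads hg ho, ?_⟩
  rw [← Finset.smul_finset_inter, hod]

theorem smul_mem_quartets {g : Equiv.Perm GolayPt} (hg : g ∈ M24) {d : Finset GolayPt}
    {Q : Finset (Finset GolayPt)} (hQ : Q ∈ quartets d) : g • Q ∈ quartets (g • d) := by
  obtain ⟨hcard, htri, hpair⟩ := hQ
  refine ⟨by rw [Finset.card_smul_finset]; exact hcard, ?_, ?_⟩
  · intro t ht
    obtain ⟨t', ht', rfl⟩ := Finset.mem_smul_finset.mp ht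
    refine ⟨by rw [Finset.card_smul_finset]; exact (htri t' ht').1, ?_⟩
    exact Finset.smul_finset_subset_smul_finset (htri t' ht').2
  · intro t ht u hu htu
    obtain ⟨t', ht', rfl⟩ := Finset.mem_smul_finset.mp ht
    obtain ⟨u', hu', rfl⟩ := Finset.mem_smul_finset.mp hu
    have hne : t' ≠ u' := by
      rintro rfl
      exact htu rfl
    rw [← Finset.smul_finset_union]
    exact smul_mem_hexadsOn hg (hpair t' ht' u' hu' hne)

/-- the statement transports along `M24` -/
theorem existsUnique_smul {g : Equiv.Perm GolayPt} (hg : g ∈ M24) {d t u : Finset GolayPt}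
    (h : ∃! Q : Finset (Finset GolayPt), Q ∈ quartets d ∧ t ∈ Q ∧ u ∈ Q) :
    ∃! Q : Finset (Finset GolayPt), Q ∈ quartets (g • d) ∧ g • t ∈ Q ∧ g • u ∈ Q := by
  obtain ⟨Q₀, ⟨hQ₀, ht, hu⟩, huniq⟩ := h
  refine ⟨g • Q₀, ⟨smul_mem_quartets hg hQ₀, Finset.smul_mem_smul_finset ht,
    Finset.smul_mem_smul_finset hu⟩, ?_⟩
  rintro Q' ⟨hQ', ht', hu'⟩
  have h1 : g⁻¹ • Q' ∈ quartets d := by
    have := smul_mem_quartets (M24.inv_mem hg) hQ'
    rwa [inv_smul_smul] at this
  have h2 : t ∈ g⁻¹ • Q' := by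
    have := Finset.smul_mem_smul_finset (a := g⁻¹) ht'
    rwa [inv_smul_smul] at this
  have h3 : u ∈ g⁻¹ • Q' := by
    have := Finset.smul_mem_smul_finset (a := g⁻¹) hu'
    rwa [inv_smul_smul] at this
  have := huniq (g⁻¹ • Q') ⟨h1, h2, h3⟩
  rw [← this, smul_inv_smul]

/-- two hexads on `d` sharing five points are equal -/
theorem hexad_eq_of_five {d h₁ h₂ : Finset GolayPt} (h1 : h₁ ∈ hexadsOn d) (h2 : h₂ ∈ hexadsOn d)
    (h5 : 5 ≤ (h₁ ∩ h₂).card) : h₁ = h₂ := by
  obtain ⟨-, o₁, ho₁, rfl⟩ := h1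
  obtain ⟨-, o₂, ho₂, rfl⟩ := h2
  by_cases hne : o₁ = o₂
  · rw [hne]
  · exfalso
    have := octad_inter_le ho₁ ho₂ hne
    have hsub : (o₁ ∩ d) ∩ (o₂ ∩ d) ⊆ o₁ ∩ o₂ := by
      intro p hp
      simp only [Finset.mem_inter] at hp ⊢
      exact ⟨hp.1.1, hp.2.1⟩
    have := Finset.card_le_card hsub
    omega

/-! ### uniqueness -/

theorem hexad_card {d h : Finset GolayPt} (hh : h ∈ hexadsOn d) : h.card = 6 := hh.1

theorem disjoint_of_union_hexad {d t u : Finset GolayPt} (ht : t.card = 3) (hu : u.card = 3)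
    (h : t ∪ u ∈ hexadsOn d) : Disjoint t u := by
  have h6 := hexad_card h
  have := Finset.card_union_add_card_inter t u
  have h0 : (t ∩ u).card = 0 := by omega
  rw [Finset.disjoint_iff_inter_eq_empty]
  exact Finset.card_eq_zero.mp h0

/-- A triple `v` of `d` such that `t ∪ v` is a hexad, meeting a triple `x` (with `t ∪ x` a hexad) in at
least two points, is `x`. -/
theorem triple_eq {d t v x : Finset GolayPt} (ht : t.card = 3) (hv : v.card = 3) (hx : x.card = 3)
    (htv : t ∪ v ∈ hexadsOn d) (htx : t ∪ x ∈ hexadsOn d) (h2 : 2 ≤ (v ∩ x).card) : v = x := by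
  have hdv := disjoint_of_union_hexad ht hv htv
  have hdx := disjoint_of_union_hexad ht hx htx
  have hsub : t ∪ (v ∩ x) ⊆ (t ∪ v) ∩ (t ∪ x) := by
    intro p hp
    simp only [Finset.mem_union, Finset.mem_inter] at hp ⊢
    rcases hp with hp | hp
    · exact ⟨Or.inl hp, Or.inl hp⟩
    · exact ⟨Or.inr hp.1, Or.inr hp.2⟩
  have hd' : Disjoint t (v ∩ x) := hdv.mono_right Finset.inter_subset_left
  have hc : (t ∪ (v ∩ x)).card = 3 + (v ∩ x).card := by
    rw [Finset.card_union_of_disjoint hd', ht]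
  have h5 : 5 ≤ ((t ∪ v) ∩ (t ∪ x)).card := by
    have := Finset.card_le_card hsub
    omega
  have heq := hexad_eq_of_five htv htx h5
  -- v = (t ∪ v) \ t
  have h1 : (t ∪ v) \ t = v := Finset.union_sdiff_cancel_left hdv
  have h2' : (t ∪ x) \ t = x := Finset.union_sdiff_cancel_left hdx
  rw [← h1, ← h2', heq]

/-- the members of a quartet are pairwise disjoint and cover the dodecad -/
theorem quartet_cover {d : Finset GolayPt} (hd : d ∈ dodecads) {Q : Finset (Finset GolayPt)}
    (hQ : Q ∈ quartets d) : Q.biUnion id = d := by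
  obtain ⟨hcard, htri, hpair⟩ := hQ
  have hdisj : ∀ t ∈ Q, ∀ u ∈ Q, t ≠ u → Disjoint (id t) (id u) := by
    intro t ht u hu htu
    exact disjoint_of_union_hexad (htri t ht).1 (htri u hu).1 (hpair t ht u hu htu)
  have hc : (Q.biUnion id).card = 12 := by
    rw [Finset.card_biUnion hdisj]
    have : ∀ t ∈ Q, (id t : Finset GolayPt).card = 3 := fun t ht => (htri t ht).1
    rw [Finset.sum_congr rfl this, Finset.sum_const, hcard]
    rfl
  have hsub : Q.biUnion id ⊆ d := by
    intro p hp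
    obtain ⟨t, ht, hpt⟩ := Finset.mem_biUnion.mp hp
    exact (htri t ht).2 hpt
  apply Finset.eq_of_subset_of_card_le hsub
  rw [hc, hd.2]

/-- two quartets with two common members are equal -/
theorem quartet_unique {d : Finset GolayPt} (hd : d ∈ dodecads) {Q₀ Q : Finset (Finset GolayPt)}
    (hQ₀ : Q₀ ∈ quartets d) (hQ : Q ∈ quartets d) {t u : Finset GolayPt} (htu : t ≠ u)
    (ht₀ : t ∈ Q₀) (hu₀ : u ∈ Q₀) (ht : t ∈ Q) (hu : u ∈ Q) : Q = Q₀ := by
  have hcov := quartet_cover hd hQ₀
  obtain ⟨hcard₀, htri₀, hpair₀⟩ := hQ₀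
  obtain ⟨hcard, htri, hpair⟩ := hQ
  have hsub : Q ⊆ Q₀ := by
    intro v hv
    by_cases hvt : v = t
    · rw [hvt]; exact ht₀
    by_cases hvu : v = u
    · rw [hvu]; exact hu₀
    have htv := hpair t ht v hv (Ne.symm hvt)
    have huv := hpair u hu v hv (Ne.symm hvu)
    have hdtv := disjoint_of_union_hexad (htri t ht).1 (htri v hv).1 htv
    have hduv := disjoint_of_union_hexad (htri u hu).1 (htri v hv).1 huv
    -- the two other members of Q₀
    have hc2 : ((Q₀.erase t).erase u).card = 2 := by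
      rw [Finset.card_erase_of_mem (Finset.mem_erase.mpr ⟨Ne.symm htu, hu₀⟩),
        Finset.card_erase_of_mem ht₀, hcard₀]
    obtain ⟨x, y, hxy, hxy'⟩ := Finset.card_eq_two.mp hc2
    have hx : x ∈ (Q₀.erase t).erase u := by rw [hxy']; simp
    have hy : y ∈ (Q₀.erase t).erase u := by rw [hxy']; simp
    have hx' : x ∈ Q₀ ∧ x ≠ t ∧ x ≠ u := by
      rw [Finset.mem_erase, Finset.mem_erase] at hx
      exact ⟨hx.2.2, hx.2.1, hx.1⟩
    have hy' : y ∈ Q₀ ∧ y ≠ t ∧ y ≠ u := by
      rw [Finset.mem_erase, Finset.mem_erase] at hy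
      exact ⟨hy.2.2, hy.2.1, hy.1⟩
    have hvsub : v ⊆ x ∪ y := by
      intro p hp
      have hpd : p ∈ d := (htri v hv).2 hp
      rw [← hcov] at hpd
      obtain ⟨z, hz, hpz⟩ := Finset.mem_biUnion.mp hpd
      have hzt : z ≠ t := by
        rintro rfl
        exact (Finset.disjoint_left.mp hdtv hpz) hp
      have hzu : z ≠ u := by
        rintro rfl
        exact (Finset.disjoint_left.mp hduv hpz) hp
      have hz' : z ∈ (Q₀.erase t).erase u :=
        Finset.mem_erase.mpr ⟨hzu, Finset.mem_erase.mpr ⟨hzt, hz⟩⟩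
      rw [hxy'] at hz'
      simp only [Finset.mem_insert, Finset.mem_singleton] at hz'
      rcases hz' with rfl | rfl
      · exact Finset.mem_union_left _ hpz
      · exact Finset.mem_union_right _ hpz
    have hcardv : (v ∩ x).card + (v ∩ y).card ≥ 3 := by
      have h1 : v = (v ∩ x) ∪ (v ∩ y) := by
        rw [← Finset.inter_union_distrib_left]
        exact (Finset.inter_eq_left.mpr hvsub).symm
      have h2 := Finset.card_union_le (v ∩ x) (v ∩ y)
      rw [← h1, (htri v hv).1] at h2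
      omega
    rcases Nat.lt_or_ge (v ∩ x).card 2 with h | h
    · have h2 : 2 ≤ (v ∩ y).card := by omega
      have := triple_eq (htri t ht).1 (htri v hv).1 (htri₀ y hy'.1).1 htv
        (hpair₀ t ht₀ y hy'.1 (Ne.symm hy'.2.1)) h2
      rw [this]; exact hy'.1
    · have := triple_eq (htri t ht).1 (htri v hv).1 (htri₀ x hx'.1).1 htv
        (hpair₀ t ht₀ x hx'.1 (Ne.symm hx'.2.1)) h
      rw [this]; exact hx'.1
  exact Finset.eq_of_subset_of_card_le hsub (by rw [hcard, hcard₀])

/-! ### the hexad test on the base dodecad -/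

/-- a fast loop: `f k` holds for some `k < n` -/
def anyBelow (n : ℕ) (f : ℕ → Bool) : Bool := Nat.rec false (fun k ih => ih || f k) n

theorem anyBelow_iff (n : ℕ) (f : ℕ → Bool) : anyBelow n f = true ↔ ∃ k < n, f k = true := by
  induction n with
  | zero => simp [anyBelow]
  | succ n ih =>
    have : anyBelow (n + 1) f = (anyBelow n f || f n) := rfl
    rw [this, Bool.or_eq_true, ih]
    constructor
    · rintro (⟨k, hk, h⟩ | h)
      · exact ⟨k, Nat.lt_succ_of_lt hk, h⟩
      · exact ⟨n, Nat.lt_succ_self n, h⟩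
    · rintro ⟨k, hk, h⟩
      rcases Nat.lt_succ_iff_lt_or_eq.mp hk with h' | h'
      · exact Or.inl ⟨k, h', h⟩
      · rw [h'] at h; exact Or.inr h

/-- `m` is the mask of a hexad on the base dodecad -/
def hexTest (m : ℕ) : Bool :=
  Nat.beq (pc24 m) 6 &&
    anyBelow 4096 (fun c => Nat.beq (pc24 (codeMask c)) 8 && Nat.beq (codeMask c &&& d0) m)

theorem mem_hexadsOn_iff (s : Finset GolayPt) :
    s ∈ hexadsOn (bitSet d0) ↔ hexTest (maskOf s) = true := by
  unfold hexTest
  rw [Bool.and_eq_true, anyBelow_iff]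
  constructor
  · rintro ⟨hcard, o, ho, hod⟩
    obtain ⟨c, hc, rfl⟩ := (mem_supports_iff o).mp ho.1
    have h8 : pc24 (codeMask c) = 8 := by
      have := ho.2
      rwa [card_bitSet'] at this
    refine ⟨?_, c, hc, ?_⟩
    · have : (bitSet (maskOf s)).card = 6 := by rw [bitSet_maskOf]; exact hcard
      rw [card_bitSet'] at this
      rw [this]; rfl
    · rw [Bool.and_eq_true]
      refine ⟨by rw [h8]; rfl, ?_⟩
      have : codeMask c &&& d0 = maskOf s := by
        rw [← hod, ← bitSet_and, maskOf_bitSet]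
        exact lt_of_le_of_lt Nat.and_le_left (codeMask_lt c hc)
      rw [this]
      exact Nat.beq_refl _
  · rintro ⟨h6, c, hc, hcm⟩
    rw [Bool.and_eq_true] at hcm
    have h8 : pc24 (codeMask c) = 8 := Nat.eq_of_beq_eq_true hcm.1
    have hm : codeMask c &&& d0 = maskOf s := Nat.eq_of_beq_eq_true hcm.2
    refine ⟨?_, bitSet (codeMask c), ⟨(mem_supports_iff _).mpr ⟨c, hc, rfl⟩, ?_⟩, ?_⟩
    · have := Nat.eq_of_beq_eq_true h6
      rw [← card_bitSet', bitSet_maskOf] at this
      exact this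
    · rw [card_bitSet']; exact h8
    · rw [← bitSet_and, hm, bitSet_maskOf]

/-! ### the base configuration -/

/-- base triples -/
def t0 : ℕ := 0x7
def u0 : ℕ := 0x150
def v0 : ℕ := 0x42008
def w0 : ℕ := 0x11200
/-- the six points of the base dodecad outside `t0 ∪ u0` -/
def r0 : ℕ := 0x53208

set_option maxRecDepth 100000 in
theorem base_tests : hexTest (t0 ||| u0) = true ∧ hexTest (t0 ||| v0) = true ∧
    hexTest (t0 ||| w0) = true ∧ hexTest (u0 ||| v0) = true ∧ hexTest (u0 ||| w0) = true ∧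
    hexTest (v0 ||| w0) = true := by decide +kernel

theorem masks_lt : t0 < 2 ^ 24 ∧ u0 < 2 ^ 24 ∧ v0 < 2 ^ 24 ∧ w0 < 2 ^ 24 ∧ d0 < 2 ^ 24 := by
  decide +kernel

theorem union_mem_hexadsOn {a b : ℕ} (ha : a < 2 ^ 24) (hb : b < 2 ^ 24)
    (h : hexTest (a ||| b) = true) : bitSet a ∪ bitSet b ∈ hexadsOn (bitSet d0) := by
  rw [mem_hexadsOn_iff, ← bitSet_or, maskOf_bitSet (Nat.or_lt_two_pow ha hb)]
  exact h

theorem bitSet_card3 : (bitSet t0).card = 3 ∧ (bitSet u0).card = 3 ∧ (bitSet v0).card = 3 ∧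
    (bitSet w0).card = 3 := by
  rw [card_bitSet', card_bitSet', card_bitSet', card_bitSet']
  decide +kernel

theorem bitSet_subset {a b : ℕ} (h : a &&& b = a) : bitSet a ⊆ bitSet b := by
  rw [← Finset.inter_eq_left, ← bitSet_and, h]

theorem bitSet_ne {a b : ℕ} (ha : a < 2 ^ 24) (hb : b < 2 ^ 24) (h : a ≠ b) : bitSet a ≠ bitSet b :=
  fun h' => h (bitSet_injective ha hb h')

/-- the base quartet -/
def Q0 : Finset (Finset GolayPt) := {bitSet t0, bitSet u0, bitSet v0, bitSet w0}

theorem Q0_mem : Q0 ∈ quartets (bitSet d0) := by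
  obtain ⟨ht, hu, hv, hw, hd⟩ := masks_lt
  obtain ⟨h1, h2, h3, h4, h5, h6⟩ := base_tests
  obtain ⟨c1, c2, c3, c4⟩ := bitSet_card3
  have n12 : bitSet t0 ≠ bitSet u0 := bitSet_ne ht hu (by decide)
  have n13 : bitSet t0 ≠ bitSet v0 := bitSet_ne ht hv (by decide)
  have n14 : bitSet t0 ≠ bitSet w0 := bitSet_ne ht hw (by decide)
  have n23 : bitSet u0 ≠ bitSet v0 := bitSet_ne hu hv (by decide)
  have n24 : bitSet u0 ≠ bitSet w0 := bitSet_ne hu hw (by decide)
  have n34 : bitSet v0 ≠ bitSet w0 := bitSet_ne hv hw (by decide)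
  have e12 := union_mem_hexadsOn ht hu h1
  have e13 := union_mem_hexadsOn ht hv h2
  have e14 := union_mem_hexadsOn ht hw h3
  have e23 := union_mem_hexadsOn hu hv h4
  have e24 := union_mem_hexadsOn hu hw h5
  have e34 := union_mem_hexadsOn hv hw h6
  refine ⟨?_, ?_, ?_⟩
  · unfold Q0
    rw [Finset.card_insert_of_notMem, Finset.card_insert_of_notMem, Finset.card_insert_of_notMem,
      Finset.card_singleton]
    · simp only [Finset.mem_singleton]; exact n34
    · simp only [Finset.mem_insert, Finset.mem_singleton]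
      rintro (h | h)
      · exact n23 h
      · exact n24 h
    · simp only [Finset.mem_insert, Finset.mem_singleton]
      rintro (h | h | h)
      · exact n12 h
      · exact n13 h
      · exact n14 h
  · intro x hx
    unfold Q0 at hx
    simp only [Finset.mem_insert, Finset.mem_singleton] at hx
    rcases hx with rfl | rfl | rfl | rfl
    · exact ⟨c1, bitSet_subset (by decide +kernel)⟩
    · exact ⟨c2, bitSet_subset (by decide +kernel)⟩
    · exact ⟨c3, bitSet_subset (by decide +kernel)⟩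
    · exact ⟨c4, bitSet_subset (by decide +kernel)⟩
  · intro x hx y hy hxy
    unfold Q0 at hx hy
    simp only [Finset.mem_insert, Finset.mem_singleton] at hx hy
    rcases hx with rfl | rfl | rfl | rfl <;> rcases hy with rfl | rfl | rfl | rfl
    · exact absurd rfl hxy
    · exact e12
    · exact e13
    · exact e14
    · rw [Finset.union_comm]; exact e12
    · exact absurd rfl hxy
    · exact e23
    · exact e24
    · rw [Finset.union_comm]; exact e13
    · rw [Finset.union_comm]; exact e23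
    · exact absurd rfl hxy
    · exact e34
    · rw [Finset.union_comm]; exact e14
    · rw [Finset.union_comm]; exact e24
    · rw [Finset.union_comm]; exact e34
    · exact absurd rfl hxy

theorem base_existsUnique : ∃! Q : Finset (Finset GolayPt),
    Q ∈ quartets (bitSet d0) ∧ bitSet t0 ∈ Q ∧ bitSet u0 ∈ Q := by
  obtain ⟨ht, hu, hv, hw, hd⟩ := masks_lt
  have n12 : bitSet t0 ≠ bitSet u0 := bitSet_ne ht hu (by decide)
  have m1 : bitSet t0 ∈ Q0 := by unfold Q0; simp
  have m2 : bitSet u0 ∈ Q0 := by unfold Q0; simp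
  refine ⟨Q0, ⟨Q0_mem, m1, m2⟩, ?_⟩
  rintro Q ⟨hQ, h1, h2⟩
  exact quartet_unique d0_mem Q0_mem hQ n12 m1 m2 h1 h2

/-! ### transitivity on the configurations `(d, t, u)` -/

theorem six_pts {t u : Finset GolayPt} (ht : t.card = 3) (hu : u.card = 3) (hd : Disjoint t u) :
    ∃ a1 a2 a3 b1 b2 b3 : GolayPt, t = {a1, a2, a3} ∧ u = {b1, b2, b3} ∧
      a1 ≠ a2 ∧ a1 ≠ a3 ∧ a2 ≠ a3 ∧ b1 ≠ b2 ∧ b1 ≠ b3 ∧ b2 ≠ b3 ∧
      (∀ a ∈ t, ∀ b ∈ u, a ≠ b) := by
  obtain ⟨a1, a2, a3, h12, h13, h23, rfl⟩ := Finset.card_eq_three.mp ht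
  obtain ⟨b1, b2, b3, k12, k13, k23, rfl⟩ := Finset.card_eq_three.mp hu
  refine ⟨a1, a2, a3, b1, b2, b3, rfl, rfl, h12, h13, h23, k12, k13, k23, ?_⟩
  intro a ha b hb hab
  rw [hab] at ha
  exact (Finset.disjoint_left.mp hd ha) hb

/-- the stabiliser of a dodecad maps any split hexad to any other -/
theorem stab_map_split {d t u t' u' : Finset GolayPt} (hd : d ∈ dodecads)
    (ht : t.card = 3) (hu : u.card = 3) (hh : t ∪ u ∈ hexadsOn d)
    (ht' : t'.card = 3) (hu' : u'.card = 3) (hh' : t' ∪ u' ∈ hexadsOn d) :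
    ∃ g ∈ M24, g • d = d ∧ g • t = t' ∧ g • u = u' := by
  have hdis := disjoint_of_union_hexad ht hu hh
  have hdis' := disjoint_of_union_hexad ht' hu' hh'
  have hsub : t ∪ u ⊆ d := by
    obtain ⟨-, o, -, ho⟩ := hh
    rw [← ho]; exact Finset.inter_subset_right
  have hsub' : t' ∪ u' ⊆ d := by
    obtain ⟨-, o, -, ho⟩ := hh'
    rw [← ho]; exact Finset.inter_subset_right
  obtain ⟨a1, a2, a3, b1, b2, b3, rfl, rfl, h12, h13, h23, k12, k13, k23, hab⟩ := six_pts ht hu hdis
  obtain ⟨a1', a2', a3', b1', b2', b3', rfl, rfl, h12', h13', h23', k12', k13', k23', hab'⟩ :=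
    six_pts ht' hu' hdis'
  have ma1 : a1 ∈ d := hsub (by simp)
  have ma2 : a2 ∈ d := hsub (by simp)
  have ma3 : a3 ∈ d := hsub (by simp)
  have mb1 : b1 ∈ d := hsub (by simp)
  have mb2 : b2 ∈ d := hsub (by simp)
  have ma1' : a1' ∈ d := hsub' (by simp)
  have ma2' : a2' ∈ d := hsub' (by simp)
  have ma3' : a3' ∈ d := hsub' (by simp)
  have mb1' : b1' ∈ d := hsub' (by simp)
  have mb2' : b2' ∈ d := hsub' (by simp)
  have e11 : a1 ≠ b1 := hab a1 (by simp) b1 (by simp)
  have e12 : a1 ≠ b2 := hab a1 (by simp) b2 (by simp)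
  have e21 : a2 ≠ b1 := hab a2 (by simp) b1 (by simp)
  have e22 : a2 ≠ b2 := hab a2 (by simp) b2 (by simp)
  have e31 : a3 ≠ b1 := hab a3 (by simp) b1 (by simp)
  have e32 : a3 ≠ b2 := hab a3 (by simp) b2 (by simp)
  have e11' : a1' ≠ b1' := hab' a1' (by simp) b1' (by simp)
  have e12' : a1' ≠ b2' := hab' a1' (by simp) b2' (by simp)
  have e21' : a2' ≠ b1' := hab' a2' (by simp) b1' (by simp)
  have e22' : a2' ≠ b2' := hab' a2' (by simp) b2' (by simp)
  have e31' : a3' ≠ b1' := hab' a3' (by simp) b1' (by simp)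
  have e32' : a3' ≠ b2' := hab' a3' (by simp) b2' (by simp)
  obtain ⟨g, hg, hmap⟩ := stab_dodecad_map hd
    (fun i => [a1, a2, a3, b1, b2].getD i a1) (fun i => [a1', a2', a3', b1', b2'].getD i a1') 5 le_rfl
    (by intro i hi; interval_cases i <;> simp [ma1, ma2, ma3, mb1, mb2])
    (by intro i hi; interval_cases i <;> simp [ma1', ma2', ma3', mb1', mb2'])
    (by
      intro i hi j hj
      interval_cases i <;> interval_cases j <;>
        simp [h12, h13, h23, k12, e11, e12, e21, e22, e31, e32, h12.symm, h13.symm, h23.symm,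
          k12.symm, e11.symm, e12.symm, e21.symm, e22.symm, e31.symm, e32.symm])
    (by
      intro i hi j hj
      interval_cases i <;> interval_cases j <;>
        simp [h12', h13', h23', k12', e11', e12', e21', e22', e31', e32', h12'.symm, h13'.symm,
          h23'.symm, k12'.symm, e11'.symm, e12'.symm, e21'.symm, e22'.symm, e31'.symm, e32'.symm])
  have g1 : g a1 = a1' := hmap 0 (by norm_num)
  have g2 : g a2 = a2' := hmap 1 (by norm_num)
  have g3 : g a3 = a3' := hmap 2 (by norm_num)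
  have g4 : g b1 = b1' := hmap 3 (by norm_num)
  have g5 : g b2 = b2' := hmap 4 (by norm_num)
  have hgM : g ∈ M24 := (Subgroup.mem_inf.mp hg).1
  have hgd : g • d = d := (Subgroup.mem_inf.mp hg).2
  have hgt : g • ({a1, a2, a3} : Finset GolayPt) = {a1', a2', a3'} := by
    rw [Finset.smul_finset_insert, Finset.smul_finset_insert, Finset.smul_finset_singleton]
    show ({g a1, g a2, g a3} : Finset GolayPt) = _
    rw [g1, g2, g3]
  have hhex : g • (({a1, a2, a3} : Finset GolayPt) ∪ {b1, b2, b3}) ∈ hexadsOn d := by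
    have := smul_mem_hexadsOn hgM hh
    rwa [hgd] at this
  have h5 : 5 ≤ ((g • (({a1, a2, a3} : Finset GolayPt) ∪ {b1, b2, b3})) ∩
      (({a1', a2', a3'} : Finset GolayPt) ∪ {b1', b2', b3'})).card := by
    have hsubset : ({a1', a2', a3', b1', b2'} : Finset GolayPt) ⊆
        (g • (({a1, a2, a3} : Finset GolayPt) ∪ {b1, b2, b3})) ∩
          (({a1', a2', a3'} : Finset GolayPt) ∪ {b1', b2', b3'}) := by
      intro p hp
      simp only [Finset.mem_insert, Finset.mem_singleton] at hp
      rw [Finset.mem_inter]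
      constructor
      · rcases hp with rfl | rfl | rfl | rfl | rfl
        · rw [← g1]; exact Finset.smul_mem_smul_finset (by simp)
        · rw [← g2]; exact Finset.smul_mem_smul_finset (by simp)
        · rw [← g3]; exact Finset.smul_mem_smul_finset (by simp)
        · rw [← g4]; exact Finset.smul_mem_smul_finset (by simp)
        · rw [← g5]; exact Finset.smul_mem_smul_finset (by simp)
      · rcases hp with rfl | rfl | rfl | rfl | rfl <;> simp
    have hc5 : ({a1', a2', a3', b1', b2'} : Finset GolayPt).card = 5 := by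
      rw [Finset.card_insert_of_notMem, Finset.card_insert_of_notMem, Finset.card_insert_of_notMem,
        Finset.card_insert_of_notMem, Finset.card_singleton]
      · simp only [Finset.mem_singleton]; exact k12'
      · simp only [Finset.mem_insert, Finset.mem_singleton]
        rintro (h | h)
        · exact e31' h
        · exact e32' h
      · simp only [Finset.mem_insert, Finset.mem_singleton]
        rintro (h | h | h)
        · exact h23' h
        · exact e21' h
        · exact e22' h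
      · simp only [Finset.mem_insert, Finset.mem_singleton]
        rintro (h | h | h | h)
        · exact h12' h
        · exact h13' h
        · exact e11' h
        · exact e12' h
    have := Finset.card_le_card hsubset
    omega
  have heq := hexad_eq_of_five hhex hh' h5
  refine ⟨g, hgM, hgd, hgt, ?_⟩
  -- g • u = (g • (t ∪ u)) \ (g • t)
  have h1 : (g • (({a1, a2, a3} : Finset GolayPt) ∪ {b1, b2, b3})) \ (g • ({a1, a2, a3} : Finset GolayPt)) =
      g • ({b1, b2, b3} : Finset GolayPt) := by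
    rw [← Finset.smul_finset_sdiff, Finset.union_sdiff_cancel_left hdis]
  rw [← h1, heq, hgt]
  exact Finset.union_sdiff_cancel_left hdis'

/-- **S1596**: two disjoint triples of a dodecad uniting to a hexad lie in exactly one quartet. -/
theorem quartet_existsUnique (d : Finset GolayPt) (hd : d ∈ dodecads) (t u : Finset GolayPt)
    (ht : t.card = 3) (hu : u.card = 3) (hh : t ∪ u ∈ hexadsOn d) :
    ∃! Q : Finset (Finset GolayPt), Q ∈ quartets d ∧ t ∈ Q ∧ u ∈ Q := by
  obtain ⟨g₁, hg₁, hg₁d⟩ := exists_transport hd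
  have h1 := existsUnique_smul hg₁ base_existsUnique
  rw [hg₁d] at h1
  obtain ⟨c1, c2, -, -⟩ := bitSet_card3
  obtain ⟨mt, mu, -, -, -⟩ := masks_lt
  have hbase : bitSet t0 ∪ bitSet u0 ∈ hexadsOn (bitSet d0) :=
    union_mem_hexadsOn mt mu base_tests.1
  have hh₁ : g₁ • bitSet t0 ∪ g₁ • bitSet u0 ∈ hexadsOn d := by
    have := smul_mem_hexadsOn hg₁ hbase
    rwa [hg₁d, Finset.smul_finset_union] at this
  obtain ⟨g, hg, hgd, hgt, hgu⟩ := stab_map_split hd
    (by rw [Finset.card_smul_finset]; exact c1) (by rw [Finset.card_smul_finset]; exact c2) hh₁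
    ht hu hh
  have h2 := existsUnique_smul hg h1
  rwa [hgd, hgt, hgu] at h2

end Cfsg.Agent.Lib.Helper10.Quartet
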