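/-
Quartets of a dodecad (helper10): there are 220 of them, permuted transitively by the stabiliser.
-/
import Mathlib
import Cfsg.Prelude.Def_SporadicCombinatorics
import Cfsg.Agent.Lib.Helper10.Quartet
import Cfsg.Agent.S0386

set_option autoImplicit false

namespace Cfsg.Agent.Lib.Helper10.Quartet

open Cfsg Cfsg.Agent.Lib.Helper3.Golay
open scoped Pointwise

/-- the number of hexads on a dodecad -/
theorem ncard_hexadsOn {d : Finset GolayPt} (hd : d ∈ dodecads) : (hexadsOn d).ncard = 132 := by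
  have h1 := (Cfsg.Agent.S0386.result d hd).1
  have himg : hexadsOn d =
      (fun o => o ∩ d) '' {o : Finset GolayPt | o ∈ octads ∧ (o ∩ d).card = 6} := by
    ext h
    constructor
    · rintro ⟨hcard, o, ho, rfl⟩
      exact ⟨o, ⟨ho, hcard⟩, rfl⟩
    · rintro ⟨o, ⟨ho, hcard⟩, rfl⟩
      exact ⟨hcard, o, ho, rfl⟩
  rw [himg, Set.ncard_image_of_injOn, h1]
  rintro o ⟨ho, hcard⟩ o' ⟨ho', hcard'⟩ heq
  simp only at heq
  by_contra hne
  have := octad_inter_le ho ho' hne
  have hsub : o ∩ d ⊆ o ∩ o' := by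
    intro p hp
    have hp' : p ∈ o' ∩ d := heq ▸ hp
    exact Finset.mem_inter.mpr ⟨(Finset.mem_inter.mp hp).1, (Finset.mem_inter.mp hp').1⟩
  have := Finset.card_le_card hsub
  omega

/-- transitivity of the stabiliser on the quartets -/
theorem quartets_trans {d : Finset GolayPt} (hd : d ∈ dodecads) {Q Q' : Finset (Finset GolayPt)}
    (hQ : Q ∈ quartets d) (hQ' : Q' ∈ quartets d) :
    ∃ g : Equiv.Perm GolayPt, g ∈ M24 ∧ g • d = d ∧ g • Q = Q' := by
  have two : ∀ R : Finset (Finset GolayPt), R ∈ quartets d → ∃ t ∈ R, ∃ u ∈ R, t ≠ u := by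
    intro R hR
    have : 1 < R.card := by rw [hR.1]; norm_num
    obtain ⟨t, ht, u, hu, htu⟩ := Finset.one_lt_card.mp this
    exact ⟨t, ht, u, hu, htu⟩
  obtain ⟨t, ht, u, hu, htu⟩ := two Q hQ
  obtain ⟨t', ht', u', hu', htu'⟩ := two Q' hQ'
  obtain ⟨g, hg, hgd, hgt, hgu⟩ := stab_map_split hd (hQ.2.1 t ht).1 (hQ.2.1 u hu).1
    (hQ.2.2 t ht u hu htu) (hQ'.2.1 t' ht').1 (hQ'.2.1 u' hu').1 (hQ'.2.2 t' ht' u' hu' htu')
  refine ⟨g, hg, hgd, ?_⟩
  have h1 : g • Q ∈ quartets d := by
    have := smul_mem_quartets hg hQ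
    rwa [hgd] at this
  have h2 : t' ∈ g • Q := by rw [← hgt]; exact Finset.smul_mem_smul_finset ht
  have h3 : u' ∈ g • Q := by rw [← hgu]; exact Finset.smul_mem_smul_finset hu
  exact quartet_unique hd hQ' h1 htu' ht' hu' h2 h3

/-- the number of quartets -/
theorem ncard_quartets {d : Finset GolayPt} (hd : d ∈ dodecads) : (quartets d).ncard = 220 := by
  classical
  have hfinH : (hexadsOn d).Finite := Set.toFinite _
  have hfinQ : (quartets d).Finite := Set.toFinite _
  set H : Finset (Finset GolayPt) := hfinH.toFinset with hH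
  set 𝒬 : Finset (Finset (Finset GolayPt)) := hfinQ.toFinset with h𝒬
  have hHcard : H.card = 132 := by
    rw [← ncard_hexadsOn hd, Set.ncard_eq_toFinset_card _ hfinH]
  have hQcard : (quartets d).ncard = 𝒬.card := Set.ncard_eq_toFinset_card _ hfinQ
  rw [hQcard]
  -- the two sets of flags
  set P : Finset (Σ _ : Finset GolayPt, Finset GolayPt) := H.sigma (fun h => h.powersetCard 3) with hP
  set R : Finset (Σ _ : Finset (Finset GolayPt), Finset GolayPt × Finset GolayPt) :=
    𝒬.sigma (fun Q => Q.offDiag) with hR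
  have hPcard : P.card = 132 * 20 := by
    rw [hP, Finset.card_sigma]
    have : ∀ h ∈ H, (h.powersetCard 3).card = 20 := by
      intro h hh
      have h6 : h.card = 6 := ((Set.Finite.mem_toFinset hfinH).mp hh).1
      rw [Finset.card_powersetCard, h6]
      rfl
    rw [Finset.sum_congr rfl this, Finset.sum_const, hHcard]
    rfl
  have hRcard : R.card = 𝒬.card * 12 := by
    rw [hR, Finset.card_sigma]
    have : ∀ Q ∈ 𝒬, Q.offDiag.card = 12 := by
      intro Q hQ
      have h4 : Q.card = 4 := ((Set.Finite.mem_toFinset hfinQ).mp hQ).1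
      rw [Finset.offDiag_card, h4]
    rw [Finset.sum_congr rfl this, Finset.sum_const]
    rfl
  have hbij : R.card = P.card := by
    apply Finset.card_bij (fun x _ => (⟨x.2.1 ∪ x.2.2, x.2.1⟩ : Σ _ : Finset GolayPt, Finset GolayPt))
    · rintro ⟨Q, t, u⟩ hx
      rw [hR, Finset.mem_sigma] at hx
      have hQ : Q ∈ quartets d := (Set.Finite.mem_toFinset hfinQ).mp hx.1
      have htu := Finset.mem_offDiag.mp hx.2
      simp only at htu
      rw [hP, Finset.mem_sigma]
      constructor
      · exact (Set.Finite.mem_toFinset hfinH).mpr (hQ.2.2 t htu.1 u htu.2.1 htu.2.2)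
      · rw [Finset.mem_powersetCard]
        exact ⟨Finset.subset_union_left, (hQ.2.1 t htu.1).1⟩
    · rintro ⟨Q, t, u⟩ hx ⟨Q', t', u'⟩ hx' heq
      rw [hR, Finset.mem_sigma] at hx hx'
      have hQ : Q ∈ quartets d := (Set.Finite.mem_toFinset hfinQ).mp hx.1
      have hQ' : Q' ∈ quartets d := (Set.Finite.mem_toFinset hfinQ).mp hx'.1
      have htu := Finset.mem_offDiag.mp hx.2
      have htu' := Finset.mem_offDiag.mp hx'.2
      simp only at htu htu' heq
      have heq' := Sigma.mk.inj_iff.mp heq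
      have h1 : t ∪ u = t' ∪ u' := heq'.1
      have h2 : t = t' := eq_of_heq heq'.2
      subst h2
      have hd1 := disjoint_of_union_hexad (hQ.2.1 t htu.1).1 (hQ.2.1 u htu.2.1).1
        (hQ.2.2 t htu.1 u htu.2.1 htu.2.2)
      have hd2 := disjoint_of_union_hexad (hQ'.2.1 t htu'.1).1 (hQ'.2.1 u' htu'.2.1).1
        (hQ'.2.2 t htu'.1 u' htu'.2.1 htu'.2.2)
      have h3 : u = u' := by
        rw [← Finset.union_sdiff_cancel_left hd1, ← Finset.union_sdiff_cancel_left hd2, h1]
      subst h3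
      have h4 : Q = Q' := quartet_unique hd hQ' hQ htu.2.2 htu'.1 htu'.2.1 htu.1 htu.2.1
      subst h4
      rfl
    · rintro ⟨h, t⟩ hx
      rw [hP, Finset.mem_sigma] at hx
      have hh : h ∈ hexadsOn d := (Set.Finite.mem_toFinset hfinH).mp hx.1
      have ht := Finset.mem_powersetCard.mp hx.2
      simp only at ht
      have hu : (h \ t).card = 3 := by
        rw [Finset.card_sdiff_of_subset ht.1, hh.1, ht.2]
      have hun : t ∪ h \ t = h := Finset.union_sdiff_of_subset ht.1
      have hne : t ≠ h \ t := by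
        intro heq
        have : t ⊆ h \ t := heq ▸ Finset.Subset.refl t
        have hemp : t = ∅ := by
          apply Finset.eq_empty_of_forall_notMem
          intro p hp
          exact (Finset.mem_sdiff.mp (this hp)).2 hp
        rw [hemp] at ht
        simp at ht
      obtain ⟨Q, ⟨hQ, htQ, huQ⟩, -⟩ := quartet_existsUnique d hd t (h \ t) ht.2 hu (by rw [hun]; exact hh)
      refine ⟨⟨Q, t, h \ t⟩, ?_, ?_⟩
      · rw [hR, Finset.mem_sigma]
        exact ⟨(Set.Finite.mem_toFinset hfinQ).mpr hQ, Finset.mem_offDiag.mpr ⟨htQ, huQ, hne⟩⟩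
      · simp only [hun]
  rw [hRcard, hPcard] at hbij
  omega

end Cfsg.Agent.Lib.Helper10.Quartet
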