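import Mathlib
import Cfsg.Prelude.Def_SporadicCombinatorics
import Cfsg.Agent.Lib.Helper10.Quartet2
import Cfsg.Agent.Lib.Helper28.StabLib
set_option autoImplicit false

/-!
The stabiliser of a quartet inside the stabiliser of its dodecad: order 432, and transport of the
structure statement along elements of `M24`.
-/

namespace Cfsg.Agent.Lib.Helper10.QStab
open Cfsg Cfsg.Agent.Lib.Helper3.Golay Cfsg.Agent.Lib.Helper28.StabLib
  Cfsg.Agent.Lib.Helper10.Quartet
open scoped Pointwise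

/-- the stabiliser of a quartet in the stabiliser of a dodecad. -/
abbrev QH (d : Finset GolayPt) (Q : Finset (Finset GolayPt)) : Subgroup ↥M24 :=
  MulAction.stabilizer M24 d ⊓ MulAction.stabilizer M24 Q

/-- the same group as a set of plain permutations. -/
def HSet (d : Finset GolayPt) (Q : Finset (Finset GolayPt)) : Set (Equiv.Perm GolayPt) :=
  {x | x ∈ M24 ∧ x • d = d ∧ x • Q = Q}

/-- the underlying permutation. -/
def valH (d : Finset GolayPt) (Q : Finset (Finset GolayPt)) (g : ↥(QH d Q)) :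
    Equiv.Perm GolayPt := ((g : M24) : Equiv.Perm GolayPt)

theorem valH_injective (d : Finset GolayPt) (Q : Finset (Finset GolayPt)) :
    Function.Injective (valH d Q) := fun _ _ h => Subtype.ext (Subtype.ext h)

theorem valH_mem {d : Finset GolayPt} {Q : Finset (Finset GolayPt)} (g : ↥(QH d Q)) :
    valH d Q g ∈ HSet d Q :=
  ⟨(g : M24).2, MulAction.mem_stabilizer_iff.mp (Subgroup.mem_inf.mp g.2).1,
    MulAction.mem_stabilizer_iff.mp (Subgroup.mem_inf.mp g.2).2⟩

/-- build an element of the group from a plain permutation. -/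
def mkH {d : Finset GolayPt} {Q : Finset (Finset GolayPt)} {x : Equiv.Perm GolayPt}
    (hx : x ∈ HSet d Q) : ↥(QH d Q) :=
  ⟨⟨x, hx.1⟩, Subgroup.mem_inf.mpr ⟨MulAction.mem_stabilizer_iff.mpr hx.2.1,
    MulAction.mem_stabilizer_iff.mpr hx.2.2⟩⟩

theorem valH_mkH {d : Finset GolayPt} {Q : Finset (Finset GolayPt)} {x : Equiv.Perm GolayPt}
    (hx : x ∈ HSet d Q) : valH d Q (mkH hx) = x := rfl

theorem ncard_preimage_valH {d : Finset GolayPt} {Q : Finset (Finset GolayPt)}
    (A : Set (Equiv.Perm GolayPt)) (hA : A ⊆ HSet d Q) : (valH d Q ⁻¹' A).ncard = A.ncard := by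
  rw [← Set.ncard_image_of_injective _ (valH_injective d Q)]
  congr 1
  ext x
  constructor
  · rintro ⟨g, hg, rfl⟩
    exact hg
  · intro hx
    exact ⟨mkH (hA hx), hx, rfl⟩

theorem ncard_HSet (d : Finset GolayPt) (Q : Finset (Finset GolayPt)) :
    (HSet d Q).ncard = Nat.card ↥(QH d Q) := by
  rw [← ncard_preimage_valH (HSet d Q) subset_rfl, ← Set.ncard_univ]
  congr 1
  ext g
  simp only [Set.mem_preimage, Set.mem_univ, iff_true]
  exact valH_mem g

theorem orbit_quartet {d : Finset GolayPt} (hd : d ∈ dodecads) {Q : Finset (Finset GolayPt)}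
    (hQ : Q ∈ quartets d) :
    MulAction.orbit ↥(MulAction.stabilizer M24 d) Q = quartets d := by
  ext Q'
  constructor
  · rintro ⟨g, rfl⟩
    have h1 := smul_mem_quartets (g : M24).2 hQ
    have h2 : ((g : M24) : Equiv.Perm GolayPt) • d = d := MulAction.mem_stabilizer_iff.mp g.2
    rw [h2] at h1
    exact h1
  · intro hQ'
    obtain ⟨g, hg, hgd, hgQ⟩ := Cfsg.Agent.Lib.Helper10.Quartet.quartets_trans hd hQ hQ'
    exact ⟨⟨⟨g, hg⟩, MulAction.mem_stabilizer_iff.mpr hgd⟩, hgQ⟩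

theorem card_QH {d : Finset GolayPt} (hd : d ∈ dodecads) {Q : Finset (Finset GolayPt)}
    (hQ : Q ∈ quartets d) : Nat.card ↥(QH d Q) = 432 := by
  have h := card_orbit_mul_card_inf (G := M24) (MulAction.stabilizer M24 d) Q
  rw [orbit_quartet hd hQ, Nat.card_coe_set_eq,
    Cfsg.Agent.Lib.Helper10.Quartet.ncard_quartets hd,
    card_stabilizer_subgroup (G := Equiv.Perm GolayPt) M24 d, card_stab_dodecad hd] at h
  have h' : 220 * Nat.card ↥(QH d Q) = 95040 := h
  omega

/-- `M24` is transitive on pairs (dodecad, quartet on it). -/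
theorem exists_map_base {d : Finset GolayPt} (hd : d ∈ dodecads) {Q : Finset (Finset GolayPt)}
    (hQ : Q ∈ quartets d) : ∃ g : M24, g • bitSet d0 = d ∧ g • Q0 = Q := by
  obtain ⟨g1, hg1, h1⟩ := exists_map_dodecad d0_mem hd
  have hQ1 : g1⁻¹ • Q ∈ quartets (bitSet d0) := by
    have := smul_mem_quartets (M24.inv_mem hg1) hQ
    rwa [← h1, inv_smul_smul] at this
  obtain ⟨g2, hg2, h2, h3⟩ :=
    Cfsg.Agent.Lib.Helper10.Quartet.quartets_trans d0_mem Q0_mem hQ1
  refine ⟨⟨g1 * g2, M24.mul_mem hg1 hg2⟩, ?_, ?_⟩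
  · show (g1 * g2) • bitSet d0 = d
    rw [mul_smul, h2, h1]
  · show (g1 * g2) • Q0 = Q
    rw [mul_smul, h3, smul_inv_smul]

/-- the structure statement. -/
def QStructure (d : Finset GolayPt) (Q : Finset (Finset GolayPt)) : Prop :=
  (∃ (N : Subgroup ↥(QH d Q)) (_ : N.Normal), Nat.card N = 9 ∧
    Nonempty (↥(QH d Q) ⧸ N ≃* GL (Fin 2) (ZMod 3))) ∧
  ∀ p ∈ d, ∀ q ∈ d, ∃ g ∈ QH d Q, ((g : ↥M24) : Equiv.Perm GolayPt) p = q

theorem QH_smul (g : M24) (d : Finset GolayPt) (Q : Finset (Finset GolayPt)) :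
    QH (g • d) (g • Q) = (QH d Q).map (MulAut.conj g).toMonoidHom := by
  unfold QH
  rw [MulAction.stabilizer_smul_eq_stabilizer_map_conj,
    MulAction.stabilizer_smul_eq_stabilizer_map_conj,
    ← Subgroup.map_inf_eq _ _ _ (MulAut.conj g).injective]

/-- conjugation as an isomorphism between the groups. -/
noncomputable def conjEquiv (g : M24) (d : Finset GolayPt) (Q : Finset (Finset GolayPt)) :
    ↥(QH d Q) ≃* ↥(QH (g • d) (g • Q)) :=
  ((QH d Q).equivMapOfInjective (MulAut.conj g).toMonoidHom (MulAut.conj g).injective).trans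
    (MulEquiv.subgroupCongr (QH_smul g d Q).symm)

theorem conjEquiv_coe (g : M24) (d : Finset GolayPt) (Q : Finset (Finset GolayPt))
    (x : ↥(QH d Q)) : ((conjEquiv g d Q x : ↥(QH (g • d) (g • Q))) : M24) = g * x * g⁻¹ := rfl

theorem qstructure_smul (g : M24) {d : Finset GolayPt} {Q : Finset (Finset GolayPt)}
    (h : QStructure d Q) : QStructure (g • d) (g • Q) := by
  obtain ⟨⟨N, hN, hcard, ⟨iso⟩⟩, htr⟩ := h
  let e := conjEquiv g d Q
  have hN' : (N.map e.toMonoidHom).Normal := hN.map e.toMonoidHom e.surjective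
  refine ⟨⟨N.map e.toMonoidHom, hN', ?_, ?_⟩, ?_⟩
  · rw [Subgroup.card_map_of_injective e.injective, hcard]
  · exact ⟨(QuotientGroup.congr N (N.map e.toMonoidHom) e rfl).symm.trans iso⟩
  · intro p hp q hq
    have hp' : (g⁻¹ : M24) • p ∈ d := by
      rw [Finset.mem_smul_finset] at hp
      obtain ⟨p', hp', rfl⟩ := hp
      rwa [inv_smul_smul]
    have hq' : (g⁻¹ : M24) • q ∈ d := by
      rw [Finset.mem_smul_finset] at hq
      obtain ⟨q', hq', rfl⟩ := hq
      rwa [inv_smul_smul]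
    obtain ⟨x, hx, hxp⟩ := htr _ hp' _ hq'
    refine ⟨(e ⟨x, hx⟩ : ↥(QH (g • d) (g • Q))), (e ⟨x, hx⟩).2, ?_⟩
    rw [conjEquiv_coe]
    show ((g : Equiv.Perm GolayPt) * (x : Equiv.Perm GolayPt) *
      ((g⁻¹ : M24) : Equiv.Perm GolayPt)) p = q
    rw [Equiv.Perm.mul_apply, Equiv.Perm.mul_apply]
    have : ((g⁻¹ : M24) : Equiv.Perm GolayPt) p = (g⁻¹ : M24) • p := rfl
    rw [this, hxp]
    show (g : M24) • ((g⁻¹ : M24) • q) = q
    rw [smul_inv_smul]

theorem qstructure_of_base (h : QStructure (bitSet d0) Q0) {d : Finset GolayPt}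
    (hd : d ∈ dodecads) {Q : Finset (Finset GolayPt)} (hQ : Q ∈ quartets d) : QStructure d Q := by
  obtain ⟨g, rfl, rfl⟩ := exists_map_base hd hQ
  exact qstructure_smul g h

end Cfsg.Agent.Lib.Helper10.QStab
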