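import Mathlib
import Cfsg.Agent.Lib.Helper13.SLMinWt
import Cfsg.Agent.Lib.Helper16.SLMinDefs

/-!
# S2343 (minimal degree of the small Ree groups): the abstract part

A group `H` containing an elementary abelian subgroup `{y u v} ≅ F²` with elements `x t` acting by
`(u, v) ↦ (u, v + t u)`, a torus acting on the second coordinate transitively, an involution `a`
inverting the second coordinate and lying in a Klein four-group all of whose involutions are
conjugate to `a`: every representation on which `H` acts non-trivially has dimension at least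
`q² - q + 1`, provided `q ≡ 3 (mod 4)` and the normal closure of `y 0 v` is `H`.
-/

set_option autoImplicit false
set_option linter.unusedSectionVars false

namespace Cfsg.Agent.Lib.Helper10.ReeMinAbs

open Module Cfsg.Agent.Lib.Helper15.OrbitBound Cfsg.Agent.Lib.Helper13.SLMinWt
  Cfsg.Agent.Lib.Helper16.SLMin

section ops

variable {F : Type*} [Field F] [Fintype F] [DecidableEq F]
  {V : Type*} [AddCommGroup V] [Module ℂ V] [FiniteDimensional ℂ V]

/-- the shear `(u, v) ↦ (u, v + t u)` of `F²` -/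
def shearE (t : F) : (Fin 2 → F) ≃ (Fin 2 → F) where
  toFun r := ![r 0, r 1 + t * r 0]
  invFun r := ![r 0, r 1 - t * r 0]
  left_inv r := by
    funext i
    fin_cases i <;> simp
  right_inv r := by
    funext i
    fin_cases i <;> simp

/-- the diagonal map `(u, v) ↦ (c' u, c v)` of `F²` -/
def diagE (c' c : F) (hc' : c' ≠ 0) (hc : c ≠ 0) : (Fin 2 → F) ≃ (Fin 2 → F) where
  toFun r := ![c' * r 0, c * r 1]
  invFun r := ![c'⁻¹ * r 0, c⁻¹ * r 1]
  left_inv r := by
    funext i
    fin_cases i <;> simp [hc', hc]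
  right_inv r := by
    funext i
    fin_cases i <;> simp [hc', hc]

/-- the map `(u, v) ↦ (u, -v)` of `F²` -/
def negE : (Fin 2 → F) ≃ (Fin 2 → F) where
  toFun r := ![r 0, -r 1]
  invFun r := ![r 0, -r 1]
  left_inv r := by
    funext i
    fin_cases i <;> simp
  right_inv r := by
    funext i
    fin_cases i <;> simp

theorem two_ne_zero_of_card (hq4 : Fintype.card F % 4 = 3) : (2 : F) ≠ 0 := by
  intro h2
  have h0 : ((Fintype.card F : ℕ) : F) = 0 := Nat.cast_card_eq_zero F
  obtain ⟨k, hk⟩ : ∃ k, Fintype.card F = 2 * (2 * k + 1) + 1 := ⟨Fintype.card F / 4, by omega⟩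
  rw [hk] at h0
  push_cast at h0
  rw [h2, zero_mul, zero_add] at h0
  exact one_ne_zero h0

theorem card_mul_pred_mod_four (q : ℕ) (hq4 : q % 4 = 3) : q * (q - 1) % 4 = 2 := by
  obtain ⟨k, hk⟩ : ∃ k, q = 4 * k + 3 := ⟨q / 4, by omega⟩
  subst hk
  have h1 : 4 * k + 3 - 1 = 4 * k + 2 := by omega
  rw [h1]
  have h2 : (4 * k + 3) * (4 * k + 2) = 4 * (4 * k * k + 5 * k + 1) + 2 := by ring
  rw [h2]
  omega

theorem dot_two (w r : Fin 2 → F) : w ⬝ᵥ r = w 0 * r 0 + w 1 * r 1 := by
  simp [dotProduct, Fin.sum_univ_two]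

theorem eq_vec_two (w : Fin 2 → F) : w = ![w 0, w 1] := by
  funext i
  fin_cases i <;> rfl

variable (Y : (Fin 2 → F) → Module.End ℂ V)
  (hYa : ∀ v w, Y (v + w) = Y v * Y w) (hY0 : Y 0 = 1)

include hYa hY0 in
/-- the operator-level statement -/
theorem ops_main
    (X : F → Module.End ℂ V) (hXu : ∀ t, IsUnit (X t))
    (hX : ∀ t (r : Fin 2 → F), X t * Y r = Y ![r 0, r 1 + t * r 0] * X t)
    (hT : ∀ c : F, c ≠ 0 → ∃ (g : Module.End ℂ V) (c' : F), IsUnit g ∧ c' ≠ 0 ∧
      ∀ r : Fin 2 → F, g * Y r = Y ![c' * r 0, c * r 1] * g)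
    (A B : Module.End ℂ V) (hA : A * A = 1) (hB : B * B = 1) (hAB : A * B = B * A)
    (hAY : ∀ r : Fin 2 → F, A * Y r = Y ![r 0, -r 1] * A)
    (hcB : ∃ g : Module.End ℂ V, IsUnit g ∧ g * A = B * g)
    (hcAB : ∃ g : Module.End ℂ V, IsUnit g ∧ g * A = (A * B) * g)
    (hq4 : Fintype.card F % 4 = 3)
    (hZ : ∃ v : F, Y ![0, v] ≠ 1) :
    Fintype.card F ^ 2 - Fintype.card F + 1 ≤ finrank ℂ V := by
  classical
  have hψ := eps_prim F
  set q := Fintype.card F with hq
  have hq3 : 3 ≤ q := by omega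
  have h2F : (2 : F) ≠ 0 := two_ne_zero_of_card hq4
  -- multiplicities
  set m : (Fin 2 → F) → ℕ := fun w => mult (eps F) Y w with hm
  have hsum : ∑ w : Fin 2 → F, m w = finrank ℂ V := sum_mult (eps F) Y hψ hYa hY0
  -- shear invariance
  have hshear : ∀ (t : F) (w : Fin 2 → F), m w = m ![w 0 - t * w 1, w 1] := by
    intro t w
    apply mult_conj (eps F) Y (hXu t) (N := shearE t) (fun v => hX t v)
    intro v
    rw [dot_two, dot_two]
    simp only [shearE, Equiv.coe_fn_mk, Matrix.cons_val_zero, Matrix.cons_val_one,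
      Matrix.cons_val_fin_one]
    ring
  -- torus invariance
  have htorus : ∀ (c : F), c ≠ 0 → ∀ w : Fin 2 → F, ∃ c' : F, c' ≠ 0 ∧
      m w = m ![c'⁻¹ * w 0, c⁻¹ * w 1] := by
    intro c hc w
    obtain ⟨g, c', hg, hc', hgY⟩ := hT c hc
    refine ⟨c', hc', ?_⟩
    apply mult_conj (eps F) Y hg (N := diagE c' c hc' hc) (fun v => hgY v)
    intro v
    rw [dot_two, dot_two]
    simp only [diagE, Equiv.coe_fn_mk, Matrix.cons_val_zero, Matrix.cons_val_one,
      Matrix.cons_val_fin_one]
    field_simp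
  -- all weights with nonzero second coordinate have the same multiplicity
  set m₁ := m ![0, 1] with hm₁
  have hconst : ∀ α β : F, β ≠ 0 → m ![α, β] = m₁ := by
    intro α β hβ
    have h1 := hshear (α / β) ![α, β]
    simp only [Matrix.cons_val_zero, Matrix.cons_val_one, Matrix.cons_val_fin_one] at h1
    have h2 : α - α / β * β = 0 := by field_simp; ring
    rw [h2] at h1
    obtain ⟨c', hc', h3⟩ := htorus β hβ ![0, β]
    simp only [Matrix.cons_val_zero, Matrix.cons_val_one, Matrix.cons_val_fin_one, mul_zero] at h3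
    rw [inv_mul_cancel₀ hβ] at h3
    rw [h1, h3]
  -- the dimension formula
  have hsum2 : ∑ w : Fin 2 → F, m w = ∑ α : F, ∑ β : F, m ![α, β] := by
    rw [← Fintype.sum_prod_type']
    apply Fintype.sum_equiv (finTwoArrowEquiv F)
    intro w
    show m w = m ![w 0, w 1]
    rw [← eq_vec_two w]
  have hinner : ∀ α : F, ∑ β : F, m ![α, β] = m ![α, 0] + (q - 1) * m₁ := by
    intro α
    rw [← Finset.add_sum_erase Finset.univ _ (Finset.mem_univ (0 : F))]
    congr 1
    rw [Finset.sum_congr rfl (fun β hβ => hconst α β (Finset.ne_of_mem_erase hβ)),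
      Finset.sum_const, Finset.card_erase_of_mem (Finset.mem_univ _), Finset.card_univ, smul_eq_mul]
  have hdim : finrank ℂ V = ∑ α : F, m ![α, 0] + q * ((q - 1) * m₁) := by
    rw [← hsum, hsum2, Finset.sum_congr rfl (fun α _ => hinner α), Finset.sum_add_distrib,
      Finset.sum_const, Finset.card_univ, smul_eq_mul]
  -- `m₁ ≠ 0`
  have hPr0 : ∀ w : Fin 2 → F, m w = 0 → Pr (eps F) Y w = 0 := by
    intro w hw
    by_contra hne
    have hpos : 0 < m w := (mult_pos_iff (eps F) Y hψ hYa w).2 hne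
    omega
  have hm₁pos : 0 < m₁ := by
    by_contra h0
    have h0' : m₁ = 0 := by omega
    obtain ⟨v, hv⟩ := hZ
    apply hv
    rw [x_eq_sum (eps F) Y hψ hcardC ![0, v], ← sum_Pr (eps F) Y hψ hY0]
    apply Finset.sum_congr rfl
    intro w _
    by_cases hw : w 1 = 0
    · rw [dot_two]
      simp only [Matrix.cons_val_zero, Matrix.cons_val_one, Matrix.cons_val_fin_one, mul_zero, hw,
        zero_mul, add_zero, AddChar.map_zero_eq_one, one_smul]
    · have h1 : m w = 0 := by
        rw [eq_vec_two w, hconst _ _ hw, h0']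
      rw [hPr0 w h1, smul_zero]
  -- suppose the dimension is small
  by_contra hlt
  have hqq : q ^ 2 - q + 1 = q * (q - 1) + 1 := by
    have : q ^ 2 = q * (q - 1) + q := by
      obtain ⟨k, hk⟩ : ∃ k, q = k + 1 := ⟨q - 1, by omega⟩
      rw [hk]
      simp only [Nat.add_sub_cancel]
      ring
    omega
  have hpos : 0 < q * (q - 1) := Nat.mul_pos (by omega) (by omega)
  have hm1 : m₁ = 1 := by
    by_contra hne
    have h2 : 2 ≤ m₁ := by omega
    have : q * ((q - 1) * 2) ≤ q * ((q - 1) * m₁) :=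
      Nat.mul_le_mul_left _ (Nat.mul_le_mul_left _ h2)
    have h3 : q * ((q - 1) * 2) = 2 * (q * (q - 1)) := by ring
    omega
  have hc0 : ∑ α : F, m ![α, 0] = 0 := by
    rw [hm1, mul_one] at hdim
    omega
  have hVdim : finrank ℂ V = q * (q - 1) := by
    rw [hdim, hc0, hm1, mul_one, zero_add]
  have hzero : ∀ α : F, m ![α, 0] = 0 := by
    intro α
    exact (Finset.sum_eq_zero_iff.1 hc0) α (Finset.mem_univ α)
  -- the trace of an operator swapping `β` and `-β` vanishes
  have htrace : ∀ C : Module.End ℂ V, (∀ r : Fin 2 → F, C * Y r = Y ![r 0, -r 1] * C) →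
      LinearMap.trace ℂ V C = 0 := by
    intro C hC
    have h1 : C = ∑ w : Fin 2 → F, C * Pr (eps F) Y w := by
      rw [← Finset.mul_sum, sum_Pr (eps F) Y hψ hY0, mul_one]
    rw [h1, map_sum]
    apply Finset.sum_eq_zero
    intro w _
    by_cases hw : w 1 = 0
    · have : m w = 0 := by
        rw [eq_vec_two w, hw]
        exact hzero _
      rw [hPr0 w this, mul_zero, map_zero]
    · have hne : w ≠ ![w 0, -w 1] := by
        intro h
        have h1 := congrFun h 1
        simp only [Matrix.cons_val_one, Matrix.cons_val_fin_one] at h1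
        have h2 : (2 : F) * w 1 = 0 := by
          rw [two_mul]
          nth_rw 1 [h1]
          ring
        rcases mul_eq_zero.1 h2 with h3 | h3
        · exact h2F h3
        · exact hw h3
      have hconj : C * Pr (eps F) Y w = Pr (eps F) Y ![w 0, -w 1] * C := by
        apply Pr_conj (eps F) Y (N := negE) (fun v => hC v)
        intro v
        rw [dot_two, dot_two]
        simp only [negE, Equiv.coe_fn_mk, Matrix.cons_val_zero, Matrix.cons_val_one,
          Matrix.cons_val_fin_one]
        ring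
      have hidem := Pr_idem (eps F) Y hψ hYa w
      have horth := Pr_orth (eps F) Y hψ hYa hne
      calc LinearMap.trace ℂ V (C * Pr (eps F) Y w)
          = LinearMap.trace ℂ V ((C * Pr (eps F) Y w) * Pr (eps F) Y w) := by
            rw [mul_assoc, hidem]
        _ = LinearMap.trace ℂ V ((Pr (eps F) Y ![w 0, -w 1] * C) * Pr (eps F) Y w) := by
            rw [hconj]
        _ = LinearMap.trace ℂ V (Pr (eps F) Y w * (Pr (eps F) Y ![w 0, -w 1] * C)) :=
            LinearMap.trace_mul_comm ℂ _ _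
        _ = 0 := by
            rw [← mul_assoc, horth, zero_mul, map_zero]
  have htA : LinearMap.trace ℂ V A = 0 := htrace A hAY
  -- conjugates have the same trace
  have htconj : ∀ C : Module.End ℂ V, (∃ g : Module.End ℂ V, IsUnit g ∧ g * A = C * g) →
      LinearMap.trace ℂ V C = 0 := by
    rintro C ⟨g, hg, hgA⟩
    obtain ⟨u, rfl⟩ := hg
    have h1 : C = (u : Module.End ℂ V) * A * ((u⁻¹ : (Module.End ℂ V)ˣ) : Module.End ℂ V) := by
      rw [hgA, mul_assoc, Units.mul_inv, mul_one]
    rw [h1, LinearMap.trace_mul_comm, ← mul_assoc, Units.inv_mul, one_mul, htA]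
  have htB : LinearMap.trace ℂ V B = 0 := htconj B hcB
  have htAB : LinearMap.trace ℂ V (A * B) = 0 := htconj (A * B) hcAB
  -- the idempotent
  set S : Module.End ℂ V := 1 + A + B + A * B with hS
  have hAS : A * S = S := by
    have h1 : A * S = A + A * A + A * B + A * A * B := by
      rw [hS]
      noncomm_ring
    rw [h1, hA, one_mul, hS]
    abel
  have hBS : B * S = S := by
    have h1 : B * S = B + B * A + B * B + B * A * B := by
      rw [hS]
      noncomm_ring
    rw [h1, hB, ← hAB, mul_assoc, hB, mul_one, hS]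
    abel
  have hSS : S * S = (4 : ℂ) • S := by
    have h1 : S * S = S + A * S + B * S + A * (B * S) := by
      nth_rw 1 [hS]
      noncomm_ring
    rw [h1, hBS, hAS]
    module
  set E : Module.End ℂ V := (4 : ℂ)⁻¹ • S with hE
  have hEE : E * E = E := by
    rw [hE, smul_mul_smul_comm, hSS, smul_smul]
    congr 1
    norm_num
  have htE : LinearMap.trace ℂ V E = (4 : ℂ)⁻¹ * (finrank ℂ V : ℂ) := by
    rw [hE, map_smul, hS, map_add, map_add, map_add, htA, htB, htAB, LinearMap.trace_one]
    simp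
  have hr := finrank_range_eq_trace hEE
  rw [htE] at hr
  have h4 : (finrank ℂ V : ℂ) = ((4 * finrank ℂ (LinearMap.range E) : ℕ) : ℂ) := by
    push_cast
    rw [hr]
    ring
  have h4' : finrank ℂ V = 4 * finrank ℂ (LinearMap.range E) := by exact_mod_cast h4
  have hmod := card_mul_pred_mod_four q hq4
  omega

end ops

section grp

variable {F : Type*} [Field F] [Fintype F] [DecidableEq F] {H : Type*} [Group H]
  {M : Type*} [AddCommGroup M] [Module ℂ M] [FiniteDimensional ℂ M]

theorem isUnit_rho (ρ : Representation ℂ H M) (g : H) : IsUnit (ρ g) := by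
  have h1 : ρ g * ρ g⁻¹ = 1 := by rw [← map_mul, mul_inv_cancel, map_one]
  have h2 : ρ g⁻¹ * ρ g = 1 := by rw [← map_mul, inv_mul_cancel, map_one]
  exact ⟨⟨ρ g, ρ g⁻¹, h1, h2⟩, rfl⟩

/-- REE-ABS: the abstract minimal degree theorem. -/
theorem ree_min_abs (ρ : Representation ℂ H M) (hnt : ∃ g, ρ g ≠ 1)
    (hq4 : Fintype.card F % 4 = 3)
    (y : F → F → H) (hy : ∀ u v u' v', y (u + u') (v + v') = y u v * y u' v')
    (x : F → H) (hx : ∀ t u v, x t * y u v * (x t)⁻¹ = y u (v + t * u))
    (htor : ∀ c : F, c ≠ 0 → ∃ (g : H) (c' : F), c' ≠ 0 ∧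
      ∀ u v, g * y u v * g⁻¹ = y (c' * u) (c * v))
    (a b : H) (ha : a * a = 1) (hb : b * b = 1) (hab : a * b = b * a)
    (hay : ∀ u v, a * y u v * a⁻¹ = y u (-v))
    (hcb : ∃ g, b = g * a * g⁻¹) (hcab : ∃ g, a * b = g * a * g⁻¹)
    (hnc : ∀ N : Subgroup H, N.Normal → (∃ v, v ≠ 0 ∧ y 0 v ∈ N) → N = ⊤) :
    Fintype.card F ^ 2 - Fintype.card F + 1 ≤ finrank ℂ M := by
  have hy00 : y 0 0 = 1 := by
    have h := hy 0 0 0 0
    rw [add_zero] at h
    have h2 : y 0 0 * y 0 0 = y 0 0 * 1 := by rw [← h, mul_one]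
    exact mul_left_cancel h2
  have hconj : ∀ {g z z' : H}, g * z * g⁻¹ = z' → ρ g * ρ z = ρ z' * ρ g := by
    intro g z z' h
    rw [← map_mul, ← map_mul, ← h]
    congr 1
    group
  apply ops_main (fun r : Fin 2 → F => ρ (y (r 0) (r 1)))
    (by
      intro v w
      show ρ (y ((v + w) 0) ((v + w) 1)) = _
      rw [Pi.add_apply, Pi.add_apply, hy, map_mul])
    (by
      show ρ (y 0 0) = 1
      rw [hy00, map_one])
    (fun t => ρ (x t)) (fun t => isUnit_rho ρ (x t))
    (by
      intro t r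
      simp only [Matrix.cons_val_zero, Matrix.cons_val_one, Matrix.cons_val_fin_one]
      exact hconj (hx t (r 0) (r 1)))
    (by
      intro c hc
      obtain ⟨g, c', hc', hg⟩ := htor c hc
      refine ⟨ρ g, c', isUnit_rho ρ g, hc', ?_⟩
      intro r
      simp only [Matrix.cons_val_zero, Matrix.cons_val_one, Matrix.cons_val_fin_one]
      exact hconj (hg (r 0) (r 1)))
    (ρ a) (ρ b)
    (by rw [← map_mul, ha, map_one]) (by rw [← map_mul, hb, map_one])
    (by rw [← map_mul, ← map_mul, hab])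
    (by
      intro r
      simp only [Matrix.cons_val_zero, Matrix.cons_val_one, Matrix.cons_val_fin_one]
      exact hconj (hay (r 0) (r 1)))
    (by
      obtain ⟨g, hg⟩ := hcb
      exact ⟨ρ g, isUnit_rho ρ g, hconj hg.symm⟩)
    (by
      obtain ⟨g, hg⟩ := hcab
      refine ⟨ρ g, isUnit_rho ρ g, ?_⟩
      rw [← map_mul ρ a b]
      exact hconj hg.symm)
    hq4
  -- the centre `Z` acts non-trivially
  by_contra hZ
  push Not at hZ
  have hker : (MonoidHom.ker ρ) = ⊤ := by
    apply hnc _ inferInstance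
    refine ⟨1, one_ne_zero, ?_⟩
    rw [MonoidHom.mem_ker]
    have := hZ 1
    simpa using this
  obtain ⟨g, hg⟩ := hnt
  apply hg
  have : g ∈ MonoidHom.ker ρ := by rw [hker]; trivial
  exact (MonoidHom.mem_ker).1 this

end grp

end Cfsg.Agent.Lib.Helper10.ReeMinAbs
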