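import Mathlib
import Cfsg.Agent.Lib.Helper18.Sims3Defs
import Cfsg.Agent.Lib.Helper18.SIMSL1

set_option autoImplicit false

/-!
SIMS2 market (S3685), leaf CEN: in the Tutte-Sims generator data with `lambda = n - 1`, `n ≥ 3`,
the interior interval subgroup `K = ⟨x_1, ..., x_(n-1)⟩` is self-centralizing in
`H = ⟨x_0, ..., x_n⟩` (of order `2 ^ n * 3`).
-/

namespace Cfsg.Agent.Lib.Helper10.SIMS2CEN

open Cfsg Cfsg.Agent.Lib.Helper29.TWPair Cfsg.Agent.Lib.Helper18.Sims3 MulAction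
open Cfsg.Agent.Lib.Helper18.SIMSL1

variable {G : Type*} [Group G]

/-- the generators of an interval subgroup of length `< l` commute, so the subgroup is contained in
its own centralizer. -/
theorem Hx_le_centralizer {x : ℕ → G} {l i j : ℕ} (hl : CommLt x l) (hij : j < i + l) :
    Hx x i j ≤ Subgroup.centralizer ((Hx x i j : Subgroup G) : Set G) := by
  have hgen : ∀ a ∈ Set.Icc i j, ∀ b ∈ Set.Icc i j, x a * x b = x b * x a := by
    intro a ha b hb
    rcases le_total a b with hab | hab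
    · obtain ⟨k, rfl⟩ := Nat.exists_eq_add_of_le hab
      exact (hl a k (by have := hb.2; have := ha.1; omega)).eq
    · obtain ⟨k, rfl⟩ := Nat.exists_eq_add_of_le hab
      exact (hl b k (by have := ha.2; have := hb.1; omega)).eq.symm
  have h2 : Hx x i j ≤ Subgroup.centralizer (x '' Set.Icc i j) := by
    unfold Hx
    rw [Subgroup.closure_le]
    rintro _ ⟨a, ha, rfl⟩
    rw [SetLike.mem_coe, Subgroup.mem_centralizer_iff]
    rintro _ ⟨b, hb, rfl⟩
    exact hgen b hb a ha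
  have h3 : x '' Set.Icc i j ⊆ (Subgroup.centralizer ((Hx x i j : Subgroup G) : Set G) : Set G) := by
    rintro _ ⟨a, ha, rfl⟩
    rw [SetLike.mem_coe, Subgroup.mem_centralizer_iff]
    intro k hk
    have := Subgroup.mem_centralizer_iff.mp (h2 hk) (x a) ⟨a, ha, rfl⟩
    exact this.symm
  show Subgroup.closure (x '' Set.Icc i j) ≤ _
  rw [Subgroup.closure_le]
  exact h3

/-- LEAF CEN (`⟨x_1, ..., x_(n-1)⟩` is self-centralizing in `⟨x_0, ..., x_n⟩` when lambda = n - 1). -/
theorem centralizer_Hx_le [Finite G] {g : G} {x : ℕ → G} {n : ℕ} (h : TSData g x n) (hn : 3 ≤ n)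
    (hsq : ∀ i, x i * x i = 1) (hl : CommLt x (n - 1)) (hnc : ¬ Commute (x 0) (x (n - 1)))
    (hN : Hx x 0 n ≤ Subgroup.normalizer ((Hx x 1 (n - 1) : Subgroup G) : Set G))
    (hcard : Nat.card ↥(Hx x 0 n) = 2 ^ n * 3) :
    ∀ y ∈ Hx x 0 n, (∀ k ∈ Hx x 1 (n - 1), y * k = k * y) → y ∈ Hx x 1 (n - 1) := by
  set H : Subgroup G := Hx x 0 n with hH
  set K : Subgroup G := Hx x 1 (n - 1) with hK
  have hKH : K ≤ H := Hx_mono x (by omega) (by omega)
  have hKc : Nat.card ↥K = 2 ^ (n - 1) := by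
    rw [hK, h.card 1 (n - 1) (by omega) (by omega)]
    congr 1
    omega
  have hKcomm : K ≤ Subgroup.centralizer ((K : Subgroup G) : Set G) :=
    Hx_le_centralizer hl (by omega)
  set C : Subgroup G := Subgroup.centralizer ((K : Subgroup G) : Set G) ⊓ H with hC
  have hKC : K ≤ C := le_inf hKcomm hKH
  have hCH : C ≤ H := inf_le_right
  -- `|H : K| = 6`
  have r6 : K.relIndex H = 6 := by
    have h1 := Helper4.card_mul_relIndex hKH
    rw [hKc, hcard] at h1
    have h2 : (2 : ℕ) ^ n * 3 = 2 ^ (n - 1) * 6 := by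
      have : n = (n - 1) + 1 := by omega
      conv_lhs => rw [this, pow_succ]
      ring
    rw [h2] at h1
    exact Nat.eq_of_mul_eq_mul_left (by positivity) h1
  have hmul : K.relIndex C * C.relIndex H = 6 := by
    rw [Subgroup.relIndex_mul_relIndex K C H hKC hCH, r6]
  -- membership facts
  have hx0H : x 0 ∈ H := mem_Hx x le_rfl (by omega)
  have hxnH : x n ∈ H := mem_Hx x (by omega) le_rfl
  have hx1K : x 1 ∈ K := mem_Hx x le_rfl (by omega)
  have hxlK : x (n - 1) ∈ K := mem_Hx x (by omega) le_rfl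
  have hx0C : x 0 ∉ C := by
    intro hc
    have := Subgroup.mem_centralizer_iff.mp hc.1 (x (n - 1)) hxlK
    exact hnc this.symm
  -- `x 1` and `x n` do not commute
  have h1n : ¬ x 1 * x n = x n * x 1 := by
    intro hc
    apply hnc
    have e1 : x 1 = g * x 0 * g⁻¹ := (h.shift 0).symm
    have e2 : x n = g * x (n - 1) * g⁻¹ := by
      have := h.shift (n - 1)
      rw [show n - 1 + 1 = n by omega] at this
      exact this.symm
    rw [e1, e2] at hc
    have hc' : g * (x 0 * x (n - 1)) * g⁻¹ = g * (x (n - 1) * x 0) * g⁻¹ := by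
      have l1 : g * x 0 * g⁻¹ * (g * x (n - 1) * g⁻¹) = g * (x 0 * x (n - 1)) * g⁻¹ := by group
      have l2 : g * x (n - 1) * g⁻¹ * (g * x 0 * g⁻¹) = g * (x (n - 1) * x 0) * g⁻¹ := by group
      rw [← l1, ← l2]
      exact hc
    have := mul_left_cancel (mul_right_cancel hc')
    exact this
  have hxnC : x n ∉ C := by
    intro hc
    exact h1n (Subgroup.mem_centralizer_iff.mp hc.1 (x 1) hx1K)
  have h01 : x 0 * x 1 = x 1 * x 0 := by
    have := hl 0 1 (by omega)
    simpa using this.eq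
  have hx0xnC : (x 0)⁻¹ * x n ∉ C := by
    intro hc
    have h2 := Subgroup.mem_centralizer_iff.mp hc.1 (x 1) hx1K
    -- x1 * (x0⁻¹ * xn) = (x0⁻¹ * xn) * x1
    apply h1n
    have h3 : x 1 * (x 0)⁻¹ = (x 0)⁻¹ * x 1 := by
      have : (x 0)⁻¹ * (x 0 * x 1) * (x 0)⁻¹ = (x 0)⁻¹ * (x 1 * x 0) * (x 0)⁻¹ := by rw [h01]
      have l1 : (x 0)⁻¹ * (x 0 * x 1) * (x 0)⁻¹ = x 1 * (x 0)⁻¹ := by group
      have l2 : (x 0)⁻¹ * (x 1 * x 0) * (x 0)⁻¹ = (x 0)⁻¹ * x 1 := by group
      rw [l1, l2] at this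
      exact this
    have h4 : (x 0)⁻¹ * (x 1 * x n) = (x 0)⁻¹ * (x n * x 1) := by
      calc (x 0)⁻¹ * (x 1 * x n) = ((x 0)⁻¹ * x 1) * x n := by group
        _ = (x 1 * (x 0)⁻¹) * x n := by rw [h3]
        _ = x 1 * ((x 0)⁻¹ * x n) := by group
        _ = (x 0)⁻¹ * x n * x 1 := h2
        _ = (x 0)⁻¹ * (x n * x 1) := by group
    exact mul_left_cancel h4
  -- `C` is normal in `H`
  have hCnorm : H ≤ Subgroup.normalizer ((C : Subgroup G) : Set G) := by
    intro y hy
    have hyN := hN hy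
    have hyN' : y⁻¹ ∈ Subgroup.normalizer ((K : Subgroup G) : Set G) := Subgroup.inv_mem _ hyN
    rw [Subgroup.mem_normalizer_iff]
    intro c
    have key : ∀ (z : G), z ∈ H → z ∈ Subgroup.normalizer ((K : Subgroup G) : Set G) →
        ∀ c ∈ C, z * c * z⁻¹ ∈ C := by
      intro z hz hzN c hc
      refine ⟨?_, H.mul_mem (H.mul_mem hz hc.2) (H.inv_mem hz)⟩
      change z * c * z⁻¹ ∈ Subgroup.centralizer ((K : Subgroup G) : Set G)
      rw [Subgroup.mem_centralizer_iff]
      intro k hk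
      have hzN' : z⁻¹ ∈ Subgroup.normalizer ((K : Subgroup G) : Set G) := Subgroup.inv_mem _ hzN
      have hk' : z⁻¹ * k * z⁻¹⁻¹ ∈ K := (Subgroup.mem_normalizer_iff.mp hzN' k).mp hk
      have h5 := Subgroup.mem_centralizer_iff.mp hc.1 _ hk'
      calc k * (z * c * z⁻¹) = z * ((z⁻¹ * k * z⁻¹⁻¹) * c) * z⁻¹ := by group
        _ = z * (c * (z⁻¹ * k * z⁻¹⁻¹)) * z⁻¹ := by rw [h5]
        _ = z * c * z⁻¹ * k := by group
    constructor
    · intro hc
      exact key y hy hyN c hc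
    · intro hc
      have := key y⁻¹ (H.inv_mem hy) hyN' _ hc
      have e : y⁻¹ * (y * c * y⁻¹) * y⁻¹⁻¹ = c := by group
      rwa [e] at this
  haveI hnormal : (C.subgroupOf H).Normal :=
    (Subgroup.normal_subgroupOf_iff_le_normalizer hCH).mpr hCnorm
  -- the index `m = |H : C|` divides 6
  set m : ℕ := C.relIndex H with hm
  have hmdvd : m ∣ 6 := Dvd.intro_left _ hmul
  have hmle : m ≤ 6 := Nat.le_of_dvd (by norm_num) hmdvd
  have hmpos : 0 < m := Nat.pos_of_dvd_of_pos hmdvd (by norm_num)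
  have hx0pow : ∀ j : ℕ, x 0 ^ (2 * j + 1) = x 0 := by
    intro j
    rw [pow_succ, pow_mul, pow_two, hsq 0, one_pow, one_mul]
  have hm6 : m = 6 := by
    have hodd : ∀ j : ℕ, m = 2 * j + 1 → False := by
      intro j hj
      have := Subgroup.pow_relIndex_mem (C.subgroupOf H) (K := ⊤) (g := (⟨x 0, hx0H⟩ : H)) (Subgroup.mem_top _)
      rw [Subgroup.relIndex_top_right] at this
      have hidx : (C.subgroupOf H).index = m := rfl
      rw [hidx, hj] at this
      rw [Subgroup.mem_subgroupOf] at this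
      have e : ((⟨x 0, hx0H⟩ : H) ^ (2 * j + 1) : H).1 = x 0 ^ (2 * j + 1) := by
        simp
      rw [e, hx0pow j] at this
      exact hx0C this
    have htwo : m = 2 → False := by
      intro h2
      have hidx : (C.subgroupOf H).index = 2 := h2
      have := (Subgroup.mul_mem_iff_of_index_two hidx (a := (⟨(x 0)⁻¹, H.inv_mem hx0H⟩ : H))
        (b := (⟨x n, hxnH⟩ : H)))
      have ha : (⟨(x 0)⁻¹, H.inv_mem hx0H⟩ : H) ∉ C.subgroupOf H := by
        rw [Subgroup.mem_subgroupOf]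
        intro hc
        exact hx0C ((Subgroup.inv_mem_iff C).mp hc)
      have hb : (⟨x n, hxnH⟩ : H) ∉ C.subgroupOf H := by
        rw [Subgroup.mem_subgroupOf]
        exact hxnC
      have hab : (⟨(x 0)⁻¹, H.inv_mem hx0H⟩ : H) * (⟨x n, hxnH⟩ : H) ∈ C.subgroupOf H :=
        this.mpr ⟨fun h => absurd h ha, fun h => absurd h hb⟩
      rw [Subgroup.mem_subgroupOf] at hab
      exact hx0xnC hab
    interval_cases m
    · exact (hodd 0 rfl).elim
    · exact (htwo rfl).elim
    · exact (hodd 1 rfl).elim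
    · exact absurd hmdvd (by decide)
    · exact absurd hmdvd (by decide)
    · rfl
  have hKC1 : K.relIndex C = 1 := by
    rw [hm6] at hmul
    omega
  have hCK : C ≤ K := Subgroup.relIndex_eq_one.mp hKC1
  intro y hy hyc
  apply hCK
  refine ⟨?_, hy⟩
  change y ∈ Subgroup.centralizer ((K : Subgroup G) : Set G)
  rw [Subgroup.mem_centralizer_iff]
  intro k hk
  exact (hyc k hk).symm

end Cfsg.Agent.Lib.Helper10.SIMS2CEN
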