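import Mathlib
import Cfsg.Agent.Lib.Helper18.Sims3Defs
import Cfsg.Agent.Lib.Helper21.SIMSR2

set_option autoImplicit false

/-!
SIMS2 market (S3685), leaf E0: if `D = A ⊓ B` is a 2-group of index 3 in `A` and in `B`
(`Pair A B`), then `|A| = 3` or `(A, B)` is a Tutte-Sims pair.
(Second half of helper21's proof of `SIMSR2.red_p2`.)
-/

namespace Cfsg.Agent.Lib.Helper10.SIMS2E0

open Cfsg Cfsg.Agent.Lib.Helper29.TWPair Cfsg.Agent.Lib.Helper18.Sims3 MulAction

variable {G : Type*} [Group G]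

/-- LEAF E0. -/
theorem ts_or_three [Finite G] {A B : Subgroup G} (h : Pair A B)
    (hA : (A ⊓ B).relIndex A = 3) (hB : (A ⊓ B).relIndex B = 3)
    (h2 : IsPGroup 2 ↥(A ⊓ B)) : Nat.card ↥A = 3 ∨ TS A B := by
  haveI : Fact (Nat.Prime 2) := ⟨Nat.prime_two⟩
  set D : Subgroup G := A ⊓ B with hD
  have hDA : D ≤ A := inf_le_left
  have hDB : D ≤ B := inf_le_right
  have hcA : Nat.card ↥D * 3 = Nat.card ↥A := by
    have := Helper4.card_mul_relIndex hDA
    rwa [hA] at this
  obtain ⟨k, hk⟩ := IsPGroup.iff_card.mp h2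
  have hidx : ∀ {L : Subgroup G}, D ≤ L → D.relIndex L = 3 → (coreIn L D).relIndex D ∣ 2 := by
    intro L hDL hL
    have h1 := relIndex_coreIn_dvd_factorial L D
    rw [hL] at h1
    have h2 := Subgroup.relIndex_mul_relIndex (coreIn L D) D L (coreIn_le_right _ _) hDL
    rw [hL] at h2
    rw [← h2] at h1
    have h3 : Nat.factorial 3 = 2 * 3 := by decide
    rw [h3] at h1
    exact Nat.dvd_of_mul_dvd_mul_right (by norm_num) h1
  have hone : ∀ {L : Subgroup G}, (coreIn L D).relIndex D = 1 →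
      L ≤ Subgroup.normalizer ((D : Subgroup G) : Set G) := by
    intro L h1
    have h2 : D ≤ coreIn L D := Subgroup.relIndex_eq_one.mp h1
    have h3 : coreIn L D = D := le_antisymm (coreIn_le_right _ _) h2
    have := le_normalizer_coreIn L D
    rwa [h3] at this
  have hbot : D = ⊥ → Nat.card ↥A = 3 := by
    intro h0
    rw [← hcA, h0, Subgroup.card_bot]
  have hiA := hidx hDA hA
  have hiB := hidx hDB hB
  rcases (Nat.dvd_prime Nat.prime_two).mp hiA with h1 | h1
  · left
    have hAN := hone h1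
    have hBN := Cfsg.Agent.Lib.Helper21.SIMSR2.le_normalizer_of_le_normalizer h hDA hDB hA hB k hk hAN
    exact hbot (h.eq_bot_of_le_normalizer hDA hAN hBN)
  · rcases (Nat.dvd_prime Nat.prime_two).mp hiB with h2' | h2'
    · left
      have hBN := hone h2'
      have hAN := Cfsg.Agent.Lib.Helper21.SIMSR2.le_normalizer_of_le_normalizer h.symm hDB hDA hB hA k hk hBN
      exact hbot (h.eq_bot_of_le_normalizer hDA hAN hBN)
    · right
      exact ⟨h, h2, hA, hB, h1, h2'⟩

end Cfsg.Agent.Lib.Helper10.SIMS2E0
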