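import Mathlib
import Cfsg.Agent.Lib.Helper18.Sims3Defs
import Cfsg.Agent.Lib.Helper18.SIMSL1
import Cfsg.Agent.Lib.Helper23.SIMS2LAM

set_option autoImplicit false

/-!
SIMS3 market (S2772), leaf QIDA: in the Tutte-Sims generator data, if the interior interval
subgroup `K = ⟨x_1, ..., x_(n-1)⟩` is self-centralizing in `⟨x_0, ..., x_n⟩` then `n ≥ 3`.
-/

namespace Cfsg.Agent.Lib.Helper10.SIMS3QIDA

open Cfsg Cfsg.Agent.Lib.Helper29.TWPair Cfsg.Agent.Lib.Helper18.Sims3 MulAction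
open Cfsg.Agent.Lib.Helper18.SIMSL1

variable {G : Type*} [Group G]

/-- LEAF QIDA (`n ≥ 3`). -/
theorem three_le_of_centralizer [Finite G] {g : G} {x : ℕ → G} {n : ℕ} (h : TSData g x n)
    (h1 : 1 ≤ n) (h4 : n ≤ 4)
    (hC : ∀ y ∈ Hx x 0 n, (∀ k ∈ Hx x 1 (n - 1), y * k = k * y) → y ∈ Hx x 1 (n - 1)) :
    3 ≤ n := by
  by_contra hlt
  obtain ⟨_, hne1, _, _⟩ := tsdata_basic h h1
  have hn : n = 1 ∨ n = 2 := by omega
  rcases hn with rfl | rfl
  · -- `n = 1`: `K = ⊥`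
    have hbot : Hx x 1 (1 - 1) = ⊥ := Hx_empty x (by omega)
    have hx0 : x 0 ∈ Hx x 0 1 := mem_Hx x (le_refl 0) (by omega)
    have := hC (x 0) hx0 (by
      intro k hk
      rw [hbot, Subgroup.mem_bot] at hk
      rw [hk, mul_one, one_mul])
    rw [hbot, Subgroup.mem_bot] at this
    exact hne1 0 this
  · -- `n = 2`: `K = ⟨x 1⟩` and `x 0` commutes with `x 1`
    have hcomm : Commute (x 0) (x 1) :=
      Cfsg.Agent.Lib.Helper23.SIMS2LAM.commute_zero_one h (le_refl 2)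
    have hK : Hx x 1 (2 - 1) = Subgroup.zpowers (x 1) := Hx_self x 1
    have hx0 : x 0 ∈ Hx x 0 2 := mem_Hx x (le_refl 0) (by omega)
    have hmem := hC (x 0) hx0 (by
      intro k hk
      rw [hK, Subgroup.mem_zpowers_iff] at hk
      obtain ⟨m, rfl⟩ := hk
      exact (hcomm.zpow_right m).eq)
    have hx0' : x 0 ∈ Hx x 1 1 := hmem
    have hx1' : x 1 ∈ Hx x 1 1 := mem_Hx x (le_refl 1) (le_refl 1)
    have hle : Hx x 0 1 ≤ Hx x 1 1 := by
      unfold Hx
      rw [Subgroup.closure_le]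
      rintro _ ⟨k, ⟨hk1, hk2⟩, rfl⟩
      have hk : k = 0 ∨ k = 1 := by omega
      rcases hk with rfl | rfl
      · exact hx0'
      · exact hx1'
    have hc01 : Nat.card ↥(Hx x 0 1) = 2 ^ (1 - 0 + 1) := h.card 0 1 (by omega) (by omega)
    have hc11 : Nat.card ↥(Hx x 1 1) = 2 ^ (1 - 1 + 1) := h.card 1 1 (by omega) (by omega)
    have := Subgroup.card_le_of_le hle
    rw [hc01, hc11] at this
    norm_num at this

end Cfsg.Agent.Lib.Helper10.SIMS3QIDA
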