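import Mathlib
import Cfsg.Agent.Lib.Helper18.Sims3Defs
import Cfsg.Agent.Lib.Helper18.SIMSL1
import Cfsg.Agent.Lib.Helper23.SIMS2LAM
import Cfsg.Agent.Lib.Helper10.SIMS2NK

set_option autoImplicit false

/-!
SIMS3 market (S2772), leaf QIDB: in the Tutte-Sims generator data with `n ∈ {3, 4}`,
`|⟨x_0, ..., x_n⟩| = 2^n q` (`q` an odd prime) and `K = ⟨x_1, ..., x_(n-1)⟩` self-centralizing,
one has `q = 3`.
-/

namespace Cfsg.Agent.Lib.Helper10.SIMS3QIDB

open Cfsg Cfsg.Agent.Lib.Helper29.TWPair Cfsg.Agent.Lib.Helper18.Sims3 MulAction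
open Cfsg.Agent.Lib.Helper18.SIMSL1

variable {G : Type*} [Group G]

/-- a prime `q ≠ 2` with `2 ^ a ≡ 2 ^ b [MOD q]` for the small exponents that occur -/
theorem q_of_modEq {q : ℕ} (hq : q.Prime) (hq2 : q ≠ 2) {a b : ℕ} (hab : b < a)
    (hsmall : a = 2 ∨ (a = 3 ∧ 1 ≤ b)) (hmod : 2 ^ a ≡ 2 ^ b [MOD q]) : q = 3 := by
  have hle : 2 ^ b ≤ 2 ^ a := Nat.pow_le_pow_right (by norm_num) hab.le
  have hdvd : q ∣ 2 ^ a - 2 ^ b := (Nat.modEq_iff_dvd' hle).mp hmod.symm
  have hq1 : 1 < q := hq.one_lt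
  rcases hsmall with rfl | ⟨rfl, hb⟩
  · have hb : b = 0 ∨ b = 1 := by omega
    rcases hb with rfl | rfl
    · norm_num at hdvd
      exact (Nat.prime_dvd_prime_iff_eq hq Nat.prime_three).mp hdvd
    · norm_num at hdvd
      exact absurd ((Nat.prime_dvd_prime_iff_eq hq Nat.prime_two).mp hdvd) hq2
  · have hb : b = 1 ∨ b = 2 := by omega
    rcases hb with rfl | rfl
    · norm_num at hdvd
      have h6 : q ∣ 2 * 3 := hdvd
      rcases (Nat.Prime.dvd_mul hq).mp h6 with h | h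
      · exact absurd ((Nat.prime_dvd_prime_iff_eq hq Nat.prime_two).mp h) hq2
      · exact (Nat.prime_dvd_prime_iff_eq hq Nat.prime_three).mp h
    · norm_num at hdvd
      have h4 : q ∣ 2 * 2 := hdvd
      rcases (Nat.Prime.dvd_mul hq).mp h4 with h | h <;>
        exact absurd ((Nat.prime_dvd_prime_iff_eq hq Nat.prime_two).mp h) hq2

/-- LEAF QIDB (`q = 3`). -/
theorem q_eq_three [Finite G] {g : G} {x : ℕ → G} {n : ℕ} (h : TSData g x n)
    (h3 : 3 ≤ n) (h4 : n ≤ 4) (q : ℕ) (hq : q.Prime) (hq2 : q ≠ 2)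
    (hcard : Nat.card ↥(Hx x 0 n) = 2 ^ n * q)
    (hC : ∀ y ∈ Hx x 0 n, (∀ k ∈ Hx x 1 (n - 1), y * k = k * y) → y ∈ Hx x 1 (n - 1)) :
    q = 3 := by
  classical
  have : Fact q.Prime := ⟨hq⟩
  obtain ⟨_, hne1, _, _⟩ := tsdata_basic h (by omega : 1 ≤ n)
  obtain ⟨K, hK⟩ : ∃ K : Subgroup G, K = Hx x 1 (n - 1) := ⟨_, rfl⟩
  obtain ⟨H0, hH0⟩ : ∃ H0 : Subgroup G, H0 = Hx x 0 n := ⟨_, rfl⟩
  rw [← hH0] at hcard
  rw [← hH0, ← hK] at hC
  have hKH : K ≤ H0 := by
    rw [hK, hH0]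
    exact Hx_mono x (by omega) (by omega)
  have hN : H0 ≤ Subgroup.normalizer (K : Set G) := by
    rw [hK, hH0]
    exact Cfsg.Agent.Lib.Helper10.SIMS2NK.Hx_le_normalizer h (by omega)
  have hKc : Nat.card ↥K = 2 ^ (n - 1) := by
    rw [hK, h.card 1 (n - 1) (by omega) (by omega)]
    congr 1
    omega
  -- Cauchy: an element of order `q`
  have hqdvd : q ∣ Nat.card ↥H0 := by
    rw [hcard]
    exact Dvd.intro_left _ rfl
  obtain ⟨ρ', hρ'⟩ := exists_prime_orderOf_dvd_card' q hqdvd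
  obtain ⟨ρ, hρH, hρo⟩ : ∃ ρ : G, ρ ∈ H0 ∧ orderOf ρ = q :=
    ⟨(ρ' : G), ρ'.2, by rw [Subgroup.orderOf_coe]; exact hρ'⟩
  have hρq : ρ ^ q = 1 := by rw [← hρo]; exact pow_orderOf_eq_one ρ
  have hρN : ρ ∈ Subgroup.normalizer (K : Set G) := hN hρH
  -- conjugation by `ρ` on `K`
  let f : Function.End ↥K := fun k =>
    ⟨ρ * (k : G) * ρ⁻¹, (Subgroup.mem_normalizer_iff.mp hρN (k : G)).mp k.2⟩
  have hfval : ∀ k : ↥K, ((f k : ↥K) : G) = ρ * (k : G) * ρ⁻¹ := fun k => rfl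
  have hfpow : ∀ m : ℕ, ∀ k : ↥K, (((f ^ m) k : ↥K) : G) = ρ ^ m * (k : G) * (ρ ^ m)⁻¹ := by
    intro m
    induction m with
    | zero =>
      intro k
      rw [pow_zero, pow_zero, one_mul, inv_one, mul_one]
      rfl
    | succ m ih =>
      intro k
      rw [pow_succ']
      change ((f ((f ^ m) k) : ↥K) : G) = _
      rw [hfval, ih k, pow_succ']
      group
  have hfq : f ^ q ^ 1 = 1 := by
    rw [pow_one]
    funext k
    apply Subtype.ext
    rw [hfpow q k, hρq, one_mul, inv_one, mul_one]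
    rfl
  have hfin : Fintype ↥K := Fintype.ofFinite _
  have hmod := Equiv.Perm.card_fixedPoints_modEq (f := f) (p := q) (n := 1) hfq
  rw [← Nat.card_eq_fintype_card, ← Nat.card_eq_fintype_card] at hmod
  -- the fixed points form the subgroup `C_K(ρ)`
  obtain ⟨F, hF⟩ : ∃ F : Subgroup ↥K, F = (Subgroup.centralizer ({ρ} : Set G)).subgroupOf K :=
    ⟨_, rfl⟩
  have hmemF : ∀ k : ↥K, k ∈ F ↔ ρ * (k : G) = (k : G) * ρ := by
    intro k
    rw [hF, Subgroup.mem_subgroupOf, Subgroup.mem_centralizer_iff]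
    constructor
    · intro hk
      exact hk ρ (Set.mem_singleton ρ)
    · intro hk y hy
      rw [Set.mem_singleton_iff] at hy
      rw [hy]
      exact hk
  have hfix : Function.fixedPoints f = (F : Set ↥K) := by
    ext k
    rw [Function.mem_fixedPoints, Function.IsFixedPt, SetLike.mem_coe, hmemF]
    constructor
    · intro hk
      have h1 : ρ * (k : G) * ρ⁻¹ = (k : G) := (hfval k).symm.trans (congrArg Subtype.val hk)
      calc ρ * (k : G) = ρ * (k : G) * ρ⁻¹ * ρ := by group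
        _ = (k : G) * ρ := by rw [h1]
    · intro hk
      apply Subtype.ext
      rw [hfval, hk]
      group
  have hcardfix : Nat.card ↥(Function.fixedPoints f) = Nat.card ↥F := by
    rw [hfix]
    rfl
  rw [hcardfix, hKc] at hmod
  -- `|F|` is a proper power of two
  have hFdvd : Nat.card ↥F ∣ 2 ^ (n - 1) := by
    rw [← hKc]
    exact Subgroup.card_subgroup_dvd_card F
  obtain ⟨m, hm, hFm⟩ := (Nat.dvd_prime_pow Nat.prime_two).mp hFdvd
  have hFtop : F ≠ ⊤ := by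
    intro htop
    have hcen : ∀ k ∈ K, ρ * k = k * ρ := by
      intro k hk
      have : (⟨k, hk⟩ : ↥K) ∈ F := by rw [htop]; exact Subgroup.mem_top _
      exact (hmemF ⟨k, hk⟩).mp this
    have hρK : ρ ∈ K := hC ρ hρH hcen
    have hdvd : orderOf ρ ∣ Nat.card ↥K := by
      have := orderOf_dvd_natCard (⟨ρ, hρK⟩ : ↥K)
      rwa [← Subgroup.orderOf_coe] at this
    rw [hρo, hKc] at hdvd
    have := (Nat.prime_dvd_prime_iff_eq hq Nat.prime_two).mp (hq.dvd_of_dvd_pow hdvd)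
    exact hq2 this
  have hmlt : m < n - 1 := by
    rcases Nat.lt_or_ge m (n - 1) with hlt | hge
    · exact hlt
    · exfalso
      apply hFtop
      have hmeq : m = n - 1 := le_antisymm hm hge
      apply Subgroup.eq_top_of_card_eq
      rw [hFm, hmeq, hKc]
  rw [hFm] at hmod
  -- for `n = 4` the central element `x 2` lies in `F`
  have hm1 : n = 4 → 1 ≤ m := by
    intro hn4
    obtain ⟨l, hl, _, _, _, _, hl4⟩ := Cfsg.Agent.Lib.Helper23.SIMS2LAM.lam_eq h (by omega) h4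
    have hl3 : l = 3 := hl4 hn4
    rw [hl3] at hl
    -- `x 2` commutes with all generators
    have hgen : ∀ j, j ≤ 4 → Commute (x 2) (x j) := by
      intro j hj
      have hj' : j = 0 ∨ j = 1 ∨ j = 2 ∨ j = 3 ∨ j = 4 := by omega
      rcases hj' with rfl | rfl | rfl | rfl | rfl
      · exact (hl 0 2 (by omega)).symm
      · exact (hl 1 1 (by omega)).symm
      · exact Commute.refl _
      · exact hl 2 1 (by omega)
      · exact hl 2 2 (by omega)
    have hcent : H0 ≤ Subgroup.centralizer ({x 2} : Set G) := by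
      rw [hH0, hn4]
      unfold Hx
      rw [Subgroup.closure_le]
      rintro _ ⟨j, ⟨_, hj2⟩, rfl⟩
      rw [SetLike.mem_coe, Subgroup.mem_centralizer_iff]
      intro y hy
      rw [Set.mem_singleton_iff] at hy
      rw [hy]
      exact (hgen j hj2).eq
    have hρx : ρ * x 2 = x 2 * ρ := by
      have := Subgroup.mem_centralizer_iff.mp (hcent hρH) (x 2) (Set.mem_singleton _)
      exact this.symm
    have hx2K : x 2 ∈ K := by
      rw [hK]
      exact mem_Hx x (by omega) (by omega)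
    have hx2F : (⟨x 2, hx2K⟩ : ↥K) ∈ F := (hmemF _).mpr hρx
    by_contra hm0
    have hm0' : m = 0 := by omega
    rw [hm0', pow_zero] at hFm
    have hbot : F = ⊥ := Subgroup.card_eq_one.mp hFm
    rw [hbot, Subgroup.mem_bot] at hx2F
    have : x 2 = 1 := congrArg Subtype.val hx2F
    exact hne1 2 this
  have hn : n = 3 ∨ n = 4 := by omega
  rcases hn with hn | hn
  · refine q_of_modEq hq hq2 hmlt (Or.inl ?_) hmod
    omega
  · refine q_of_modEq hq hq2 hmlt (Or.inr ⟨?_, hm1 hn⟩) hmod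
    omega

end Cfsg.Agent.Lib.Helper10.SIMS3QIDB
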