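import Mathlib
import Cfsg.Agent.Lib.Helper16.SLMinDefs
import Cfsg.Agent.Lib.Helper13.SLMinW

/-!
# S2332 sub-leaves C2-X2 and C2-X1 (helper5's split of `stage1`): the `hMix` input of the abstract
stage lemma for stage 1, i.e. for `x = emb ∘ rx`, `α = emb ∘ ra`, `β = emb ∘ rb`,
`N₀ = wt ρ rad 0` in `SL (Unit ⊕ (Unit ⊕ (Unit ⊕ J))) F`.
-/

set_option autoImplicit false

namespace Cfsg.Agent.Lib.Helper10.SLMin

open Matrix Module Cfsg.Agent.Lib.Helper16.SLMin

section grp

variable {F : Type*} [Field F]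

theorem emb_conj {ι' : Type*} [Fintype ι'] [DecidableEq ι'] (g y : SpecialLinearGroup ι' F) :
    emb g * emb y * (emb g)⁻¹ = emb (g * y * g⁻¹) := by
  rw [map_mul, map_mul, map_inv]

theorem inv_emb_coe {ι' : Type*} [Fintype ι'] [DecidableEq ι'] (h : SpecialLinearGroup ι' F) :
    (((emb h)⁻¹ : SpecialLinearGroup (Unit ⊕ ι') F) : Matrix (Unit ⊕ ι') (Unit ⊕ ι') F) =
      fromBlocks 1 0 0 ((h⁻¹ : SpecialLinearGroup ι' F) : Matrix ι' ι' F) := by
  rw [← map_inv, emb_coe]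

theorem elim_vecMul_inv_emb {ι' : Type*} [Fintype ι'] [DecidableEq ι']
    (h : SpecialLinearGroup ι' F) (t : Unit → F) (v : ι' → F) :
    (Sum.elim t v) ᵥ*
        (((emb h)⁻¹ : SpecialLinearGroup (Unit ⊕ ι') F) : Matrix (Unit ⊕ ι') (Unit ⊕ ι') F) =
      Sum.elim t (v ᵥ* ((h⁻¹ : SpecialLinearGroup ι' F) : Matrix ι' ι' F)) := by
  rw [inv_emb_coe, vecMul_fromBlocks]
  simp

theorem vecMul_inv_surjective {n : Type*} [Fintype n] [DecidableEq n]
    (g : SpecialLinearGroup n F) :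
    Function.Surjective (fun r : n → F => r ᵥ* ((g⁻¹ : SpecialLinearGroup n F) : Matrix n n F)) := by
  intro r'
  refine ⟨r' ᵥ* (g : Matrix n n F), ?_⟩
  show (r' ᵥ* (g : Matrix n n F)) ᵥ* ((g⁻¹ : SpecialLinearGroup n F) : Matrix n n F) = r'
  have hgg : (g : Matrix n n F) * ((g⁻¹ : SpecialLinearGroup n F) : Matrix n n F) = 1 := by
    simp [Matrix.mul_adjugate]
  rw [vecMul_vecMul, hgg, vecMul_one]

theorem dot_mulVec_vecMul_inv {n : Type*} [Fintype n] [DecidableEq n]
    (g : SpecialLinearGroup n F) (w r : n → F) :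
    w ⬝ᵥ r = ((g : Matrix n n F) *ᵥ w) ⬝ᵥ
      (r ᵥ* ((g⁻¹ : SpecialLinearGroup n F) : Matrix n n F)) := by
  have hgg : ((g⁻¹ : SpecialLinearGroup n F) : Matrix n n F) * (g : Matrix n n F) = 1 := by
    simp [Matrix.adjugate_mul]
  rw [dotProduct_comm ((g : Matrix n n F) *ᵥ w), ← dotProduct_mulVec, mulVec_mulVec,
    hgg, one_mulVec, dotProduct_comm]

variable {J : Type*} [Fintype J] [DecidableEq J] (h : SpecialLinearGroup J F)

theorem g3_x (t : Unit → F) :
    emb (emb (emb h)) * emb (rx (F := F) (J := J) t) * (emb (emb (emb h)))⁻¹ =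
      emb (rx (F := F) (J := J) t) := by
  rw [emb_conj]
  congr 1
  unfold rx
  rw [emb_rad, elim_vecMul_inv_emb]
  simp

theorem g3_a (v : J → F) :
    emb (emb (emb h)) * emb (ra (F := F) (J := J) v) * (emb (emb (emb h)))⁻¹ =
      emb (ra (F := F) (J := J) (v ᵥ* ((h⁻¹ : SpecialLinearGroup J F) : Matrix J J F))) := by
  rw [emb_conj]
  congr 1
  unfold ra
  rw [emb_rad, elim_vecMul_inv_emb]

theorem g3_b (w : J → F) :
    emb (emb (emb h)) * emb (rb (F := F) (J := J) w) * (emb (emb (emb h)))⁻¹ =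
      emb (rb (F := F) (J := J) (w ᵥ* ((h⁻¹ : SpecialLinearGroup J F) : Matrix J J F))) := by
  rw [emb_conj]
  congr 1
  unfold rb
  rw [emb_conj]
  congr 1
  rw [emb_rad]

theorem exists_sl_mulVec_ne (h2 : 2 ≤ Fintype.card J) (w : J → F) (hw : w ≠ 0) :
    ∃ h : SpecialLinearGroup J F, (h : Matrix J J F) *ᵥ w ≠ w := by
  obtain ⟨i, hi⟩ : ∃ i, w i ≠ 0 := by
    by_contra hcon
    push Not at hcon
    exact hw (funext hcon)
  obtain ⟨j, hj⟩ := Fintype.exists_ne_of_one_lt_card (by omega : 1 < Fintype.card J) i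
  refine ⟨⟨transvection j i 1, det_transvection_of_ne j i hj 1⟩, ?_⟩
  intro heq
  have h1 := congrFun heq j
  simp [transvection, Matrix.add_mulVec, Matrix.single_mulVec] at h1
  exact hi h1

end grp

section X2

variable {F : Type*} [Field F] [Fintype F] [DecidableEq F] {M : Type*} [AddCommGroup M]
  [Module ℂ M] [FiniteDimensional ℂ M] {J : Type*} [Fintype J] [DecidableEq J]
  (ρ : Representation ℂ (SpecialLinearGroup (Unit ⊕ (Unit ⊕ (Unit ⊕ J))) F) M)

open Cfsg.Agent.Lib.Helper13.SLMin in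
/-- C2-X2: the mixing element for stage 1, `|J| ≥ 2`. -/
theorem stage1_hMix_ge2 (h2 : 2 ≤ Fintype.card J) :
    ∀ a : Unit → F, a ≠ 0 → ∀ w : J → F, w ≠ 0 →
      ∃ (g : SpecialLinearGroup (Unit ⊕ (Unit ⊕ (Unit ⊕ J))) F) (w' : J → F), w' ≠ w ∧
        Submodule.map (ρ g) (wt ρ (rad (F := F) (ι' := Unit ⊕ (Unit ⊕ J))) 0 ⊓
            wt ρ (fun t : Unit → F => emb (rx (F := F) (J := J) t)) a ⊓
            wt ρ (fun v : J → F => emb (ra (F := F) (J := J) v)) 0) =
          wt ρ (rad (F := F) (ι' := Unit ⊕ (Unit ⊕ J))) 0 ⊓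
            wt ρ (fun t : Unit → F => emb (rx (F := F) (J := J) t)) a ⊓
            wt ρ (fun v : J → F => emb (ra (F := F) (J := J) v)) 0 ∧
        Submodule.map (ρ g) (wt ρ (rad (F := F) (ι' := Unit ⊕ (Unit ⊕ J))) 0 ⊓
            wt ρ (fun v : J → F => emb (ra (F := F) (J := J) v)) 0 ⊓
            wt ρ (fun w : J → F => emb (rb (F := F) (J := J) w)) w) =
          wt ρ (rad (F := F) (ι' := Unit ⊕ (Unit ⊕ J))) 0 ⊓
            wt ρ (fun v : J → F => emb (ra (F := F) (J := J) v)) 0 ⊓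
            wt ρ (fun w : J → F => emb (rb (F := F) (J := J) w)) w' := by
  intro a _ w hw
  obtain ⟨h, hh⟩ := exists_sl_mulVec_ne h2 w hw
  refine ⟨emb (emb (emb h)), (h : Matrix J J F) *ᵥ w, hh, ?_, ?_⟩
  · rw [map_rho_inf, map_rho_inf]
    congr 1
    · congr 1
      · exact map_wt_of_conj ρ _ _ _ _ (vecMul_inv_surjective (emb (emb h)))
          (fun r => emb_rad (emb (emb h)) r) 0 0 (fun r => by simp)
      · exact map_wt_of_conj ρ _ _ _ (fun r => r) Function.surjective_id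
          (fun t => g3_x h t) a a (fun r => rfl)
    · exact map_wt_of_conj ρ _ _ _ _ (vecMul_inv_surjective h)
        (fun v => g3_a h v) 0 0 (fun r => by simp)
  · rw [map_rho_inf, map_rho_inf]
    congr 1
    · congr 1
      · exact map_wt_of_conj ρ _ _ _ _ (vecMul_inv_surjective (emb (emb h)))
          (fun r => emb_rad (emb (emb h)) r) 0 0 (fun r => by simp)
      · exact map_wt_of_conj ρ _ _ _ _ (vecMul_inv_surjective h)
          (fun v => g3_a h v) 0 0 (fun r => by simp)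
    · exact map_wt_of_conj ρ _ _ _ _ (vecMul_inv_surjective h)
        (fun v => g3_b h v) w _ (fun r => dot_mulVec_vecMul_inv h w r)

end X2

section diag

variable {F : Type*} [Field F] {J : Type*} [Fintype J] [DecidableEq J]

/-- the diagonal entries of `diag (b⁻², b, b, 1, …, 1)`. -/
def dvec (b : F) : Unit ⊕ (Unit ⊕ (Unit ⊕ J)) → F :=
  Sum.elim (fun _ => (b⁻¹) ^ 2) (Sum.elim (fun _ => b) (Sum.elim (fun _ => b) (fun _ => 1)))

/-- the torus element `diag (b⁻², b, b, 1, …, 1)` of `SL (Unit ⊕ (Unit ⊕ (Unit ⊕ J))) F`. -/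
def dg (b : F) (hb : b ≠ 0) : SpecialLinearGroup (Unit ⊕ (Unit ⊕ (Unit ⊕ J))) F :=
  ⟨diagonal (dvec (J := J) b), by
    rw [det_diagonal]
    simp only [dvec, Fintype.prod_sum_type, Sum.elim_inl, Sum.elim_inr, Finset.univ_unique,
      Finset.prod_singleton, Finset.prod_const_one, mul_one]
    field_simp⟩

theorem dg_coe (b : F) (hb : b ≠ 0) :
    (dg (J := J) b hb : Matrix (Unit ⊕ (Unit ⊕ (Unit ⊕ J))) (Unit ⊕ (Unit ⊕ (Unit ⊕ J))) F) =
      diagonal (dvec (J := J) b) := rfl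

/-- the rescaling of the radical induced by `dg b`. -/
def dscale (b : F) (r : Unit ⊕ (Unit ⊕ J) → F) : Unit ⊕ (Unit ⊕ J) → F :=
  fun k => (b⁻¹) ^ 2 * r k * (dvec (J := J) b (Sum.inr k))⁻¹

theorem conj_of_mul_eq {n : Type*} [Fintype n] [DecidableEq n] (g y y' : SpecialLinearGroup n F)
    (h : (g : Matrix n n F) * (y : Matrix n n F) = (y' : Matrix n n F) * (g : Matrix n n F)) :
    g * y * g⁻¹ = y' := by
  rw [mul_inv_eq_iff_eq_mul]
  apply Subtype.ext
  exact h

theorem dg_rad (b : F) (hb : b ≠ 0) (r : Unit ⊕ (Unit ⊕ J) → F) :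
    dg (J := J) b hb * rad r * (dg (J := J) b hb)⁻¹ = rad (dscale (J := J) b r) := by
  apply conj_of_mul_eq
  rw [dg_coe, rad_coe, rad_coe]
  ext i j
  rw [diagonal_mul, mul_diagonal]
  rcases i with _ | _ | _ | i <;> rcases j with _ | _ | _ | j <;>
    simp [dvec, dscale, Matrix.one_apply] <;> field_simp

theorem dg_x (b : F) (hb : b ≠ 0) (t : Unit → F) :
    dg (J := J) b hb * emb (rx (F := F) (J := J) t) * (dg (J := J) b hb)⁻¹ =
      emb (rx (F := F) (J := J) t) := by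
  apply conj_of_mul_eq
  rw [dg_coe, emb_coe]
  unfold rx
  rw [rad_coe]
  ext i j
  rw [diagonal_mul, mul_diagonal]
  rcases i with _ | _ | _ | i <;> rcases j with _ | _ | _ | j <;>
    simp [dvec, Matrix.one_apply, mul_comm]

theorem dg_a (b : F) (hb : b ≠ 0) (v : J → F) :
    dg (J := J) b hb * emb (ra (F := F) (J := J) v) * (dg (J := J) b hb)⁻¹ =
      emb (ra (F := F) (J := J) (b • v)) := by
  apply conj_of_mul_eq
  rw [dg_coe, emb_coe, emb_coe]
  unfold ra
  rw [rad_coe, rad_coe]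
  ext i j
  rw [diagonal_mul, mul_diagonal]
  rcases i with _ | _ | _ | i <;> rcases j with _ | _ | _ | j <;>
    simp [dvec, Matrix.one_apply, mul_comm]

theorem dg_b (b : F) (hb : b ≠ 0) (w : J → F) :
    dg (J := J) b hb * emb (rb (F := F) (J := J) w) * (dg (J := J) b hb)⁻¹ =
      emb (rb (F := F) (J := J) (b • w)) := by
  apply conj_of_mul_eq
  rw [dg_coe, emb_coe, emb_coe]
  unfold rb
  rw [emb_coe, emb_coe, rad_coe, rad_coe]
  ext i j
  rw [diagonal_mul, mul_diagonal]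
  rcases i with _ | _ | _ | i <;> rcases j with _ | _ | _ | j <;>
    simp [dvec, Matrix.one_apply, mul_comm]

theorem dscale_surjective (b : F) (hb : b ≠ 0) :
    Function.Surjective (dscale (J := J) b) := by
  intro r'
  have hd : ∀ k, dvec (J := J) b (Sum.inr k) ≠ 0 := by
    intro k
    rcases k with _ | _ | k <;> simp [dvec, hb]
  refine ⟨fun k => b ^ 2 * r' k * dvec (J := J) b (Sum.inr k), ?_⟩
  funext k
  have := hd k
  simp only [dscale]
  field_simp

theorem smul_surjective' (b : F) (hb : b ≠ 0) :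
    Function.Surjective (fun r : J → F => b • r) := by
  intro r'
  refine ⟨b⁻¹ • r', ?_⟩
  show b • b⁻¹ • r' = r'
  rw [smul_smul, mul_inv_cancel₀ hb, one_smul]

end diag

section X1

variable {F : Type*} [Field F] [Fintype F] [DecidableEq F] {M : Type*} [AddCommGroup M]
  [Module ℂ M] [FiniteDimensional ℂ M] {J : Type*} [Fintype J] [DecidableEq J]
  (ρ : Representation ℂ (SpecialLinearGroup (Unit ⊕ (Unit ⊕ (Unit ⊕ J))) F) M)

open Cfsg.Agent.Lib.Helper13.SLMin in
/-- the torus mixing element for stage 1 (any `J`, `q ≥ 3`). -/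
theorem stage1_hMix_torus (hq : 3 ≤ Fintype.card F) :
    ∀ a : Unit → F, a ≠ 0 → ∀ w : J → F, w ≠ 0 →
      ∃ (g : SpecialLinearGroup (Unit ⊕ (Unit ⊕ (Unit ⊕ J))) F) (w' : J → F), w' ≠ w ∧
        Submodule.map (ρ g) (wt ρ (rad (F := F) (ι' := Unit ⊕ (Unit ⊕ J))) 0 ⊓
            wt ρ (fun t : Unit → F => emb (rx (F := F) (J := J) t)) a ⊓
            wt ρ (fun v : J → F => emb (ra (F := F) (J := J) v)) 0) =
          wt ρ (rad (F := F) (ι' := Unit ⊕ (Unit ⊕ J))) 0 ⊓
            wt ρ (fun t : Unit → F => emb (rx (F := F) (J := J) t)) a ⊓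
            wt ρ (fun v : J → F => emb (ra (F := F) (J := J) v)) 0 ∧
        Submodule.map (ρ g) (wt ρ (rad (F := F) (ι' := Unit ⊕ (Unit ⊕ J))) 0 ⊓
            wt ρ (fun v : J → F => emb (ra (F := F) (J := J) v)) 0 ⊓
            wt ρ (fun w : J → F => emb (rb (F := F) (J := J) w)) w) =
          wt ρ (rad (F := F) (ι' := Unit ⊕ (Unit ⊕ J))) 0 ⊓
            wt ρ (fun v : J → F => emb (ra (F := F) (J := J) v)) 0 ⊓
            wt ρ (fun w : J → F => emb (rb (F := F) (J := J) w)) w' := by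
  intro a _ w hw
  obtain ⟨b, -, hb⟩ : ∃ b ∈ (Finset.univ : Finset F), b ∉ ({0, 1} : Finset F) := by
    apply Finset.exists_mem_notMem_of_card_lt_card
    calc ({0, 1} : Finset F).card ≤ 2 := Finset.card_le_two
      _ < Fintype.card F := hq
      _ = (Finset.univ : Finset F).card := Finset.card_univ.symm
  have hb0 : b ≠ 0 := by
    intro h
    apply hb
    rw [h]
    simp
  have hb1 : b ≠ 1 := by
    intro h
    apply hb
    rw [h]
    simp
  refine ⟨dg (J := J) b hb0, b⁻¹ • w, ?_, ?_, ?_⟩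
  · intro heq
    have h1 : (b⁻¹ - 1) • w = 0 := by rw [sub_smul, one_smul, heq, sub_self]
    have h2 : b⁻¹ - 1 = 0 := (smul_eq_zero.1 h1).resolve_right hw
    apply hb1
    have h3 : b⁻¹ = 1 := sub_eq_zero.1 h2
    rw [← inv_inv b, h3, inv_one]
  · rw [map_rho_inf, map_rho_inf]
    congr 1
    · congr 1
      · exact map_wt_of_conj ρ _ _ _ _ (dscale_surjective (J := J) b hb0)
          (fun r => dg_rad b hb0 r) 0 0 (fun r => by simp)
      · exact map_wt_of_conj ρ _ _ _ (fun r => r) Function.surjective_id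
          (fun t => dg_x b hb0 t) a a (fun r => rfl)
    · exact map_wt_of_conj ρ _ _ _ _ (smul_surjective' (J := J) b hb0)
        (fun v => dg_a b hb0 v) 0 0 (fun r => by simp)
  · rw [map_rho_inf, map_rho_inf]
    congr 1
    · congr 1
      · exact map_wt_of_conj ρ _ _ _ _ (dscale_surjective (J := J) b hb0)
          (fun r => dg_rad b hb0 r) 0 0 (fun r => by simp)
      · exact map_wt_of_conj ρ _ _ _ _ (smul_surjective' (J := J) b hb0)
          (fun v => dg_a b hb0 v) 0 0 (fun r => by simp)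
    · exact map_wt_of_conj ρ _ _ _ _ (smul_surjective' (J := J) b hb0)
        (fun v => dg_b b hb0 v) w _ (fun r => by
          rw [smul_dotProduct, dotProduct_smul, smul_smul, inv_mul_cancel₀ hb0, one_smul])

open Cfsg.Agent.Lib.Helper13.SLMin in
/-- C2-X1: the mixing element for stage 1, `|J| = 1`, `q ≥ 3` (helper5's shape). -/
theorem stage1_hMix_eq1 (h1 : Fintype.card J = 1) (hq : 3 ≤ Fintype.card F) :
    ∀ a : Unit → F, a ≠ 0 → ∀ w : J → F, w ≠ 0 →
      ∃ (g : SpecialLinearGroup (Unit ⊕ (Unit ⊕ (Unit ⊕ J))) F) (w' : J → F), w' ≠ w ∧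
        Submodule.map (ρ g) (wt ρ (rad (F := F) (ι' := Unit ⊕ (Unit ⊕ J))) 0 ⊓
            wt ρ (fun t : Unit → F => emb (rx (F := F) (J := J) t)) a ⊓
            wt ρ (fun v : J → F => emb (ra (F := F) (J := J) v)) 0) =
          wt ρ (rad (F := F) (ι' := Unit ⊕ (Unit ⊕ J))) 0 ⊓
            wt ρ (fun t : Unit → F => emb (rx (F := F) (J := J) t)) a ⊓
            wt ρ (fun v : J → F => emb (ra (F := F) (J := J) v)) 0 ∧
        Submodule.map (ρ g) (wt ρ (rad (F := F) (ι' := Unit ⊕ (Unit ⊕ J))) 0 ⊓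
            wt ρ (fun v : J → F => emb (ra (F := F) (J := J) v)) 0 ⊓
            wt ρ (fun w : J → F => emb (rb (F := F) (J := J) w)) w) =
          wt ρ (rad (F := F) (ι' := Unit ⊕ (Unit ⊕ J))) 0 ⊓
            wt ρ (fun v : J → F => emb (ra (F := F) (J := J) v)) 0 ⊓
            wt ρ (fun w : J → F => emb (rb (F := F) (J := J) w)) w' :=
  stage1_hMix_torus ρ hq

end X1

end Cfsg.Agent.Lib.Helper10.SLMin
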