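import Mathlib
import Cfsg.Agent.Lib.Helper16.SLMinDefs
import Cfsg.Agent.Lib.Helper13.SLMinWt

/-!
# S2332 leaves A1 + A2 (helper16's plan): the abstract stage lemma

Signatures as in `notes/S2332_leaves.lean`, section A.  Also the weight-space tools W1, W2, W4a in
the `wt` form (derived from helper13's `SLMinWt`).
-/

set_option autoImplicit false

namespace Cfsg.Agent.Lib.Helper10.SLMin

open Matrix Module Cfsg.Agent.Lib.Helper16.SLMin Cfsg.Agent.Lib.Helper15.OrbitBound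
open Cfsg.Agent.Lib.Helper13

section W

variable {F : Type*} [Field F] [Fintype F] {H : Type*} [Group H] {M : Type*} [AddCommGroup M]
  [Module ℂ M] [FiniteDimensional ℂ M] (ρ : Representation ℂ H M)

theorem root_zero {I : Type*} (ι : (I → F) → H) (hι : ∀ r s, ι (r + s) = ι r * ι s) :
    ι 0 = 1 := by
  have h := hι 0 0
  rw [add_zero] at h
  have h2 : ι 0 * ι 0 = ι 0 * 1 := by rw [← h, mul_one]
  exact mul_left_cancel h2

theorem root_comm {I : Type*} (ι : (I → F) → H) (hι : ∀ r s, ι (r + s) = ι r * ι s)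
    (r s : I → F) : ι r * ι s = ι s * ι r := by
  rw [← hι, ← hι, add_comm]

/-- W1: an invariant subspace is the direct sum of its weight parts (dimension count). -/
theorem finrank_eq_sum_inf_wt {I : Type*} [Fintype I] [DecidableEq I] [DecidableEq F]
    (ι : (I → F) → H) (hι : ∀ r s, ι (r + s) = ι r * ι s) (N : Submodule ℂ M)
    (hN : ∀ r, ∀ m ∈ N, ρ (ι r) m ∈ N) :
    finrank ℂ ↥N = ∑ v : I → F, finrank ℂ ↥(N ⊓ wt ρ ι v) := by
  set x : (I → F) → Module.End ℂ ↥N := fun r => (ρ (ι r)).restrict (hN r) with hx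
  have hxa : ∀ v w, x (v + w) = x v * x w := by
    intro v w
    apply LinearMap.ext
    intro m
    apply Subtype.ext
    simp [hx, hι, LinearMap.restrict_apply]
  have hx0 : x 0 = 1 := by
    apply LinearMap.ext
    intro m
    apply Subtype.ext
    simp [hx, root_zero ι hι, LinearMap.restrict_apply]
  rw [← SLMinWt.sum_mult (eps F) x (eps_prim F) hxa hx0]
  apply Finset.sum_congr rfl
  intro v _
  have hmap : Submodule.map N.subtype (LinearMap.range (Pr (eps F) x v)) = N ⊓ wt ρ ι v := by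
    ext m
    simp only [Submodule.mem_map, Submodule.mem_inf, mem_wt]
    constructor
    · rintro ⟨n, hn, rfl⟩
      refine ⟨n.2, fun r => ?_⟩
      have := (SLMinWt.mem_range_Pr_iff (eps F) x (eps_prim F) hxa v n).1 hn r
      have h2 := congrArg Subtype.val this
      simpa [hx, LinearMap.restrict_apply] using h2
    · rintro ⟨hmN, hm⟩
      refine ⟨⟨m, hmN⟩, ?_, rfl⟩
      rw [SLMinWt.mem_range_Pr_iff (eps F) x (eps_prim F) hxa]
      intro r
      apply Subtype.ext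
      simpa [hx, LinearMap.restrict_apply] using hm r
  rw [← hmap, Submodule.finrank_map_subtype_eq]
  rfl

theorem eps_ne_zero (a : F) : (eps F a : ℂ) ≠ 0 := by
  intro h
  have h1 : (eps F (a + -a) : ℂ) = 1 := by
    rw [add_neg_cancel, AddChar.map_zero_eq_one]
  rw [AddChar.map_add_eq_mul, h, zero_mul] at h1
  exact zero_ne_one h1

/-- W2: different weights have disjoint weight spaces. -/
theorem wt_inf_wt_eq_bot {I : Type*} [Fintype I] (ι : (I → F) → H) {v v' : I → F} (h : v ≠ v') :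
    wt ρ ι v ⊓ wt ρ ι v' = ⊥ := by
  classical
  rw [eq_bot_iff]
  intro m hm
  rw [Submodule.mem_bot]
  by_contra hm0
  apply h
  funext i
  have hprim := eps_prim F
  by_contra hne
  have hc : v i - v' i ≠ 0 := sub_ne_zero.2 hne
  apply hprim hc
  apply DFunLike.ext
  intro t
  rw [AddChar.mulShift_apply, AddChar.one_apply]
  have h1 := hm.1 (Pi.single i t)
  have h2 := hm.2 (Pi.single i t)
  rw [h1] at h2
  simp only [dotProduct_single] at h2
  have h3 : ((eps F (v i * t) : ℂ) - eps F (v' i * t)) • m = 0 := by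
    rw [sub_smul, h2, sub_self]
  have h4 : (eps F (v i * t) : ℂ) = eps F (v' i * t) :=
    sub_eq_zero.1 ((smul_eq_zero.1 h3).resolve_right hm0)
  have h5 : (v i - v' i) * t + v' i * t = v i * t := by ring
  have h6 : (eps F ((v i - v' i) * t) : ℂ) * eps F (v' i * t) = 1 * eps F (v' i * t) := by
    rw [← AddChar.map_add_eq_mul, h5, h4, one_mul]
  exact mul_right_cancel₀ (eps_ne_zero _) h6

/-- W4a -/
theorem finrank_map_rho (g : H) (P : Submodule ℂ M) :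
    finrank ℂ ↥(Submodule.map (ρ g) P) = finrank ℂ ↥P := by
  have h1 : ρ g * ρ g⁻¹ = 1 := by rw [← map_mul, mul_inv_cancel, map_one]
  have h2 : ρ g⁻¹ * ρ g = 1 := by rw [← map_mul, inv_mul_cancel, map_one]
  let e : M ≃ₗ[ℂ] M := LinearEquiv.ofLinear (ρ g) (ρ g⁻¹) h1 h2
  have he : (e : M →ₗ[ℂ] M) = ρ g := by
    ext m
    rfl
  have := LinearEquiv.finrank_map_eq e P
  rw [he] at this
  exact this

theorem finrank_le_of_forall_mem (g : H) (P P' : Submodule ℂ M)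
    (h : ∀ m ∈ P, ρ g m ∈ P') : finrank ℂ ↥P ≤ finrank ℂ ↥P' := by
  rw [← finrank_map_rho ρ g P]
  apply Submodule.finrank_mono
  rintro _ ⟨m, hm, rfl⟩
  exact h m hm

/-- a weight space of `ι` is invariant under every `g` commuting with `ι`. -/
theorem wt_map_of_comm {I : Type*} [Fintype I] (ι : (I → F) → H) (g : H)
    (hg : ∀ r, g * ι r = ι r * g) (v : I → F) {m : M} (hm : m ∈ wt ρ ι v) :
    ρ g m ∈ wt ρ ι v := by
  intro r
  have h1 : ρ (ι r) (ρ g m) = ρ g (ρ (ι r) m) := by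
    rw [← Module.End.mul_apply, ← map_mul, ← hg r, map_mul, Module.End.mul_apply]
  rw [h1, hm r, map_smul]

/-- conjugating by `x t` shifts the `β`-weight by `- t • v` on the `α`-weight space of `v`. -/
theorem wt_beta_shift {J : Type*} [Fintype J] (x : (Unit → F) → H) (α β : (J → F) → H)
    (hxα : ∀ t v, x t * α v = α v * x t)
    (hxβ : ∀ t w, x t * β w * (x t)⁻¹ = β w * α (t () • w))
    (t : Unit → F) (v w : J → F) {m : M} (hmα : m ∈ wt ρ α v) (hmβ : m ∈ wt ρ β w) :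
    ρ (x t) m ∈ wt ρ β (w - t () • v) := by
  intro r
  have h1 : x t * β r = β r * α (t () • r) * x t := by
    rw [← hxβ t r]
    group
  have h2 : ρ (x t) (ρ (β r) m) = ρ (β r) (ρ (α (t () • r)) (ρ (x t) m)) := by
    rw [← Module.End.mul_apply, ← Module.End.mul_apply, ← Module.End.mul_apply,
      ← map_mul, ← map_mul, ← map_mul, h1]
  have h3 : ρ (α (t () • r)) (ρ (x t) m) = (eps F (v ⬝ᵥ (t () • r)) : ℂ) • ρ (x t) m :=
    wt_map_of_comm ρ α (x t) (fun r => hxα t r) v hmα (t () • r)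
  rw [hmβ r, map_smul, h3, map_smul] at h2
  -- h2 : eps (w·r) • m' = eps (v·(t r)) • ρ (β r) m'
  have h4 : (eps F (-(v ⬝ᵥ (t () • r))) : ℂ) • ((eps F (w ⬝ᵥ r) : ℂ) • ρ (x t) m) =
      ρ (β r) (ρ (x t) m) := by
    rw [h2, smul_smul, ← AddChar.map_add_eq_mul, neg_add_cancel, AddChar.map_zero_eq_one,
      one_smul]
  rw [← h4, smul_smul, ← AddChar.map_add_eq_mul]
  congr 2
  rw [sub_dotProduct, smul_dotProduct, dotProduct_smul]
  simp only [smul_eq_mul]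
  ring

end W

/-! ## A : the abstract stage lemma -/
section A

variable {F : Type*} [Field F] [Fintype F] [DecidableEq F] {H : Type*} [Group H] {M : Type*}
  [AddCommGroup M] [Module ℂ M] [FiniteDimensional ℂ M] (ρ : Representation ℂ H M)
  {J : Type*} [Fintype J] [DecidableEq J]
  (x : (Unit → F) → H) (α β : (J → F) → H)
  (hx : ∀ s t, x (s + t) = x s * x t) (hα : ∀ r s, α (r + s) = α r * α s)
  (hβ : ∀ r s, β (r + s) = β r * β s)
  (hxα : ∀ t v, x t * α v = α v * x t) (hαβ : ∀ v w, α v * β w = β w * α v)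
  (hxβ : ∀ t w, x t * β w * (x t)⁻¹ = β w * α (t () • w))
  (N₀ : Submodule ℂ M) (hN₀x : ∀ t, ∀ m ∈ N₀, ρ (x t) m ∈ N₀)
  (hN₀α : ∀ v, ∀ m ∈ N₀, ρ (α v) m ∈ N₀) (hN₀β : ∀ w, ∀ m ∈ N₀, ρ (β w) m ∈ N₀)
  (hM1 : ∀ (a : Unit → F) (v : J → F), (a ≠ 0 ∨ v ≠ 0) →
    finrank ℂ ↥(N₀ ⊓ wt ρ x a ⊓ wt ρ α v) = 1)

include hx hxα hN₀x hN₀α hM1 in
/-- for `v ≠ 0` the `α`-weight space of `v` in `N₀` has dimension `q`. -/
theorem finrank_alpha_wt (v : J → F) (hv : v ≠ 0) :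
    finrank ℂ ↥(N₀ ⊓ wt ρ α v) = Fintype.card F := by
  rw [finrank_eq_sum_inf_wt ρ x hx (N₀ ⊓ wt ρ α v)]
  · have h1 : ∀ a : Unit → F, finrank ℂ ↥(N₀ ⊓ wt ρ α v ⊓ wt ρ x a) = 1 := by
      intro a
      rw [inf_right_comm]
      exact hM1 a v (Or.inr hv)
    simp only [h1, Finset.sum_const, Finset.card_univ, smul_eq_mul, mul_one]
    rw [Fintype.card_fun, Fintype.card_unit, pow_one]
  · intro r m hm
    exact ⟨hN₀x r m hm.1, wt_map_of_comm ρ α (x r) (fun s => hxα r s) v hm.2⟩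

include hβ hαβ hN₀β in
/-- decomposition of the `α`-weight space along `β`. -/
theorem finrank_alpha_wt_eq_sum (v : J → F) :
    finrank ℂ ↥(N₀ ⊓ wt ρ α v) = ∑ w : J → F, finrank ℂ ↥(N₀ ⊓ wt ρ α v ⊓ wt ρ β w) := by
  apply finrank_eq_sum_inf_wt ρ β hβ (N₀ ⊓ wt ρ α v)
  intro r m hm
  exact ⟨hN₀β r m hm.1, wt_map_of_comm ρ α (β r) (fun s => (hαβ s r).symm) v hm.2⟩

include hα hαβ hN₀α in
/-- decomposition of the `β`-weight space along `α`. -/
theorem finrank_beta_wt_eq_sum (w : J → F) :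
    finrank ℂ ↥(N₀ ⊓ wt ρ β w) = ∑ v : J → F, finrank ℂ ↥(N₀ ⊓ wt ρ α v ⊓ wt ρ β w) := by
  rw [finrank_eq_sum_inf_wt ρ α hα (N₀ ⊓ wt ρ β w)]
  · apply Finset.sum_congr rfl
    intro v _
    rw [inf_right_comm]
  · intro r m hm
    exact ⟨hN₀α r m hm.1, wt_map_of_comm ρ β (α r) (fun s => hαβ r s) w hm.2⟩

include hxα hxβ hN₀x in
theorem finrank_shift_le (t : Unit → F) (v w : J → F) :
    finrank ℂ ↥(N₀ ⊓ wt ρ α v ⊓ wt ρ β w) ≤
      finrank ℂ ↥(N₀ ⊓ wt ρ α v ⊓ wt ρ β (w - t () • v)) := by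
  apply finrank_le_of_forall_mem ρ (x t)
  intro m hm
  exact ⟨⟨hN₀x t m hm.1.1, wt_map_of_comm ρ α (x t) (fun s => hxα t s) v hm.1.2⟩,
    wt_beta_shift ρ x α β hxα hxβ t v w hm.1.2 hm.2⟩

include hxα hxβ hN₀x in
/-- (ii) `d(v,w) = d(v, w - t v)`. -/
theorem finrank_shift (t : F) (v w : J → F) :
    finrank ℂ ↥(N₀ ⊓ wt ρ α v ⊓ wt ρ β w) =
      finrank ℂ ↥(N₀ ⊓ wt ρ α v ⊓ wt ρ β (w - t • v)) := by
  apply le_antisymm
  · exact finrank_shift_le ρ x α β hxα hxβ N₀ hN₀x (fun _ => t) v w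
  · have h : finrank ℂ ↥(N₀ ⊓ wt ρ α v ⊓ wt ρ β (w - t • v)) ≤
        finrank ℂ ↥(N₀ ⊓ wt ρ α v ⊓ wt ρ β (w - t • v - (-t) • v)) :=
      finrank_shift_le ρ x α β hxα hxβ N₀ hN₀x (fun _ => -t) v (w - t • v)
    have h2 : w - t • v - (-t) • v = w := by
      rw [neg_smul, sub_neg_eq_add, sub_add_cancel]
    rwa [h2] at h

include hx hα hβ hxα hαβ hxβ hN₀x hN₀α hN₀β hM1

/-- A1: rank-2 exclusion from "many equal multiplicities". -/
theorem rank2_excl_abstract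
    (hSym : ∀ v w : J → F, LinearIndependent F ![v, w] → ∃ S : Finset (J → F),
      Fintype.card F < S.card ∧ ∀ w' ∈ S,
        finrank ℂ ↥(N₀ ⊓ wt ρ α v ⊓ wt ρ β w') = finrank ℂ ↥(N₀ ⊓ wt ρ α v ⊓ wt ρ β w)) :
    ∀ v w : J → F, LinearIndependent F ![v, w] → N₀ ⊓ wt ρ α v ⊓ wt ρ β w = ⊥ := by
  intro v w hli
  have hv : v ≠ 0 := hli.ne_zero 0
  obtain ⟨S, hS, hSd⟩ := hSym v w hli
  have hq := finrank_alpha_wt ρ x α hx hxα N₀ hN₀x hN₀α hM1 v hv
  have hsum := finrank_alpha_wt_eq_sum ρ α β hβ hαβ N₀ hN₀β v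
  rw [hq] at hsum
  have h1 : S.card * finrank ℂ ↥(N₀ ⊓ wt ρ α v ⊓ wt ρ β w) =
      ∑ w' ∈ S, finrank ℂ ↥(N₀ ⊓ wt ρ α v ⊓ wt ρ β w') := by
    rw [Finset.sum_congr rfl hSd, Finset.sum_const, smul_eq_mul]
  have h2 : ∑ w' ∈ S, finrank ℂ ↥(N₀ ⊓ wt ρ α v ⊓ wt ρ β w') ≤ Fintype.card F := by
    rw [hsum]
    exact Finset.sum_le_sum_of_subset (Finset.subset_univ S)
  have h3 : finrank ℂ ↥(N₀ ⊓ wt ρ α v ⊓ wt ρ β w) = 0 := by
    by_contra h0
    have h4 : S.card ≤ S.card * finrank ℂ ↥(N₀ ⊓ wt ρ α v ⊓ wt ρ β w) :=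
      Nat.le_mul_of_pos_right _ (Nat.pos_of_ne_zero h0)
    omega
  exact Submodule.finrank_eq_zero.1 h3

omit hM1 hN₀β hN₀α hN₀x hxβ hαβ hxα hβ hα hx in
theorem linearIndependent_pair_of_not_mem (v w : J → F) (hv : v ≠ 0)
    (hw : ∀ t : F, w ≠ t • v) : LinearIndependent F ![v, w] := by
  rw [LinearIndependent.pair_iff]
  intro s t hst
  by_cases ht : t = 0
  · subst ht
    rw [zero_smul, add_zero] at hst
    exact ⟨(smul_eq_zero.1 hst).resolve_right hv, rfl⟩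
  · exfalso
    apply hw (-s / t)
    have h1 : t • w = -(s • v) := eq_neg_of_add_eq_zero_right hst
    calc w = t⁻¹ • (t • w) := by rw [smul_smul, inv_mul_cancel₀ ht, one_smul]
      _ = t⁻¹ • (-(s • v)) := by rw [h1]
      _ = (-s / t) • v := by
        rw [smul_neg, smul_smul, ← neg_smul]
        congr 1
        field_simp

/-- A2: the abstract stage lemma. -/
theorem stage_abstract
    (hM2 : ∀ w : J → F, w ≠ 0 → finrank ℂ ↥(N₀ ⊓ wt ρ β w) = Fintype.card F)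
    (hC : ∀ v w : J → F, LinearIndependent F ![v, w] → N₀ ⊓ wt ρ α v ⊓ wt ρ β w = ⊥)
    (hMix : ∀ a : Unit → F, a ≠ 0 → ∀ w : J → F, w ≠ 0 → ∃ (g : H) (w' : J → F), w' ≠ w ∧
      Submodule.map (ρ g) (N₀ ⊓ wt ρ x a ⊓ wt ρ α 0) = N₀ ⊓ wt ρ x a ⊓ wt ρ α 0 ∧
      Submodule.map (ρ g) (N₀ ⊓ wt ρ α 0 ⊓ wt ρ β w) = N₀ ⊓ wt ρ α 0 ⊓ wt ρ β w') :
    ∀ w : J → F, w ≠ 0 → finrank ℂ ↥(N₀ ⊓ wt ρ x 0 ⊓ wt ρ α 0 ⊓ wt ρ β w) = 1 := by
  have hqpos : 0 < Fintype.card F := Fintype.card_pos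
  -- abbreviations
  have hd0 : ∀ v w : J → F, LinearIndependent F ![v, w] →
      finrank ℂ ↥(N₀ ⊓ wt ρ α v ⊓ wt ρ β w) = 0 := by
    intro v w hli
    rw [hC v w hli]
    exact finrank_bot ℂ M
  -- (iii) d(v, t v) = 1 for v ≠ 0
  have hdiag : ∀ v : J → F, v ≠ 0 → ∀ t : F,
      finrank ℂ ↥(N₀ ⊓ wt ρ α v ⊓ wt ρ β (t • v)) = 1 := by
    intro v hv
    have hq := finrank_alpha_wt ρ x α hx hxα N₀ hN₀x hN₀α hM1 v hv
    have hsum := finrank_alpha_wt_eq_sum ρ α β hβ hαβ N₀ hN₀β v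
    rw [hq] at hsum
    have hinj : Function.Injective (fun t : F => t • v) := by
      intro s t hst
      have h1 : (s - t) • v = 0 := by rw [sub_smul]; exact sub_eq_zero.2 hst
      exact sub_eq_zero.1 ((smul_eq_zero.1 h1).resolve_right hv)
    have h1 : ∑ w : J → F, finrank ℂ ↥(N₀ ⊓ wt ρ α v ⊓ wt ρ β w) =
        ∑ w ∈ Finset.univ.image (fun t : F => t • v),
          finrank ℂ ↥(N₀ ⊓ wt ρ α v ⊓ wt ρ β w) := by
      symm
      apply Finset.sum_subset (Finset.subset_univ _)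
      intro w _ hw
      apply hd0
      apply linearIndependent_pair_of_not_mem v w hv
      intro t ht
      apply hw
      rw [Finset.mem_image]
      exact ⟨t, Finset.mem_univ t, ht.symm⟩
    have h2 : ∀ t : F, finrank ℂ ↥(N₀ ⊓ wt ρ α v ⊓ wt ρ β (t • v)) =
        finrank ℂ ↥(N₀ ⊓ wt ρ α v ⊓ wt ρ β 0) := by
      intro t
      have := finrank_shift ρ x α β hxα hxβ N₀ hN₀x t v (t • v)
      rwa [sub_self] at this
    rw [h1, Finset.sum_image (fun s _ t _ hst => hinj hst)] at hsum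
    simp only [h2, Finset.sum_const, Finset.card_univ, smul_eq_mul] at hsum
    have h3 : finrank ℂ ↥(N₀ ⊓ wt ρ α v ⊓ wt ρ β 0) = 1 := by
      have h4 : Fintype.card F * 1 = Fintype.card F * finrank ℂ ↥(N₀ ⊓ wt ρ α v ⊓ wt ρ β 0) := by
        rw [mul_one]; exact hsum
      exact (Nat.eq_of_mul_eq_mul_left hqpos h4).symm
    intro t
    rw [h2 t, h3]
  -- (iv) d(0, w) = 1 for w ≠ 0
  have hzero : ∀ w : J → F, w ≠ 0 → finrank ℂ ↥(N₀ ⊓ wt ρ α 0 ⊓ wt ρ β w) = 1 := by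
    intro w hw
    have hsum := finrank_beta_wt_eq_sum ρ α β hα hαβ N₀ hN₀α w
    rw [hM2 w hw] at hsum
    have hinj : Function.Injective (fun s : F => s • w) := by
      intro s t hst
      have h1 : (s - t) • w = 0 := by rw [sub_smul]; exact sub_eq_zero.2 hst
      exact sub_eq_zero.1 ((smul_eq_zero.1 h1).resolve_right hw)
    have h1 : ∑ v : J → F, finrank ℂ ↥(N₀ ⊓ wt ρ α v ⊓ wt ρ β w) =
        ∑ v ∈ Finset.univ.image (fun s : F => s • w),
          finrank ℂ ↥(N₀ ⊓ wt ρ α v ⊓ wt ρ β w) := by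
      symm
      apply Finset.sum_subset (Finset.subset_univ _)
      intro v _ hv
      apply hd0
      have hv0 : v ≠ 0 := by
        intro h0
        apply hv
        rw [Finset.mem_image]
        exact ⟨0, Finset.mem_univ _, by rw [zero_smul, h0]⟩
      apply linearIndependent_pair_of_not_mem v w hv0
      intro t ht
      have ht0 : t ≠ 0 := by
        intro h0
        rw [h0, zero_smul] at ht
        exact hw ht
      apply hv
      rw [Finset.mem_image]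
      refine ⟨t⁻¹, Finset.mem_univ _, ?_⟩
      show t⁻¹ • w = v
      rw [ht, smul_smul, inv_mul_cancel₀ ht0, one_smul]
    rw [h1, Finset.sum_image (fun s _ t _ hst => hinj hst)] at hsum
    rw [← Finset.add_sum_erase Finset.univ _ (Finset.mem_univ (0 : F))] at hsum
    have h2 : ∀ s ∈ Finset.univ.erase (0 : F),
        finrank ℂ ↥(N₀ ⊓ wt ρ α (s • w) ⊓ wt ρ β w) = 1 := by
      intro s hs
      have hs0 : s ≠ 0 := (Finset.mem_erase.1 hs).1
      have hsw : s • w ≠ 0 := smul_ne_zero hs0 hw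
      have := hdiag (s • w) hsw s⁻¹
      rwa [smul_smul, inv_mul_cancel₀ hs0, one_smul] at this
    rw [Finset.sum_congr rfl h2, Finset.sum_const, smul_eq_mul, mul_one,
      Finset.card_erase_of_mem (Finset.mem_univ _), Finset.card_univ, zero_smul] at hsum
    omega
  -- (v)
  intro w hw
  set L : Submodule ℂ M := N₀ ⊓ wt ρ α 0 ⊓ wt ρ β w with hL
  have hL1 : finrank ℂ ↥L = 1 := hzero w hw
  have hLx : ∀ r, ∀ m ∈ L, ρ (x r) m ∈ L := by
    intro r m hm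
    refine ⟨⟨hN₀x r m hm.1.1, wt_map_of_comm ρ α (x r) (fun s => hxα r s) 0 hm.1.2⟩, ?_⟩
    have := wt_beta_shift ρ x α β hxα hxβ r 0 w hm.1.2 hm.2
    rwa [smul_zero, sub_zero] at this
  have hLsum := finrank_eq_sum_inf_wt ρ x hx L hLx
  rw [hL1] at hLsum
  have hgoal : N₀ ⊓ wt ρ x 0 ⊓ wt ρ α 0 ⊓ wt ρ β w = L ⊓ wt ρ x 0 := by
    rw [hL]
    ac_rfl
  rw [hgoal]
  -- some a₀ has a nonzero part
  have hex : ∃ a₀ : Unit → F, finrank ℂ ↥(L ⊓ wt ρ x a₀) ≠ 0 := by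
    by_contra hcon
    push Not at hcon
    rw [Finset.sum_congr rfl (fun a _ => hcon a), Finset.sum_const_zero] at hLsum
    exact one_ne_zero hLsum
  obtain ⟨a₀, ha₀⟩ := hex
  have hle1 : finrank ℂ ↥(L ⊓ wt ρ x a₀) ≤ 1 := by
    rw [← hL1]
    exact Submodule.finrank_mono inf_le_left
  have hfa : finrank ℂ ↥(L ⊓ wt ρ x a₀) = 1 := by omega
  have hLle : L ≤ wt ρ x a₀ := by
    have h1 : L ⊓ wt ρ x a₀ = L := by
      apply Submodule.eq_of_le_of_finrank_eq inf_le_left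
      rw [hfa, hL1]
    rw [← h1]
    exact inf_le_right
  by_cases ha0 : a₀ = 0
  · rw [← ha0]
    exact hfa
  · exfalso
    set P : Submodule ℂ M := N₀ ⊓ wt ρ x a₀ ⊓ wt ρ α 0 with hP
    have hP1 : finrank ℂ ↥P = 1 := hM1 a₀ 0 (Or.inl ha0)
    have hLP : L = P := by
      apply Submodule.eq_of_le_of_finrank_eq
      · intro m hm
        exact ⟨⟨hm.1.1, hLle hm⟩, hm.1.2⟩
      · rw [hL1, hP1]
    obtain ⟨g, w', hw', hgP, hgL⟩ := hMix a₀ ha0 w hw
    have h1 : N₀ ⊓ wt ρ α 0 ⊓ wt ρ β w' = L := by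
      rw [← hgL, ← hL, hLP, hgP]
    have h2 : L ≤ wt ρ β w ⊓ wt ρ β w' := by
      intro m hm
      refine ⟨hm.2, ?_⟩
      have : m ∈ N₀ ⊓ wt ρ α 0 ⊓ wt ρ β w' := by rw [h1]; exact hm
      exact this.2
    rw [wt_inf_wt_eq_bot ρ β (Ne.symm hw')] at h2
    have h3 : L = ⊥ := eq_bot_iff.2 h2
    rw [h3, finrank_bot] at hL1
    exact zero_ne_one hL1

end A

end Cfsg.Agent.Lib.Helper10.SLMin
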