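import Mathlib
import Cfsg.Agent.Lib.Helper12.NseA

/-!
# S3996 leaf A `A_unique_inv` (helper10): unique involution, `4 ∣ N`: at most one odd prime.
Pure arithmetic over helper12's `NseSys`; Frobenius at `4`, `p`, `4p`, `pq`, `4pq`, read modulo `p` and modulo `q`.
-/

set_option autoImplicit false

namespace Cfsg.Agent.Lib.Helper10.SOT
open Cfsg.Agent.Lib.Helper12.Nse

theorem sum_div_mul_coprime {a b : ℕ} (hab : a.Coprime b) (f : ℕ → ℕ) :
    ∑ d ∈ (a * b).divisors, f d = ∑ x ∈ a.divisors, ∑ y ∈ b.divisors, f (x * y) := by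
  rw [hab.divisors_mul, Finset.sum_map]
  show ∑ x ∈ (a.divisors ×ˢ b.divisors).attach, f (x.1.1 * x.1.2) = _
  rw [Finset.sum_attach (a.divisors ×ˢ b.divisors) (fun p => f (p.1 * p.2)), Finset.sum_product]

theorem div4 : Nat.divisors 4 = {1, 2, 4} := by decide

theorem two_ne_zero_zmod {p : ℕ} (hp : p.Prime) (hp2 : p ≠ 2) : (2 : ZMod p) ≠ 0 := by
  intro h
  have h' : ((2 : ℕ) : ZMod p) = 0 := by exact_mod_cast h
  have hd : p ∣ 2 := (ZMod.natCast_eq_zero_iff 2 p).1 h'
  have := Nat.le_of_dvd (by norm_num) hd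
  have := hp.two_le
  omega

section frob
variable {N : ℕ} {s : ℕ → ℕ}

theorem nfrob_p (h : NseSys N s) {p : ℕ} (hp : p.Prime) (hpN : p ∣ N) : p ∣ 1 + s p := by
  have := h.frob p hpN
  rw [Nat.Prime.sum_divisors hp, h.m_one, add_comm] at this
  exact this

theorem nfrob_4 (h : NseSys N s) (h4 : 4 ∣ N) : 4 ∣ 1 + s 2 + s 4 := by
  have := h.frob 4 h4
  rw [div4, Finset.sum_insert (by decide), Finset.sum_insert (by decide), Finset.sum_singleton, h.m_one] at this
  obtain ⟨k, hk⟩ := this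
  exact ⟨k, by rw [← hk]; ring⟩

theorem nfrob_pq (h : NseSys N s) {p q : ℕ} (hp : p.Prime) (hq : q.Prime) (hpq : p ≠ q) (hN : p * q ∣ N) :
    p * q ∣ 1 + s p + s q + s (p * q) := by
  have := h.frob (p * q) hN
  rw [sum_div_mul_coprime ((Nat.coprime_primes hp hq).mpr hpq), Nat.Prime.sum_divisors hp] at this
  simp only [Nat.Prime.sum_divisors hq, one_mul, mul_one, h.m_one] at this
  obtain ⟨k, hk⟩ := this
  exact ⟨k, by rw [← hk]; ring⟩

theorem nfrob_4p (h : NseSys N s) {p : ℕ} (hp : p.Prime) (hp2 : p ≠ 2) (hN : 4 * p ∣ N) :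
    4 * p ∣ 1 + s 2 + s 4 + s p + s (2 * p) + s (4 * p) := by
  have := h.frob (4 * p) hN
  have hcop : Nat.Coprime 4 p := by
    have : Nat.Coprime 2 p := (Nat.coprime_primes Nat.prime_two hp).mpr (Ne.symm hp2)
    exact Nat.Coprime.pow_left 2 this
  rw [sum_div_mul_coprime hcop, div4] at this
  simp only [Nat.Prime.sum_divisors hp] at this
  rw [Finset.sum_insert (by decide), Finset.sum_insert (by decide), Finset.sum_singleton] at this
  simp only [one_mul, mul_one, h.m_one] at this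
  obtain ⟨k, hk⟩ := this
  exact ⟨k, by rw [← hk]; ring⟩

theorem nfrob_4pq (h : NseSys N s) {p q : ℕ} (hp : p.Prime) (hq : q.Prime) (hp2 : p ≠ 2) (hq2 : q ≠ 2)
    (hpq : p ≠ q) (hN : 4 * (p * q) ∣ N) :
    4 * (p * q) ∣ (1 + s 2 + s 4) + (s p + s (2 * p) + s (4 * p)) + (s q + s (2 * q) + s (4 * q)) +
      (s (p * q) + s (2 * (p * q)) + s (4 * (p * q))) := by
  have := h.frob (4 * (p * q)) hN
  have hcpq : Nat.Coprime p q := (Nat.coprime_primes hp hq).mpr hpq
  have hcop : Nat.Coprime 4 (p * q) := by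
    have h2p : Nat.Coprime 2 p := (Nat.coprime_primes Nat.prime_two hp).mpr (Ne.symm hp2)
    have h2q : Nat.Coprime 2 q := (Nat.coprime_primes Nat.prime_two hq).mpr (Ne.symm hq2)
    exact Nat.Coprime.pow_left 2 (Nat.Coprime.mul_right h2p h2q)
  rw [sum_div_mul_coprime hcop, div4] at this
  simp only [sum_div_mul_coprime hcpq, Nat.Prime.sum_divisors hp, Nat.Prime.sum_divisors hq] at this
  rw [Finset.sum_insert (by decide), Finset.sum_insert (by decide), Finset.sum_singleton] at this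
  simp only [one_mul, mul_one, h.m_one] at this
  obtain ⟨k, hk⟩ := this
  exact ⟨k, by rw [← hk]; ring⟩

end frob


/-! ### the two field computations -/

/-- case (α·): `s (4p) = 0` -/
theorem alpha_core {K L : Type*} [Field K] [Field L] (h2K : (2 : K) ≠ 0) (h2L : (2 : L) ≠ 0)
    (m n a b c e f g : ℕ)
    (ha : a = m ∨ a = n) (hb : b = m ∨ b = n) (hc : c = 0 ∨ c = m ∨ c = n) (he : e = 0)
    (hf : f = 0 ∨ f = n) (hg : g = 0 ∨ g = n)
    (P1 : (1 + a : K) = 0) (P2 : (m + e : K) = 0) (P3 : (b + c : K) = 0)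
    (P4 : (2 + m + 2 * a + e + 2 * b + f + 2 * c + g : K) = 0)
    (Q1 : (1 + b : L) = 0) (Q2 : (m + f : L) = 0) (Q3 : (a + c : L) = 0) : False := by
  subst he
  simp only [Nat.cast_zero, add_zero] at P2 P4
  -- `P2 : (m : K) = 0`
  rcases ha with rfl | rfl
  · -- a = m: 1 + M = 0 and M = 0
    exact one_ne_zero (α := K) (by linear_combination P1 - P2)
  · -- a = n: N = -1 in K
    rcases hb with rfl | rfl
    · -- b = m
      rcases hc with rfl | rfl | rfl
      · -- c = 0: in L: N = 0, then M = 0 (both cases of f), so 1 = 0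
        simp only [Nat.cast_zero, add_zero] at Q3
        rcases hf with rfl | rfl
        · simp only [Nat.cast_zero, add_zero] at Q2
          exact one_ne_zero (α := L) (by linear_combination Q1 - Q2)
        · exact one_ne_zero (α := L) (by linear_combination Q1 - Q2 + Q3)
      · -- c = m
        rcases hf with rfl | rfl
        · simp only [Nat.cast_zero, add_zero] at Q2
          exact one_ne_zero (α := L) (by linear_combination Q1 - Q2)
        · rcases hg with rfl | rfl
          · simp only [Nat.cast_zero, add_zero] at P4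
            -- 2 + M + 2N + 2M + N + 2M = 0, M = 0, N = -1: -1 = 0
            exact one_ne_zero (α := K) (by linear_combination (-1 : K) * P4 + 5 * P2 + 3 * P1)
          · -- 2 + 5M + 4N = 0: -2 = 0
            exact h2K (by linear_combination (-1 : K) * P4 + 5 * P2 + 4 * P1)
      · -- c = n: M + N = 0 in K, M = 0, N = -1
        exact one_ne_zero (α := K) (by linear_combination P1 - P3 + P2)
    · -- b = n: N + c = 0 in K
      rcases hc with rfl | rfl | rfl
      · simp only [Nat.cast_zero, add_zero] at P3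
        exact one_ne_zero (α := K) (by linear_combination P1 - P3)
      · exact one_ne_zero (α := K) (by linear_combination P1 - P3 + P2)
      · exact h2K (by linear_combination 2 * P1 - P3)

/-- case (ββ): `s (4p) = s (4q) = n` -/
theorem beta_core {K L : Type*} [Field K] [Field L] (h2K : (2 : K) ≠ 0) (h2L : (2 : L) ≠ 0)
    (m n a b c e f g : ℕ)
    (ha : a = m ∨ a = n) (hb : b = m ∨ b = n) (hc : c = 0 ∨ c = m ∨ c = n) (he : e = n) (hf : f = n)
    (hg : g = 0 ∨ g = n)
    (P1 : (1 + a : K) = 0) (P2 : (m + e : K) = 0) (P3 : (b + c : K) = 0)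
    (P4 : (2 + m + 2 * a + e + 2 * b + f + 2 * c + g : K) = 0)
    (Q1 : (1 + b : L) = 0) (Q2 : (m + f : L) = 0) (Q3 : (a + c : L) = 0) : False := by
  subst he
  subst hf
  -- K: M + N = 0; L: M + N = 0
  rcases ha with rfl | rfl
  · -- a = m: K: M = -1, N = 1
    rcases hb with rfl | rfl
    · -- b = m (= a): K: M + c = 0, so c = 1 = N
      rcases hc with rfl | rfl | rfl
      · simp only [Nat.cast_zero, add_zero] at P3
        exact one_ne_zero (α := K) (by linear_combination P1 - P3)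
      · exact h2K (by linear_combination 2 * P1 - P3)
      · -- c = n; P4: 2 + M + 2M + N + 2M + N + 2N + g = 2 + 5M + 4N + g
        rcases hg with rfl | rfl
        · simp only [Nat.cast_zero, add_zero] at P4
          -- 2 + 5M + 4N = 0 with M = -1, N = 1: 1 = 0
          exact one_ne_zero (α := K) (by linear_combination P4 - 4 * P2 - P1)
        · -- 2 + 5M + 5N = 0: 2 = 0
          exact h2K (by linear_combination P4 - 5 * P2)
    · -- b = n: K: N + c = 0 → c = -1 = M; L: N = -1, M = 1, M + c = 0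
      rcases hc with rfl | rfl | rfl
      · simp only [Nat.cast_zero, add_zero] at P3
        -- N = 0, M + N = 0, 1 + M = 0
        exact one_ne_zero (α := K) (by linear_combination P1 - P2 + P3)
      · -- c = m: L: M + M = 0 with M = 1 (1 + N = 0, M + N = 0)
        exact h2L (by linear_combination 2 * Q1 - 2 * Q2 + Q3)
      · -- c = n: K: N + N = 0, N = 1
        exact h2K (by linear_combination 2 * P1 - 2 * P2 + P3)
  · -- a = n: K: N = -1, M = 1
    rcases hb with rfl | rfl
    · -- b = m: K: M + c = 0 → c = -1 = N; L: M = -1, N = 1, N + c = 0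
      rcases hc with rfl | rfl | rfl
      · simp only [Nat.cast_zero, add_zero] at P3
        -- M = 0, M + N = 0, 1 + N = 0
        exact one_ne_zero (α := K) (by linear_combination P1 - P2 + P3)
      · -- c = m: K: M + M = 0, M = 1
        exact h2K (by linear_combination 2 * P1 - 2 * P2 + P3)
      · -- c = n: L: N + N = 0, N = 1 (1 + M = 0, M + N = 0)
        exact h2L (by linear_combination 2 * Q1 - 2 * Q2 + Q3)
    · -- b = n (= a): K: N + c = 0 → c = 1 = M
      rcases hc with rfl | rfl | rfl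
      · simp only [Nat.cast_zero, add_zero] at P3
        exact one_ne_zero (α := K) (by linear_combination P1 - P3)
      · -- c = m; P4: 2 + M + 2N + N + 2N + N + 2M + g = 2 + 3M + 6N + g
        rcases hg with rfl | rfl
        · simp only [Nat.cast_zero, add_zero] at P4
          -- 2 + 3M + 6N = 0, M = 1, N = -1: -1 = 0
          exact one_ne_zero (α := K) (by linear_combination (-1 : K) * P4 + 3 * P2 + 3 * P1)
        · -- 2 + 3M + 7N = 0: -2 = 0
          exact h2K (by linear_combination (-1 : K) * P4 + 3 * P2 + 4 * P1)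
      · exact h2K (by linear_combination 2 * P1 - P3)

/-- **A** (M-L, arithmetic): unique involution, `4 ∣ N`: at most one odd prime. -/
theorem A_unique_inv {N : ℕ} {s : ℕ → ℕ} (h : NseSys N s) (h4 : 4 ∣ N) (h2 : s 2 = 1)
    (hdbl : ∀ d, Odd d → s (2 * d) = s d) (m n : ℕ) (hs4 : s 4 = m)
    (hV : ∀ d, 3 ≤ d → s d = 0 ∨ s d = m ∨ s d = n)
    (p q : ℕ) (hp : p.Prime) (hq : q.Prime) (hp2 : p ≠ 2) (hq2 : q ≠ 2) (hpq : p ≠ q)
    (hpN : p ∣ N) (hqN : q ∣ N) : False := by
  have hp3 : 3 ≤ p := by have := hp.two_le; omega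
  have hq3 : 3 ≤ q := by have := hq.two_le; omega
  have hpq9 : 3 ≤ p * q := by nlinarith
  have hpo : Odd p := hp.odd_of_ne_two hp2
  have hqo : Odd q := hq.odd_of_ne_two hq2
  have hpqo : Odd (p * q) := hpo.mul hqo
  have h2p : Nat.Coprime 2 p := (Nat.coprime_primes Nat.prime_two hp).mpr (Ne.symm hp2)
  have h2q : Nat.Coprime 2 q := (Nat.coprime_primes Nat.prime_two hq).mpr (Ne.symm hq2)
  have h4p : Nat.Coprime 4 p := Nat.Coprime.pow_left 2 h2p
  have h4q : Nat.Coprime 4 q := Nat.Coprime.pow_left 2 h2q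
  have hcpq : Nat.Coprime p q := (Nat.coprime_primes hp hq).mpr hpq
  have hpqN : p * q ∣ N := hcpq.mul_dvd_of_dvd_of_dvd hpN hqN
  have h4pN : 4 * p ∣ N := h4p.mul_dvd_of_dvd_of_dvd h4 hpN
  have h4qN : 4 * q ∣ N := h4q.mul_dvd_of_dvd_of_dvd h4 hqN
  have h4pqN : 4 * (p * q) ∣ N := (Nat.Coprime.mul_right h4p h4q).mul_dvd_of_dvd_of_dvd h4 hpqN
  have hf4 : 4 ∣ 1 + 1 + m := by
    have := nfrob_4 h h4
    rwa [h2, hs4] at this
  -- the values at `4 d`, `d` odd, are `0` or `n`
  have hT : ∀ d, Odd d → 3 ≤ d → s (4 * d) = 0 ∨ s (4 * d) = n := by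
    intro d hd hd3
    rcases hV (4 * d) (by omega) with h0 | hm | hn
    · exact Or.inl h0
    · exfalso
      have hcop : Nat.Coprime 4 d := Nat.Coprime.pow_left 2 (Nat.coprime_two_left.mpr hd)
      have h4t : Nat.totient 4 = 2 := by decide
      have htot : Nat.totient (4 * d) = 2 * Nat.totient d := by
        rw [Nat.totient_mul hcop, h4t]
      have hev : Even (Nat.totient d) := Nat.totient_even (by omega)
      have h4tot : 4 ∣ Nat.totient (4 * d) := by
        rw [htot]; obtain ⟨k, hk⟩ := hev; exact ⟨k, by omega⟩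
      have h4m : 4 ∣ m := by rw [← hm]; exact h4tot.trans (h.tot _)
      omega
    · exact Or.inr hn
  haveI : Fact p.Prime := ⟨hp⟩
  haveI : Fact q.Prime := ⟨hq⟩
  have h2K := two_ne_zero_zmod hp hp2
  have h2L := two_ne_zero_zmod hq hq2
  have castp : ∀ x : ℕ, p ∣ x → ((x : ℕ) : ZMod p) = 0 :=
    fun x hx => (ZMod.natCast_eq_zero_iff x p).2 hx
  have castq : ∀ x : ℕ, q ∣ x → ((x : ℕ) : ZMod q) = 0 :=
    fun x hx => (ZMod.natCast_eq_zero_iff x q).2 hx
  -- Frobenius
  have F1 := nfrob_p h hp hpN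
  have G1 := nfrob_p h hq hqN
  have F2 := nfrob_4p h hp hp2 h4pN
  have G2 := nfrob_4p h hq hq2 h4qN
  have F3 := nfrob_pq h hp hq hpq hpqN
  have F4 := nfrob_4pq h hp hq hp2 hq2 hpq h4pqN
  rw [h2, hs4, hdbl p hpo] at F2
  rw [h2, hs4, hdbl q hqo] at G2
  rw [h2, hs4, hdbl p hpo, hdbl q hqo, hdbl (p * q) hpqo] at F4
  have E1 := castp _ F1
  have E2 := castp _ ((dvd_mul_left p 4).trans F2)
  have E3 := castp _ ((dvd_mul_right p q).trans F3)
  have E4 := castp _ (((dvd_mul_right p q).trans (dvd_mul_left (p * q) 4)).trans F4)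
  have D1 := castq _ G1
  have D2 := castq _ ((dvd_mul_left q 4).trans G2)
  have D3 := castq _ ((dvd_mul_left q p).trans F3)
  have D4 := castq _ (((dvd_mul_left q p).trans (dvd_mul_left (p * q) 4)).trans F4)
  push_cast at E1 E2 E3 E4 D1 D2 D3 D4
  -- the values
  have ha : s p = m ∨ s p = n := by
    rcases hV p hp3 with h0 | h1
    · exact absurd h0 (h.cauchy p hp hpN)
    · exact h1
  have hb : s q = m ∨ s q = n := by
    rcases hV q hq3 with h0 | h1
    · exact absurd h0 (h.cauchy q hq hqN)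
    · exact h1
  have hc := hV (p * q) hpq9
  have he := hT p hpo hp3
  have hf := hT q hqo hq3
  have hg := hT (p * q) hpqo hpq9
  have P1 : (1 + (s p : ℕ) : ZMod p) = 0 := E1
  have P2 : ((m : ℕ) + (s (4 * p) : ℕ) : ZMod p) = 0 := by linear_combination E2 - 2 * E1
  have P3 : ((s q : ℕ) + (s (p * q) : ℕ) : ZMod p) = 0 := by linear_combination E3 - E1
  have P4 : (2 + (m : ℕ) + 2 * (s p : ℕ) + (s (4 * p) : ℕ) + 2 * (s q : ℕ) + (s (4 * q) : ℕ)
      + 2 * (s (p * q) : ℕ) + (s (4 * (p * q)) : ℕ) : ZMod p) = 0 := by linear_combination E4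
  have Q1 : (1 + (s q : ℕ) : ZMod q) = 0 := D1
  have Q2 : ((m : ℕ) + (s (4 * q) : ℕ) : ZMod q) = 0 := by linear_combination D2 - 2 * D1
  have Q3 : ((s p : ℕ) + (s (p * q) : ℕ) : ZMod q) = 0 := by linear_combination D3 - D1
  have Q4 : (2 + (m : ℕ) + 2 * (s q : ℕ) + (s (4 * q) : ℕ) + 2 * (s p : ℕ) + (s (4 * p) : ℕ)
      + 2 * (s (p * q) : ℕ) + (s (4 * (p * q)) : ℕ) : ZMod q) = 0 := by linear_combination D4
  rcases he with he0 | hen
  · exact alpha_core (K := ZMod p) (L := ZMod q) h2K h2L m n (s p) (s q) (s (p * q)) (s (4 * p))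
      (s (4 * q)) (s (4 * (p * q))) ha hb hc he0 hf hg P1 P2 P3 P4 Q1 Q2 Q3
  · rcases hf with hf0 | hfn
    · exact alpha_core (K := ZMod q) (L := ZMod p) h2L h2K m n (s q) (s p) (s (p * q)) (s (4 * q))
        (s (4 * p)) (s (4 * (p * q))) hb ha hc hf0 (Or.inr hen) hg Q1 Q2 Q3 Q4 P1 P2 P3
    · exact beta_core (K := ZMod p) (L := ZMod q) h2K h2L m n (s p) (s q) (s (p * q)) (s (4 * p))
        (s (4 * q)) (s (4 * (p * q))) ha hb hc hen hfn hg P1 P2 P3 P4 Q1 Q2 Q3

end Cfsg.Agent.Lib.Helper10.SOT
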