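import Mathlib
import Cfsg.Agent.Lib.Helper12.NseA
import Cfsg.Agent.Lib.Helper10.SOTA

/-!
# S4004 leaf `E0_ne` (helper10): pure `NseSys` arithmetic, `s p ≠ s q`.
-/

set_option autoImplicit false

namespace Cfsg.Agent.Lib.Helper10.SOT4
open Cfsg.Agent.Lib.Helper12.Nse
open Cfsg.Agent.Lib.Helper10.SOT

theorem not_dvd_of_dvd_succ' {p a : ℕ} (hp : p.Prime) (h1 : p ∣ 1 + a) : ¬ p ∣ a := by
  intro hd
  have : p ∣ 1 := (Nat.dvd_add_left hd).1 h1
  exact hp.one_lt.ne' (Nat.dvd_one.1 this)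

/-- Frobenius at `p ^ k` when `s (p ^ 2) = 0`. -/
theorem frob_prime_pow_of_sq_zero {N : ℕ} {s : ℕ → ℕ} (h : NseSys N s) {p : ℕ} (hp : p.Prime)
    (hsq : s (p ^ 2) = 0) (k : ℕ) (hk : p ^ k ∣ N) : p ^ k ∣ 1 + s p := by
  have hz : ∀ i, s (p ^ (i + 1 + 1)) = 0 := by
    intro i
    by_contra hne
    exact h.closed (p ^ (i + 1 + 1)) (p ^ 2) hne (pow_dvd_pow p (by omega)) hsq
  have hf := h.frob (p ^ k) hk
  rw [Nat.sum_divisors_prime_pow hp] at hf
  rcases k with _ | _ | k
  · simp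
  · simpa [Finset.sum_range_succ, h.m_one] using hf
  · rw [Finset.sum_range_succ', Finset.sum_range_succ'] at hf
    simp only [hz, Finset.sum_const_zero, zero_add, pow_zero, pow_one, h.m_one] at hf
    rw [add_comm (s p) 1] at hf
    exact hf

theorem E0_ne {N : ℕ} {s : ℕ → ℕ} (h : NseSys N s) (hodd : Odd N) (m n : ℕ)
    (hV : ∀ d, 3 ≤ d → s d = 0 ∨ s d = m ∨ s d = n) (p q : ℕ) (hp : p.Prime) (hq : q.Prime) (hpq : p ≠ q)
    (hN : N.primeFactors = {p, q}) : s p ≠ s q := by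
  intro heq
  have hpN : p ∣ N := by
    have : p ∈ N.primeFactors := by rw [hN]; simp
    exact Nat.dvd_of_mem_primeFactors this
  have hqN : q ∣ N := by
    have : q ∈ N.primeFactors := by rw [hN]; simp
    exact Nat.dvd_of_mem_primeFactors this
  have hN2 : ¬ 2 ∣ N := by
    rw [← even_iff_two_dvd, Nat.not_even_iff_odd]; exact hodd
  have hp2 : p ≠ 2 := by rintro rfl; exact hN2 hpN
  have hq2 : q ≠ 2 := by rintro rfl; exact hN2 hqN
  have hp3 : 3 ≤ p := by have := hp.two_le; omega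
  have hq3 : 3 ≤ q := by have := hq.two_le; omega
  have hcpq : Nat.Coprime p q := (Nat.coprime_primes hp hq).mpr hpq
  have hpqN : p * q ∣ N := hcpq.mul_dvd_of_dvd_of_dvd hpN hqN
  have hv0 : s p ≠ 0 := h.cauchy p hp hpN
  have F1 : p ∣ 1 + s p := nfrob_p h hp hpN
  have G1 : q ∣ 1 + s q := nfrob_p h hq hqN
  rw [← heq] at G1
  have F3 : p * q ∣ 1 + s p + s q + s (p * q) := nfrob_pq h hp hq hpq hpqN
  rw [← heq] at F3
  have F3p : p ∣ s p + s (p * q) := by
    have h1 : p ∣ (1 + s p) + (s p + s (p * q)) := by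
      have := (dvd_mul_right p q).trans F3
      rwa [show 1 + s p + s p + s (p * q) = (1 + s p) + (s p + s (p * q)) by ring] at this
    exact (Nat.dvd_add_right F1).1 h1
  have F3q : q ∣ s p + s (p * q) := by
    have h1 : q ∣ (1 + s p) + (s p + s (p * q)) := by
      have := (dvd_mul_left q p).trans F3
      rwa [show 1 + s p + s p + s (p * q) = (1 + s p) + (s p + s (p * q)) by ring] at this
    exact (Nat.dvd_add_right G1).1 h1
  have hnp : ¬ p ∣ s p := not_dvd_of_dvd_succ' hp F1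
  have hnq : ¬ q ∣ s p := not_dvd_of_dvd_succ' hq G1
  have hwp : ¬ p ∣ s (p * q) := fun hd => hnp ((Nat.dvd_add_left hd).1 F3p)
  have hwq : ¬ q ∣ s (p * q) := fun hd => hnq ((Nat.dvd_add_left hd).1 F3q)
  have hw0 : s (p * q) ≠ 0 := fun h0 => hwp (h0 ▸ dvd_zero p)
  have hwv : s (p * q) ≠ s p := by
    intro hh
    rw [hh] at F3p
    have h2v : p ∣ 2 * s p := by rwa [two_mul]
    rcases (Nat.Prime.dvd_mul hp).1 h2v with h2 | h2
    · have := Nat.le_of_dvd (by norm_num) h2
      omega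
    · exact hnp h2
  -- every value is `0`, `s p` or `s (p q)`
  have hV' : ∀ d, 3 ≤ d → s d = 0 ∨ s d = s p ∨ s d = s (p * q) := by
    intro d hd
    have hvp := hV p hp3
    have hvw := hV (p * q) (by nlinarith)
    rcases hV d hd with h0 | h1 | h2
    · exact Or.inl h0
    · rcases hvp with a0 | a1 | a2
      · exact absurd a0 hv0
      · exact Or.inr (Or.inl (h1.trans a1.symm))
      · rcases hvw with b0 | b1 | b2
        · exact absurd b0 hw0
        · exact Or.inr (Or.inr (h1.trans b1.symm))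
        · exact absurd (b2.trans a2.symm) hwv
    · rcases hvp with a0 | a1 | a2
      · exact absurd a0 hv0
      · rcases hvw with b0 | b1 | b2
        · exact absurd b0 hw0
        · exact absurd (b1.trans a1.symm) hwv
        · exact Or.inr (Or.inr (h2.trans b2.symm))
      · exact Or.inr (Or.inl (h2.trans a2.symm))
  have tot_sq : ∀ r : ℕ, r.Prime → r ∣ s (r ^ 2) := by
    intro r hr
    have h1 := h.tot (r ^ 2)
    rw [Nat.totient_prime_pow hr (by norm_num)] at h1
    have h2 : r ∣ r ^ (2 - 1) * (r - 1) := by norm_num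
    exact h2.trans h1
  have hpp : s (p ^ 2) = 0 := by
    have hps := tot_sq p hp
    rcases hV' (p ^ 2) (by nlinarith) with h0 | h1 | h2
    · exact h0
    · exact absurd (h1 ▸ hps) hnp
    · exact absurd (h2 ▸ hps) hwp
  have hqq : s (q ^ 2) = 0 := by
    have hps := tot_sq q hq
    rcases hV' (q ^ 2) (by nlinarith) with h0 | h1 | h2
    · exact h0
    · exact absurd (h1 ▸ hps) hnq
    · exact absurd (h2 ▸ hps) hwq
  -- `N ∣ 1 + s p`
  have hNd : N ∣ 1 + s p := by
    rw [Nat.dvd_iff_prime_pow_dvd_dvd]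
    intro r k hr hrk
    by_cases hk : k = 0
    · subst hk; simp
    have hrN : r ∣ N := (dvd_pow_self r hk).trans hrk
    have hmem : r ∈ N.primeFactors := Nat.mem_primeFactors.2 ⟨hr, hrN, h.Npos.ne'⟩
    rw [hN] at hmem
    have hmem' : r = p ∨ r = q := by simpa using hmem
    rcases hmem' with rfl | rfl
    · exact frob_prime_pow_of_sq_zero h hp hpp k hrk
    · have := frob_prime_pow_of_sq_zero h hq hqq k hrk
      rwa [← heq] at this
  -- `1 + 2 s p ≤ N`
  have hsum := h.sum (N.divisors) (fun k hk => Nat.mem_divisors.2 ⟨h.dvd k hk, h.Npos.ne'⟩)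
  have hsub : ({1, p, q} : Finset ℕ) ⊆ N.divisors := by
    intro x hx
    simp only [Finset.mem_insert, Finset.mem_singleton] at hx
    rcases hx with rfl | rfl | rfl
    · exact Nat.mem_divisors.2 ⟨one_dvd _, h.Npos.ne'⟩
    · exact Nat.mem_divisors.2 ⟨hpN, h.Npos.ne'⟩
    · exact Nat.mem_divisors.2 ⟨hqN, h.Npos.ne'⟩
  have hle := Finset.sum_le_sum_of_subset (f := s) hsub
  have h1pq : (1 : ℕ) ∉ ({p, q} : Finset ℕ) := by
    simp only [Finset.mem_insert, Finset.mem_singleton, not_or]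
    exact ⟨hp.one_lt.ne, hq.one_lt.ne⟩
  rw [hsum, Finset.sum_insert h1pq, Finset.sum_pair hpq, h.m_one, ← heq] at hle
  have hle2 := Nat.le_of_dvd (by omega) hNd
  omega

end Cfsg.Agent.Lib.Helper10.SOT4
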