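import Mathlib
import Cfsg.Agent.Lib.Helper12.NseA
import Cfsg.Agent.Lib.Helper10.SOTA

/-!
# S4004 leaf `E1_orders` (helper10): pure `NseSys` arithmetic + the two group inputs `H1`, `H2`.
-/

set_option autoImplicit false

namespace Cfsg.Agent.Lib.Helper10.SOT4
open Cfsg.Agent.Lib.Helper12.Nse
open Cfsg.Agent.Lib.Helper10.SOT

theorem not_dvd_of_dvd_succ {p a : ℕ} (hp : p.Prime) (h1 : p ∣ 1 + a) : ¬ p ∣ a := by
  intro hd
  have : p ∣ 1 := (Nat.dvd_add_left hd).1 h1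
  exact hp.one_lt.ne' (Nat.dvd_one.1 this)

/-- the value at `r ^ 2` vanishes -/
theorem sq_zero {N : ℕ} {s : ℕ → ℕ} (h : NseSys N s) (p q : ℕ) (hp : p.Prime) (hq : q.Prime) (hpq : p ≠ q)
    (hp3 : 3 ≤ p) (hqN : q ∣ N)
    (hV : ∀ d, 3 ≤ d → s d = 0 ∨ s d = s p ∨ s d = s q)
    (F1 : p ∣ 1 + s p) (G1 : q ∣ 1 + s q) (hpq0 : s (p * q) = 0)
    (H2 : ∀ r d : ℕ, r.Prime → r ∣ N → Nat.Coprime r d → ¬ r ∣ s d → s (r * d) ≠ 0) :
    s (p ^ 2) = 0 := by
  have hcpq : Nat.Coprime p q := (Nat.coprime_primes hp hq).mpr hpq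
  have hps : p ∣ s (p ^ 2) := by
    have h1 := h.tot (p ^ 2)
    rw [Nat.totient_prime_pow hp (by norm_num)] at h1
    have h2 : p ∣ p ^ (2 - 1) * (p - 1) := by
      norm_num
    exact h2.trans h1
  rcases hV (p ^ 2) (by nlinarith) with h0 | hm | hn
  · exact h0
  · exact absurd (hm ▸ hps) (not_dvd_of_dvd_succ hp F1)
  · exfalso
    have hqn : ¬ q ∣ s (p ^ 2) := by rw [hn]; exact not_dvd_of_dvd_succ hq G1
    have h2 := H2 q (p ^ 2) hq hqN (Nat.Coprime.pow_right 2 hcpq.symm) hqn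
    have h3 := h.closed (q * p ^ 2) (p * q) h2 ⟨p, by ring⟩
    exact h3 hpq0

theorem E1_orders {N : ℕ} {s : ℕ → ℕ} (h : NseSys N s) (hodd : Odd N)
    (p q : ℕ) (hp : p.Prime) (hq : q.Prime) (hpq : p ≠ q) (hN : N.primeFactors = {p, q})
    (hV : ∀ d, 3 ≤ d → s d = 0 ∨ s d = s p ∨ s d = s q) (hne : s p ≠ s q)
    (H1 : ∀ a b : ℕ, a.Prime → b.Prime → a ≠ b → 3 ≤ b → ¬ a ∣ s b → 2 * s a ≤ s (a * b))
    (H2 : ∀ r d : ℕ, r.Prime → r ∣ N → Nat.Coprime r d → ¬ r ∣ s d → s (r * d) ≠ 0) :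
    ∀ d, s d ≠ 0 → d = 1 ∨ d = p ∨ d = q := by
  have hpN : p ∣ N := by
    have : p ∈ N.primeFactors := by rw [hN]; simp
    exact Nat.dvd_of_mem_primeFactors this
  have hqN : q ∣ N := by
    have : q ∈ N.primeFactors := by rw [hN]; simp
    exact Nat.dvd_of_mem_primeFactors this
  have hN2 : ¬ 2 ∣ N := by
    rw [← even_iff_two_dvd, Nat.not_even_iff_odd]; exact hodd
  have hp2 : p ≠ 2 := by rintro rfl; exact hN2 hpN
  have hq2 : q ≠ 2 := by rintro rfl; exact hN2 hqN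
  have hp3 : 3 ≤ p := by have := hp.two_le; omega
  have hq3 : 3 ≤ q := by have := hq.two_le; omega
  have hcpq : Nat.Coprime p q := (Nat.coprime_primes hp hq).mpr hpq
  have hpqN : p * q ∣ N := hcpq.mul_dvd_of_dvd_of_dvd hpN hqN
  have hm0 : s p ≠ 0 := h.cauchy p hp hpN
  have hn0 : s q ≠ 0 := h.cauchy q hq hqN
  have F1 : p ∣ 1 + s p := nfrob_p h hp hpN
  have G1 : q ∣ 1 + s q := nfrob_p h hq hqN
  have F3 : p * q ∣ 1 + s p + s q + s (p * q) := nfrob_pq h hp hq hpq hpqN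
  -- mod p: `p ∣ s q + s (p q)`; mod q: `q ∣ s p + s (p q)`
  have F3p : p ∣ s q + s (p * q) := by
    have h1 : p ∣ (1 + s p) + (s q + s (p * q)) := by
      have := (dvd_mul_right p q).trans F3
      rwa [show 1 + s p + s q + s (p * q) = (1 + s p) + (s q + s (p * q)) by ring] at this
    exact (Nat.dvd_add_right F1).1 h1
  have F3q : q ∣ s p + s (p * q) := by
    have h1 : q ∣ (1 + s q) + (s p + s (p * q)) := by
      have := (dvd_mul_left q p).trans F3
      rwa [show 1 + s p + s q + s (p * q) = (1 + s q) + (s p + s (p * q)) by ring] at this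
    exact (Nat.dvd_add_right G1).1 h1
  -- `s (p q) = 0`
  have hpq0 : s (p * q) = 0 := by
    rcases hV (p * q) (by nlinarith) with h0 | hm | hn
    · exact h0
    · exfalso
      -- `p ∣ s q + s p`, `p ∣ 1 + s p`: `p ∤ s q`
      rw [hm] at F3p
      have hnd : ¬ p ∣ s q := by
        intro hd
        have : p ∣ s p := (Nat.dvd_add_right hd).1 F3p
        exact not_dvd_of_dvd_succ hp F1 this
      have := H1 p q hp hq hpq hq3 hnd
      rw [hm] at this
      omega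
    · exfalso
      rw [hn] at F3q
      have hnd : ¬ q ∣ s p := by
        intro hd
        have : q ∣ s q := (Nat.dvd_add_right hd).1 F3q
        exact not_dvd_of_dvd_succ hq G1 this
      have := H1 q p hq hp (Ne.symm hpq) hp3 hnd
      rw [Nat.mul_comm q p, hn] at this
      omega
  have hpp : s (p ^ 2) = 0 := sq_zero h p q hp hq hpq hp3 hqN hV F1 G1 hpq0 H2
  have hqq : s (q ^ 2) = 0 := by
    refine sq_zero h q p hq hp (Ne.symm hpq) hq3 hpN ?_ G1 F1 (by rwa [Nat.mul_comm]) H2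
    intro d hd
    rcases hV d hd with h0 | h1 | h2
    · exact Or.inl h0
    · exact Or.inr (Or.inr h1)
    · exact Or.inr (Or.inl h2)
  intro d hd
  have hdN : d ∣ N := h.dvd d hd
  have hnpq : ¬ p * q ∣ d := fun hx => h.closed d (p * q) hd hx hpq0
  have hnpp : ¬ p ^ 2 ∣ d := fun hx => h.closed d (p ^ 2) hd hx hpp
  have hnqq : ¬ q ^ 2 ∣ d := fun hx => h.closed d (q ^ 2) hd hx hqq
  have hprime : ∀ r : ℕ, r.Prime → r ∣ d → r = p ∨ r = q := by
    intro r hr hrd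
    have : r ∈ N.primeFactors := Nat.mem_primeFactors.2 ⟨hr, hrd.trans hdN, h.Npos.ne'⟩
    rw [hN] at this
    simpa using this
  by_cases hd1 : d = 1
  · exact Or.inl hd1
  obtain ⟨r, hr, hrd⟩ := Nat.exists_prime_and_dvd hd1
  obtain ⟨k, rfl⟩ := hrd
  by_cases hk1 : k = 1
  · subst hk1
    rw [mul_one]
    rcases hprime r hr (by simp) with rfl | rfl
    · exact Or.inr (Or.inl rfl)
    · exact Or.inr (Or.inr rfl)
  · exfalso
    obtain ⟨r', hr', hrk⟩ := Nat.exists_prime_and_dvd hk1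
    have hrr' : r * r' ∣ r * k := Nat.mul_dvd_mul_left r hrk
    rcases hprime r hr (Dvd.intro _ rfl) with rfl | rfl <;>
      rcases hprime r' hr' (hrk.trans (Dvd.intro_left _ rfl)) with rfl | rfl
    · exact hnpp (by rwa [sq])
    · exact hnpq hrr'
    · exact hnpq (by rwa [Nat.mul_comm])
    · exact hnqq (by rwa [sq])

end Cfsg.Agent.Lib.Helper10.SOT4
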