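import Cfsg.Agent.Lib.Helper18.SPDec
import Cfsg.Agent.Lib.Helper18.SPHom

/-!
# S3713 leaf TPQT (helper10): the lifts `q̃(u)` of the Heisenberg elements `E(e_o, u)`, `u ∈ VJ J`
-/

set_option autoImplicit false

namespace Cfsg.Agent.Lib.Helper10.SPTPQT

open Matrix Cfsg.Agent.Lib.Helper18.SP Cfsg.Agent.Lib.Helper5 Cfsg.Agent.Lib.Helper14.SpPerfect

variable {F : Type*} [Field F] {n : ℕ} {H : Type*} [Group H]

/-- **TPQT** (the lifts `q̃(u)` of the Heisenberg elements `E(e_o, u)`, `u ∈ VJ J`). -/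
theorem tp_qt {J : Set (Fin n)} {o p : Fin n} (ho : o ∉ J) (hp : p ∈ J) (φL ψ : Sp n F → H)
    (hL : HomOn (GJ n F J) φL) (hψ : HomOn (PJ n F {o, p} o) ψ)
    (h2 : ∀ g ∈ SS n F p, ψ g = φL g)
    (hC : ∀ l ∈ PJ n F J p, Commute (φL l) (ψ (E (eV n F o) (eV n F p)))) :
    ∃ qt : V n F → H,
      (∀ l ∈ GJ n F J, ∀ u ∈ VJ n F J, φL l * qt u * (φL l)⁻¹ = qt (act l u)) ∧
      (∀ u ∈ VJ n F {p}, qt u = ψ (E (eV n F o) u)) := by
  classical
  have hop : o ≠ p := fun h => ho (h ▸ hp)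
  have hepJ : eV n F p ∈ VJ n F J := eV_mem_VJ hp
  obtain ⟨X, hX⟩ : ∃ X : H, X = ψ (E (eV n F o) (eV n F p)) := ⟨_, rfl⟩
  rw [← hX] at hC
  -- the value does not depend on the choice of `l`
  have key : ∀ l₀ ∈ GJ n F J, ∀ l₁ ∈ GJ n F J, act l₀ (eV n F p) = act l₁ (eV n F p) →
      φL l₀ * X * (φL l₀)⁻¹ = φL l₁ * X * (φL l₁)⁻¹ := by
    intro l₀ h₀ l₁ h₁ he
    have hm : l₀⁻¹ * l₁ ∈ PJ n F J p := by
      refine ⟨mul_mem (inv_mem h₀) h₁, ?_⟩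
      rw [act_mul, ← he, act_inv_act]
    have hc := hC _ hm
    have e1 : φL l₁ = φL l₀ * φL (l₀⁻¹ * l₁) := by
      rw [← hL.map_mul h₀ hm.1]
      congr 1
      group
    have e2 : φL (l₀⁻¹ * l₁) * X * (φL (l₀⁻¹ * l₁))⁻¹ = X := by
      rw [hc.eq, mul_inv_cancel_right]
    rw [e1, _root_.mul_inv_rev]
    calc φL l₀ * X * (φL l₀)⁻¹
        = φL l₀ * (φL (l₀⁻¹ * l₁) * X * (φL (l₀⁻¹ * l₁))⁻¹) * (φL l₀)⁻¹ := by rw [e2]
      _ = φL l₀ * φL (l₀⁻¹ * l₁) * X * ((φL (l₀⁻¹ * l₁))⁻¹ * (φL l₀)⁻¹) := by group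
  let qt : V n F → H := fun u =>
    if h : ∃ l ∈ GJ n F J, act l (eV n F p) = u then φL h.choose * X * (φL h.choose)⁻¹ else 1
  have qt_eq : ∀ l ∈ GJ n F J, qt (act l (eV n F p)) = φL l * X * (φL l)⁻¹ := by
    intro l hl
    have h : ∃ l' ∈ GJ n F J, act l' (eV n F p) = act l (eV n F p) := ⟨l, hl, rfl⟩
    show (if h : ∃ l' ∈ GJ n F J, act l' (eV n F p) = act l (eV n F p)
      then φL h.choose * X * (φL h.choose)⁻¹ else 1) = _
    rw [dif_pos h]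
    exact key _ h.choose_spec.1 _ hl h.choose_spec.2
  have qt0 : qt 0 = 1 := by
    show (if h : ∃ l' ∈ GJ n F J, act l' (eV n F p) = 0
      then φL h.choose * X * (φL h.choose)⁻¹ else 1) = _
    rw [dif_neg]
    rintro ⟨l, -, h⟩
    exact eV_ne_zero p ((act_eq_zero_iff l _).mp h)
  refine ⟨qt, ?_, ?_⟩
  · intro l hl u hu
    by_cases hu0 : u = 0
    · rw [hu0, act_zero, qt0, mul_one, mul_inv_cancel]
    · obtain ⟨m, hm, hmu⟩ := GJ_trans J hepJ hu (eV_ne_zero p) hu0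
      rw [← hmu, ← act_mul, qt_eq m hm, qt_eq (l * m) (mul_mem hl hm), hL.map_mul hl hm, _root_.mul_inv_rev]
      group
  · intro u hu
    by_cases hu0 : u = 0
    · rw [hu0, qt0, E_zero_right, hψ.map_one]
    · have hep : eV n F p ∈ VJ n F {p} := eV_mem_VJ rfl
      obtain ⟨s, hs, hsu⟩ := GJ_trans {p} hep hu (eV_ne_zero p) hu0
      have hsJ : s ∈ GJ n F J := SS_le_GJ hp hs
      have hsP : s ∈ PJ n F {o, p} o :=
        GJ_le_PJ (Set.subset_insert o {p}) (fun h => hop (Set.mem_singleton_iff.mp h)) hs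
      have hEP : E (eV n F o) (eV n F p) ∈ PJ n F {o, p} o :=
        E_eV_mem_PJ (fun h => hop (Set.mem_singleton_iff.mp h)) hep
      have hso : act s (eV n F o) = eV n F o :=
        (hs o (fun h => hop (Set.mem_singleton_iff.mp h))).1
      rw [← hsu, qt_eq s hsJ, hX, ← h2 s hs, ← hψ.map_conj hsP hEP, conj_E, hso]
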