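import Cfsg.Agent.Lib.Helper18.SPDec
import Cfsg.Agent.Lib.Helper18.SPHom

/-!
# S3713 leaf TPREL (helper10): the Heisenberg relations for non-orthogonal and for dependent pairs
-/

set_option autoImplicit false

namespace Cfsg.Agent.Lib.Helper10.SPTPREL

open Matrix Cfsg.Agent.Lib.Helper18.SP Cfsg.Agent.Lib.Helper5 Cfsg.Agent.Lib.Helper14.SpPerfect

variable {F : Type*} [Field F] {n : ℕ} {H : Type*} [Group H]

/-- **TPREL** (the Heisenberg relations for non-orthogonal and for dependent pairs). -/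
theorem tp_rel {J : Set (Fin n)} {o p : Fin n} (ho : o ∉ J) (hp : p ∈ J) (φL ψ : Sp n F → H)
    (hL : HomOn (GJ n F J) φL) (hψ : HomOn (PJ n F {o, p} o) ψ)
    (hZ : ∀ l ∈ GJ n F J, ∀ c, Commute (φL l) (ψ (Tr (eV n F o) c)))
    (qt : V n F → H)
    (hequiv : ∀ l ∈ GJ n F J, ∀ u ∈ VJ n F J, φL l * qt u * (φL l)⁻¹ = qt (act l u))
    (hloc : ∀ u ∈ VJ n F {p}, qt u = ψ (E (eV n F o) u)) :
    qt 0 = 1 ∧
    (∀ u ∈ VJ n F J, ∀ c, Commute (ψ (Tr (eV n F o) c)) (qt u)) ∧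
    (∀ u ∈ VJ n F J, ∀ u' ∈ VJ n F J, ω n F u u' ≠ 0 →
      qt u * qt u' = qt (u + u') * ψ (Tr (eV n F o) (ω n F u' u))) ∧
    (∀ u ∈ VJ n F J, ∀ t : F, qt u * qt (t • u) = qt (u + t • u)) := by
  classical
  have hop : o ≠ p := fun h => ho (h ▸ hp)
  have hop' : o ∉ ({p} : Set (Fin n)) := fun h => hop (Set.mem_singleton_iff.mp h)
  have hpJ : ({p} : Set (Fin n)) ⊆ J := Set.singleton_subset_iff.mpr hp
  have hep : eV n F p ∈ VJ n F {p} := eV_mem_VJ rfl
  have hfp : fV n F p ∈ VJ n F {p} := fV_mem_VJ rfl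
  have hepJ : eV n F p ∈ VJ n F J := eV_mem_VJ hp
  have hfpJ : fV n F p ∈ VJ n F J := fV_mem_VJ hp
  have hEP : ∀ u ∈ VJ n F {p}, E (eV n F o) u ∈ PJ n F {o, p} o := fun u hu => E_eV_mem_PJ hop' hu
  have hTP : ∀ c : F, Tr (eV n F o) c ∈ PJ n F {o, p} o := fun c => Tr_eV_mem_PJ (Set.mem_insert o {p}) c
  have hωo : ∀ u ∈ VJ n F {p}, ω n F (eV n F o) u = 0 := fun u hu => ω_eV_of_not_mem hop' hu
  -- conjugating back
  have hback : ∀ l ∈ GJ n F J, ∀ u ∈ VJ n F J, qt u = (φL l)⁻¹ * qt (act l u) * φL l := by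
    intro l hl u hu
    rw [← hequiv l hl u hu]
    group
  have hq0 : qt 0 = 1 := by
    rw [hloc 0 (VJ n F {p}).zero_mem, E_zero_right, hψ.map_one]
  -- the local commutation
  have hcloc : ∀ u ∈ VJ n F {p}, ∀ c, Commute (ψ (Tr (eV n F o) c)) (qt u) := by
    intro u hu c
    rw [hloc u hu]
    show ψ (Tr (eV n F o) c) * ψ (E (eV n F o) u) = ψ (E (eV n F o) u) * ψ (Tr (eV n F o) c)
    rw [← hψ.map_mul (hTP c) (hEP u hu), ← hψ.map_mul (hEP u hu) (hTP c),
      (E_commute_Tr (eV n F o) u c (hωo u hu)).eq]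
  -- the local relation
  have hrloc : ∀ u ∈ VJ n F {p}, ∀ u' ∈ VJ n F {p},
      qt u * qt u' = qt (u + u') * ψ (Tr (eV n F o) (ω n F u' u)) := by
    intro u hu u' hu'
    have huu' : u + u' ∈ VJ n F {p} := (VJ n F {p}).add_mem hu hu'
    rw [hloc u hu, hloc u' hu', hloc _ huu', ← hψ.map_mul (hEP u hu) (hEP u' hu'),
      ← hψ.map_mul (hEP _ huu') (hTP _), E_mul_right _ _ _ (hωo u hu) (hωo u' hu')]
  refine ⟨hq0, ?_, ?_, ?_⟩
  · intro u hu c
    by_cases hu0 : u = 0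
    · rw [hu0, hq0]
      exact Commute.one_right _
    · obtain ⟨l, hl, hlu⟩ := GJ_trans J hu hepJ hu0 (eV_ne_zero p)
      rw [hback l hl u hu, hlu]
      have h1 : Commute (ψ (Tr (eV n F o) c)) (qt (eV n F p)) := hcloc _ hep c
      have h2 : Commute (ψ (Tr (eV n F o) c)) (φL l) := (hZ l hl c).symm
      exact (h2.inv_right.mul_right h1).mul_right h2
  · intro u hu u' hu' hne
    obtain ⟨a, ha⟩ : ∃ a : F, a = ω n F u u' := ⟨_, rfl⟩
    have ha0 : a ≠ 0 := by rw [ha]; exact hne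
    have hpair : ω n F u (a⁻¹ • u') = 1 := by
      rw [ω_smul_right, ← ha, inv_mul_cancel₀ ha0]
    have hpair' : ω n F (fV n F p) (eV n F p) = 1 := by rw [ω_fV_eV, if_pos rfl]
    obtain ⟨l, hl, hlu, hlu'⟩ := GJ_trans_pair J hu ((VJ n F J).smul_mem a⁻¹ hu') hfpJ hepJ hpair hpair'
    have hlu'' : act l u' = a • eV n F p := by
      rw [act_smul] at hlu'
      rw [← hlu', smul_smul, mul_inv_cancel₀ ha0, one_smul]
    have haep : a • eV n F p ∈ VJ n F {p} := (VJ n F {p}).smul_mem a hep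
    have hsum : act l (u + u') = fV n F p + a • eV n F p := by rw [act_add, hlu, hlu'']
    have hω : ω n F (a • eV n F p) (fV n F p) = ω n F u' u := by
      rw [← hlu, ← hlu'', ω_act]
    rw [hback l hl u hu, hback l hl u' hu', hback l hl _ ((VJ n F J).add_mem hu hu'), hlu, hlu'', hsum]
    have h3 := hrloc _ hfp _ haep
    rw [hω] at h3
    have h4 : Commute (φL l) (ψ (Tr (eV n F o) (ω n F u' u))) := hZ l hl _
    calc (φL l)⁻¹ * qt (fV n F p) * φL l * ((φL l)⁻¹ * qt (a • eV n F p) * φL l)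
        = (φL l)⁻¹ * (qt (fV n F p) * qt (a • eV n F p)) * φL l := by group
      _ = (φL l)⁻¹ * qt (fV n F p + a • eV n F p) * (ψ (Tr (eV n F o) (ω n F u' u)) * φL l) := by
          rw [h3]; group
      _ = (φL l)⁻¹ * qt (fV n F p + a • eV n F p) * φL l * ψ (Tr (eV n F o) (ω n F u' u)) := by
          rw [← h4.eq]; group
  · intro u hu t
    by_cases hu0 : u = 0
    · rw [hu0, smul_zero, add_zero, hq0, mul_one]
    · obtain ⟨l, hl, hlu⟩ := GJ_trans J hu hepJ hu0 (eV_ne_zero p)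
      have htu : t • u ∈ VJ n F J := (VJ n F J).smul_mem t hu
      have htep : t • eV n F p ∈ VJ n F {p} := (VJ n F {p}).smul_mem t hep
      rw [hback l hl u hu, hback l hl _ htu, hback l hl _ ((VJ n F J).add_mem hu htu), act_add, act_smul, hlu]
      have h3 := hrloc _ hep _ htep
      rw [ω_smul_left, ω_self, mul_zero, Tr_zero, hψ.map_one, mul_one] at h3
      calc (φL l)⁻¹ * qt (eV n F p) * φL l * ((φL l)⁻¹ * qt (t • eV n F p) * φL l)
          = (φL l)⁻¹ * (qt (eV n F p) * qt (t • eV n F p)) * φL l := by group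
        _ = _ := by rw [h3]
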