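import Cfsg.Agent.Lib.Helper10.SSBasic
import Cfsg.Agent.Lib.Helper10.SSLevel

set_option autoImplicit false

/-!
The verified Schreier–Sims checker: a chain of levels (base point, new generators, a straight-line
program producing the transversal, the transversal table) certifies the order of the group
generated by all the generators.
-/

namespace Cfsg.Agent.Lib.Helper10.SS

/-- one level of a stabiliser chain -/
structure Level where
  /-- the base point -/
  b : ℕ
  /-- the new generators of this level, with their inverses -/
  gens : List (ℕ × ℕ)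
  /-- a straight-line program from all the generators of this and the deeper levels -/
  slp : List (ℕ × ℕ × ℕ)
  /-- the transversal: point, code mapping the base point to it, inverse code -/
  tab : List (ℕ × ℕ × ℕ)

/-- the codes of the new generators of a level -/
def genCodes (L : Level) : List ℕ := L.gens.map Prod.fst

/-- all generators of a chain -/
def allGens : List Level → List ℕ
  | [] => []
  | L :: rest => genCodes L ++ allGens rest

/-- look a point up in a transversal table -/
def lookup (q : ℕ) : List (ℕ × ℕ × ℕ) → Option (ℕ × ℕ)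
  | [] => none
  | (p, u, ui) :: T => if p = q then some (u, ui) else lookup q T

theorem lookup_mem {q : ℕ} {T : List (ℕ × ℕ × ℕ)} {u ui : ℕ} (h : lookup q T = some (u, ui)) :
    (q, u, ui) ∈ T := by
  induction T with
  | nil => simp [lookup] at h
  | cons e T ih =>
    obtain ⟨p, u', ui'⟩ := e
    unfold lookup at h
    split_ifs at h with hp
    · simp only [Option.some.injEq, Prod.mk.injEq] at h
      obtain ⟨rfl, rfl⟩ := h
      subst hp
      exact List.mem_cons_self ..
    · exact List.mem_cons_of_mem _ (ih h)

/-- the identity map -/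
def IsId (n c : ℕ) : Prop := ∀ x < n, ap n c x = x

instance (n c : ℕ) : Decidable (IsId n c) := by unfold IsId; infer_instance

theorem valid_of_isId {n c : ℕ} (h : IsId n c) : Valid n c := by
  have : fn n c = id := by
    funext i
    apply Fin.ext
    rw [fn_val]
    exact h i.val i.isLt
  unfold Valid
  rw [this]
  exact Function.bijective_id

theorem perm_of_isId {n c : ℕ} (h : IsId n c) : perm n c = 1 := by
  apply Equiv.ext
  intro i
  apply Fin.ext
  rw [perm_apply_val (valid_of_isId h)]
  exact h i.val i.isLt

/-- sift a formal product through the deeper levels -/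
def siftOk (n : ℕ) : List Level → List ℕ → Bool
  | [], h => decide (∀ x < n, evalL n h x = x)
  | L :: rest, h =>
    match lookup (evalL n h L.b) L.tab with
    | none => false
    | some (_, ui) => siftOk n rest (ui :: h)

/-- the Schreier condition for one generator and one table entry -/
def schreierOk (n : ℕ) (L : Level) (rest : List Level) (s : ℕ) (e : ℕ × ℕ × ℕ) : Bool :=
  match lookup (ap n s e.1) L.tab with
  | none => false
  | some (_, ui') => siftOk n rest [ui', s, e.2.1]

/-- the table entry of the base point is the identity -/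
def baseOk (n : ℕ) (L : Level) : Bool :=
  match lookup L.b L.tab with
  | none => false
  | some (u, _) => decide (IsId n u)

/-- check one level -/
def levelOk (n : ℕ) (L : Level) (rest : List Level) : Bool :=
  decide (L.b < n) &&
  decide (∀ e ∈ L.gens, InvOf n e.1 e.2 ∧ InvOf n e.2 e.1) &&
  decide (∀ c ∈ allGens rest, ap n c L.b = L.b) &&
  slpOk n (allGens (L :: rest)) L.slp &&
  decide (∀ e ∈ L.tab, (e.2.1 ∈ slpOut (allGens (L :: rest)) L.slp ∨ IsId n e.2.1) ∧
    ap n e.2.1 L.b = e.1 ∧ InvOf n e.2.2 e.2.1 ∧ InvOf n e.2.1 e.2.2) &&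
  baseOk n L &&
  decide ((L.tab.map Prod.fst).Nodup) &&
  (allGens (L :: rest)).all (fun s => L.tab.all (fun e => schreierOk n L rest s e))

/-- check a chain -/
def chainOk (n : ℕ) : List Level → Bool
  | [] => true
  | L :: rest => chainOk n rest && levelOk n L rest

/-- the order certified by a chain -/
def cardProd : List Level → ℕ
  | [] => 1
  | L :: rest => L.tab.length * cardProd rest

/-- what a correct chain gives -/
structure ChainInv (n : ℕ) (Ls : List Level) : Prop where
  valid : ∀ c ∈ allGens Ls, Valid n c
  card : Nat.card ↥(grp n (allGens Ls)) = cardProd Ls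
  sift : ∀ h : List ℕ, (∀ c ∈ h, Valid n c) → siftOk n Ls h = true →
    prodL n h ∈ grp n (allGens Ls)
  stab : ∀ (L : Level) (rest : List Level), Ls = L :: rest → ∀ hb : L.b < n,
    ∀ x ∈ grp n (allGens Ls), x ⟨L.b, hb⟩ = ⟨L.b, hb⟩ → x ∈ grp n (allGens rest)

theorem chainInv_nil (n : ℕ) : ChainInv n [] where
  valid := by intro c hc; simp [allGens] at hc
  card := by
    show Nat.card ↥(grp n []) = 1
    rw [grp_nil, Subgroup.card_bot]
  sift := by
    intro h hv hs
    show prodL n h ∈ grp n []
    rw [grp_nil, Subgroup.mem_bot]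
    unfold siftOk at hs
    rw [decide_eq_true_eq] at hs
    apply Equiv.ext
    intro i
    apply Fin.ext
    rw [prodL_apply_val h hv]
    exact hs i.val i.isLt
  stab := by
    intro L rest h
    simp at h

theorem chainInv_cons (n : ℕ) (L : Level) (rest : List Level) (ih : ChainInv n rest)
    (hok : levelOk n L rest = true) : ChainInv n (L :: rest) := by
  unfold levelOk at hok
  simp only [Bool.and_eq_true, decide_eq_true_eq, List.all_eq_true] at hok
  obtain ⟨⟨⟨⟨⟨⟨⟨hb, hgens⟩, hfixc⟩, hslp⟩, htab⟩, hbase⟩, hnodup⟩, hsch⟩ := hok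
  -- validity of all generators
  have hvalid : ∀ c ∈ allGens (L :: rest), Valid n c := by
    intro c hc
    show Valid n c
    unfold allGens at hc
    rcases List.mem_append.mp hc with hc | hc
    · unfold genCodes at hc
      obtain ⟨e, he, rfl⟩ := List.mem_map.mp hc
      exact valid_of_invOf (hgens e he).1
    · exact ih.valid c hc
  let H := grp n (allGens (L :: rest))
  let H' := grp n (allGens rest)
  have hH'H : H' ≤ H := grp_mono (fun c hc => by
    unfold allGens
    exact List.mem_append_right _ hc)
  let b : Fin n := ⟨L.b, hb⟩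
  have hfix : ∀ h ∈ H', h b = b := by
    have : H' ≤ MulAction.stabilizer (Equiv.Perm (Fin n)) b := by
      apply grp_le_iff.mpr
      intro c hc
      rw [MulAction.mem_stabilizer_iff]
      apply Fin.ext
      show (perm n c b).val = L.b
      rw [perm_apply_val (ih.valid c hc)]
      exact hfixc c hc
    intro h hh
    exact MulAction.mem_stabilizer_iff.mp (this hh)
  -- the straight-line program
  have hknown : ∀ c ∈ slpOut (allGens (L :: rest)) L.slp, Valid n c ∧ perm n c ∈ H :=
    slp_sound H L.slp _ (fun c hc => ⟨hvalid c hc, perm_mem_grp hc⟩) hslp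
  -- table entries
  have hentry : ∀ e ∈ L.tab, Valid n e.2.1 ∧ perm n e.2.1 ∈ H ∧ Valid n e.2.2 ∧
      perm n e.2.2 = (perm n e.2.1)⁻¹ ∧ ap n e.2.1 L.b = e.1 := by
    intro e he
    obtain ⟨h1, h2, h3, h4⟩ := htab e he
    have hv : Valid n e.2.1 ∧ perm n e.2.1 ∈ H := by
      rcases h1 with h1 | h1
      · exact hknown _ h1
      · exact ⟨valid_of_isId h1, by rw [perm_of_isId h1]; exact H.one_mem⟩
    have hvi : Valid n e.2.2 := valid_of_invOf h3
    exact ⟨hv.1, hv.2, hvi, perm_inv_of_invOf h4 hvi, h2⟩
  -- the relation
  let R : Fin n → Equiv.Perm (Fin n) → Prop :=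
    fun p g => ∃ e ∈ L.tab, e.1 = p.val ∧ g = perm n e.2.1
  have hR : ∀ p g, R p g → g ∈ H ∧ g b = p := by
    rintro p g ⟨e, he, hep, rfl⟩
    obtain ⟨hv, hm, -, -, hap⟩ := hentry e he
    refine ⟨hm, ?_⟩
    apply Fin.ext
    rw [perm_apply_val hv, ← hep]
    exact hap
  have hR1 : R b 1 := by
    unfold baseOk at hbase
    split at hbase
    · simp at hbase
    · rename_i u ui hl
      rw [decide_eq_true_eq] at hbase
      exact ⟨_, lookup_mem hl, rfl, (perm_of_isId hbase).symm⟩
  have hRf : ∀ p g g', R p g → R p g' → g = g' := by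
    rintro p g g' ⟨e, he, hep, rfl⟩ ⟨e', he', hep', rfl⟩
    have : e = e' := by
      apply List.inj_on_of_nodup_map hnodup he he'
      rw [hep, hep']
    rw [this]
  -- sifting through the whole chain
  have hsift : ∀ h : List ℕ, (∀ c ∈ h, Valid n c) → siftOk n (L :: rest) h = true →
      prodL n h ∈ H := by
    intro h hv hs
    unfold siftOk at hs
    split at hs
    · simp at hs
    · rename_i u ui hl
      have hmem := lookup_mem hl
      obtain ⟨-, hm, hvi, hinv, -⟩ := hentry _ hmem
      have h1 := ih.sift (ui :: h) (by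
        intro c hc
        rcases List.mem_cons.mp hc with rfl | hc
        · exact hvi
        · exact hv c hc) hs
      rw [prodL_cons, hinv] at h1
      have h2 : prodL n h = perm n u * ((perm n u)⁻¹ * prodL n h) := by group
      rw [h2]
      exact H.mul_mem hm (hH'H h1)
  -- the Schreier condition
  have hschreier : ∀ s ∈ {g | ∃ c ∈ allGens (L :: rest), g = perm n c}, ∀ p g, R p g →
      ∃ g', R (s p) g' ∧ g'⁻¹ * s * g ∈ H' := by
    rintro _ ⟨c, hc, rfl⟩ p g ⟨e, he, hep, rfl⟩
    have hcheck := hsch c hc e he
    unfold schreierOk at hcheck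
    split at hcheck
    · simp at hcheck
    · rename_i u' ui' hl
      have hmem := lookup_mem hl
      obtain ⟨-, -, hvi', hinv', -⟩ := hentry _ hmem
      obtain ⟨hve, -, -, -, -⟩ := hentry e he
      have hvc := hvalid c hc
      refine ⟨perm n u', ⟨_, hmem, ?_, rfl⟩, ?_⟩
      · show ap n c e.1 = (perm n c p).val
        rw [perm_apply_val hvc, hep]
      · have h1 := ih.sift [ui', c, e.2.1] (by
          intro d hd
          simp only [List.mem_cons, List.not_mem_nil, or_false] at hd
          rcases hd with rfl | rfl | rfl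
          · exact hvi'
          · exact hvc
          · exact hve) hcheck
        rw [prodL_cons, prodL_cons, prodL_cons, prodL_nil, mul_one, hinv', ← mul_assoc] at h1
        exact h1
  obtain ⟨hstab, hcard⟩ := ss_level H H' _ rfl hH'H b hfix R hR hR1 hRf hschreier
  refine ⟨hvalid, ?_, hsift, ?_⟩
  swap
  · intro L' rest' heq hb' x hx hxb
    obtain ⟨rfl, rfl⟩ := List.cons.inj heq
    exact hstab x hx hxb
  show Nat.card ↥H = L.tab.length * cardProd rest
  rw [hcard, ih.card]
  congr 1
  -- the number of points of the table
  have h1 : Nat.card {p : Fin n // ∃ g, R p g} = (L.tab.map Prod.fst).toFinset.card := by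
    rw [← Nat.card_eq_finsetCard]
    apply Nat.card_congr
    refine Equiv.ofBijective (fun p => ⟨p.1.val, ?_⟩) ⟨?_, ?_⟩
    · obtain ⟨p, g, e, he, hep, -⟩ := p
      rw [List.mem_toFinset, List.mem_map]
      exact ⟨e, he, hep⟩
    · intro p q hpq
      apply Subtype.ext
      apply Fin.ext
      exact congrArg Subtype.val hpq
    · rintro ⟨q, hq⟩
      rw [List.mem_toFinset, List.mem_map] at hq
      obtain ⟨e, he, rfl⟩ := hq
      obtain ⟨-, -, -, -, hap⟩ := hentry e he
      have hlt : e.1 < n := by rw [← hap]; exact ap_lt hb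
      exact ⟨⟨⟨e.1, hlt⟩, perm n e.2.1, e, he, rfl, rfl⟩, rfl⟩
  rw [h1, List.toFinset_card_of_nodup hnodup, List.length_map]

theorem chain_sound (n : ℕ) : ∀ Ls : List Level, chainOk n Ls = true → ChainInv n Ls := by
  intro Ls
  induction Ls with
  | nil => intro _; exact chainInv_nil n
  | cons L rest ih =>
    intro h
    unfold chainOk at h
    rw [Bool.and_eq_true] at h
    exact chainInv_cons n L rest (ih h.1) h.2

end Cfsg.Agent.Lib.Helper10.SS
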