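import Mathlib

set_option autoImplicit false
set_option maxRecDepth 100000

/-!
# `7 : 3 < L_2(7) < SU_3(3)`: the computational model over `GF(9)`

`Kp` is the prime field, `Kq = Kp[ι]`, `ι² = 2`.  Coordinates: the basis `1, s, s²` of `Kq[s] / (s³ - α s² - (1 + α) s - 1)`,
the hermitian form `Tr(x ȳ)`, the companion matrix `Cm`, the Frobenius `Sm`, an involution `gm` generating `L_2(7)` with them,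
an orbit `Orb` of vectors, and the normalisation table `tbl`.  Vectors are triples, matrices triples of columns.
-/

namespace Cfsg.Agent.Lib.Helper10.SU33

/-- the prime field -/
inductive Kp : Type
  | e0 | e1 | e2
  deriving DecidableEq

instance : Fintype Kp := ⟨⟨[Kp.e0, Kp.e1, Kp.e2], by decide⟩, by intro x; cases x <;> decide⟩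

namespace Kp

def add : Kp → Kp → Kp
  | e0, e0 => e0
  | e0, e1 => e1
  | e0, e2 => e2
  | e1, e0 => e1
  | e1, e1 => e2
  | e1, e2 => e0
  | e2, e0 => e2
  | e2, e1 => e0
  | e2, e2 => e1

def mul : Kp → Kp → Kp
  | e0, e0 => e0
  | e0, e1 => e0
  | e0, e2 => e0
  | e1, e0 => e0
  | e1, e1 => e1
  | e1, e2 => e2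
  | e2, e0 => e0
  | e2, e1 => e2
  | e2, e2 => e1

def neg : Kp → Kp
  | e0 => e0
  | e1 => e2
  | e2 => e1

end Kp

/-- the field with `9` elements -/
structure Kq where
  re : Kp
  im : Kp
  deriving DecidableEq

namespace Kq

def add (x y : Kq) : Kq := ⟨Kp.add x.re y.re, Kp.add x.im y.im⟩

def mul (x y : Kq) : Kq :=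
  ⟨Kp.add (Kp.mul x.re y.re) (Kp.mul Kp.e2 (Kp.mul x.im y.im)), Kp.add (Kp.mul x.re y.im) (Kp.mul x.im y.re)⟩

/-- the map `x ↦ x^3` -/
def frob (x : Kq) : Kq := ⟨x.re, Kp.neg x.im⟩

def neg (x : Kq) : Kq := ⟨Kp.neg x.re, Kp.neg x.im⟩

def zero : Kq := ⟨Kp.e0, Kp.e0⟩
def one : Kq := ⟨Kp.e1, Kp.e0⟩
def iota : Kq := ⟨Kp.e0, Kp.e1⟩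

end Kq

/-- vectors of the model -/
structure V3 where
  a : Kq
  b : Kq
  c : Kq
  deriving DecidableEq

namespace V3

def add (v w : V3) : V3 := ⟨Kq.add v.a w.a, Kq.add v.b w.b, Kq.add v.c w.c⟩

def smul (k : Kq) (v : V3) : V3 := ⟨Kq.mul k v.a, Kq.mul k v.b, Kq.mul k v.c⟩

def frob (v : V3) : V3 := ⟨Kq.frob v.a, Kq.frob v.b, Kq.frob v.c⟩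

def dot (v w : V3) : Kq := Kq.add (Kq.add (Kq.mul v.a w.a) (Kq.mul v.b w.b)) (Kq.mul v.c w.c)

def zero : V3 := ⟨Kq.zero, Kq.zero, Kq.zero⟩

end V3

/-- matrices of the model, as triples of columns -/
structure M3 where
  c0 : V3
  c1 : V3
  c2 : V3
  deriving DecidableEq

/-- matrix times vector -/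
def mv (A : M3) (v : V3) : V3 := V3.add (V3.add (V3.smul v.a A.c0) (V3.smul v.b A.c1)) (V3.smul v.c A.c2)

/-- matrix times matrix -/
def mm (A B : M3) : M3 := ⟨mv A B.c0, mv A B.c1, mv A B.c2⟩

/-- the column of index `i` -/
def M3.col (A : M3) : Fin 3 → V3
  | 0 => A.c0
  | 1 => A.c1
  | 2 => A.c2

def Id3 : M3 := ⟨⟨⟨Kp.e1, Kp.e0⟩, ⟨Kp.e0, Kp.e0⟩, ⟨Kp.e0, Kp.e0⟩⟩, ⟨⟨Kp.e0, Kp.e0⟩, ⟨Kp.e1, Kp.e0⟩, ⟨Kp.e0, Kp.e0⟩⟩, ⟨⟨Kp.e0, Kp.e0⟩, ⟨Kp.e0, Kp.e0⟩, ⟨Kp.e1, Kp.e0⟩⟩⟩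

def Cm : M3 := ⟨⟨⟨Kp.e0, Kp.e0⟩, ⟨Kp.e1, Kp.e0⟩, ⟨Kp.e0, Kp.e0⟩⟩, ⟨⟨Kp.e0, Kp.e0⟩, ⟨Kp.e0, Kp.e0⟩, ⟨Kp.e1, Kp.e0⟩⟩, ⟨⟨Kp.e1, Kp.e0⟩, ⟨Kp.e2, Kp.e1⟩, ⟨Kp.e1, Kp.e1⟩⟩⟩

def C2m : M3 := ⟨⟨⟨Kp.e0, Kp.e0⟩, ⟨Kp.e0, Kp.e0⟩, ⟨Kp.e1, Kp.e0⟩⟩, ⟨⟨Kp.e1, Kp.e0⟩, ⟨Kp.e2, Kp.e1⟩, ⟨Kp.e1, Kp.e1⟩⟩, ⟨⟨Kp.e1, Kp.e1⟩, ⟨Kp.e2, Kp.e0⟩, ⟨Kp.e2, Kp.e0⟩⟩⟩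

def Sm : M3 := ⟨⟨⟨Kp.e1, Kp.e0⟩, ⟨Kp.e0, Kp.e0⟩, ⟨Kp.e0, Kp.e0⟩⟩, ⟨⟨Kp.e0, Kp.e0⟩, ⟨Kp.e0, Kp.e0⟩, ⟨Kp.e1, Kp.e0⟩⟩, ⟨⟨Kp.e1, Kp.e1⟩, ⟨Kp.e2, Kp.e0⟩, ⟨Kp.e2, Kp.e0⟩⟩⟩

def S2m : M3 := ⟨⟨⟨Kp.e1, Kp.e0⟩, ⟨Kp.e0, Kp.e0⟩, ⟨Kp.e0, Kp.e0⟩⟩, ⟨⟨Kp.e1, Kp.e1⟩, ⟨Kp.e2, Kp.e0⟩, ⟨Kp.e2, Kp.e0⟩⟩, ⟨⟨Kp.e0, Kp.e0⟩, ⟨Kp.e1, Kp.e0⟩, ⟨Kp.e0, Kp.e0⟩⟩⟩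

def gm : M3 := ⟨⟨⟨Kp.e0, Kp.e1⟩, ⟨Kp.e0, Kp.e0⟩, ⟨Kp.e2, Kp.e1⟩⟩, ⟨⟨Kp.e0, Kp.e0⟩, ⟨Kp.e2, Kp.e0⟩, ⟨Kp.e0, Kp.e0⟩⟩, ⟨⟨Kp.e2, Kp.e2⟩, ⟨Kp.e0, Kp.e0⟩, ⟨Kp.e0, Kp.e2⟩⟩⟩

def Gm : M3 := ⟨⟨⟨Kp.e0, Kp.e0⟩, ⟨Kp.e1, Kp.e1⟩, ⟨Kp.e1, Kp.e1⟩⟩, ⟨⟨Kp.e1, Kp.e2⟩, ⟨Kp.e0, Kp.e0⟩, ⟨Kp.e1, Kp.e1⟩⟩, ⟨⟨Kp.e1, Kp.e2⟩, ⟨Kp.e1, Kp.e2⟩, ⟨Kp.e0, Kp.e0⟩⟩⟩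

/-- the hermitian form of the model -/
def hG (v w : V3) : Kq := V3.dot v (mv Gm (V3.frob w))

/-- the determinant -/
def det3 (A : M3) : Kq :=
  Kq.add (Kq.add (Kq.mul A.c0.a (Kq.add (Kq.mul A.c1.b A.c2.c) (Kq.neg (Kq.mul A.c2.b A.c1.c))))
    (Kq.neg (Kq.mul A.c1.a (Kq.add (Kq.mul A.c0.b A.c2.c) (Kq.neg (Kq.mul A.c2.b A.c0.c))))))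
    (Kq.mul A.c2.a (Kq.add (Kq.mul A.c0.b A.c1.c) (Kq.neg (Kq.mul A.c1.b A.c0.c))))

theorem det_S : det3 Sm = Kq.one := by decide
theorem det_g : det3 gm = Kq.one := by decide

theorem mm_C_C : mm Cm Cm = C2m := by decide
theorem mm_S_C : mm Sm Cm = mm C2m Sm := by decide
theorem mm_S_S : mm Sm Sm = S2m := by decide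
theorem mm_S2_S : mm S2m Sm = Id3 := by decide
theorem mm_S_S2 : mm Sm S2m = Id3 := by decide
theorem mm_g_g : mm gm gm = Id3 := by decide

theorem unitary_S : ∀ i j : Fin 3, hG (mv Sm (Id3.col i)) (mv Sm (Id3.col j)) = hG (Id3.col i) (Id3.col j) := by decide
theorem unitary_g : ∀ i j : Fin 3, hG (mv gm (Id3.col i)) (mv gm (Id3.col j)) = hG (Id3.col i) (Id3.col j) := by decide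

theorem noncomm : mm (mm (mm gm Cm) gm) Cm ≠ mm Cm (mm (mm gm Cm) gm) := by decide

/-- an orbit of the overgroup on vectors -/
def Orb : List V3 := [
  ⟨⟨Kp.e0, Kp.e0⟩, ⟨Kp.e1, Kp.e0⟩, ⟨Kp.e0, Kp.e1⟩⟩,
  ⟨⟨Kp.e0, Kp.e0⟩, ⟨Kp.e2, Kp.e0⟩, ⟨Kp.e0, Kp.e2⟩⟩,
  ⟨⟨Kp.e1, Kp.e0⟩, ⟨Kp.e0, Kp.e0⟩, ⟨Kp.e0, Kp.e1⟩⟩,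
  ⟨⟨Kp.e1, Kp.e0⟩, ⟨Kp.e1, Kp.e0⟩, ⟨Kp.e2, Kp.e0⟩⟩,
  ⟨⟨Kp.e1, Kp.e0⟩, ⟨Kp.e0, Kp.e1⟩, ⟨Kp.e0, Kp.e0⟩⟩,
  ⟨⟨Kp.e1, Kp.e0⟩, ⟨Kp.e1, Kp.e1⟩, ⟨Kp.e0, Kp.e1⟩⟩,
  ⟨⟨Kp.e1, Kp.e0⟩, ⟨Kp.e2, Kp.e2⟩, ⟨Kp.e1, Kp.e0⟩⟩,
  ⟨⟨Kp.e1, Kp.e0⟩, ⟨Kp.e2, Kp.e2⟩, ⟨Kp.e0, Kp.e1⟩⟩,
  ⟨⟨Kp.e2, Kp.e0⟩, ⟨Kp.e0, Kp.e0⟩, ⟨Kp.e0, Kp.e2⟩⟩,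
  ⟨⟨Kp.e2, Kp.e0⟩, ⟨Kp.e2, Kp.e0⟩, ⟨Kp.e1, Kp.e0⟩⟩,
  ⟨⟨Kp.e2, Kp.e0⟩, ⟨Kp.e1, Kp.e1⟩, ⟨Kp.e2, Kp.e0⟩⟩,
  ⟨⟨Kp.e2, Kp.e0⟩, ⟨Kp.e1, Kp.e1⟩, ⟨Kp.e0, Kp.e2⟩⟩,
  ⟨⟨Kp.e2, Kp.e0⟩, ⟨Kp.e0, Kp.e2⟩, ⟨Kp.e0, Kp.e0⟩⟩,
  ⟨⟨Kp.e2, Kp.e0⟩, ⟨Kp.e2, Kp.e2⟩, ⟨Kp.e0, Kp.e2⟩⟩,
  ⟨⟨Kp.e0, Kp.e1⟩, ⟨Kp.e2, Kp.e0⟩, ⟨Kp.e1, Kp.e0⟩⟩,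
  ⟨⟨Kp.e0, Kp.e1⟩, ⟨Kp.e2, Kp.e1⟩, ⟨Kp.e2, Kp.e2⟩⟩,
  ⟨⟨Kp.e0, Kp.e1⟩, ⟨Kp.e0, Kp.e2⟩, ⟨Kp.e1, Kp.e0⟩⟩,
  ⟨⟨Kp.e0, Kp.e1⟩, ⟨Kp.e0, Kp.e2⟩, ⟨Kp.e2, Kp.e1⟩⟩,
  ⟨⟨Kp.e0, Kp.e1⟩, ⟨Kp.e0, Kp.e2⟩, ⟨Kp.e0, Kp.e2⟩⟩,
  ⟨⟨Kp.e0, Kp.e1⟩, ⟨Kp.e2, Kp.e2⟩, ⟨Kp.e0, Kp.e1⟩⟩,
  ⟨⟨Kp.e1, Kp.e1⟩, ⟨Kp.e0, Kp.e1⟩, ⟨Kp.e1, Kp.e2⟩⟩,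
  ⟨⟨Kp.e1, Kp.e1⟩, ⟨Kp.e2, Kp.e1⟩, ⟨Kp.e2, Kp.e0⟩⟩,
  ⟨⟨Kp.e1, Kp.e1⟩, ⟨Kp.e2, Kp.e1⟩, ⟨Kp.e1, Kp.e1⟩⟩,
  ⟨⟨Kp.e1, Kp.e1⟩, ⟨Kp.e1, Kp.e2⟩, ⟨Kp.e1, Kp.e1⟩⟩,
  ⟨⟨Kp.e2, Kp.e1⟩, ⟨Kp.e1, Kp.e0⟩, ⟨Kp.e2, Kp.e0⟩⟩,
  ⟨⟨Kp.e2, Kp.e1⟩, ⟨Kp.e1, Kp.e0⟩, ⟨Kp.e1, Kp.e1⟩⟩,
  ⟨⟨Kp.e2, Kp.e1⟩, ⟨Kp.e2, Kp.e0⟩, ⟨Kp.e1, Kp.e2⟩⟩,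
  ⟨⟨Kp.e2, Kp.e1⟩, ⟨Kp.e0, Kp.e2⟩, ⟨Kp.e1, Kp.e2⟩⟩,
  ⟨⟨Kp.e0, Kp.e2⟩, ⟨Kp.e1, Kp.e0⟩, ⟨Kp.e2, Kp.e0⟩⟩,
  ⟨⟨Kp.e0, Kp.e2⟩, ⟨Kp.e0, Kp.e1⟩, ⟨Kp.e2, Kp.e0⟩⟩,
  ⟨⟨Kp.e0, Kp.e2⟩, ⟨Kp.e0, Kp.e1⟩, ⟨Kp.e0, Kp.e1⟩⟩,
  ⟨⟨Kp.e0, Kp.e2⟩, ⟨Kp.e0, Kp.e1⟩, ⟨Kp.e1, Kp.e2⟩⟩,
  ⟨⟨Kp.e0, Kp.e2⟩, ⟨Kp.e1, Kp.e1⟩, ⟨Kp.e0, Kp.e2⟩⟩,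
  ⟨⟨Kp.e0, Kp.e2⟩, ⟨Kp.e1, Kp.e2⟩, ⟨Kp.e1, Kp.e1⟩⟩,
  ⟨⟨Kp.e1, Kp.e2⟩, ⟨Kp.e1, Kp.e0⟩, ⟨Kp.e2, Kp.e1⟩⟩,
  ⟨⟨Kp.e1, Kp.e2⟩, ⟨Kp.e2, Kp.e0⟩, ⟨Kp.e1, Kp.e0⟩⟩,
  ⟨⟨Kp.e1, Kp.e2⟩, ⟨Kp.e2, Kp.e0⟩, ⟨Kp.e2, Kp.e2⟩⟩,
  ⟨⟨Kp.e1, Kp.e2⟩, ⟨Kp.e0, Kp.e1⟩, ⟨Kp.e2, Kp.e1⟩⟩,
  ⟨⟨Kp.e2, Kp.e2⟩, ⟨Kp.e2, Kp.e1⟩, ⟨Kp.e2, Kp.e2⟩⟩,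
  ⟨⟨Kp.e2, Kp.e2⟩, ⟨Kp.e0, Kp.e2⟩, ⟨Kp.e2, Kp.e1⟩⟩,
  ⟨⟨Kp.e2, Kp.e2⟩, ⟨Kp.e1, Kp.e2⟩, ⟨Kp.e1, Kp.e0⟩⟩,
  ⟨⟨Kp.e2, Kp.e2⟩, ⟨Kp.e1, Kp.e2⟩, ⟨Kp.e2, Kp.e2⟩⟩]

theorem orbit_C : ∀ o ∈ Orb, mv Cm o ∈ Orb := by decide
theorem orbit_S : ∀ o ∈ Orb, mv Sm o ∈ Orb := by decide
theorem orbit_g : ∀ o ∈ Orb, mv gm o ∈ Orb := by decide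

/-- centre of a transvection moving the orbit -/
def u0 : V3 := ⟨⟨Kp.e0, Kp.e0⟩, ⟨Kp.e0, Kp.e0⟩, ⟨Kp.e1, Kp.e0⟩⟩
def o0 : V3 := ⟨⟨Kp.e0, Kp.e0⟩, ⟨Kp.e1, Kp.e0⟩, ⟨Kp.e0, Kp.e1⟩⟩
theorem u0_isotropic : hG u0 u0 = Kq.zero := by decide
theorem o0_mem : o0 ∈ Orb := by decide
theorem tv_moves : V3.add o0 (V3.smul (Kq.mul Kq.iota (hG o0 u0)) u0) ∉ Orb := by decide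

/-- the coefficients of `s³ = α s² + (1 + α) s + 1` -/
def ac0 : Kq := ⟨Kp.e1, Kp.e0⟩
def ac1 : Kq := ⟨Kp.e2, Kp.e1⟩
def ac2 : Kq := ⟨Kp.e1, Kp.e1⟩

/-- `γ(3)` from `γ(0..2)` by the recurrence of `s³ = α s² + (1 + α) s + 1` -/
def g3 (x : V3) : Kq := Kq.add (Kq.add (Kq.mul ac0 x.a) (Kq.mul ac1 x.b)) (Kq.mul ac2 x.c)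

/-- all the recurrences `a₀ γ(e) + a₁ γ(e + 1) + a₂ γ(e + 2) = γ(e + 3)` -/
def recs (x0 x1 x2 x3 x4 x5 x6 : Kq) : Bool :=
  (Kq.add (Kq.add (Kq.mul ac0 x0) (Kq.mul ac1 x1)) (Kq.mul ac2 x2) == x3) &&
  (Kq.add (Kq.add (Kq.mul ac0 x1) (Kq.mul ac1 x2)) (Kq.mul ac2 x3) == x4) &&
  (Kq.add (Kq.add (Kq.mul ac0 x2) (Kq.mul ac1 x3)) (Kq.mul ac2 x4) == x5) &&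
  (Kq.add (Kq.add (Kq.mul ac0 x3) (Kq.mul ac1 x4)) (Kq.mul ac2 x5) == x6) &&
  (Kq.add (Kq.add (Kq.mul ac0 x4) (Kq.mul ac1 x5)) (Kq.mul ac2 x6) == x0) &&
  (Kq.add (Kq.add (Kq.mul ac0 x5) (Kq.mul ac1 x6)) (Kq.mul ac2 x0) == x1) &&
  (Kq.add (Kq.add (Kq.mul ac0 x6) (Kq.mul ac1 x0)) (Kq.mul ac2 x1) == x2)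

/-- the values `h(s^d v', v')`, `d < 3`, for `v' = Σ t_i s^i v` -/
def newg (t0 t1 t2 x0 x1 x2 x3 x4 x5 x6 : Kq) : V3 :=
  ⟨Kq.add (Kq.add (Kq.add (Kq.add (Kq.add (Kq.add (Kq.add (Kq.add ((Kq.mul (Kq.mul t0 (Kq.frob t0)) x0)) (Kq.mul (Kq.mul t0 (Kq.frob t1)) x6)) (Kq.mul (Kq.mul t0 (Kq.frob t2)) x5)) (Kq.mul (Kq.mul t1 (Kq.frob t0)) x1)) (Kq.mul (Kq.mul t1 (Kq.frob t1)) x0)) (Kq.mul (Kq.mul t1 (Kq.frob t2)) x6)) (Kq.mul (Kq.mul t2 (Kq.frob t0)) x2)) (Kq.mul (Kq.mul t2 (Kq.frob t1)) x1)) (Kq.mul (Kq.mul t2 (Kq.frob t2)) x0),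
   Kq.add (Kq.add (Kq.add (Kq.add (Kq.add (Kq.add (Kq.add (Kq.add ((Kq.mul (Kq.mul t0 (Kq.frob t0)) x1)) (Kq.mul (Kq.mul t0 (Kq.frob t1)) x0)) (Kq.mul (Kq.mul t0 (Kq.frob t2)) x6)) (Kq.mul (Kq.mul t1 (Kq.frob t0)) x2)) (Kq.mul (Kq.mul t1 (Kq.frob t1)) x1)) (Kq.mul (Kq.mul t1 (Kq.frob t2)) x0)) (Kq.mul (Kq.mul t2 (Kq.frob t0)) x3)) (Kq.mul (Kq.mul t2 (Kq.frob t1)) x2)) (Kq.mul (Kq.mul t2 (Kq.frob t2)) x1),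
   Kq.add (Kq.add (Kq.add (Kq.add (Kq.add (Kq.add (Kq.add (Kq.add ((Kq.mul (Kq.mul t0 (Kq.frob t0)) x2)) (Kq.mul (Kq.mul t0 (Kq.frob t1)) x1)) (Kq.mul (Kq.mul t0 (Kq.frob t2)) x0)) (Kq.mul (Kq.mul t1 (Kq.frob t0)) x3)) (Kq.mul (Kq.mul t1 (Kq.frob t1)) x2)) (Kq.mul (Kq.mul t1 (Kq.frob t2)) x1)) (Kq.mul (Kq.mul t2 (Kq.frob t0)) x4)) (Kq.mul (Kq.mul t2 (Kq.frob t1)) x3)) (Kq.mul (Kq.mul t2 (Kq.frob t2)) x2)⟩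

/-- the table of normalising vectors -/
def tbl : V3 → V3
  | ⟨⟨Kp.e0, Kp.e0⟩, ⟨Kp.e1, Kp.e0⟩, ⟨Kp.e2, Kp.e1⟩⟩ => ⟨⟨Kp.e1, Kp.e0⟩, ⟨Kp.e0, Kp.e0⟩, ⟨Kp.e2, Kp.e1⟩⟩
  | ⟨⟨Kp.e0, Kp.e0⟩, ⟨Kp.e2, Kp.e0⟩, ⟨Kp.e1, Kp.e2⟩⟩ => ⟨⟨Kp.e1, Kp.e0⟩, ⟨Kp.e0, Kp.e0⟩, ⟨Kp.e1, Kp.e2⟩⟩
  | ⟨⟨Kp.e0, Kp.e0⟩, ⟨Kp.e0, Kp.e1⟩, ⟨Kp.e2, Kp.e0⟩⟩ => ⟨⟨Kp.e0, Kp.e0⟩, ⟨Kp.e1, Kp.e1⟩, ⟨Kp.e1, Kp.e1⟩⟩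
  | ⟨⟨Kp.e0, Kp.e0⟩, ⟨Kp.e1, Kp.e1⟩, ⟨Kp.e1, Kp.e1⟩⟩ => ⟨⟨Kp.e0, Kp.e0⟩, ⟨Kp.e0, Kp.e0⟩, ⟨Kp.e1, Kp.e0⟩⟩
  | ⟨⟨Kp.e0, Kp.e0⟩, ⟨Kp.e2, Kp.e1⟩, ⟨Kp.e0, Kp.e2⟩⟩ => ⟨⟨Kp.e0, Kp.e0⟩, ⟨Kp.e1, Kp.e0⟩, ⟨Kp.e2, Kp.e1⟩⟩
  | ⟨⟨Kp.e0, Kp.e0⟩, ⟨Kp.e0, Kp.e2⟩, ⟨Kp.e1, Kp.e0⟩⟩ => ⟨⟨Kp.e0, Kp.e0⟩, ⟨Kp.e1, Kp.e0⟩, ⟨Kp.e1, Kp.e0⟩⟩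
  | ⟨⟨Kp.e0, Kp.e0⟩, ⟨Kp.e1, Kp.e2⟩, ⟨Kp.e0, Kp.e1⟩⟩ => ⟨⟨Kp.e0, Kp.e0⟩, ⟨Kp.e1, Kp.e0⟩, ⟨Kp.e1, Kp.e2⟩⟩
  | ⟨⟨Kp.e0, Kp.e0⟩, ⟨Kp.e2, Kp.e2⟩, ⟨Kp.e2, Kp.e2⟩⟩ => ⟨⟨Kp.e0, Kp.e0⟩, ⟨Kp.e0, Kp.e0⟩, ⟨Kp.e1, Kp.e1⟩⟩
  | ⟨⟨Kp.e1, Kp.e0⟩, ⟨Kp.e0, Kp.e0⟩, ⟨Kp.e2, Kp.e1⟩⟩ => ⟨⟨Kp.e0, Kp.e0⟩, ⟨Kp.e1, Kp.e0⟩, ⟨Kp.e2, Kp.e2⟩⟩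
  | ⟨⟨Kp.e1, Kp.e0⟩, ⟨Kp.e1, Kp.e0⟩, ⟨Kp.e1, Kp.e2⟩⟩ => ⟨⟨Kp.e1, Kp.e0⟩, ⟨Kp.e1, Kp.e0⟩, ⟨Kp.e2, Kp.e2⟩⟩
  | ⟨⟨Kp.e1, Kp.e0⟩, ⟨Kp.e2, Kp.e0⟩, ⟨Kp.e0, Kp.e0⟩⟩ => ⟨⟨Kp.e1, Kp.e0⟩, ⟨Kp.e0, Kp.e0⟩, ⟨Kp.e2, Kp.e2⟩⟩
  | ⟨⟨Kp.e1, Kp.e0⟩, ⟨Kp.e0, Kp.e1⟩, ⟨Kp.e1, Kp.e1⟩⟩ => ⟨⟨Kp.e0, Kp.e0⟩, ⟨Kp.e1, Kp.e1⟩, ⟨Kp.e2, Kp.e1⟩⟩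
  | ⟨⟨Kp.e1, Kp.e0⟩, ⟨Kp.e1, Kp.e1⟩, ⟨Kp.e0, Kp.e2⟩⟩ => ⟨⟨Kp.e1, Kp.e0⟩, ⟨Kp.e0, Kp.e1⟩, ⟨Kp.e1, Kp.e0⟩⟩
  | ⟨⟨Kp.e1, Kp.e0⟩, ⟨Kp.e2, Kp.e1⟩, ⟨Kp.e2, Kp.e0⟩⟩ => ⟨⟨Kp.e1, Kp.e0⟩, ⟨Kp.e1, Kp.e0⟩, ⟨Kp.e0, Kp.e2⟩⟩
  | ⟨⟨Kp.e1, Kp.e0⟩, ⟨Kp.e0, Kp.e2⟩, ⟨Kp.e0, Kp.e1⟩⟩ => ⟨⟨Kp.e1, Kp.e0⟩, ⟨Kp.e1, Kp.e1⟩, ⟨Kp.e0, Kp.e2⟩⟩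
  | ⟨⟨Kp.e1, Kp.e0⟩, ⟨Kp.e1, Kp.e2⟩, ⟨Kp.e2, Kp.e2⟩⟩ => ⟨⟨Kp.e0, Kp.e0⟩, ⟨Kp.e1, Kp.e1⟩, ⟨Kp.e2, Kp.e2⟩⟩
  | ⟨⟨Kp.e1, Kp.e0⟩, ⟨Kp.e2, Kp.e2⟩, ⟨Kp.e1, Kp.e0⟩⟩ => ⟨⟨Kp.e0, Kp.e0⟩, ⟨Kp.e1, Kp.e0⟩, ⟨Kp.e0, Kp.e2⟩⟩
  | ⟨⟨Kp.e2, Kp.e0⟩, ⟨Kp.e0, Kp.e0⟩, ⟨Kp.e1, Kp.e2⟩⟩ => ⟨⟨Kp.e0, Kp.e0⟩, ⟨Kp.e1, Kp.e0⟩, ⟨Kp.e1, Kp.e1⟩⟩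
  | ⟨⟨Kp.e2, Kp.e0⟩, ⟨Kp.e1, Kp.e0⟩, ⟨Kp.e0, Kp.e0⟩⟩ => ⟨⟨Kp.e1, Kp.e0⟩, ⟨Kp.e0, Kp.e0⟩, ⟨Kp.e1, Kp.e1⟩⟩
  | ⟨⟨Kp.e2, Kp.e0⟩, ⟨Kp.e2, Kp.e0⟩, ⟨Kp.e2, Kp.e1⟩⟩ => ⟨⟨Kp.e1, Kp.e0⟩, ⟨Kp.e0, Kp.e0⟩, ⟨Kp.e2, Kp.e0⟩⟩
  | ⟨⟨Kp.e2, Kp.e0⟩, ⟨Kp.e0, Kp.e1⟩, ⟨Kp.e0, Kp.e2⟩⟩ => ⟨⟨Kp.e1, Kp.e0⟩, ⟨Kp.e0, Kp.e0⟩, ⟨Kp.e0, Kp.e1⟩⟩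
  | ⟨⟨Kp.e2, Kp.e0⟩, ⟨Kp.e1, Kp.e1⟩, ⟨Kp.e2, Kp.e0⟩⟩ => ⟨⟨Kp.e0, Kp.e0⟩, ⟨Kp.e1, Kp.e1⟩, ⟨Kp.e1, Kp.e2⟩⟩
  | ⟨⟨Kp.e2, Kp.e0⟩, ⟨Kp.e2, Kp.e1⟩, ⟨Kp.e1, Kp.e1⟩⟩ => ⟨⟨Kp.e0, Kp.e0⟩, ⟨Kp.e1, Kp.e0⟩, ⟨Kp.e2, Kp.e0⟩⟩
  | ⟨⟨Kp.e2, Kp.e0⟩, ⟨Kp.e0, Kp.e2⟩, ⟨Kp.e2, Kp.e2⟩⟩ => ⟨⟨Kp.e0, Kp.e0⟩, ⟨Kp.e1, Kp.e0⟩, ⟨Kp.e0, Kp.e1⟩⟩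
  | ⟨⟨Kp.e2, Kp.e0⟩, ⟨Kp.e1, Kp.e2⟩, ⟨Kp.e1, Kp.e0⟩⟩ => ⟨⟨Kp.e1, Kp.e0⟩, ⟨Kp.e1, Kp.e0⟩, ⟨Kp.e1, Kp.e0⟩⟩
  | ⟨⟨Kp.e2, Kp.e0⟩, ⟨Kp.e2, Kp.e2⟩, ⟨Kp.e0, Kp.e1⟩⟩ => ⟨⟨Kp.e1, Kp.e0⟩, ⟨Kp.e1, Kp.e0⟩, ⟨Kp.e2, Kp.e0⟩⟩
  | _ => V3.zero

def gamma0 : V3 := ⟨⟨Kp.e0, Kp.e0⟩, ⟨Kp.e1, Kp.e1⟩, ⟨Kp.e1, Kp.e1⟩⟩

def admissible (x : V3) : Bool :=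
  (Kq.frob x.a == x.a) &&
  recs x.a x.b x.c (g3 x) (Kq.frob (g3 x)) (Kq.frob x.c) (Kq.frob x.b)

def normalise (x : V3) : V3 :=
  newg (tbl x).a (tbl x).b (tbl x).c x.a x.b x.c (g3 x) (Kq.frob (g3 x)) (Kq.frob x.c) (Kq.frob x.b)

theorem normalise_eq : ∀ a0 a1 b0 b1 c0 c1 : Kp, admissible ⟨⟨a0, a1⟩, ⟨b0, b1⟩, ⟨c0, c1⟩⟩ = true →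
    (⟨⟨a0, a1⟩, ⟨b0, b1⟩, ⟨c0, c1⟩⟩ : V3) ≠ V3.zero →
    normalise ⟨⟨a0, a1⟩, ⟨b0, b1⟩, ⟨c0, c1⟩⟩ = gamma0 := by decide

/-- the Gram matrix is the one of `gamma0` -/
theorem gram_gamma0 : Gm = ⟨⟨gamma0.a, gamma0.b, gamma0.c⟩,
    ⟨Kq.frob gamma0.b, gamma0.a, gamma0.b⟩,
    ⟨Kq.frob gamma0.c, Kq.frob gamma0.b, gamma0.a⟩⟩ := by decide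

/-- arithmetic of the prime field -/
theorem Kp_sq_sum : ∀ r m : Kp, Kp.add (Kp.mul r r) (Kp.mul (Kp.neg Kp.e2) (Kp.mul m m)) = Kp.e0 → r = Kp.e0 ∧ m = Kp.e0 := by
  decide

end Cfsg.Agent.Lib.Helper10.SU33
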