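import Mathlib
import Cfsg.Prelude.Def_GeometricClasses

set_option autoImplicit false

/-!
# The hermitian form `Σ u_i v_i^q` over a field with `q²` elements: sesquilinearity, adjoints, transvections
(generic `q`; the two field facts needed are bundled in `QF`).
-/

namespace Cfsg.Agent.Lib.Helper10.UH

open Matrix

/-- the two facts on `x ↦ x^q` used throughout -/
structure QF (F : Type*) [Field F] (q : ℕ) : Prop where
  add_pow : ∀ a b : F, (a + b) ^ q = a ^ q + b ^ q
  pow_pow : ∀ x : F, (x ^ q) ^ q = x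

/-- a field with `p²` elements, `p` prime -/
theorem QF.of_card {F : Type*} [Field F] [Fintype F] {p : ℕ} (hp : p.Prime)
    (hF : Fintype.card F = p ^ 2) : QF F p := by
  haveI : Fact p.Prime := ⟨hp⟩
  haveI : CharP F p := by
    obtain ⟨p', hp'⟩ := CharP.exists F
    haveI := hp'
    obtain ⟨n, hpp, hn⟩ := FiniteField.card F p'
    rw [hF] at hn
    have : p = p' := by
      have h1 : p ∣ p' ^ (n : ℕ) := by rw [← hn]; exact dvd_pow_self p (by norm_num)
      exact (Nat.prime_dvd_prime_iff_eq hp hpp).mp (hp.dvd_of_dvd_pow h1)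
    rw [this]
    exact hp'
  refine ⟨fun a b => add_pow_char a b p, fun x => ?_⟩
  rw [← pow_mul, ← pow_two, ← hF]
  exact FiniteField.pow_card x

theorem char_eq_zero {F : Type*} [Field F] [Fintype F] {p : ℕ} (hp : p.Prime)
    (hF : Fintype.card F = p ^ 2) : (p : F) = 0 := by
  have h1 : ((Fintype.card F : ℕ) : F) = 0 := Nat.cast_card_eq_zero F
  rw [hF] at h1
  push_cast at h1
  exact pow_eq_zero_iff (by norm_num) |>.mp h1

section Herm

variable {F : Type*} [Field F] {n q : ℕ}

/-- The form `Σ u_i v_i^q`. -/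
abbrev hf (q : ℕ) (u v : Fin n → F) : F := Cfsg.hermForm n F q u v

theorem hf_def (u v : Fin n → F) : hf q u v = ∑ i, u i * (v i) ^ q := rfl

theorem sum_powq (hq : QF F q) {κ : Type*} (s : Finset κ) (f : κ → F) (hpos : 0 < q) :
    (∑ i ∈ s, f i) ^ q = ∑ i ∈ s, (f i) ^ q := by
  classical
  induction s using Finset.induction_on with
  | empty => simp [zero_pow hpos.ne']
  | insert a s ha ih => rw [Finset.sum_insert ha, Finset.sum_insert ha, hq.add_pow, ih]

theorem hf_add_left (x y v : Fin n → F) : hf q (x + y) v = hf q x v + hf q y v := by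
  simp only [hf_def, Pi.add_apply, add_mul, Finset.sum_add_distrib]

theorem hf_smul_left (a : F) (x v : Fin n → F) : hf q (a • x) v = a * hf q x v := by
  simp only [hf_def, Pi.smul_apply, smul_eq_mul, Finset.mul_sum, mul_assoc]

theorem hf_sum_left {κ : Type*} (s : Finset κ) (w : κ → Fin n → F) (v : Fin n → F) :
    hf q (∑ j ∈ s, w j) v = ∑ j ∈ s, hf q (w j) v := by
  classical
  induction s using Finset.induction_on with
  | empty => simp [hf_def]
  | insert a s ha ih => rw [Finset.sum_insert ha, Finset.sum_insert ha, hf_add_left, ih]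

theorem hf_zero_left (v : Fin n → F) : hf q (0 : Fin n → F) v = 0 := by
  simp [hf_def]

theorem hf_add_right (hq : QF F q) (x u v : Fin n → F) : hf q x (u + v) = hf q x u + hf q x v := by
  simp only [hf_def, Pi.add_apply, hq.add_pow, mul_add, Finset.sum_add_distrib]

theorem hf_smul_right (a : F) (x v : Fin n → F) : hf q x (a • v) = a ^ q * hf q x v := by
  simp only [hf_def, Pi.smul_apply, smul_eq_mul, Finset.mul_sum, mul_pow]
  exact Finset.sum_congr rfl fun i _ => by ring

theorem hf_sum_right (hq : QF F q) (hpos : 0 < q) {κ : Type*} (s : Finset κ) (x : Fin n → F)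
    (w : κ → Fin n → F) : hf q x (∑ j ∈ s, w j) = ∑ j ∈ s, hf q x (w j) := by
  classical
  induction s using Finset.induction_on with
  | empty => simp [hf_def, zero_pow hpos.ne']
  | insert a s ha ih => rw [Finset.sum_insert ha, Finset.sum_insert ha, hf_add_right hq, ih]

theorem hf_symm (hq : QF F q) (hpos : 0 < q) (u v : Fin n → F) : (hf q u v) ^ q = hf q v u := by
  rw [hf_def, sum_powq hq _ _ hpos, hf_def]
  refine Finset.sum_congr rfl fun i _ => ?_
  rw [mul_pow, hq.pow_pow, mul_comm]

/-! ### Adjoints -/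

/-- the adjoint matrix for the form `Σ u_i v_i^q` -/
def adj (q : ℕ) (k : Matrix (Fin n) (Fin n) F) : Matrix (Fin n) (Fin n) F := Matrix.of fun i j => (k j i) ^ q

theorem adj_apply (k : Matrix (Fin n) (Fin n) F) (i j : Fin n) : adj q k i j = (k j i) ^ q := rfl

theorem hf_adj (hq : QF F q) (hpos : 0 < q) (k : Matrix (Fin n) (Fin n) F) (u v : Fin n → F) :
    hf q (k *ᵥ u) v = hf q u (adj q k *ᵥ v) := by
  simp only [hf_def, Matrix.mulVec, dotProduct, adj_apply]
  have : ∀ j, (∑ i, k i j ^ q * v i) ^ q = ∑ i, k i j * v i ^ q := by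
    intro j
    rw [sum_powq hq _ _ hpos]
    refine Finset.sum_congr rfl fun i _ => ?_
    rw [mul_pow, hq.pow_pow]
  simp only [this, Finset.sum_mul, Finset.mul_sum]
  rw [Finset.sum_comm]
  refine Finset.sum_congr rfl fun j _ => Finset.sum_congr rfl fun i _ => by ring

theorem hf_single_left (j : Fin n) (w : Fin n → F) : hf q (Pi.single j 1) w = (w j) ^ q := by
  rw [hf_def, Finset.sum_eq_single j]
  · simp
  · intro i _ hij
    simp [Pi.single_apply, hij]
  · simp

theorem powq_inj (hq : QF F q) {x y : F} (h : x ^ q = y ^ q) : x = y := by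
  rw [← hq.pow_pow x, ← hq.pow_pow y, h]

theorem hf_right_ext (hq : QF F q) {w w' : Fin n → F} (h : ∀ u, hf q u w = hf q u w') : w = w' := by
  funext j
  have := h (Pi.single j 1)
  rw [hf_single_left, hf_single_left] at this
  exact powq_inj hq this

theorem mat_ext_mulVec {A B : Matrix (Fin n) (Fin n) F} (h : ∀ v, A *ᵥ v = B *ᵥ v) : A = B := by
  ext i j
  have := congrFun (h (Pi.single j 1)) i
  simpa using this

theorem adj_unique (hq : QF F q) {k' k'' : Matrix (Fin n) (Fin n) F}
    (h : ∀ u v, hf q u (k' *ᵥ v) = hf q u (k'' *ᵥ v)) : k' = k'' :=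
  mat_ext_mulVec fun v => hf_right_ext hq fun u => h u v

theorem adj_of_isAdj (hq : QF F q) (hpos : 0 < q) {k k' : Matrix (Fin n) (Fin n) F}
    (h : ∀ u v, hf q (k *ᵥ u) v = hf q u (k' *ᵥ v)) : k' = adj q k :=
  adj_unique hq fun u v => by rw [← h, hf_adj hq hpos]

theorem adj_add (hq : QF F q) (k l : Matrix (Fin n) (Fin n) F) : adj q (k + l) = adj q k + adj q l := by
  ext i j
  simp only [adj_apply, Matrix.add_apply, hq.add_pow]

theorem adj_zero (hpos : 0 < q) : adj q (0 : Matrix (Fin n) (Fin n) F) = 0 := by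
  ext i j
  simp [adj_apply, zero_pow hpos.ne']

theorem adj_one (hpos : 0 < q) : adj q (1 : Matrix (Fin n) (Fin n) F) = 1 := by
  ext i j
  simp only [adj_apply, Matrix.one_apply]
  by_cases h : i = j
  · subst h; simp
  · rw [if_neg h, if_neg (Ne.symm h)]; simp [zero_pow hpos.ne']

theorem adj_smul (c : F) (k : Matrix (Fin n) (Fin n) F) : adj q (c • k) = c ^ q • adj q k := by
  ext i j
  simp only [adj_apply, Matrix.smul_apply, smul_eq_mul, mul_pow]

theorem adj_mul (hq : QF F q) (hpos : 0 < q) (k l : Matrix (Fin n) (Fin n) F) :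
    adj q (k * l) = adj q l * adj q k := by
  ext i j
  simp only [adj_apply, Matrix.mul_apply, sum_powq hq _ _ hpos, mul_pow]
  exact Finset.sum_congr rfl fun m _ => mul_comm _ _

theorem adj_adj (hq : QF F q) (k : Matrix (Fin n) (Fin n) F) : adj q (adj q k) = k := by
  ext i j
  simp only [adj_apply, hq.pow_pow]

theorem adj_pow (hq : QF F q) (hpos : 0 < q) (k : Matrix (Fin n) (Fin n) F) (m : ℕ) :
    adj q (k ^ m) = adj q k ^ m := by
  induction m with
  | zero => simp [adj_one hpos]
  | succ m ih => rw [pow_succ, adj_mul hq hpos, ih, pow_succ']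

/-- membership in the unitary group through the adjoint -/
theorem mem_GU_iff (hq : QF F q) (hpos : 0 < q) (g : Matrix.GeneralLinearGroup (Fin n) F) :
    g ∈ Cfsg.GU n F q ↔ adj q (g : Matrix (Fin n) (Fin n) F) * (g : Matrix (Fin n) (Fin n) F) = 1 := by
  constructor
  · intro hg
    refine adj_unique hq fun u v => ?_
    rw [Matrix.one_mulVec, ← Matrix.mulVec_mulVec, ← hf_adj hq hpos]
    exact hg u v
  · intro h u v
    show hf q ((g : Matrix (Fin n) (Fin n) F) *ᵥ u) ((g : Matrix (Fin n) (Fin n) F) *ᵥ v) = hf q u v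
    rw [hf_adj hq hpos, Matrix.mulVec_mulVec, h, Matrix.one_mulVec]

theorem adj_mem_of_closed (hq : QF F q) (hpos : 0 < q) {K : Subalgebra F (Matrix (Fin n) (Fin n) F)}
    (hadj : Cfsg.Geo.IsAdjointClosedFor (Cfsg.hermForm n F q) K) {k : Matrix (Fin n) (Fin n) F}
    (hk : k ∈ K) : adj q k ∈ K := by
  obtain ⟨k', hk', h⟩ := hadj k hk
  have : k' = adj q k := adj_of_isAdj hq hpos h
  rwa [← this]

/-! ### Unitary transvections -/

/-- The matrix of the map `x ↦ x + c h(x, u) u`. -/
def tvMat (q : ℕ) (c : F) (u : Fin n → F) : Matrix (Fin n) (Fin n) F :=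
  1 + c • Matrix.of fun i j => u i * (u j) ^ q

theorem tvMat_mulVec (c : F) (u x : Fin n → F) : tvMat q c u *ᵥ x = x + (c * hf q x u) • u := by
  rw [tvMat, Matrix.add_mulVec, Matrix.one_mulVec, Matrix.smul_mulVec]
  congr 1
  funext i
  simp only [Pi.smul_apply, smul_eq_mul, Matrix.mulVec, dotProduct, Matrix.of_apply, hf_def,
    Finset.sum_mul, Finset.mul_sum]
  exact Finset.sum_congr rfl fun j _ => by ring

theorem tvMat_mul (c c' : F) (u : Fin n → F) (hu : hf q u u = 0) :
    tvMat q c u * tvMat q c' u = tvMat q (c + c') u := by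
  apply mat_ext_mulVec
  intro x
  rw [← Matrix.mulVec_mulVec, tvMat_mulVec, tvMat_mulVec, tvMat_mulVec, hf_add_left, hf_smul_left, hu,
    mul_zero, add_zero, add_assoc, ← add_smul]
  congr 2
  ring

theorem tvMat_zero (u : Fin n → F) : tvMat q 0 u = 1 := by
  rw [tvMat, zero_smul, add_zero]

theorem tvMat_pow (c : F) (u : Fin n → F) (hu : hf q u u = 0) (k : ℕ) :
    tvMat q c u ^ k = tvMat q ((k : F) * c) u := by
  induction k with
  | zero => rw [pow_zero, Nat.cast_zero, zero_mul, tvMat_zero]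
  | succ k ih =>
    rw [pow_succ, ih, tvMat_mul _ _ _ hu]
    congr 1
    push_cast
    ring

/-- The unitary transvection with isotropic centre `u`, as an element of the general linear group. -/
def tv (q : ℕ) (c : F) (u : Fin n → F) (hu : hf q u u = 0) : Matrix.GeneralLinearGroup (Fin n) F :=
  ⟨tvMat q c u, tvMat q (-c) u, by rw [tvMat_mul _ _ _ hu, add_neg_cancel, tvMat_zero],
    by rw [tvMat_mul _ _ _ hu, neg_add_cancel, tvMat_zero]⟩

theorem tv_mulVec (c : F) (u : Fin n → F) (hu : hf q u u = 0) (x : Fin n → F) :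
    ((tv q c u hu : Matrix.GeneralLinearGroup (Fin n) F) : Matrix (Fin n) (Fin n) F) *ᵥ x =
      x + (c * hf q x u) • u := tvMat_mulVec c u x

theorem tv_mem_GU (hq : QF F q) (hpos : 0 < q) (c : F) (hc : c ^ q = -c) (u : Fin n → F)
    (hu : hf q u u = 0) : tv q c u hu ∈ Cfsg.GU n F q := by
  intro x y
  show hf q (tvMat q c u *ᵥ x) (tvMat q c u *ᵥ y) = hf q x y
  rw [tvMat_mulVec, tvMat_mulVec, hf_add_left, hf_add_right hq, hf_add_right hq, hf_smul_left,
    hf_smul_right, hf_smul_right, hf_smul_left, hu, mul_pow, hc, hf_symm hq hpos y u]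
  ring

theorem tv_mem_SL (hq : QF F q) (hpos : 0 < q) (hq0 : (q : F) = 0) (c : F) (u : Fin n → F)
    (hu : hf q u u = 0) : tv q c u hu ∈ Cfsg.Geo.specialLinear (Fin n) F := by
  show Matrix.GeneralLinearGroup.det (tv q c u hu) = 1
  apply Units.ext
  rw [Matrix.GeneralLinearGroup.val_det_apply, Units.val_one]
  have hpow : (tvMat q c u) ^ q = 1 := by rw [tvMat_pow _ _ hu, hq0, zero_mul, tvMat_zero]
  have hd : (tvMat q c u).det ^ q = 1 := by rw [← Matrix.det_pow, hpow, Matrix.det_one]
  have h1 := hq.add_pow ((tvMat q c u).det - 1) 1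
  rw [sub_add_cancel, hd, one_pow] at h1
  have h0 : ((tvMat q c u).det - 1) ^ q = 0 := by linear_combination -h1
  exact sub_eq_zero.mp (pow_eq_zero_iff hpos.ne' |>.mp h0)

end Herm

end Cfsg.Agent.Lib.Helper10.UH
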