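import Mathlib
import Cfsg.Agent.Lib.Helper10.UHerm

set_option autoImplicit false

/-!
# The extension field of degree three of a field with `p²` elements, realised by matrices
-/

namespace Cfsg.Agent.Lib.Helper10.UF3

open Cfsg.Agent.Lib.Helper10.UH Matrix Module

section

variable {F : Type*} [Field F] [Fintype F] {E : Type*} [Field E] [Algebra F E] {p : ℕ}

theorem finite_E (hfin : finrank F E = 3) : Finite E := by
  haveI : Module.Finite F E := Module.finite_of_finrank_pos (by rw [hfin]; norm_num)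
  exact Module.finite_of_finite F

theorem card_E (hF : Fintype.card F = p ^ 2) (hfin : finrank F E = 3) [Fintype E] :
    Fintype.card E = p ^ 6 := by
  rw [Module.card_eq_pow_finrank (K := F) (V := E), hfin, hF, ← pow_mul]

theorem pow_card_E (hF : Fintype.card F = p ^ 2) (hfin : finrank F E = 3) (y : E) : y ^ (p ^ 6) = y := by
  have := finite_E hfin
  haveI : Fintype E := Fintype.ofFinite E
  have := FiniteField.pow_card y
  rwa [card_E hF hfin] at this

/-- an element of order seven -/
theorem exists_order7 (hp : 1 < p) (hF : Fintype.card F = p ^ 2) (hfin : finrank F E = 3)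
    (h7 : 7 ∣ p ^ 6 - 1) : ∃ x : E, orderOf x = 7 := by
  classical
  have := finite_E hfin
  haveI : Fintype E := Fintype.ofFinite E
  haveI : Fact (Nat.Prime 7) := ⟨by norm_num⟩
  have hc : Fintype.card Eˣ = p ^ 6 - 1 := by
    rw [Fintype.card_units, card_E hF hfin]
  obtain ⟨u, hu⟩ := exists_prime_orderOf_dvd_card 7 (show 7 ∣ Fintype.card Eˣ by rw [hc]; exact h7)
  exact ⟨(u : E), by rw [orderOf_units, hu]⟩

omit [Fintype F] [Algebra F E] in
theorem ga_or_gb (A x : E) (hA : A ^ 2 + A + 2 = 0) (hx : x ^ 7 = 1) (hx1 : x ≠ 1) :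
    x ^ 3 = A * x ^ 2 + (1 + A) * x + 1 ∨ x ^ 3 = (-1 - A) * x ^ 2 - A * x + 1 := by
  have h : (x - 1) * ((x ^ 3 - A * x ^ 2 + (-1 - A) * x - 1) *
      (x ^ 3 - (-1 - A) * x ^ 2 + A * x - 1)) = 0 := by
    linear_combination (x ^ 2 + x ^ 3 - x ^ 4 - x ^ 5) * hA + hx
  rcases mul_eq_zero.mp h with h | h
  · exact absurd (sub_eq_zero.mp h) hx1
  rcases mul_eq_zero.mp h with h | h
  · left
    linear_combination h
  · right
    linear_combination h

/-- an element of order seven which is a root of `x³ - α x² - (1 + α) x - 1` -/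
theorem exists_x (hp : 1 < p) (hF : Fintype.card F = p ^ 2) (hfin : finrank F E = 3) (h7 : 7 ∣ p ^ 6 - 1)
    (a : F) (ha : a ^ 2 + a + 2 = 0) :
    ∃ x : E, orderOf x = 7 ∧ x ^ 3 = algebraMap F E a * x ^ 2 + (1 + algebraMap F E a) * x + 1 := by
  obtain ⟨x, hx⟩ := exists_order7 hp hF hfin h7
  have hA : (algebraMap F E a) ^ 2 + algebraMap F E a + 2 = 0 := by
    have := congrArg (algebraMap F E) ha
    rw [map_add, map_add, map_pow, map_ofNat, map_zero] at this
    exact this
  have hx7 : x ^ 7 = 1 := by rw [← hx]; exact pow_orderOf_eq_one x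
  have hx1 : x ≠ 1 := by
    intro h
    rw [h, orderOf_one] at hx
    norm_num at hx
  rcases ga_or_gb _ x hA hx7 hx1 with h | h
  · exact ⟨x, hx, h⟩
  · refine ⟨x ^ 6, ?_, ?_⟩
    · rw [Nat.Coprime.orderOf_pow (by rw [hx]; norm_num), hx]
    · set A := algebraMap F E a with hAdef
      have e18 : (x ^ 6) ^ 3 = x ^ 4 := by
        calc (x ^ 6) ^ 3 = (x ^ 7) ^ 2 * x ^ 4 := by ring
          _ = x ^ 4 := by rw [hx7]; ring
      have e12 : (x ^ 6) ^ 2 = x ^ 5 := by
        calc (x ^ 6) ^ 2 = (x ^ 7) * x ^ 5 := by ring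
          _ = x ^ 5 := by rw [hx7]; ring
      rw [e18, e12]
      -- x^4 = A x^5 + (1 + A) x^6 + 1 ; from x^3 = (-1 - A) x^2 - A x + 1 times x^4, and x^7 = 1
      linear_combination (-x ^ 4) * h + hx7

end

section

variable {F : Type*} [Field F] [Fintype F] {E : Type*} [Field E] [Algebra F E] {p : ℕ}

/-- the adjoint on the field is the map `y ↦ y^(p³)` -/
theorem adj_rho (hp : p.Prime) (hF : Fintype.card F = p ^ 2) (hfin : finrank F E = 3) {n : ℕ} (hn : 0 < n)
    (ρ : E →ₐ[F] Matrix (Fin n) (Fin n) F) (hinj : Function.Injective ρ)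
    (hcl : ∀ y : E, adj p (ρ y) ∈ ρ.range) (hns : ∃ c : F, c ^ p ≠ c) (y : E) :
    adj p (ρ y) = ρ (y ^ (p ^ 3)) := by
  classical
  have hq := QF.of_card hp hF
  have hpos := hp.pos
  have := finite_E hfin
  haveI : Fintype E := Fintype.ofFinite E
  haveI : Fact p.Prime := ⟨hp⟩
  have hpE : (p : E) = 0 := by
    have := congrArg (algebraMap F E) (char_eq_zero hp hF)
    rw [map_natCast, map_zero] at this
    exact this
  haveI : CharP E p := by
    refine (CharP.charP_iff_prime_eq_zero hp).mpr hpE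
  letI : Algebra (ZMod p) E := ZMod.algebra E p
  have hex : ∀ y : E, ∃ z : E, ρ z = adj p (ρ y) := fun y => (AlgHom.mem_range ρ).mp (hcl y)
  choose t ht using hex
  have hcomm : ∀ k l : Matrix (Fin n) (Fin n) F, k ∈ ρ.range → l ∈ ρ.range → k * l = l * k := by
    rintro k l ⟨u, rfl⟩ ⟨v, rfl⟩
    rw [← map_mul, ← map_mul, mul_comm]
  let τ₀ : E →+* E :=
    { toFun := t
      map_one' := by
        apply hinj
        rw [ht, map_one, adj_one hpos]
      map_mul' := by
        intro u v
        apply hinj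
        rw [ht, map_mul, adj_mul hq hpos, map_mul, ht, ht]
        exact hcomm _ _ (hcl v) (hcl u)
      map_zero' := by
        apply hinj
        rw [ht, map_zero, adj_zero hpos]
      map_add' := by
        intro u v
        apply hinj
        rw [ht, map_add, map_add, adj_add hq, ht, ht] }
  let τ : E →ₐ[ZMod p] E :=
    { τ₀ with
      commutes' := by
        intro r
        have : τ₀.comp (algebraMap (ZMod p) E) = algebraMap (ZMod p) E := Subsingleton.elim _ _
        exact RingHom.congr_fun this r }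
  have hτ : ∀ u, ρ (τ u) = adj p (ρ u) := ht
  have hττ : τ * τ = 1 := by
    apply AlgHom.ext
    intro u
    apply hinj
    show ρ (τ (τ u)) = ρ u
    rw [hτ, hτ, adj_adj hq]
  have hrank : finrank (ZMod p) E = 6 := by
    have h1 := Module.card_eq_pow_finrank (K := ZMod p) (V := E)
    rw [card_E hF hfin, ZMod.card] at h1
    exact (Nat.pow_right_injective hp.two_le h1).symm
  obtain ⟨⟨j, hj⟩, hjτ⟩ := (FiniteField.bijective_frobeniusAlgHom_pow (ZMod p) E).2 τ
  simp only at hjτ
  rw [hrank] at hj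
  have hdvd : 6 ∣ j * 2 := by
    rw [← hrank, ← FiniteField.orderOf_frobeniusAlgHom (ZMod p) E]
    apply orderOf_dvd_of_pow_eq_one
    rw [pow_mul, hjτ, pow_two, hττ]
  have hτy : ∀ u, τ u = u ^ (p ^ j) := by
    intro u
    rw [← hjτ, AlgHom.coe_pow, FiniteField.coe_frobeniusAlgHom, pow_iterate, ZMod.card]
  have hj3 : j = 0 ∨ j = 3 := by omega
  rcases hj3 with rfl | rfl
  · exfalso
    obtain ⟨c, hc⟩ := hns
    have h1 := hτ (algebraMap F E c)
    rw [hτy, pow_zero, pow_one, AlgHom.commutes, Algebra.algebraMap_eq_smul_one, adj_smul, adj_one hpos] at h1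
    have h3 := congrFun (congrFun h1 ⟨0, hn⟩) ⟨0, hn⟩
    simp only [Matrix.smul_apply, Matrix.one_apply_eq, smul_eq_mul, mul_one] at h3
    exact hc h3.symm
  · rw [← hτ, hτy]

/-- the powers `1, x, x²` of an element of order seven are linearly independent -/
theorem li_pow (hF : Fintype.card F = p ^ 2) (hfin : finrank F E = 3) (h7 : ¬ 7 ∣ p ^ 2 - 1) (x : E)
    (hx : orderOf x = 7) : LinearIndependent F (fun i : Fin 3 => x ^ (i : ℕ)) := by
  haveI : Module.Finite F E := Module.finite_of_finrank_pos (by rw [hfin]; norm_num)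
  have hint : IsIntegral F x := IsIntegral.of_finite F x
  have hx7 : x ^ 7 = 1 := by rw [← hx]; exact pow_orderOf_eq_one x
  have hx0 : x ≠ 0 := by
    rintro rfl
    rw [zero_pow (by norm_num)] at hx7
    exact zero_ne_one hx7
  have hdeg : (minpoly F x).natDegree = 3 := by
    have h1 := IntermediateField.adjoin.finrank hint
    have h2 := Module.finrank_mul_finrank F (IntermediateField.adjoin F {x}) E
    rw [h1, hfin] at h2
    have hd : (minpoly F x).natDegree ∣ 3 := Dvd.intro _ h2
    rcases (Nat.dvd_prime (by norm_num)).mp hd with h | h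
    · exfalso
      have hdeg1 : (minpoly F x).degree = 1 := by
        have h' : (minpoly F x).degree = ((1 : ℕ) : WithBot ℕ) :=
          (Polynomial.degree_eq_iff_natDegree_eq (minpoly.ne_zero hint)).mpr h
        simpa using h'
      obtain ⟨c, hc⟩ := minpoly.mem_range_of_degree_eq_one F x hdeg1
      have hc0 : c ≠ 0 := by
        rintro rfl
        rw [map_zero] at hc
        exact hx0 hc.symm
      have hcp : c ^ (p ^ 2 - 1) = 1 := by
        rw [← hF]
        exact FiniteField.pow_card_sub_one_eq_one c hc0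
      have hxp : x ^ (p ^ 2 - 1) = 1 := by
        rw [← hc, ← map_pow, hcp, map_one]
      have := orderOf_dvd_of_pow_eq_one hxp
      rw [hx] at this
      exact h7 this
    · exact h
  have := linearIndependent_pow (K := F) x
  rw [hdeg] at this
  exact this

omit [Fintype F] in
theorem conj_mul' {n : ℕ} (g g' k l : Matrix (Fin n) (Fin n) F) (h : g' * g = 1) :
    g * (k * l) * g' = (g * k * g') * (g * l * g') := by
  have : (g * k * g') * (g * l * g') = g * k * (g' * g) * l * g' := by simp only [mul_assoc]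
  rw [this, h, mul_one]
  simp only [mul_assoc]

omit [Fintype F] in
theorem rho_mulVec_eq_zero {n : ℕ} (ρ : E →ₐ[F] Matrix (Fin n) (Fin n) F) {y : E} {v : Fin n → F}
    (hv : v ≠ 0) (h : ρ y *ᵥ v = 0) : y = 0 := by
  by_contra hy
  apply hv
  have h1 : ρ (y⁻¹ * y) *ᵥ v = v := by rw [inv_mul_cancel₀ hy, map_one, Matrix.one_mulVec]
  rw [map_mul, ← Matrix.mulVec_mulVec, h, Matrix.mulVec_zero] at h1
  exact h1.symm

/-- an element normalising the field acts on it as a power of the Frobenius map -/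
theorem conj_eq_pow (hfin : finrank F E = 3) {n : ℕ}
    (ρ : E →ₐ[F] Matrix (Fin n) (Fin n) F) (hinj : Function.Injective ρ)
    (g : Matrix.GeneralLinearGroup (Fin n) F) (hg : g ∈ Cfsg.Geo.subalgebraNormalizer ρ.range) :
    ∃ j : ℕ, ∀ y : E, (g : Matrix (Fin n) (Fin n) F) * ρ y *
      ((g⁻¹ : Matrix.GeneralLinearGroup (Fin n) F) : Matrix (Fin n) (Fin n) F) =
        ρ (y ^ (Fintype.card F ^ j)) := by
  classical
  have := finite_E hfin
  have hgg : (g : Matrix (Fin n) (Fin n) F) *
      ((g⁻¹ : Matrix.GeneralLinearGroup (Fin n) F) : Matrix (Fin n) (Fin n) F) = 1 := by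
    rw [← Units.val_mul, mul_inv_cancel, Units.val_one]
  have hgg' : ((g⁻¹ : Matrix.GeneralLinearGroup (Fin n) F) : Matrix (Fin n) (Fin n) F) *
      (g : Matrix (Fin n) (Fin n) F) = 1 := by
    rw [← Units.val_mul, inv_mul_cancel, Units.val_one]
  have hex : ∀ y : E, ∃ z : E, ρ z = (g : Matrix (Fin n) (Fin n) F) * ρ y *
      ((g⁻¹ : Matrix.GeneralLinearGroup (Fin n) F) : Matrix (Fin n) (Fin n) F) := fun y =>
    (AlgHom.mem_range ρ).mp ((hg (ρ y)).mp ((AlgHom.mem_range ρ).mpr ⟨y, rfl⟩))
  choose t ht using hex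
  let θ : E →ₐ[F] E :=
    { toFun := t
      map_one' := by
        apply hinj
        rw [ht, map_one, mul_one, hgg]
      map_mul' := by
        intro u v
        apply hinj
        rw [ht, map_mul, map_mul, ht, ht]
        exact conj_mul' _ _ _ _ hgg'
      map_zero' := by
        apply hinj
        rw [ht, map_zero, mul_zero, zero_mul]
      map_add' := by
        intro u v
        apply hinj
        rw [ht, map_add, map_add, ht, ht, mul_add, add_mul]
      commutes' := by
        intro c
        apply hinj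
        rw [ht, AlgHom.commutes, Algebra.algebraMap_eq_smul_one, Matrix.mul_smul, Matrix.smul_mul,
          mul_one, hgg] }
  obtain ⟨⟨j, hj⟩, hjθ⟩ := (FiniteField.bijective_frobeniusAlgHom_pow F E).2 θ
  simp only at hjθ
  refine ⟨j, fun y => ?_⟩
  have hθy : θ y = y ^ (Fintype.card F ^ j) := by
    rw [← hjθ, AlgHom.coe_pow, FiniteField.coe_frobeniusAlgHom, pow_iterate]
  rw [← hθy]
  exact (ht y).symm

/-- the determinant of an element of the field is its norm -/
theorem det_rho (hF : Fintype.card F = p ^ 2) (hfin : finrank F E = 3)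
    (ρ : E →ₐ[F] Matrix (Fin 3) (Fin 3) F) (y : E) :
    algebraMap F E (ρ y).det = y ^ ((p ^ 6 - 1) / (p ^ 2 - 1)) := by
  classical
  have := finite_E hfin
  haveI : Fintype E := Fintype.ofFinite E
  haveI : Module.Finite F E := Module.finite_of_finrank_pos (by rw [hfin]; norm_num)
  obtain ⟨v₁, hv₁⟩ : ∃ v₁ : Fin 3 → F, v₁ ≠ 0 := ⟨Pi.single 0 1, fun h => by
    have := congrFun h 0
    simp at this⟩
  let φ : E →ₗ[F] (Fin 3 → F) :=
    { toFun := fun z => ρ z *ᵥ v₁
      map_add' := fun a b => by rw [map_add, Matrix.add_mulVec]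
      map_smul' := fun c a => by rw [map_smul, Matrix.smul_mulVec, RingHom.id_apply] }
  have hφinj : Function.Injective φ := by
    rw [← LinearMap.ker_eq_bot, LinearMap.ker_eq_bot']
    intro z hz
    exact rho_mulVec_eq_zero ρ hv₁ hz
  have hφsurj : Function.Surjective φ :=
    (LinearMap.injective_iff_surjective_of_finrank_eq_finrank (by rw [hfin, Module.finrank_fin_fun])).mp hφinj
  let e : E ≃ₗ[F] (Fin 3 → F) := LinearEquiv.ofBijective φ ⟨hφinj, hφsurj⟩
  have he : ∀ z, e z = ρ z *ᵥ v₁ := fun z => rfl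
  have hconj : (e : E →ₗ[F] (Fin 3 → F)) ∘ₗ (Algebra.lmul F E y) ∘ₗ (e.symm : (Fin 3 → F) →ₗ[F] E) =
      Matrix.toLin' (ρ y) := by
    apply LinearMap.ext
    intro w
    simp only [LinearMap.comp_apply, LinearEquiv.coe_coe, Matrix.toLin'_apply]
    rw [he]
    show ρ (y * e.symm w) *ᵥ v₁ = ρ y *ᵥ w
    rw [map_mul, ← Matrix.mulVec_mulVec, ← he, LinearEquiv.apply_symm_apply]
  have hdet : (ρ y).det = Algebra.norm F y := by
    rw [← LinearMap.det_toLin', ← hconj, LinearMap.det_conj, Algebra.norm_apply]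
  rw [hdet, FiniteField.algebraMap_norm_eq_pow, Nat.card_eq_fintype_card, Nat.card_eq_fintype_card,
    card_E hF hfin, hF]

end

end Cfsg.Agent.Lib.Helper10.UF3
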