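import Mathlib
import Cfsg.Prelude.Def_GeometricClasses
import Cfsg.Agent.Lib.Helper27.AschKF3
import Cfsg.Agent.Lib.Helper10.UField3
import Cfsg.Agent.Lib.Helper10.SU33Basis

set_option autoImplicit false
set_option maxHeartbeats 2000000

/-!
# `7 : 3 < L_2(7) < SU_3(3)`: the normaliser of an extension field of degree three is not maximal in `SU_3(3)`
-/

namespace Cfsg.Agent.Lib.Helper10.SU33

open Cfsg.Agent.Lib.Helper10.UH Cfsg.Agent.Lib.Helper10.UF3 Matrix Module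

variable {F : Type*} [Field F] [Fintype F]

/-- the unitary elements of the field -/
theorem unitary_in_range {E : Type*} [Field E] [Algebra F E] (hF : Fintype.card F = 3 ^ 2) (ι : F) (hι : ι ^ 2 = 2)
    (ρ : E →ₐ[F] Matrix (Fin 3) (Fin 3) F) (hinj : Function.Injective ρ)
    (hadj : ∀ y : E, adj 3 (ρ y) = ρ (y ^ (3 ^ 3))) (x : E) (hx : orderOf x = 7) (y : E)
    (hy : adj 3 (ρ y) * ρ y = 1) :
    ∃ (c : F) (m : ℕ), c ^ 4 = 1 ∧ y = algebraMap F E c * x ^ m := by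
  have h3 : ((3 : ℕ) : F) = 0 := char_eq_zero (by norm_num) hF
  have h3E : (3 : E) = 0 := by
    have := congrArg (algebraMap F E) h3
    rw [map_natCast, map_zero] at this
    exact_mod_cast this
  have hI : (algebraMap F E ι) ^ 2 = 2 := by
    rw [← map_pow, hι, map_ofNat]
  have hy28 : y ^ 28 = 1 := by
    apply hinj
    rw [map_one, ← hy, hadj, ← map_mul, ← pow_succ]
    norm_num
  have hz4 : (y ^ 7) ^ 4 = 1 := by rw [← pow_mul]; exact hy28
  have hw7 : (y ^ 4) ^ 7 = 1 := by rw [← pow_mul]; exact hy28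
  haveI : NeZero (7 : ℕ) := ⟨by norm_num⟩
  have hprim : IsPrimitiveRoot x 7 := by rw [← hx]; exact IsPrimitiveRoot.orderOf x
  obtain ⟨i, -, hi⟩ := hprim.eq_pow_of_pow_eq_one hw7
  have hz : ∃ c : F, c ^ 4 = 1 ∧ y ^ 7 = algebraMap F E c := by
    set z := y ^ 7 with hzdef
    set I := algebraMap F E ι with hIdef
    have hfac : (z - 1) * ((z + 1) * ((z - I) * (z + I))) = 0 := by
      linear_combination hz4 - (z ^ 2 - 1) * h3E - (z ^ 2 - 1) * hI
    have hι4 : ι ^ 4 = 1 := by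
      have h3' : (3 : F) = 0 := by exact_mod_cast h3
      calc ι ^ 4 = (ι ^ 2) ^ 2 := by ring
        _ = 1 := by rw [hι]; linear_combination h3'
    rcases mul_eq_zero.mp hfac with h | h
    · exact ⟨1, one_pow 4, by rw [map_one]; exact sub_eq_zero.mp h⟩
    rcases mul_eq_zero.mp h with h | h
    · refine ⟨-1, by norm_num, ?_⟩
      rw [map_neg, map_one]
      exact eq_neg_of_add_eq_zero_left h
    rcases mul_eq_zero.mp h with h | h
    · exact ⟨ι, hι4, sub_eq_zero.mp h⟩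
    · refine ⟨-ι, by rw [neg_pow, hι4]; norm_num, ?_⟩
      rw [map_neg]
      exact eq_neg_of_add_eq_zero_left h
  obtain ⟨c, hc4, hc⟩ := hz
  refine ⟨c ^ 3, 2 * i, by rw [← pow_mul, mul_comm, pow_mul, hc4, one_pow], ?_⟩
  rw [map_pow, ← hc, pow_mul', hi]
  calc y = y ^ 28 * y := by rw [hy28, one_mul]
    _ = (y ^ 7) ^ 3 * ((y ^ 4) ^ 2) := by ring

theorem su3_main (hF : Fintype.card F = 3 ^ 2)
    {K : Subalgebra F (Matrix (Fin 3) (Fin 3) F)} (hK : Cfsg.Geo.IsFieldSubalgebra 3 K)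
    (hadj : Cfsg.Geo.IsAdjointClosedFor (Cfsg.hermForm 3 F 3) K) :
    ¬ Cfsg.Geo.IsMaximalIn (Cfsg.GU 3 F 3 ⊓ Cfsg.Geo.specialLinear (Fin 3) F)
      (Cfsg.Geo.subalgebraNormalizer K ⊓ (Cfsg.GU 3 F 3 ⊓ Cfsg.Geo.specialLinear (Fin 3) F)) := by
  classical
  rintro ⟨-, hmax⟩
  have hp : Nat.Prime 3 := by norm_num
  have hq : QF F 3 := QF.of_card hp hF
  have hpos : 0 < 3 := by norm_num
  haveI := charP_F hF
  have h3 : (3 : F) = 0 := by exact_mod_cast char_eq_zero hp hF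
  obtain ⟨ι, hι⟩ := exists_iota hF
  have hιp : ι ^ 3 = -ι := iota_pow ι hι
  have hι0 : ι ≠ 0 := by
    rintro rfl
    rw [zero_pow (by norm_num)] at hι
    have h2 : (2 : F) = 0 := hι.symm
    have h1 : (1 : F) = 0 := by linear_combination h3 - h2
    exact one_ne_zero h1
  obtain ⟨α, hαdef⟩ : ∃ α : F, α = phi ι ac2 := ⟨_, rfl⟩
  have hac0 : phi ι ac0 = 1 := by simp [phi, ac0, phip, Kp.toNat]
  have hac2 : phi ι ac2 = 1 + ι := by simp [phi, ac2, phip, Kp.toNat]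
  have hac1 : phi ι ac1 = 1 + α := by
    rw [hαdef, hac2]
    simp [phi, ac1, phip, Kp.toNat]
    ring
  have hα : α ^ 2 + α + 2 = 0 := by
    rw [hαdef, hac2]
    linear_combination hι + (ι + 2) * h3
  obtain ⟨E, instE, instA, ρ, hinj, hrange, hfin⟩ :=
    Cfsg.Agent.Lib.Helper27.AschKF3.exists_model 3 (by norm_num) K hK
  have hmemK : ∀ y : E, ρ y ∈ K := fun y => by
    rw [← hrange]; exact (AlgHom.mem_range ρ).mpr ⟨y, rfl⟩
  have hcl : ∀ y : E, adj 3 (ρ y) ∈ ρ.range := fun y => by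
    rw [hrange]; exact adj_mem_of_closed hq hpos hadj (hmemK y)
  have hns : ∃ c : F, c ^ 3 ≠ c := by
    refine ⟨ι, fun h => hι0 ?_⟩
    have h2ι : (2 : F) * ι = 0 := by linear_combination hιp - h
    have : ι = 0 := by linear_combination (-1 : F) * h2ι + ι * h3
    exact this
  have hadjρ := adj_rho hp hF hfin (by norm_num) ρ hinj hcl hns
  obtain ⟨x, hx, hx3⟩ := exists_x (E := E) (by norm_num) hF hfin (by norm_num) α hα
  have hx7 : x ^ 7 = 1 := by rw [← hx]; exact pow_orderOf_eq_one x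
  obtain ⟨s, hs⟩ : ∃ s, s = ρ x := ⟨_, rfl⟩
  have hs7 : s ^ 7 = 1 := by rw [hs, ← map_pow, hx7, map_one]
  have hs3 : s ^ 3 = phi ι ac0 • 1 + phi ι ac1 • s + phi ι ac2 • s ^ 2 := by
    have hx3' : x ^ 3 = (1 : F) • 1 + (1 + α) • x + α • x ^ 2 := by
      rw [hx3]
      simp only [Algebra.smul_def, map_add, map_one, mul_one]
      ring
    have h := congrArg ρ hx3'
    simp only [map_add, map_smul, map_pow, map_one, ← hs] at h
    rw [hac0, hac1, ← hαdef]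
    exact h
  have hsK : s ∈ K := hs ▸ hmemK x
  have hsadj : adj 3 s * s = 1 := by
    rw [hs, hadjρ, ← map_mul, ← pow_succ, show 3 ^ 3 + 1 = 7 * 4 from rfl, pow_mul, hx7, one_pow, map_one]
  have hsU : ∀ u v : Fin 3 → F, hf 3 (s *ᵥ u) (s *ᵥ v) = hf 3 u v := by
    intro u v
    rw [hf_adj hq hpos, Matrix.mulVec_mulVec, hsadj, Matrix.one_mulVec]
  obtain ⟨v₁, d0, d1, d2⟩ := exists_v1 s hF ι hι hsU hs7 hs3
  have hv₁ : v₁ ≠ 0 := by
    rintro rfl
    rw [Matrix.mulVec_zero, hf_zero_left] at d1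
    have h1 : phi ι gamma0.b = 1 + ι := by simp [phi, gamma0, phip, Kp.toNat]
    rw [h1] at d1
    -- 1 + ι = 0 is impossible: ι = -1, ι² = 1 ≠ 2
    have h4 : ι = -1 := by linear_combination -d1
    rw [h4] at hι
    have h5 : (1 : F) = 0 := by linear_combination -hι
    exact one_ne_zero h5
  have hGr := gram_table s hq ι hι hsU v₁ d0 d1 d2
  obtain ⟨P, hP⟩ : ∃ P, P = Pmat s v₁ := ⟨_, rfl⟩
  have hform : ∀ v w : V3, hf 3 (P *ᵥ vec ι v) (P *ᵥ vec ι w) = phi ι (hG v w) := by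
    rw [hP]; exact form_bridge s hq ι hι v₁ hGr
  have hpoly : ∀ c : Fin 3 → F, (∑ j, c j • s ^ (j : ℕ)) = ρ (∑ j, c j • x ^ (j : ℕ)) := by
    intro c
    rw [map_sum]
    refine Finset.sum_congr rfl fun j _ => ?_
    rw [map_smul, map_pow, hs]
  have hPpoly : ∀ c : Fin 3 → F, P *ᵥ c = (∑ j, c j • s ^ (j : ℕ)) *ᵥ v₁ := by
    intro c; rw [hP]; exact Pmat_mulVec_poly s v₁ c
  have hli := li_pow hF hfin (by norm_num) x hx
  have hPinj : Function.Injective P.mulVec := by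
    intro c c' hcc
    have h0 : P *ᵥ (c - c') = 0 := by rw [Matrix.mulVec_sub]; exact sub_eq_zero.mpr hcc
    rw [hPpoly, hpoly] at h0
    have h1 := rho_mulVec_eq_zero ρ hv₁ h0
    have h3 := Fintype.linearIndependent_iff.mp hli (c - c') h1
    funext i
    exact sub_eq_zero.mp (h3 i)
  have hdet : IsUnit P.det := (Matrix.isUnit_iff_isUnit_det P).mp (Matrix.mulVec_injective_iff_isUnit.mp hPinj)
  obtain ⟨P', hP'⟩ : ∃ P', P' = P⁻¹ := ⟨_, rfl⟩
  have hPP' : P * P' = 1 := by rw [hP']; exact Matrix.mul_nonsing_inv P hdet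
  have hP'P : P' * P = 1 := by rw [hP']; exact Matrix.nonsing_inv_mul P hdet
  -- `s` in the model
  have hsP : s * P = P * mat ι Cm := by
    apply mat_ext_mulVec
    intro c
    rw [← Matrix.mulVec_mulVec, ← Matrix.mulVec_mulVec, hPpoly, hPpoly, Matrix.mulVec_mulVec]
    congr 1
    have e0 : (mat ι Cm *ᵥ c) 0 = phi ι ac0 * c 2 := by
      simp [Matrix.mulVec, dotProduct, Fin.sum_univ_three, mat, vec, Cm, M3.col, phi, phip, Kp.toNat, ac0]
    have e1 : (mat ι Cm *ᵥ c) 1 = c 0 + phi ι ac1 * c 2 := by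
      simp [Matrix.mulVec, dotProduct, Fin.sum_univ_three, mat, vec, Cm, M3.col, phi, phip, Kp.toNat, ac1]
    have e2 : (mat ι Cm *ᵥ c) 2 = c 1 + phi ι ac2 * c 2 := by
      simp [Matrix.mulVec, dotProduct, Fin.sum_univ_three, mat, vec, Cm, M3.col, phi, phip, Kp.toNat, ac2]
    simp only [Fin.sum_univ_three, e0, e1, e2, Fin.val_zero, Fin.val_one, Fin.val_two, pow_zero, pow_one,
      mul_add, Matrix.mul_smul, mul_one, ← pow_succ', ← pow_two]
    simp only [Nat.reduceAdd]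
    rw [hs3]
    module
  have hscj : s = cj ι P P' Cm := by
    unfold cj
    rw [← hsP, mul_assoc, hPP', mul_one]
  -- abbreviations
  have hcjmul : ∀ A B : M3, cj ι P P' A * cj ι P P' B = cj ι P P' (mm A B) := cj_mul ι P P' hι hP'P
  have hcj1 : cj ι P P' Id3 = 1 := cj_Id3 ι P P' hPP'
  have hcjv : ∀ (A : M3) (v : V3), cj ι P P' A *ᵥ (P *ᵥ vec ι v) = P *ᵥ vec ι (mv A v) :=
    cj_mulVec ι P P' hι hP'P
  -- the orbit
  obtain ⟨O, hO⟩ : ∃ O : Set (Fin 3 → F), O = {w | ∃ o ∈ Orb, w = P *ᵥ vec ι o} := ⟨_, rfl⟩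
  have hOfin : O.Finite := by
    have h1 : O ⊆ (fun o => P *ᵥ vec ι o) '' {o | o ∈ Orb} := by
      rw [hO]
      rintro w ⟨o, ho, rfl⟩
      exact ⟨o, ho, rfl⟩
    exact ((List.finite_toSet Orb).image _).subset h1
  have hcjO : ∀ A : M3, (∀ o ∈ Orb, mv A o ∈ Orb) → ∀ w ∈ O, cj ι P P' A *ᵥ w ∈ O := by
    intro A hA w hw
    rw [hO] at hw ⊢
    obtain ⟨o, ho, rfl⟩ := hw
    exact ⟨mv A o, hA o ho, hcjv A o⟩
  have hcjU : ∀ A : M3, (∀ i j : Fin 3, hG (mv A (Id3.col i)) (mv A (Id3.col j)) =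
      hG (Id3.col i) (Id3.col j)) → ∀ u v : Fin 3 → F, hf 3 (cj ι P P' A *ᵥ u) (cj ι P P' A *ᵥ v) = hf 3 u v :=
    fun A hA => cj_unitary ι P P' hι hq hPP' hP'P hform A hA
  have hdet1 : ∀ M : Matrix.GeneralLinearGroup (Fin 3) F, (M : Matrix (Fin 3) (Fin 3) F).det = 1 →
      M ∈ Cfsg.Geo.specialLinear (Fin 3) F := by
    intro M hM
    show Matrix.GeneralLinearGroup.det M = 1
    apply Units.ext
    rw [Matrix.GeneralLinearGroup.val_det_apply, Units.val_one]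
    exact hM
  have hGUmem : ∀ M : Matrix.GeneralLinearGroup (Fin 3) F,
      (∀ u v : Fin 3 → F, hf 3 ((M : Matrix (Fin 3) (Fin 3) F) *ᵥ u) ((M : Matrix (Fin 3) (Fin 3) F) *ᵥ v) =
        hf 3 u v) → M ∈ Cfsg.GU 3 F 3 := fun M hM => hM
  have hSLdet : ∀ M : Matrix.GeneralLinearGroup (Fin 3) F, M ∈ Cfsg.Geo.specialLinear (Fin 3) F →
      (M : Matrix (Fin 3) (Fin 3) F).det = 1 := by
    intro M hM
    have h1 : Matrix.GeneralLinearGroup.det M = 1 := hM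
    have h3 := congrArg Units.val h1
    rwa [Matrix.GeneralLinearGroup.val_det_apply, Units.val_one] at h3
  -- the element of order three
  obtain ⟨zG, hzG, hzG'⟩ : ∃ zG : Matrix.GeneralLinearGroup (Fin 3) F,
      (zG : Matrix (Fin 3) (Fin 3) F) = cj ι P P' Sm ∧
      ((zG⁻¹ : Matrix.GeneralLinearGroup (Fin 3) F) : Matrix (Fin 3) (Fin 3) F) = cj ι P P' S2m :=
    ⟨⟨cj ι P P' Sm, cj ι P P' S2m, by rw [hcjmul, mm_S_S2, hcj1], by rw [hcjmul, mm_S2_S, hcj1]⟩, rfl, rfl⟩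
  have hZU : zG ∈ Cfsg.GU 3 F 3 := by
    apply hGUmem
    rw [hzG]
    exact hcjU Sm unitary_S
  have hZS : zG ∈ Cfsg.Geo.specialLinear (Fin 3) F := by
    apply hdet1
    rw [hzG, cj_det ι P P' hι hPP', det_S, phi_one]
  have hZO : ∀ w ∈ O, (zG : Matrix (Fin 3) (Fin 3) F) *ᵥ w ∈ O := by
    rw [hzG]; exact hcjO Sm orbit_S
  have hsO : ∀ w ∈ O, s *ᵥ w ∈ O := by
    rw [hscj]; exact hcjO Cm orbit_C
  have hs9 : s ^ (Fintype.card F) = cj ι P P' C2m := by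
    rw [hF, show (3 : ℕ) ^ 2 = 7 + 2 from rfl, pow_add, hs7, one_mul, pow_two]
    conv_lhs => rw [hscj]
    rw [hcjmul, mm_C_C]
  have hZsemi : SemiconjBy (zG : Matrix (Fin 3) (Fin 3) F) s (s ^ (Fintype.card F)) := by
    show (zG : Matrix (Fin 3) (Fin 3) F) * s = s ^ (Fintype.card F) * (zG : Matrix (Fin 3) (Fin 3) F)
    rw [hs9, hzG]
    conv_lhs => rw [hscj]
    rw [hcjmul, hcjmul, mm_S_C]
  have hZk : ∀ k : ℕ, SemiconjBy ((zG ^ k : Matrix.GeneralLinearGroup (Fin 3) F) : Matrix (Fin 3) (Fin 3) F)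
      s (s ^ (Fintype.card F ^ k)) := by
    intro k
    induction k with
    | zero => simp [SemiconjBy]
    | succ k ih =>
      rw [pow_succ', Units.val_mul]
      have h1 := hZsemi.pow_right (Fintype.card F ^ k)
      rw [← pow_mul, ← pow_succ'] at h1
      exact h1.mul_left ih
  -- the overgroup
  have hNX : Cfsg.Geo.subalgebraNormalizer K ⊓ (Cfsg.GU 3 F 3 ⊓ Cfsg.Geo.specialLinear (Fin 3) F) ≤
      Cfsg.stabilizing (Cfsg.glToMat (Fin 3) F) O ⊓ (Cfsg.GU 3 F 3 ⊓ Cfsg.Geo.specialLinear (Fin 3) F) := by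
    rintro g ⟨hgN, hgU, hgS⟩
    refine ⟨?_, hgU, hgS⟩
    have hgN' : g ∈ Cfsg.Geo.subalgebraNormalizer ρ.range := by rw [hrange]; exact hgN
    obtain ⟨j, hj⟩ := conj_eq_pow hfin ρ hinj g hgN'
    have hgsemi : SemiconjBy (g : Matrix (Fin 3) (Fin 3) F) s (s ^ (Fintype.card F ^ j)) := by
      show (g : Matrix (Fin 3) (Fin 3) F) * s = s ^ (Fintype.card F ^ j) * (g : Matrix (Fin 3) (Fin 3) F)
      have h1 := hj x
      rw [map_pow, ← hs] at h1
      rw [← h1, mul_assoc, ← Units.val_mul, inv_mul_cancel, Units.val_one, mul_one]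
    obtain ⟨g', hg'⟩ : ∃ g' : Matrix.GeneralLinearGroup (Fin 3) F, g' = (zG ^ j)⁻¹ * g := ⟨_, rfl⟩
    have hg'comm : SemiconjBy (g' : Matrix (Fin 3) (Fin 3) F) s s := by
      rw [hg', Units.val_mul]
      exact (hZk j).units_inv_symm_left.mul_left hgsemi
    have hg'U : g' ∈ Cfsg.GU 3 F 3 := by
      rw [hg']
      exact Subgroup.mul_mem _ (Subgroup.inv_mem _ (Subgroup.pow_mem _ hZU j)) hgU
    have hg'S : g' ∈ Cfsg.Geo.specialLinear (Fin 3) F := by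
      rw [hg']
      exact Subgroup.mul_mem _ (Subgroup.inv_mem _ (Subgroup.pow_mem _ hZS j)) hgS
    -- `g'` is a polynomial in `s`
    obtain ⟨c, hc⟩ : ∃ c : Fin 3 → F, c = P' *ᵥ ((g' : Matrix (Fin 3) (Fin 3) F) *ᵥ v₁) := ⟨_, rfl⟩
    have hcv : (∑ i, c i • s ^ (i : ℕ)) *ᵥ v₁ = (g' : Matrix (Fin 3) (Fin 3) F) *ᵥ v₁ := by
      rw [← hPpoly, hc, Matrix.mulVec_mulVec, hPP', Matrix.one_mulVec]
    have hcomm_poly : ∀ (M : Matrix (Fin 3) (Fin 3) F), Commute M s → ∀ c' : Fin 3 → F,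
        Commute M (∑ i, c' i • s ^ (i : ℕ)) := by
      intro M hM c'
      exact Commute.sum_right _ _ _ fun i _ => (hM.pow_right _).smul_right _
    have hss : Commute s s := Commute.refl s
    have hg'eq : (g' : Matrix (Fin 3) (Fin 3) F) = ∑ i, c i • s ^ (i : ℕ) := by
      apply mat_ext_mulVec
      intro u
      have hu : u = P *ᵥ (P' *ᵥ u) := by rw [Matrix.mulVec_mulVec, hPP', Matrix.one_mulVec]
      rw [hu, hPpoly, Matrix.mulVec_mulVec, Matrix.mulVec_mulVec]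
      have e1 : (g' : Matrix (Fin 3) (Fin 3) F) * (∑ j, (P' *ᵥ u) j • s ^ (j : ℕ)) =
          (∑ j, (P' *ᵥ u) j • s ^ (j : ℕ)) * (g' : Matrix (Fin 3) (Fin 3) F) :=
        hcomm_poly _ hg'comm _
      have e2 : (∑ i, c i • s ^ (i : ℕ)) * (∑ j, (P' *ᵥ u) j • s ^ (j : ℕ)) =
          (∑ j, (P' *ᵥ u) j • s ^ (j : ℕ)) * (∑ i, c i • s ^ (i : ℕ)) :=
        hcomm_poly _ (hcomm_poly _ hss c).symm _
      rw [e1, e2, ← Matrix.mulVec_mulVec, ← Matrix.mulVec_mulVec, hcv]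
    obtain ⟨y, hy⟩ : ∃ y : E, y = ∑ i, c i • x ^ (i : ℕ) := ⟨_, rfl⟩
    have hg'ρ : (g' : Matrix (Fin 3) (Fin 3) F) = ρ y := by rw [hg'eq, hpoly, hy]
    have hyU : adj 3 (ρ y) * ρ y = 1 := by
      rw [← hg'ρ]
      exact (mem_GU_iff hq hpos g').mp hg'U
    obtain ⟨c₀, m, hc₀, hym⟩ := unitary_in_range hF ι hι ρ hinj hadjρ x hx y hyU
    have hg'sm : (g' : Matrix (Fin 3) (Fin 3) F) = c₀ • s ^ m := by
      rw [hg'ρ, hym, map_mul, AlgHom.commutes, Algebra.algebraMap_eq_smul_one, smul_mul_assoc, one_mul, map_pow,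
        hs]
    have hsdet : s.det = 1 := by
      conv_lhs => rw [hscj]
      rw [cj_det ι P P' hι hPP']
      have : det3 Cm = Kq.one := by decide
      rw [this, phi_one]
    have hc₀1 : c₀ = 1 := by
      have h1 := hSLdet g' hg'S
      rw [hg'sm, Matrix.det_smul, Matrix.det_pow, hsdet, one_pow, mul_one, Fintype.card_fin] at h1
      calc c₀ = c₀ * c₀ ^ 3 := by rw [h1, mul_one]
        _ = c₀ ^ 4 := by ring
        _ = 1 := hc₀
    have hgmat : (g : Matrix (Fin 3) (Fin 3) F) = (zG : Matrix (Fin 3) (Fin 3) F) ^ j * s ^ m := by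
      have h1 : g = zG ^ j * g' := by rw [hg', mul_inv_cancel_left]
      rw [h1, Units.val_mul, Units.val_pow_eq_pow_val, hg'sm, hc₀1, one_smul]
    apply mem_stabilizing_of_mapsTo g O hOfin
    intro w hw
    rw [hgmat, ← Matrix.mulVec_mulVec]
    exact pow_mapsTo _ O hZO j _ (pow_mapsTo _ O hsO m w hw)
  rcases hmax _ hNX inf_le_right with h | h
  · -- an involution of the overgroup which does not normalise the field
    obtain ⟨g₁, hg₁, hg₁'⟩ : ∃ g₁ : Matrix.GeneralLinearGroup (Fin 3) F,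
        (g₁ : Matrix (Fin 3) (Fin 3) F) = cj ι P P' gm ∧
        ((g₁⁻¹ : Matrix.GeneralLinearGroup (Fin 3) F) : Matrix (Fin 3) (Fin 3) F) = cj ι P P' gm :=
      ⟨⟨cj ι P P' gm, cj ι P P' gm, by rw [hcjmul, mm_g_g, hcj1], by rw [hcjmul, mm_g_g, hcj1]⟩, rfl, rfl⟩
    have hg₁X : g₁ ∈ Cfsg.stabilizing (Cfsg.glToMat (Fin 3) F) O ⊓
        (Cfsg.GU 3 F 3 ⊓ Cfsg.Geo.specialLinear (Fin 3) F) := by
      refine ⟨mem_stabilizing_of_mapsTo g₁ O hOfin ?_, ?_, ?_⟩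
      · rw [hg₁]; exact hcjO gm orbit_g
      · apply hGUmem
        rw [hg₁]
        exact hcjU gm unitary_g
      · apply hdet1
        rw [hg₁, cj_det ι P P' hι hPP', det_g, phi_one]
    rw [h] at hg₁X
    have hN := hg₁X.1
    have hk : (g₁ : Matrix (Fin 3) (Fin 3) F) * s *
        ((g₁⁻¹ : Matrix.GeneralLinearGroup (Fin 3) F) : Matrix (Fin 3) (Fin 3) F) ∈ K := (hN s).mp hsK
    have hcomm := hK.comm _ hk _ hsK
    rw [hg₁, hg₁'] at hcomm
    have e : cj ι P P' gm * s * cj ι P P' gm = cj ι P P' (mm (mm gm Cm) gm) := by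
      conv_lhs => rw [hscj]
      rw [hcjmul, hcjmul]
    rw [e] at hcomm
    have hne : cj ι P P' (mm (mm (mm gm Cm) gm) Cm) = cj ι P P' (mm Cm (mm (mm gm Cm) gm)) := by
      rw [← hcjmul (mm (mm gm Cm) gm) Cm, ← hcjmul Cm (mm (mm gm Cm) gm), ← hscj]
      exact hcomm
    exact noncomm (cj_injective ι P P' hι hPP' hP'P hne)
  · -- a transvection of the special unitary group which moves the orbit
    have hu : hf 3 (P *ᵥ vec ι u0) (P *ᵥ vec ι u0) = 0 := by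
      rw [hform, u0_isotropic, phi_zero]
    obtain ⟨T, hT⟩ : ∃ T, T = tv 3 ι (P *ᵥ vec ι u0) hu := ⟨_, rfl⟩
    have hTK : T ∈ Cfsg.GU 3 F 3 ⊓ Cfsg.Geo.specialLinear (Fin 3) F := by
      rw [hT]
      exact ⟨tv_mem_GU hq hpos ι hιp _ hu, tv_mem_SL hq hpos (by exact_mod_cast h3) ι _ hu⟩
    rw [← h] at hTK
    have hstab := hTK.1 (P *ᵥ vec ι o0)
    have hin : P *ᵥ vec ι o0 ∈ O := by
      rw [hO]
      exact ⟨o0, o0_mem, rfl⟩
    have hout : (T : Matrix (Fin 3) (Fin 3) F) *ᵥ (P *ᵥ vec ι o0) ∈ O := hstab.mp hin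
    rw [hT, tv_mulVec, hform] at hout
    have e : P *ᵥ vec ι o0 + (ι * phi ι (hG o0 u0)) • (P *ᵥ vec ι u0) =
        P *ᵥ vec ι (V3.add o0 (V3.smul (Kq.mul Kq.iota (hG o0 u0)) u0)) := by
      rw [vec_add, vec_smul ι hι, phi_mul ι hι, phi_iota, Matrix.mulVec_add, Matrix.mulVec_smul]
    rw [e, hO] at hout
    obtain ⟨o', ho', heq⟩ := hout
    have h3' := model_vec_injective ι P P' hι hP'P heq
    rw [← h3'] at ho'
    exact tv_moves ho'

end Cfsg.Agent.Lib.Helper10.SU33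

namespace Cfsg.Agent.Lib.Helper10.SUMLeaf

variable {F : Type*} [Field F] [Fintype F]

/-- `7 : 3` is not maximal in `SU_3(3)` (it lies in `L_2(7)`) -/
theorem su3_three_field_not_max (hF : Fintype.card F = 3 ^ 2)
    {K : Subalgebra F (Matrix (Fin 3) (Fin 3) F)} (hK : Cfsg.Geo.IsFieldSubalgebra 3 K)
    (hadj : Cfsg.Geo.IsAdjointClosedFor (Cfsg.hermForm 3 F 3) K) :
    ¬ Cfsg.Geo.IsMaximalIn (Cfsg.GU 3 F 3 ⊓ Cfsg.Geo.specialLinear (Fin 3) F)
      (Cfsg.Geo.subalgebraNormalizer K ⊓ (Cfsg.GU 3 F 3 ⊓ Cfsg.Geo.specialLinear (Fin 3) F)) :=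
  Cfsg.Agent.Lib.Helper10.SU33.su3_main hF hK hadj

end Cfsg.Agent.Lib.Helper10.SUMLeaf
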