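import Mathlib

set_option autoImplicit false
set_option maxRecDepth 100000

/-!
# `7 : 3 < L_2(7) < SU_3(5)`: the computational model over `GF(25)`

`Kp` is the prime field, `Kq = Kp[ι]`, `ι² = 2`.  Coordinates: the basis `1, s, s²` of `Kq[s] / (s³ - α s² - (1 + α) s - 1)`,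
the hermitian form `Tr(x ȳ)`, the companion matrix `Cm`, the Frobenius `Sm`, an involution `gm` generating `L_2(7)` with them,
an orbit `Orb` of vectors, and the normalisation table `tbl`.  Vectors are triples, matrices triples of columns.
-/

namespace Cfsg.Agent.Lib.Helper10.SU35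

/-- the prime field -/
inductive Kp : Type
  | e0 | e1 | e2 | e3 | e4
  deriving DecidableEq

instance : Fintype Kp := ⟨⟨[Kp.e0, Kp.e1, Kp.e2, Kp.e3, Kp.e4], by decide⟩, by intro x; cases x <;> decide⟩

namespace Kp

def add : Kp → Kp → Kp
  | e0, e0 => e0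
  | e0, e1 => e1
  | e0, e2 => e2
  | e0, e3 => e3
  | e0, e4 => e4
  | e1, e0 => e1
  | e1, e1 => e2
  | e1, e2 => e3
  | e1, e3 => e4
  | e1, e4 => e0
  | e2, e0 => e2
  | e2, e1 => e3
  | e2, e2 => e4
  | e2, e3 => e0
  | e2, e4 => e1
  | e3, e0 => e3
  | e3, e1 => e4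
  | e3, e2 => e0
  | e3, e3 => e1
  | e3, e4 => e2
  | e4, e0 => e4
  | e4, e1 => e0
  | e4, e2 => e1
  | e4, e3 => e2
  | e4, e4 => e3

def mul : Kp → Kp → Kp
  | e0, e0 => e0
  | e0, e1 => e0
  | e0, e2 => e0
  | e0, e3 => e0
  | e0, e4 => e0
  | e1, e0 => e0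
  | e1, e1 => e1
  | e1, e2 => e2
  | e1, e3 => e3
  | e1, e4 => e4
  | e2, e0 => e0
  | e2, e1 => e2
  | e2, e2 => e4
  | e2, e3 => e1
  | e2, e4 => e3
  | e3, e0 => e0
  | e3, e1 => e3
  | e3, e2 => e1
  | e3, e3 => e4
  | e3, e4 => e2
  | e4, e0 => e0
  | e4, e1 => e4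
  | e4, e2 => e3
  | e4, e3 => e2
  | e4, e4 => e1

def neg : Kp → Kp
  | e0 => e0
  | e1 => e4
  | e2 => e3
  | e3 => e2
  | e4 => e1

end Kp

/-- the field with `25` elements -/
structure Kq where
  re : Kp
  im : Kp
  deriving DecidableEq

namespace Kq

def add (x y : Kq) : Kq := ⟨Kp.add x.re y.re, Kp.add x.im y.im⟩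

def mul (x y : Kq) : Kq :=
  ⟨Kp.add (Kp.mul x.re y.re) (Kp.mul Kp.e2 (Kp.mul x.im y.im)), Kp.add (Kp.mul x.re y.im) (Kp.mul x.im y.re)⟩

/-- the map `x ↦ x^5` -/
def frob (x : Kq) : Kq := ⟨x.re, Kp.neg x.im⟩

def neg (x : Kq) : Kq := ⟨Kp.neg x.re, Kp.neg x.im⟩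

def zero : Kq := ⟨Kp.e0, Kp.e0⟩
def one : Kq := ⟨Kp.e1, Kp.e0⟩
def iota : Kq := ⟨Kp.e0, Kp.e1⟩

end Kq

/-- vectors of the model -/
structure V3 where
  a : Kq
  b : Kq
  c : Kq
  deriving DecidableEq

namespace V3

def add (v w : V3) : V3 := ⟨Kq.add v.a w.a, Kq.add v.b w.b, Kq.add v.c w.c⟩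

def smul (k : Kq) (v : V3) : V3 := ⟨Kq.mul k v.a, Kq.mul k v.b, Kq.mul k v.c⟩

def frob (v : V3) : V3 := ⟨Kq.frob v.a, Kq.frob v.b, Kq.frob v.c⟩

def dot (v w : V3) : Kq := Kq.add (Kq.add (Kq.mul v.a w.a) (Kq.mul v.b w.b)) (Kq.mul v.c w.c)

def zero : V3 := ⟨Kq.zero, Kq.zero, Kq.zero⟩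

end V3

/-- matrices of the model, as triples of columns -/
structure M3 where
  c0 : V3
  c1 : V3
  c2 : V3
  deriving DecidableEq

/-- matrix times vector -/
def mv (A : M3) (v : V3) : V3 := V3.add (V3.add (V3.smul v.a A.c0) (V3.smul v.b A.c1)) (V3.smul v.c A.c2)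

/-- matrix times matrix -/
def mm (A B : M3) : M3 := ⟨mv A B.c0, mv A B.c1, mv A B.c2⟩

/-- the column of index `i` -/
def M3.col (A : M3) : Fin 3 → V3
  | 0 => A.c0
  | 1 => A.c1
  | 2 => A.c2

def Id3 : M3 := ⟨⟨⟨Kp.e1, Kp.e0⟩, ⟨Kp.e0, Kp.e0⟩, ⟨Kp.e0, Kp.e0⟩⟩, ⟨⟨Kp.e0, Kp.e0⟩, ⟨Kp.e1, Kp.e0⟩, ⟨Kp.e0, Kp.e0⟩⟩, ⟨⟨Kp.e0, Kp.e0⟩, ⟨Kp.e0, Kp.e0⟩, ⟨Kp.e1, Kp.e0⟩⟩⟩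

def Cm : M3 := ⟨⟨⟨Kp.e0, Kp.e0⟩, ⟨Kp.e1, Kp.e0⟩, ⟨Kp.e0, Kp.e0⟩⟩, ⟨⟨Kp.e0, Kp.e0⟩, ⟨Kp.e0, Kp.e0⟩, ⟨Kp.e1, Kp.e0⟩⟩, ⟨⟨Kp.e1, Kp.e0⟩, ⟨Kp.e3, Kp.e1⟩, ⟨Kp.e2, Kp.e1⟩⟩⟩

def C2m : M3 := ⟨⟨⟨Kp.e0, Kp.e0⟩, ⟨Kp.e0, Kp.e0⟩, ⟨Kp.e1, Kp.e0⟩⟩, ⟨⟨Kp.e1, Kp.e0⟩, ⟨Kp.e3, Kp.e1⟩, ⟨Kp.e2, Kp.e1⟩⟩, ⟨⟨Kp.e2, Kp.e1⟩, ⟨Kp.e4, Kp.e0⟩, ⟨Kp.e4, Kp.e0⟩⟩⟩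

def C4m : M3 := ⟨⟨⟨Kp.e2, Kp.e1⟩, ⟨Kp.e4, Kp.e0⟩, ⟨Kp.e4, Kp.e0⟩⟩, ⟨⟨Kp.e4, Kp.e0⟩, ⟨Kp.e4, Kp.e0⟩, ⟨Kp.e2, Kp.e4⟩⟩, ⟨⟨Kp.e2, Kp.e4⟩, ⟨Kp.e3, Kp.e4⟩, ⟨Kp.e1, Kp.e0⟩⟩⟩

def Sm : M3 := ⟨⟨⟨Kp.e1, Kp.e0⟩, ⟨Kp.e0, Kp.e0⟩, ⟨Kp.e0, Kp.e0⟩⟩, ⟨⟨Kp.e2, Kp.e1⟩, ⟨Kp.e4, Kp.e0⟩, ⟨Kp.e4, Kp.e0⟩⟩, ⟨⟨Kp.e0, Kp.e0⟩, ⟨Kp.e1, Kp.e0⟩, ⟨Kp.e0, Kp.e0⟩⟩⟩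

def S2m : M3 := ⟨⟨⟨Kp.e1, Kp.e0⟩, ⟨Kp.e0, Kp.e0⟩, ⟨Kp.e0, Kp.e0⟩⟩, ⟨⟨Kp.e0, Kp.e0⟩, ⟨Kp.e0, Kp.e0⟩, ⟨Kp.e1, Kp.e0⟩⟩, ⟨⟨Kp.e2, Kp.e1⟩, ⟨Kp.e4, Kp.e0⟩, ⟨Kp.e4, Kp.e0⟩⟩⟩

def gm : M3 := ⟨⟨⟨Kp.e2, Kp.e3⟩, ⟨Kp.e0, Kp.e0⟩, ⟨Kp.e3, Kp.e4⟩⟩, ⟨⟨Kp.e1, Kp.e0⟩, ⟨Kp.e4, Kp.e0⟩, ⟨Kp.e0, Kp.e3⟩⟩, ⟨⟨Kp.e4, Kp.e4⟩, ⟨Kp.e0, Kp.e0⟩, ⟨Kp.e3, Kp.e2⟩⟩⟩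

def Gm : M3 := ⟨⟨⟨Kp.e3, Kp.e0⟩, ⟨Kp.e2, Kp.e1⟩, ⟨Kp.e2, Kp.e1⟩⟩, ⟨⟨Kp.e2, Kp.e4⟩, ⟨Kp.e3, Kp.e0⟩, ⟨Kp.e2, Kp.e1⟩⟩, ⟨⟨Kp.e2, Kp.e4⟩, ⟨Kp.e2, Kp.e4⟩, ⟨Kp.e3, Kp.e0⟩⟩⟩

/-- the hermitian form of the model -/
def hG (v w : V3) : Kq := V3.dot v (mv Gm (V3.frob w))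

/-- the determinant -/
def det3 (A : M3) : Kq :=
  Kq.add (Kq.add (Kq.mul A.c0.a (Kq.add (Kq.mul A.c1.b A.c2.c) (Kq.neg (Kq.mul A.c2.b A.c1.c))))
    (Kq.neg (Kq.mul A.c1.a (Kq.add (Kq.mul A.c0.b A.c2.c) (Kq.neg (Kq.mul A.c2.b A.c0.c))))))
    (Kq.mul A.c2.a (Kq.add (Kq.mul A.c0.b A.c1.c) (Kq.neg (Kq.mul A.c1.b A.c0.c))))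

theorem det_S : det3 Sm = Kq.one := by decide
theorem det_g : det3 gm = Kq.one := by decide

theorem mm_C_C : mm Cm Cm = C2m := by decide
theorem mm_C2_C2 : mm C2m C2m = C4m := by decide
theorem mm_S_C : mm Sm Cm = mm C4m Sm := by decide
theorem mm_S_S : mm Sm Sm = S2m := by decide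
theorem mm_S2_S : mm S2m Sm = Id3 := by decide
theorem mm_S_S2 : mm Sm S2m = Id3 := by decide
theorem mm_g_g : mm gm gm = Id3 := by decide

theorem unitary_S : ∀ i j : Fin 3, hG (mv Sm (Id3.col i)) (mv Sm (Id3.col j)) = hG (Id3.col i) (Id3.col j) := by decide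
theorem unitary_g : ∀ i j : Fin 3, hG (mv gm (Id3.col i)) (mv gm (Id3.col j)) = hG (Id3.col i) (Id3.col j) := by decide

theorem noncomm : mm (mm (mm gm Cm) gm) Cm ≠ mm Cm (mm (mm gm Cm) gm) := by decide

/-- an orbit of the overgroup on vectors -/
def Orb : List V3 := [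
  ⟨⟨Kp.e0, Kp.e0⟩, ⟨Kp.e1, Kp.e0⟩, ⟨Kp.e0, Kp.e3⟩⟩,
  ⟨⟨Kp.e0, Kp.e0⟩, ⟨Kp.e4, Kp.e0⟩, ⟨Kp.e0, Kp.e2⟩⟩,
  ⟨⟨Kp.e0, Kp.e0⟩, ⟨Kp.e2, Kp.e2⟩, ⟨Kp.e2, Kp.e1⟩⟩,
  ⟨⟨Kp.e0, Kp.e0⟩, ⟨Kp.e3, Kp.e2⟩, ⟨Kp.e2, Kp.e4⟩⟩,
  ⟨⟨Kp.e0, Kp.e0⟩, ⟨Kp.e2, Kp.e3⟩, ⟨Kp.e3, Kp.e1⟩⟩,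
  ⟨⟨Kp.e0, Kp.e0⟩, ⟨Kp.e3, Kp.e3⟩, ⟨Kp.e3, Kp.e4⟩⟩,
  ⟨⟨Kp.e1, Kp.e0⟩, ⟨Kp.e0, Kp.e0⟩, ⟨Kp.e0, Kp.e3⟩⟩,
  ⟨⟨Kp.e1, Kp.e0⟩, ⟨Kp.e1, Kp.e0⟩, ⟨Kp.e3, Kp.e3⟩⟩,
  ⟨⟨Kp.e1, Kp.e0⟩, ⟨Kp.e0, Kp.e2⟩, ⟨Kp.e2, Kp.e3⟩⟩,
  ⟨⟨Kp.e1, Kp.e0⟩, ⟨Kp.e1, Kp.e2⟩, ⟨Kp.e0, Kp.e3⟩⟩,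
  ⟨⟨Kp.e1, Kp.e0⟩, ⟨Kp.e0, Kp.e3⟩, ⟨Kp.e0, Kp.e0⟩⟩,
  ⟨⟨Kp.e1, Kp.e0⟩, ⟨Kp.e1, Kp.e3⟩, ⟨Kp.e0, Kp.e3⟩⟩,
  ⟨⟨Kp.e2, Kp.e0⟩, ⟨Kp.e3, Kp.e1⟩, ⟨Kp.e1, Kp.e3⟩⟩,
  ⟨⟨Kp.e2, Kp.e0⟩, ⟨Kp.e4, Kp.e1⟩, ⟨Kp.e4, Kp.e3⟩⟩,
  ⟨⟨Kp.e3, Kp.e0⟩, ⟨Kp.e1, Kp.e4⟩, ⟨Kp.e1, Kp.e2⟩⟩,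
  ⟨⟨Kp.e3, Kp.e0⟩, ⟨Kp.e2, Kp.e4⟩, ⟨Kp.e4, Kp.e2⟩⟩,
  ⟨⟨Kp.e4, Kp.e0⟩, ⟨Kp.e0, Kp.e0⟩, ⟨Kp.e0, Kp.e2⟩⟩,
  ⟨⟨Kp.e4, Kp.e0⟩, ⟨Kp.e4, Kp.e0⟩, ⟨Kp.e2, Kp.e2⟩⟩,
  ⟨⟨Kp.e4, Kp.e0⟩, ⟨Kp.e0, Kp.e2⟩, ⟨Kp.e0, Kp.e0⟩⟩,
  ⟨⟨Kp.e4, Kp.e0⟩, ⟨Kp.e4, Kp.e2⟩, ⟨Kp.e0, Kp.e2⟩⟩,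
  ⟨⟨Kp.e4, Kp.e0⟩, ⟨Kp.e0, Kp.e3⟩, ⟨Kp.e3, Kp.e2⟩⟩,
  ⟨⟨Kp.e4, Kp.e0⟩, ⟨Kp.e4, Kp.e3⟩, ⟨Kp.e0, Kp.e2⟩⟩,
  ⟨⟨Kp.e0, Kp.e1⟩, ⟨Kp.e2, Kp.e2⟩, ⟨Kp.e0, Kp.e3⟩⟩,
  ⟨⟨Kp.e0, Kp.e1⟩, ⟨Kp.e3, Kp.e2⟩, ⟨Kp.e0, Kp.e1⟩⟩,
  ⟨⟨Kp.e0, Kp.e1⟩, ⟨Kp.e2, Kp.e4⟩, ⟨Kp.e0, Kp.e4⟩⟩,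
  ⟨⟨Kp.e0, Kp.e1⟩, ⟨Kp.e3, Kp.e4⟩, ⟨Kp.e0, Kp.e2⟩⟩,
  ⟨⟨Kp.e1, Kp.e1⟩, ⟨Kp.e3, Kp.e0⟩, ⟨Kp.e0, Kp.e1⟩⟩,
  ⟨⟨Kp.e1, Kp.e1⟩, ⟨Kp.e0, Kp.e2⟩, ⟨Kp.e1, Kp.e2⟩⟩,
  ⟨⟨Kp.e2, Kp.e1⟩, ⟨Kp.e3, Kp.e0⟩, ⟨Kp.e3, Kp.e1⟩⟩,
  ⟨⟨Kp.e2, Kp.e1⟩, ⟨Kp.e0, Kp.e2⟩, ⟨Kp.e1, Kp.e0⟩⟩,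
  ⟨⟨Kp.e2, Kp.e1⟩, ⟨Kp.e0, Kp.e2⟩, ⟨Kp.e0, Kp.e2⟩⟩,
  ⟨⟨Kp.e2, Kp.e1⟩, ⟨Kp.e0, Kp.e2⟩, ⟨Kp.e1, Kp.e4⟩⟩,
  ⟨⟨Kp.e2, Kp.e1⟩, ⟨Kp.e2, Kp.e2⟩, ⟨Kp.e3, Kp.e2⟩⟩,
  ⟨⟨Kp.e2, Kp.e1⟩, ⟨Kp.e3, Kp.e3⟩, ⟨Kp.e2, Kp.e3⟩⟩,
  ⟨⟨Kp.e2, Kp.e1⟩, ⟨Kp.e4, Kp.e3⟩, ⟨Kp.e4, Kp.e0⟩⟩,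
  ⟨⟨Kp.e2, Kp.e1⟩, ⟨Kp.e0, Kp.e4⟩, ⟨Kp.e3, Kp.e0⟩⟩,
  ⟨⟨Kp.e3, Kp.e1⟩, ⟨Kp.e1, Kp.e1⟩, ⟨Kp.e0, Kp.e3⟩⟩,
  ⟨⟨Kp.e3, Kp.e1⟩, ⟨Kp.e3, Kp.e2⟩, ⟨Kp.e1, Kp.e0⟩⟩,
  ⟨⟨Kp.e3, Kp.e1⟩, ⟨Kp.e1, Kp.e3⟩, ⟨Kp.e1, Kp.e1⟩⟩,
  ⟨⟨Kp.e3, Kp.e1⟩, ⟨Kp.e2, Kp.e3⟩, ⟨Kp.e4, Kp.e0⟩⟩,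
  ⟨⟨Kp.e3, Kp.e1⟩, ⟨Kp.e0, Kp.e4⟩, ⟨Kp.e3, Kp.e3⟩⟩,
  ⟨⟨Kp.e3, Kp.e1⟩, ⟨Kp.e3, Kp.e4⟩, ⟨Kp.e3, Kp.e0⟩⟩,
  ⟨⟨Kp.e3, Kp.e1⟩, ⟨Kp.e3, Kp.e4⟩, ⟨Kp.e2, Kp.e2⟩⟩,
  ⟨⟨Kp.e3, Kp.e1⟩, ⟨Kp.e3, Kp.e4⟩, ⟨Kp.e3, Kp.e4⟩⟩,
  ⟨⟨Kp.e4, Kp.e1⟩, ⟨Kp.e2, Kp.e1⟩, ⟨Kp.e0, Kp.e4⟩⟩,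
  ⟨⟨Kp.e4, Kp.e1⟩, ⟨Kp.e4, Kp.e4⟩, ⟨Kp.e1, Kp.e3⟩⟩,
  ⟨⟨Kp.e0, Kp.e2⟩, ⟨Kp.e1, Kp.e0⟩, ⟨Kp.e3, Kp.e3⟩⟩,
  ⟨⟨Kp.e0, Kp.e2⟩, ⟨Kp.e4, Kp.e0⟩, ⟨Kp.e2, Kp.e2⟩⟩,
  ⟨⟨Kp.e0, Kp.e2⟩, ⟨Kp.e3, Kp.e1⟩, ⟨Kp.e3, Kp.e1⟩⟩,
  ⟨⟨Kp.e0, Kp.e2⟩, ⟨Kp.e3, Kp.e1⟩, ⟨Kp.e3, Kp.e2⟩⟩,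
  ⟨⟨Kp.e0, Kp.e2⟩, ⟨Kp.e3, Kp.e1⟩, ⟨Kp.e4, Kp.e4⟩⟩,
  ⟨⟨Kp.e0, Kp.e2⟩, ⟨Kp.e4, Kp.e1⟩, ⟨Kp.e3, Kp.e4⟩⟩,
  ⟨⟨Kp.e0, Kp.e2⟩, ⟨Kp.e1, Kp.e2⟩, ⟨Kp.e4, Kp.e1⟩⟩,
  ⟨⟨Kp.e0, Kp.e2⟩, ⟨Kp.e4, Kp.e2⟩, ⟨Kp.e2, Kp.e3⟩⟩,
  ⟨⟨Kp.e1, Kp.e2⟩, ⟨Kp.e1, Kp.e0⟩, ⟨Kp.e3, Kp.e1⟩⟩,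
  ⟨⟨Kp.e1, Kp.e2⟩, ⟨Kp.e0, Kp.e2⟩, ⟨Kp.e2, Kp.e4⟩⟩,
  ⟨⟨Kp.e1, Kp.e2⟩, ⟨Kp.e3, Kp.e3⟩, ⟨Kp.e1, Kp.e2⟩⟩,
  ⟨⟨Kp.e1, Kp.e2⟩, ⟨Kp.e3, Kp.e4⟩, ⟨Kp.e4, Kp.e3⟩⟩,
  ⟨⟨Kp.e2, Kp.e2⟩, ⟨Kp.e0, Kp.e0⟩, ⟨Kp.e2, Kp.e1⟩⟩,
  ⟨⟨Kp.e2, Kp.e2⟩, ⟨Kp.e0, Kp.e1⟩, ⟨Kp.e2, Kp.e1⟩⟩,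
  ⟨⟨Kp.e2, Kp.e2⟩, ⟨Kp.e2, Kp.e1⟩, ⟨Kp.e0, Kp.e0⟩⟩,
  ⟨⟨Kp.e2, Kp.e2⟩, ⟨Kp.e2, Kp.e2⟩, ⟨Kp.e3, Kp.e2⟩⟩,
  ⟨⟨Kp.e2, Kp.e2⟩, ⟨Kp.e4, Kp.e3⟩, ⟨Kp.e2, Kp.e1⟩⟩,
  ⟨⟨Kp.e2, Kp.e2⟩, ⟨Kp.e3, Kp.e4⟩, ⟨Kp.e1, Kp.e0⟩⟩,
  ⟨⟨Kp.e3, Kp.e2⟩, ⟨Kp.e0, Kp.e0⟩, ⟨Kp.e2, Kp.e4⟩⟩,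
  ⟨⟨Kp.e3, Kp.e2⟩, ⟨Kp.e0, Kp.e1⟩, ⟨Kp.e2, Kp.e4⟩⟩,
  ⟨⟨Kp.e3, Kp.e2⟩, ⟨Kp.e3, Kp.e1⟩, ⟨Kp.e3, Kp.e3⟩⟩,
  ⟨⟨Kp.e3, Kp.e2⟩, ⟨Kp.e3, Kp.e2⟩, ⟨Kp.e1, Kp.e0⟩⟩,
  ⟨⟨Kp.e3, Kp.e2⟩, ⟨Kp.e1, Kp.e3⟩, ⟨Kp.e2, Kp.e4⟩⟩,
  ⟨⟨Kp.e3, Kp.e2⟩, ⟨Kp.e2, Kp.e4⟩, ⟨Kp.e0, Kp.e0⟩⟩,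
  ⟨⟨Kp.e4, Kp.e2⟩, ⟨Kp.e4, Kp.e0⟩, ⟨Kp.e4, Kp.e2⟩⟩,
  ⟨⟨Kp.e4, Kp.e2⟩, ⟨Kp.e0, Kp.e2⟩, ⟨Kp.e1, Kp.e3⟩⟩,
  ⟨⟨Kp.e4, Kp.e2⟩, ⟨Kp.e2, Kp.e3⟩, ⟨Kp.e2, Kp.e1⟩⟩,
  ⟨⟨Kp.e4, Kp.e2⟩, ⟨Kp.e2, Kp.e4⟩, ⟨Kp.e3, Kp.e4⟩⟩,
  ⟨⟨Kp.e0, Kp.e3⟩, ⟨Kp.e1, Kp.e0⟩, ⟨Kp.e3, Kp.e3⟩⟩,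
  ⟨⟨Kp.e0, Kp.e3⟩, ⟨Kp.e4, Kp.e0⟩, ⟨Kp.e2, Kp.e2⟩⟩,
  ⟨⟨Kp.e0, Kp.e3⟩, ⟨Kp.e1, Kp.e3⟩, ⟨Kp.e3, Kp.e2⟩⟩,
  ⟨⟨Kp.e0, Kp.e3⟩, ⟨Kp.e4, Kp.e3⟩, ⟨Kp.e1, Kp.e4⟩⟩,
  ⟨⟨Kp.e0, Kp.e3⟩, ⟨Kp.e1, Kp.e4⟩, ⟨Kp.e2, Kp.e1⟩⟩,
  ⟨⟨Kp.e0, Kp.e3⟩, ⟨Kp.e2, Kp.e4⟩, ⟨Kp.e1, Kp.e1⟩⟩,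
  ⟨⟨Kp.e0, Kp.e3⟩, ⟨Kp.e2, Kp.e4⟩, ⟨Kp.e2, Kp.e3⟩⟩,
  ⟨⟨Kp.e0, Kp.e3⟩, ⟨Kp.e2, Kp.e4⟩, ⟨Kp.e2, Kp.e4⟩⟩,
  ⟨⟨Kp.e1, Kp.e3⟩, ⟨Kp.e1, Kp.e0⟩, ⟨Kp.e1, Kp.e3⟩⟩,
  ⟨⟨Kp.e1, Kp.e3⟩, ⟨Kp.e3, Kp.e1⟩, ⟨Kp.e2, Kp.e1⟩⟩,
  ⟨⟨Kp.e1, Kp.e3⟩, ⟨Kp.e3, Kp.e2⟩, ⟨Kp.e3, Kp.e4⟩⟩,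
  ⟨⟨Kp.e1, Kp.e3⟩, ⟨Kp.e0, Kp.e3⟩, ⟨Kp.e4, Kp.e2⟩⟩,
  ⟨⟨Kp.e2, Kp.e3⟩, ⟨Kp.e0, Kp.e0⟩, ⟨Kp.e3, Kp.e1⟩⟩,
  ⟨⟨Kp.e2, Kp.e3⟩, ⟨Kp.e3, Kp.e1⟩, ⟨Kp.e0, Kp.e0⟩⟩,
  ⟨⟨Kp.e2, Kp.e3⟩, ⟨Kp.e4, Kp.e2⟩, ⟨Kp.e3, Kp.e1⟩⟩,
  ⟨⟨Kp.e2, Kp.e3⟩, ⟨Kp.e2, Kp.e3⟩, ⟨Kp.e4, Kp.e0⟩⟩,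
  ⟨⟨Kp.e2, Kp.e3⟩, ⟨Kp.e0, Kp.e4⟩, ⟨Kp.e3, Kp.e1⟩⟩,
  ⟨⟨Kp.e2, Kp.e3⟩, ⟨Kp.e2, Kp.e4⟩, ⟨Kp.e2, Kp.e2⟩⟩,
  ⟨⟨Kp.e3, Kp.e3⟩, ⟨Kp.e0, Kp.e0⟩, ⟨Kp.e3, Kp.e4⟩⟩,
  ⟨⟨Kp.e3, Kp.e3⟩, ⟨Kp.e2, Kp.e1⟩, ⟨Kp.e4, Kp.e0⟩⟩,
  ⟨⟨Kp.e3, Kp.e3⟩, ⟨Kp.e1, Kp.e2⟩, ⟨Kp.e3, Kp.e4⟩⟩,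
  ⟨⟨Kp.e3, Kp.e3⟩, ⟨Kp.e3, Kp.e3⟩, ⟨Kp.e2, Kp.e3⟩⟩,
  ⟨⟨Kp.e3, Kp.e3⟩, ⟨Kp.e0, Kp.e4⟩, ⟨Kp.e3, Kp.e4⟩⟩,
  ⟨⟨Kp.e3, Kp.e3⟩, ⟨Kp.e3, Kp.e4⟩, ⟨Kp.e0, Kp.e0⟩⟩,
  ⟨⟨Kp.e4, Kp.e3⟩, ⟨Kp.e4, Kp.e0⟩, ⟨Kp.e2, Kp.e4⟩⟩,
  ⟨⟨Kp.e4, Kp.e3⟩, ⟨Kp.e2, Kp.e1⟩, ⟨Kp.e1, Kp.e2⟩⟩,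
  ⟨⟨Kp.e4, Kp.e3⟩, ⟨Kp.e2, Kp.e2⟩, ⟨Kp.e4, Kp.e3⟩⟩,
  ⟨⟨Kp.e4, Kp.e3⟩, ⟨Kp.e0, Kp.e3⟩, ⟨Kp.e3, Kp.e1⟩⟩,
  ⟨⟨Kp.e0, Kp.e4⟩, ⟨Kp.e2, Kp.e1⟩, ⟨Kp.e0, Kp.e3⟩⟩,
  ⟨⟨Kp.e0, Kp.e4⟩, ⟨Kp.e3, Kp.e1⟩, ⟨Kp.e0, Kp.e1⟩⟩,
  ⟨⟨Kp.e0, Kp.e4⟩, ⟨Kp.e2, Kp.e3⟩, ⟨Kp.e0, Kp.e4⟩⟩,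
  ⟨⟨Kp.e0, Kp.e4⟩, ⟨Kp.e3, Kp.e3⟩, ⟨Kp.e0, Kp.e2⟩⟩,
  ⟨⟨Kp.e1, Kp.e4⟩, ⟨Kp.e1, Kp.e1⟩, ⟨Kp.e4, Kp.e2⟩⟩,
  ⟨⟨Kp.e1, Kp.e4⟩, ⟨Kp.e3, Kp.e4⟩, ⟨Kp.e0, Kp.e1⟩⟩,
  ⟨⟨Kp.e2, Kp.e4⟩, ⟨Kp.e0, Kp.e1⟩, ⟨Kp.e2, Kp.e2⟩⟩,
  ⟨⟨Kp.e2, Kp.e4⟩, ⟨Kp.e2, Kp.e1⟩, ⟨Kp.e2, Kp.e0⟩⟩,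
  ⟨⟨Kp.e2, Kp.e4⟩, ⟨Kp.e2, Kp.e1⟩, ⟨Kp.e2, Kp.e1⟩⟩,
  ⟨⟨Kp.e2, Kp.e4⟩, ⟨Kp.e2, Kp.e1⟩, ⟨Kp.e3, Kp.e3⟩⟩,
  ⟨⟨Kp.e2, Kp.e4⟩, ⟨Kp.e3, Kp.e2⟩, ⟨Kp.e1, Kp.e0⟩⟩,
  ⟨⟨Kp.e2, Kp.e4⟩, ⟨Kp.e4, Kp.e2⟩, ⟨Kp.e4, Kp.e4⟩⟩,
  ⟨⟨Kp.e2, Kp.e4⟩, ⟨Kp.e2, Kp.e3⟩, ⟨Kp.e4, Kp.e0⟩⟩,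
  ⟨⟨Kp.e2, Kp.e4⟩, ⟨Kp.e4, Kp.e4⟩, ⟨Kp.e0, Kp.e2⟩⟩,
  ⟨⟨Kp.e3, Kp.e4⟩, ⟨Kp.e2, Kp.e0⟩, ⟨Kp.e2, Kp.e4⟩⟩,
  ⟨⟨Kp.e3, Kp.e4⟩, ⟨Kp.e0, Kp.e1⟩, ⟨Kp.e2, Kp.e0⟩⟩,
  ⟨⟨Kp.e3, Kp.e4⟩, ⟨Kp.e1, Kp.e2⟩, ⟨Kp.e1, Kp.e0⟩⟩,
  ⟨⟨Kp.e3, Kp.e4⟩, ⟨Kp.e2, Kp.e2⟩, ⟨Kp.e3, Kp.e2⟩⟩,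
  ⟨⟨Kp.e3, Kp.e4⟩, ⟨Kp.e0, Kp.e3⟩, ⟨Kp.e4, Kp.e0⟩⟩,
  ⟨⟨Kp.e3, Kp.e4⟩, ⟨Kp.e0, Kp.e3⟩, ⟨Kp.e4, Kp.e1⟩⟩,
  ⟨⟨Kp.e3, Kp.e4⟩, ⟨Kp.e0, Kp.e3⟩, ⟨Kp.e0, Kp.e3⟩⟩,
  ⟨⟨Kp.e3, Kp.e4⟩, ⟨Kp.e3, Kp.e3⟩, ⟨Kp.e2, Kp.e3⟩⟩,
  ⟨⟨Kp.e4, Kp.e4⟩, ⟨Kp.e2, Kp.e0⟩, ⟨Kp.e0, Kp.e4⟩⟩,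
  ⟨⟨Kp.e4, Kp.e4⟩, ⟨Kp.e0, Kp.e3⟩, ⟨Kp.e4, Kp.e3⟩⟩]

theorem orbit_C : ∀ o ∈ Orb, mv Cm o ∈ Orb := by decide
theorem orbit_S : ∀ o ∈ Orb, mv Sm o ∈ Orb := by decide
theorem orbit_g : ∀ o ∈ Orb, mv gm o ∈ Orb := by decide

/-- a primitive cube root of unity -/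
def omega : Kq := ⟨Kp.e2, Kp.e2⟩
theorem orbit_omega : ∀ o ∈ Orb, V3.smul omega o ∈ Orb := by decide
theorem omega_rel : Kq.add (Kq.add (Kq.mul omega omega) omega) Kq.one = Kq.zero := by decide

/-- centre of a transvection moving the orbit -/
def u0 : V3 := ⟨⟨Kp.e0, Kp.e0⟩, ⟨Kp.e1, Kp.e0⟩, ⟨Kp.e1, Kp.e0⟩⟩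
def o0 : V3 := ⟨⟨Kp.e0, Kp.e0⟩, ⟨Kp.e1, Kp.e0⟩, ⟨Kp.e0, Kp.e3⟩⟩
theorem u0_isotropic : hG u0 u0 = Kq.zero := by decide
theorem o0_mem : o0 ∈ Orb := by decide
theorem tv_moves : V3.add o0 (V3.smul (Kq.mul Kq.iota (hG o0 u0)) u0) ∉ Orb := by decide

/-- the coefficients of `s³ = α s² + (1 + α) s + 1` -/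
def ac0 : Kq := ⟨Kp.e1, Kp.e0⟩
def ac1 : Kq := ⟨Kp.e3, Kp.e1⟩
def ac2 : Kq := ⟨Kp.e2, Kp.e1⟩

/-- `γ(3)` from `γ(0..2)` by the recurrence of `s³ = α s² + (1 + α) s + 1` -/
def g3 (x : V3) : Kq := Kq.add (Kq.add (Kq.mul ac0 x.a) (Kq.mul ac1 x.b)) (Kq.mul ac2 x.c)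

/-- all the recurrences `a₀ γ(e) + a₁ γ(e + 1) + a₂ γ(e + 2) = γ(e + 3)` -/
def recs (x0 x1 x2 x3 x4 x5 x6 : Kq) : Bool :=
  (Kq.add (Kq.add (Kq.mul ac0 x0) (Kq.mul ac1 x1)) (Kq.mul ac2 x2) == x3) &&
  (Kq.add (Kq.add (Kq.mul ac0 x1) (Kq.mul ac1 x2)) (Kq.mul ac2 x3) == x4) &&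
  (Kq.add (Kq.add (Kq.mul ac0 x2) (Kq.mul ac1 x3)) (Kq.mul ac2 x4) == x5) &&
  (Kq.add (Kq.add (Kq.mul ac0 x3) (Kq.mul ac1 x4)) (Kq.mul ac2 x5) == x6) &&
  (Kq.add (Kq.add (Kq.mul ac0 x4) (Kq.mul ac1 x5)) (Kq.mul ac2 x6) == x0) &&
  (Kq.add (Kq.add (Kq.mul ac0 x5) (Kq.mul ac1 x6)) (Kq.mul ac2 x0) == x1) &&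
  (Kq.add (Kq.add (Kq.mul ac0 x6) (Kq.mul ac1 x0)) (Kq.mul ac2 x1) == x2)

/-- the values `h(s^d v', v')`, `d < 3`, for `v' = Σ t_i s^i v` -/
def newg (t0 t1 t2 x0 x1 x2 x3 x4 x5 x6 : Kq) : V3 :=
  ⟨Kq.add (Kq.add (Kq.add (Kq.add (Kq.add (Kq.add (Kq.add (Kq.add ((Kq.mul (Kq.mul t0 (Kq.frob t0)) x0)) (Kq.mul (Kq.mul t0 (Kq.frob t1)) x6)) (Kq.mul (Kq.mul t0 (Kq.frob t2)) x5)) (Kq.mul (Kq.mul t1 (Kq.frob t0)) x1)) (Kq.mul (Kq.mul t1 (Kq.frob t1)) x0)) (Kq.mul (Kq.mul t1 (Kq.frob t2)) x6)) (Kq.mul (Kq.mul t2 (Kq.frob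 t0)) x2)) (Kq.mul (Kq.mul t2 (Kq.frob t1)) x1)) (Kq.mul (Kq.mul t2 (Kq.frob t2)) x0),
   Kq.add (Kq.add (Kq.add (Kq.add (Kq.add (Kq.add (Kq.add (Kq.add ((Kq.mul (Kq.mul t0 (Kq.frob t0)) x1)) (Kq.mul (Kq.mul t0 (Kq.frob t1)) x0)) (Kq.mul (Kq.mul t0 (Kq.frob t2)) x6)) (Kq.mul (Kq.mul t1 (Kq.frob t0)) x2)) (Kq.mul (Kq.mul t1 (Kq.frob t1)) x1)) (Kq.mul (Kq.mul t1 (Kq.frob t2)) x0)) (Kq.mul (Kq.mul t2 (Kq.frob t0)) x3)) (Kq.mul (Kq.mul t2 (Kq.frob t1)) x2)) (Kq.mul (Kq.mul t2 (Kq.frob t2)) x1),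
   Kq.add (Kq.add (Kq.add (Kq.add (Kq.add (Kq.add (Kq.add (Kq.add ((Kq.mul (Kq.mul t0 (Kq.frob t0)) x2)) (Kq.mul (Kq.mul t0 (Kq.frob t1)) x1)) (Kq.mul (Kq.mul t0 (Kq.frob t2)) x0)) (Kq.mul (Kq.mul t1 (Kq.frob t0)) x3)) (Kq.mul (Kq.mul t1 (Kq.frob t1)) x2)) (Kq.mul (Kq.mul t1 (Kq.frob t2)) x1)) (Kq.mul (Kq.mul t2 (Kq.frob t0)) x4)) (Kq.mul (Kq.mul t2 (Kq.frob t1)) x3)) (Kq.mul (Kq.mul t2 (Kq.frob t2)) x2)⟩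

/-- the table of normalising vectors -/
def tbl : V3 → V3
  | ⟨⟨Kp.e0, Kp.e0⟩, ⟨Kp.e1, Kp.e0⟩, ⟨Kp.e3, Kp.e1⟩⟩ => ⟨⟨Kp.e1, Kp.e0⟩, ⟨Kp.e0, Kp.e0⟩, ⟨Kp.e1, Kp.e3⟩⟩
  | ⟨⟨Kp.e0, Kp.e0⟩, ⟨Kp.e2, Kp.e0⟩, ⟨Kp.e1, Kp.e2⟩⟩ => ⟨⟨Kp.e1, Kp.e0⟩, ⟨Kp.e2, Kp.e0⟩, ⟨Kp.e2, Kp.e0⟩⟩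
  | ⟨⟨Kp.e0, Kp.e0⟩, ⟨Kp.e3, Kp.e0⟩, ⟨Kp.e4, Kp.e3⟩⟩ => ⟨⟨Kp.e1, Kp.e0⟩, ⟨Kp.e0, Kp.e0⟩, ⟨Kp.e2, Kp.e1⟩⟩
  | ⟨⟨Kp.e0, Kp.e0⟩, ⟨Kp.e4, Kp.e0⟩, ⟨Kp.e2, Kp.e4⟩⟩ => ⟨⟨Kp.e1, Kp.e0⟩, ⟨Kp.e1, Kp.e0⟩, ⟨Kp.e3, Kp.e4⟩⟩
  | ⟨⟨Kp.e0, Kp.e0⟩, ⟨Kp.e0, Kp.e1⟩, ⟨Kp.e2, Kp.e1⟩⟩ => ⟨⟨Kp.e1, Kp.e0⟩, ⟨Kp.e1, Kp.e0⟩, ⟨Kp.e2, Kp.e0⟩⟩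
  | ⟨⟨Kp.e0, Kp.e0⟩, ⟨Kp.e1, Kp.e1⟩, ⟨Kp.e0, Kp.e2⟩⟩ => ⟨⟨Kp.e0, Kp.e0⟩, ⟨Kp.e0, Kp.e1⟩, ⟨Kp.e2, Kp.e1⟩⟩
  | ⟨⟨Kp.e0, Kp.e0⟩, ⟨Kp.e2, Kp.e1⟩, ⟨Kp.e3, Kp.e3⟩⟩ => ⟨⟨Kp.e1, Kp.e0⟩, ⟨Kp.e0, Kp.e0⟩, ⟨Kp.e1, Kp.e1⟩⟩
  | ⟨⟨Kp.e0, Kp.e0⟩, ⟨Kp.e3, Kp.e1⟩, ⟨Kp.e1, Kp.e4⟩⟩ => ⟨⟨Kp.e0, Kp.e0⟩, ⟨Kp.e1, Kp.e0⟩, ⟨Kp.e1, Kp.e3⟩⟩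
  | ⟨⟨Kp.e0, Kp.e0⟩, ⟨Kp.e4, Kp.e1⟩, ⟨Kp.e4, Kp.e0⟩⟩ => ⟨⟨Kp.e0, Kp.e0⟩, ⟨Kp.e1, Kp.e0⟩, ⟨Kp.e0, Kp.e2⟩⟩
  | ⟨⟨Kp.e0, Kp.e0⟩, ⟨Kp.e0, Kp.e2⟩, ⟨Kp.e4, Kp.e2⟩⟩ => ⟨⟨Kp.e1, Kp.e0⟩, ⟨Kp.e0, Kp.e1⟩, ⟨Kp.e4, Kp.e0⟩⟩
  | ⟨⟨Kp.e0, Kp.e0⟩, ⟨Kp.e1, Kp.e2⟩, ⟨Kp.e2, Kp.e3⟩⟩ => ⟨⟨Kp.e0, Kp.e0⟩, ⟨Kp.e2, Kp.e0⟩, ⟨Kp.e4, Kp.e2⟩⟩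
  | ⟨⟨Kp.e0, Kp.e0⟩, ⟨Kp.e2, Kp.e2⟩, ⟨Kp.e0, Kp.e4⟩⟩ => ⟨⟨Kp.e0, Kp.e0⟩, ⟨Kp.e1, Kp.e0⟩, ⟨Kp.e4, Kp.e4⟩⟩
  | ⟨⟨Kp.e0, Kp.e0⟩, ⟨Kp.e3, Kp.e2⟩, ⟨Kp.e3, Kp.e0⟩⟩ => ⟨⟨Kp.e0, Kp.e0⟩, ⟨Kp.e1, Kp.e0⟩, ⟨Kp.e0, Kp.e1⟩⟩
  | ⟨⟨Kp.e0, Kp.e0⟩, ⟨Kp.e4, Kp.e2⟩, ⟨Kp.e1, Kp.e1⟩⟩ => ⟨⟨Kp.e1, Kp.e0⟩, ⟨Kp.e0, Kp.e2⟩, ⟨Kp.e3, Kp.e2⟩⟩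
  | ⟨⟨Kp.e0, Kp.e0⟩, ⟨Kp.e0, Kp.e3⟩, ⟨Kp.e1, Kp.e3⟩⟩ => ⟨⟨Kp.e1, Kp.e0⟩, ⟨Kp.e4, Kp.e0⟩, ⟨Kp.e4, Kp.e3⟩⟩
  | ⟨⟨Kp.e0, Kp.e0⟩, ⟨Kp.e1, Kp.e3⟩, ⟨Kp.e4, Kp.e4⟩⟩ => ⟨⟨Kp.e1, Kp.e0⟩, ⟨Kp.e2, Kp.e0⟩, ⟨Kp.e2, Kp.e4⟩⟩
  | ⟨⟨Kp.e0, Kp.e0⟩, ⟨Kp.e2, Kp.e3⟩, ⟨Kp.e2, Kp.e0⟩⟩ => ⟨⟨Kp.e0, Kp.e0⟩, ⟨Kp.e2, Kp.e0⟩, ⟨Kp.e0, Kp.e2⟩⟩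
  | ⟨⟨Kp.e0, Kp.e0⟩, ⟨Kp.e3, Kp.e3⟩, ⟨Kp.e0, Kp.e1⟩⟩ => ⟨⟨Kp.e0, Kp.e0⟩, ⟨Kp.e1, Kp.e0⟩, ⟨Kp.e1, Kp.e1⟩⟩
  | ⟨⟨Kp.e0, Kp.e0⟩, ⟨Kp.e4, Kp.e3⟩, ⟨Kp.e3, Kp.e2⟩⟩ => ⟨⟨Kp.e0, Kp.e0⟩, ⟨Kp.e1, Kp.e0⟩, ⟨Kp.e2, Kp.e1⟩⟩
  | ⟨⟨Kp.e0, Kp.e0⟩, ⟨Kp.e0, Kp.e4⟩, ⟨Kp.e3, Kp.e4⟩⟩ => ⟨⟨Kp.e1, Kp.e0⟩, ⟨Kp.e1, Kp.e0⟩, ⟨Kp.e4, Kp.e2⟩⟩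
  | ⟨⟨Kp.e0, Kp.e0⟩, ⟨Kp.e1, Kp.e4⟩, ⟨Kp.e1, Kp.e0⟩⟩ => ⟨⟨Kp.e0, Kp.e0⟩, ⟨Kp.e2, Kp.e0⟩, ⟨Kp.e0, Kp.e4⟩⟩
  | ⟨⟨Kp.e0, Kp.e0⟩, ⟨Kp.e2, Kp.e4⟩, ⟨Kp.e4, Kp.e1⟩⟩ => ⟨⟨Kp.e0, Kp.e0⟩, ⟨Kp.e2, Kp.e0⟩, ⟨Kp.e2, Kp.e1⟩⟩
  | ⟨⟨Kp.e0, Kp.e0⟩, ⟨Kp.e3, Kp.e4⟩, ⟨Kp.e2, Kp.e2⟩⟩ => ⟨⟨Kp.e1, Kp.e0⟩, ⟨Kp.e0, Kp.e0⟩, ⟨Kp.e4, Kp.e4⟩⟩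
  | ⟨⟨Kp.e0, Kp.e0⟩, ⟨Kp.e4, Kp.e4⟩, ⟨Kp.e0, Kp.e3⟩⟩ => ⟨⟨Kp.e0, Kp.e0⟩, ⟨Kp.e0, Kp.e1⟩, ⟨Kp.e3, Kp.e4⟩⟩
  | ⟨⟨Kp.e1, Kp.e0⟩, ⟨Kp.e0, Kp.e0⟩, ⟨Kp.e3, Kp.e1⟩⟩ => ⟨⟨Kp.e0, Kp.e0⟩, ⟨Kp.e2, Kp.e0⟩, ⟨Kp.e1, Kp.e1⟩⟩
  | ⟨⟨Kp.e1, Kp.e0⟩, ⟨Kp.e1, Kp.e0⟩, ⟨Kp.e1, Kp.e2⟩⟩ => ⟨⟨Kp.e0, Kp.e0⟩, ⟨Kp.e2, Kp.e0⟩, ⟨Kp.e4, Kp.e3⟩⟩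
  | ⟨⟨Kp.e1, Kp.e0⟩, ⟨Kp.e2, Kp.e0⟩, ⟨Kp.e4, Kp.e3⟩⟩ => ⟨⟨Kp.e1, Kp.e0⟩, ⟨Kp.e2, Kp.e0⟩, ⟨Kp.e0, Kp.e1⟩⟩
  | ⟨⟨Kp.e1, Kp.e0⟩, ⟨Kp.e3, Kp.e0⟩, ⟨Kp.e2, Kp.e4⟩⟩ => ⟨⟨Kp.e1, Kp.e0⟩, ⟨Kp.e3, Kp.e2⟩, ⟨Kp.e3, Kp.e3⟩⟩
  | ⟨⟨Kp.e1, Kp.e0⟩, ⟨Kp.e4, Kp.e0⟩, ⟨Kp.e0, Kp.e0⟩⟩ => ⟨⟨Kp.e1, Kp.e0⟩, ⟨Kp.e0, Kp.e1⟩, ⟨Kp.e0, Kp.e3⟩⟩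
  | ⟨⟨Kp.e1, Kp.e0⟩, ⟨Kp.e0, Kp.e1⟩, ⟨Kp.e0, Kp.e2⟩⟩ => ⟨⟨Kp.e1, Kp.e0⟩, ⟨Kp.e1, Kp.e1⟩, ⟨Kp.e2, Kp.e3⟩⟩
  | ⟨⟨Kp.e1, Kp.e0⟩, ⟨Kp.e1, Kp.e1⟩, ⟨Kp.e3, Kp.e3⟩⟩ => ⟨⟨Kp.e1, Kp.e0⟩, ⟨Kp.e0, Kp.e0⟩, ⟨Kp.e3, Kp.e0⟩⟩
  | ⟨⟨Kp.e1, Kp.e0⟩, ⟨Kp.e2, Kp.e1⟩, ⟨Kp.e1, Kp.e4⟩⟩ => ⟨⟨Kp.e1, Kp.e0⟩, ⟨Kp.e0, Kp.e2⟩, ⟨Kp.e1, Kp.e2⟩⟩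
  | ⟨⟨Kp.e1, Kp.e0⟩, ⟨Kp.e3, Kp.e1⟩, ⟨Kp.e4, Kp.e0⟩⟩ => ⟨⟨Kp.e1, Kp.e0⟩, ⟨Kp.e2, Kp.e0⟩, ⟨Kp.e0, Kp.e3⟩⟩
  | ⟨⟨Kp.e1, Kp.e0⟩, ⟨Kp.e4, Kp.e1⟩, ⟨Kp.e2, Kp.e1⟩⟩ => ⟨⟨Kp.e1, Kp.e0⟩, ⟨Kp.e2, Kp.e0⟩, ⟨Kp.e3, Kp.e3⟩⟩
  | ⟨⟨Kp.e1, Kp.e0⟩, ⟨Kp.e0, Kp.e2⟩, ⟨Kp.e2, Kp.e3⟩⟩ => ⟨⟨Kp.e0, Kp.e0⟩, ⟨Kp.e2, Kp.e0⟩, ⟨Kp.e0, Kp.e1⟩⟩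
  | ⟨⟨Kp.e1, Kp.e0⟩, ⟨Kp.e1, Kp.e2⟩, ⟨Kp.e0, Kp.e4⟩⟩ => ⟨⟨Kp.e1, Kp.e0⟩, ⟨Kp.e1, Kp.e2⟩, ⟨Kp.e1, Kp.e2⟩⟩
  | ⟨⟨Kp.e1, Kp.e0⟩, ⟨Kp.e2, Kp.e2⟩, ⟨Kp.e3, Kp.e0⟩⟩ => ⟨⟨Kp.e0, Kp.e0⟩, ⟨Kp.e2, Kp.e0⟩, ⟨Kp.e1, Kp.e3⟩⟩
  | ⟨⟨Kp.e1, Kp.e0⟩, ⟨Kp.e3, Kp.e2⟩, ⟨Kp.e1, Kp.e1⟩⟩ => ⟨⟨Kp.e1, Kp.e0⟩, ⟨Kp.e1, Kp.e0⟩, ⟨Kp.e0, Kp.e1⟩⟩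
  | ⟨⟨Kp.e1, Kp.e0⟩, ⟨Kp.e4, Kp.e2⟩, ⟨Kp.e4, Kp.e2⟩⟩ => ⟨⟨Kp.e0, Kp.e0⟩, ⟨Kp.e0, Kp.e0⟩, ⟨Kp.e0, Kp.e1⟩⟩
  | ⟨⟨Kp.e1, Kp.e0⟩, ⟨Kp.e0, Kp.e3⟩, ⟨Kp.e4, Kp.e4⟩⟩ => ⟨⟨Kp.e0, Kp.e0⟩, ⟨Kp.e1, Kp.e0⟩, ⟨Kp.e1, Kp.e4⟩⟩
  | ⟨⟨Kp.e1, Kp.e0⟩, ⟨Kp.e1, Kp.e3⟩, ⟨Kp.e2, Kp.e0⟩⟩ => ⟨⟨Kp.e0, Kp.e0⟩, ⟨Kp.e2, Kp.e0⟩, ⟨Kp.e4, Kp.e1⟩⟩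
  | ⟨⟨Kp.e1, Kp.e0⟩, ⟨Kp.e2, Kp.e3⟩, ⟨Kp.e0, Kp.e1⟩⟩ => ⟨⟨Kp.e1, Kp.e0⟩, ⟨Kp.e4, Kp.e1⟩, ⟨Kp.e1, Kp.e0⟩⟩
  | ⟨⟨Kp.e1, Kp.e0⟩, ⟨Kp.e3, Kp.e3⟩, ⟨Kp.e3, Kp.e2⟩⟩ => ⟨⟨Kp.e0, Kp.e0⟩, ⟨Kp.e1, Kp.e0⟩, ⟨Kp.e3, Kp.e0⟩⟩
  | ⟨⟨Kp.e1, Kp.e0⟩, ⟨Kp.e4, Kp.e3⟩, ⟨Kp.e1, Kp.e3⟩⟩ => ⟨⟨Kp.e0, Kp.e0⟩, ⟨Kp.e2, Kp.e1⟩, ⟨Kp.e3, Kp.e4⟩⟩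
  | ⟨⟨Kp.e1, Kp.e0⟩, ⟨Kp.e0, Kp.e4⟩, ⟨Kp.e1, Kp.e0⟩⟩ => ⟨⟨Kp.e0, Kp.e0⟩, ⟨Kp.e2, Kp.e1⟩, ⟨Kp.e0, Kp.e2⟩⟩
  | ⟨⟨Kp.e1, Kp.e0⟩, ⟨Kp.e1, Kp.e4⟩, ⟨Kp.e4, Kp.e1⟩⟩ => ⟨⟨Kp.e1, Kp.e0⟩, ⟨Kp.e4, Kp.e0⟩, ⟨Kp.e0, Kp.e2⟩⟩
  | ⟨⟨Kp.e1, Kp.e0⟩, ⟨Kp.e2, Kp.e4⟩, ⟨Kp.e2, Kp.e2⟩⟩ => ⟨⟨Kp.e0, Kp.e0⟩, ⟨Kp.e2, Kp.e0⟩, ⟨Kp.e4, Kp.e4⟩⟩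
  | ⟨⟨Kp.e1, Kp.e0⟩, ⟨Kp.e3, Kp.e4⟩, ⟨Kp.e0, Kp.e3⟩⟩ => ⟨⟨Kp.e0, Kp.e0⟩, ⟨Kp.e1, Kp.e0⟩, ⟨Kp.e1, Kp.e0⟩⟩
  | ⟨⟨Kp.e1, Kp.e0⟩, ⟨Kp.e4, Kp.e4⟩, ⟨Kp.e3, Kp.e4⟩⟩ => ⟨⟨Kp.e0, Kp.e0⟩, ⟨Kp.e1, Kp.e0⟩, ⟨Kp.e3, Kp.e1⟩⟩
  | ⟨⟨Kp.e2, Kp.e0⟩, ⟨Kp.e0, Kp.e0⟩, ⟨Kp.e1, Kp.e2⟩⟩ => ⟨⟨Kp.e0, Kp.e0⟩, ⟨Kp.e2, Kp.e1⟩, ⟨Kp.e2, Kp.e4⟩⟩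
  | ⟨⟨Kp.e2, Kp.e0⟩, ⟨Kp.e1, Kp.e0⟩, ⟨Kp.e4, Kp.e3⟩⟩ => ⟨⟨Kp.e1, Kp.e0⟩, ⟨Kp.e4, Kp.e0⟩, ⟨Kp.e3, Kp.e0⟩⟩
  | ⟨⟨Kp.e2, Kp.e0⟩, ⟨Kp.e2, Kp.e0⟩, ⟨Kp.e2, Kp.e4⟩⟩ => ⟨⟨Kp.e0, Kp.e0⟩, ⟨Kp.e2, Kp.e0⟩, ⟨Kp.e2, Kp.e4⟩⟩
  | ⟨⟨Kp.e2, Kp.e0⟩, ⟨Kp.e3, Kp.e0⟩, ⟨Kp.e0, Kp.e0⟩⟩ => ⟨⟨Kp.e1, Kp.e0⟩, ⟨Kp.e2, Kp.e0⟩, ⟨Kp.e0, Kp.e4⟩⟩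
  | ⟨⟨Kp.e2, Kp.e0⟩, ⟨Kp.e4, Kp.e0⟩, ⟨Kp.e3, Kp.e1⟩⟩ => ⟨⟨Kp.e1, Kp.e0⟩, ⟨Kp.e0, Kp.e0⟩, ⟨Kp.e4, Kp.e0⟩⟩
  | ⟨⟨Kp.e2, Kp.e0⟩, ⟨Kp.e0, Kp.e1⟩, ⟨Kp.e3, Kp.e3⟩⟩ => ⟨⟨Kp.e0, Kp.e0⟩, ⟨Kp.e0, Kp.e1⟩, ⟨Kp.e3, Kp.e1⟩⟩
  | ⟨⟨Kp.e2, Kp.e0⟩, ⟨Kp.e1, Kp.e1⟩, ⟨Kp.e1, Kp.e4⟩⟩ => ⟨⟨Kp.e0, Kp.e0⟩, ⟨Kp.e0, Kp.e1⟩, ⟨Kp.e0, Kp.e3⟩⟩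
  | ⟨⟨Kp.e2, Kp.e0⟩, ⟨Kp.e2, Kp.e1⟩, ⟨Kp.e4, Kp.e0⟩⟩ => ⟨⟨Kp.e0, Kp.e0⟩, ⟨Kp.e2, Kp.e1⟩, ⟨Kp.e0, Kp.e3⟩⟩
  | ⟨⟨Kp.e2, Kp.e0⟩, ⟨Kp.e3, Kp.e1⟩, ⟨Kp.e2, Kp.e1⟩⟩ => ⟨⟨Kp.e0, Kp.e0⟩, ⟨Kp.e1, Kp.e0⟩, ⟨Kp.e4, Kp.e0⟩⟩
  | ⟨⟨Kp.e2, Kp.e0⟩, ⟨Kp.e4, Kp.e1⟩, ⟨Kp.e0, Kp.e2⟩⟩ => ⟨⟨Kp.e1, Kp.e0⟩, ⟨Kp.e0, Kp.e1⟩, ⟨Kp.e1, Kp.e2⟩⟩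
  | ⟨⟨Kp.e2, Kp.e0⟩, ⟨Kp.e0, Kp.e2⟩, ⟨Kp.e0, Kp.e4⟩⟩ => ⟨⟨Kp.e1, Kp.e0⟩, ⟨Kp.e1, Kp.e1⟩, ⟨Kp.e4, Kp.e0⟩⟩
  | ⟨⟨Kp.e2, Kp.e0⟩, ⟨Kp.e1, Kp.e2⟩, ⟨Kp.e3, Kp.e0⟩⟩ => ⟨⟨Kp.e1, Kp.e0⟩, ⟨Kp.e2, Kp.e0⟩, ⟨Kp.e4, Kp.e1⟩⟩
  | ⟨⟨Kp.e2, Kp.e0⟩, ⟨Kp.e2, Kp.e2⟩, ⟨Kp.e1, Kp.e1⟩⟩ => ⟨⟨Kp.e1, Kp.e0⟩, ⟨Kp.e1, Kp.e1⟩, ⟨Kp.e4, Kp.e4⟩⟩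
  | ⟨⟨Kp.e2, Kp.e0⟩, ⟨Kp.e3, Kp.e2⟩, ⟨Kp.e4, Kp.e2⟩⟩ => ⟨⟨Kp.e1, Kp.e0⟩, ⟨Kp.e4, Kp.e0⟩, ⟨Kp.e1, Kp.e4⟩⟩
  | ⟨⟨Kp.e2, Kp.e0⟩, ⟨Kp.e4, Kp.e2⟩, ⟨Kp.e2, Kp.e3⟩⟩ => ⟨⟨Kp.e1, Kp.e0⟩, ⟨Kp.e2, Kp.e0⟩, ⟨Kp.e4, Kp.e0⟩⟩
  | ⟨⟨Kp.e2, Kp.e0⟩, ⟨Kp.e0, Kp.e3⟩, ⟨Kp.e2, Kp.e0⟩⟩ => ⟨⟨Kp.e0, Kp.e0⟩, ⟨Kp.e1, Kp.e0⟩, ⟨Kp.e3, Kp.e2⟩⟩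
  | ⟨⟨Kp.e2, Kp.e0⟩, ⟨Kp.e1, Kp.e3⟩, ⟨Kp.e0, Kp.e1⟩⟩ => ⟨⟨Kp.e0, Kp.e0⟩, ⟨Kp.e0, Kp.e1⟩, ⟨Kp.e0, Kp.e1⟩⟩
  | ⟨⟨Kp.e2, Kp.e0⟩, ⟨Kp.e2, Kp.e3⟩, ⟨Kp.e3, Kp.e2⟩⟩ => ⟨⟨Kp.e1, Kp.e0⟩, ⟨Kp.e3, Kp.e0⟩, ⟨Kp.e2, Kp.e2⟩⟩
  | ⟨⟨Kp.e2, Kp.e0⟩, ⟨Kp.e3, Kp.e3⟩, ⟨Kp.e1, Kp.e3⟩⟩ => ⟨⟨Kp.e0, Kp.e0⟩, ⟨Kp.e1, Kp.e0⟩, ⟨Kp.e4, Kp.e3⟩⟩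
  | ⟨⟨Kp.e2, Kp.e0⟩, ⟨Kp.e4, Kp.e3⟩, ⟨Kp.e4, Kp.e4⟩⟩ => ⟨⟨Kp.e0, Kp.e0⟩, ⟨Kp.e2, Kp.e1⟩, ⟨Kp.e3, Kp.e1⟩⟩
  | ⟨⟨Kp.e2, Kp.e0⟩, ⟨Kp.e0, Kp.e4⟩, ⟨Kp.e4, Kp.e1⟩⟩ => ⟨⟨Kp.e0, Kp.e0⟩, ⟨Kp.e2, Kp.e0⟩, ⟨Kp.e0, Kp.e3⟩⟩
  | ⟨⟨Kp.e2, Kp.e0⟩, ⟨Kp.e1, Kp.e4⟩, ⟨Kp.e2, Kp.e2⟩⟩ => ⟨⟨Kp.e1, Kp.e0⟩, ⟨Kp.e3, Kp.e0⟩, ⟨Kp.e1, Kp.e0⟩⟩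
  | ⟨⟨Kp.e2, Kp.e0⟩, ⟨Kp.e2, Kp.e4⟩, ⟨Kp.e0, Kp.e3⟩⟩ => ⟨⟨Kp.e1, Kp.e0⟩, ⟨Kp.e0, Kp.e0⟩, ⟨Kp.e3, Kp.e2⟩⟩
  | ⟨⟨Kp.e2, Kp.e0⟩, ⟨Kp.e3, Kp.e4⟩, ⟨Kp.e3, Kp.e4⟩⟩ => ⟨⟨Kp.e0, Kp.e0⟩, ⟨Kp.e0, Kp.e0⟩, ⟨Kp.e2, Kp.e0⟩⟩
  | ⟨⟨Kp.e2, Kp.e0⟩, ⟨Kp.e4, Kp.e4⟩, ⟨Kp.e1, Kp.e0⟩⟩ => ⟨⟨Kp.e0, Kp.e0⟩, ⟨Kp.e2, Kp.e0⟩, ⟨Kp.e3, Kp.e4⟩⟩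
  | ⟨⟨Kp.e3, Kp.e0⟩, ⟨Kp.e0, Kp.e0⟩, ⟨Kp.e4, Kp.e3⟩⟩ => ⟨⟨Kp.e0, Kp.e0⟩, ⟨Kp.e0, Kp.e1⟩, ⟨Kp.e1, Kp.e3⟩⟩
  | ⟨⟨Kp.e3, Kp.e0⟩, ⟨Kp.e1, Kp.e0⟩, ⟨Kp.e2, Kp.e4⟩⟩ => ⟨⟨Kp.e1, Kp.e0⟩, ⟨Kp.e3, Kp.e0⟩, ⟨Kp.e4, Kp.e3⟩⟩
  | ⟨⟨Kp.e3, Kp.e0⟩, ⟨Kp.e2, Kp.e0⟩, ⟨Kp.e0, Kp.e0⟩⟩ => ⟨⟨Kp.e1, Kp.e0⟩, ⟨Kp.e2, Kp.e0⟩, ⟨Kp.e1, Kp.e4⟩⟩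
  | ⟨⟨Kp.e3, Kp.e0⟩, ⟨Kp.e3, Kp.e0⟩, ⟨Kp.e3, Kp.e1⟩⟩ => ⟨⟨Kp.e0, Kp.e0⟩, ⟨Kp.e1, Kp.e0⟩, ⟨Kp.e1, Kp.e2⟩⟩
  | ⟨⟨Kp.e3, Kp.e0⟩, ⟨Kp.e4, Kp.e0⟩, ⟨Kp.e1, Kp.e2⟩⟩ => ⟨⟨Kp.e1, Kp.e0⟩, ⟨Kp.e1, Kp.e0⟩, ⟨Kp.e4, Kp.e4⟩⟩
  | ⟨⟨Kp.e3, Kp.e0⟩, ⟨Kp.e0, Kp.e1⟩, ⟨Kp.e1, Kp.e4⟩⟩ => ⟨⟨Kp.e0, Kp.e0⟩, ⟨Kp.e1, Kp.e0⟩, ⟨Kp.e0, Kp.e4⟩⟩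
  | ⟨⟨Kp.e3, Kp.e0⟩, ⟨Kp.e1, Kp.e1⟩, ⟨Kp.e4, Kp.e0⟩⟩ => ⟨⟨Kp.e0, Kp.e0⟩, ⟨Kp.e1, Kp.e0⟩, ⟨Kp.e4, Kp.e2⟩⟩
  | ⟨⟨Kp.e3, Kp.e0⟩, ⟨Kp.e2, Kp.e1⟩, ⟨Kp.e2, Kp.e1⟩⟩ => ⟨⟨Kp.e0, Kp.e0⟩, ⟨Kp.e0, Kp.e0⟩, ⟨Kp.e1, Kp.e0⟩⟩
  | ⟨⟨Kp.e3, Kp.e0⟩, ⟨Kp.e3, Kp.e1⟩, ⟨Kp.e0, Kp.e2⟩⟩ => ⟨⟨Kp.e1, Kp.e0⟩, ⟨Kp.e1, Kp.e0⟩, ⟨Kp.e2, Kp.e4⟩⟩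
  | ⟨⟨Kp.e3, Kp.e0⟩, ⟨Kp.e4, Kp.e1⟩, ⟨Kp.e3, Kp.e3⟩⟩ => ⟨⟨Kp.e1, Kp.e0⟩, ⟨Kp.e0, Kp.e2⟩, ⟨Kp.e0, Kp.e2⟩⟩
  | ⟨⟨Kp.e3, Kp.e0⟩, ⟨Kp.e0, Kp.e2⟩, ⟨Kp.e3, Kp.e0⟩⟩ => ⟨⟨Kp.e0, Kp.e0⟩, ⟨Kp.e2, Kp.e0⟩, ⟨Kp.e1, Kp.e4⟩⟩
  | ⟨⟨Kp.e3, Kp.e0⟩, ⟨Kp.e1, Kp.e2⟩, ⟨Kp.e1, Kp.e1⟩⟩ => ⟨⟨Kp.e0, Kp.e0⟩, ⟨Kp.e0, Kp.e1⟩, ⟨Kp.e4, Kp.e2⟩⟩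
  | ⟨⟨Kp.e3, Kp.e0⟩, ⟨Kp.e2, Kp.e2⟩, ⟨Kp.e4, Kp.e2⟩⟩ => ⟨⟨Kp.e0, Kp.e0⟩, ⟨Kp.e2, Kp.e0⟩, ⟨Kp.e3, Kp.e1⟩⟩
  | ⟨⟨Kp.e3, Kp.e0⟩, ⟨Kp.e3, Kp.e2⟩, ⟨Kp.e2, Kp.e3⟩⟩ => ⟨⟨Kp.e1, Kp.e0⟩, ⟨Kp.e3, Kp.e0⟩, ⟨Kp.e1, Kp.e1⟩⟩
  | ⟨⟨Kp.e3, Kp.e0⟩, ⟨Kp.e4, Kp.e2⟩, ⟨Kp.e0, Kp.e4⟩⟩ => ⟨⟨Kp.e0, Kp.e0⟩, ⟨Kp.e2, Kp.e1⟩, ⟨Kp.e2, Kp.e1⟩⟩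
  | ⟨⟨Kp.e3, Kp.e0⟩, ⟨Kp.e0, Kp.e3⟩, ⟨Kp.e0, Kp.e1⟩⟩ => ⟨⟨Kp.e1, Kp.e0⟩, ⟨Kp.e0, Kp.e0⟩, ⟨Kp.e0, Kp.e4⟩⟩
  | ⟨⟨Kp.e3, Kp.e0⟩, ⟨Kp.e1, Kp.e3⟩, ⟨Kp.e3, Kp.e2⟩⟩ => ⟨⟨Kp.e1, Kp.e0⟩, ⟨Kp.e2, Kp.e0⟩, ⟨Kp.e2, Kp.e3⟩⟩
  | ⟨⟨Kp.e3, Kp.e0⟩, ⟨Kp.e2, Kp.e3⟩, ⟨Kp.e1, Kp.e3⟩⟩ => ⟨⟨Kp.e1, Kp.e0⟩, ⟨Kp.e2, Kp.e0⟩, ⟨Kp.e3, Kp.e2⟩⟩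
  | ⟨⟨Kp.e3, Kp.e0⟩, ⟨Kp.e3, Kp.e3⟩, ⟨Kp.e4, Kp.e4⟩⟩ => ⟨⟨Kp.e1, Kp.e0⟩, ⟨Kp.e4, Kp.e0⟩, ⟨Kp.e1, Kp.e1⟩⟩
  | ⟨⟨Kp.e3, Kp.e0⟩, ⟨Kp.e4, Kp.e3⟩, ⟨Kp.e2, Kp.e0⟩⟩ => ⟨⟨Kp.e1, Kp.e0⟩, ⟨Kp.e4, Kp.e0⟩, ⟨Kp.e3, Kp.e3⟩⟩
  | ⟨⟨Kp.e3, Kp.e0⟩, ⟨Kp.e0, Kp.e4⟩, ⟨Kp.e2, Kp.e2⟩⟩ => ⟨⟨Kp.e0, Kp.e0⟩, ⟨Kp.e0, Kp.e1⟩, ⟨Kp.e2, Kp.e4⟩⟩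
  | ⟨⟨Kp.e3, Kp.e0⟩, ⟨Kp.e1, Kp.e4⟩, ⟨Kp.e0, Kp.e3⟩⟩ => ⟨⟨Kp.e1, Kp.e0⟩, ⟨Kp.e1, Kp.e0⟩, ⟨Kp.e3, Kp.e2⟩⟩
  | ⟨⟨Kp.e3, Kp.e0⟩, ⟨Kp.e2, Kp.e4⟩, ⟨Kp.e3, Kp.e4⟩⟩ => ⟨⟨Kp.e0, Kp.e0⟩, ⟨Kp.e2, Kp.e0⟩, ⟨Kp.e3, Kp.e0⟩⟩
  | ⟨⟨Kp.e3, Kp.e0⟩, ⟨Kp.e3, Kp.e4⟩, ⟨Kp.e1, Kp.e0⟩⟩ => ⟨⟨Kp.e0, Kp.e0⟩, ⟨Kp.e0, Kp.e1⟩, ⟨Kp.e1, Kp.e2⟩⟩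
  | ⟨⟨Kp.e3, Kp.e0⟩, ⟨Kp.e4, Kp.e4⟩, ⟨Kp.e4, Kp.e1⟩⟩ => ⟨⟨Kp.e0, Kp.e0⟩, ⟨Kp.e0, Kp.e1⟩, ⟨Kp.e0, Kp.e2⟩⟩
  | ⟨⟨Kp.e4, Kp.e0⟩, ⟨Kp.e0, Kp.e0⟩, ⟨Kp.e2, Kp.e4⟩⟩ => ⟨⟨Kp.e0, Kp.e0⟩, ⟨Kp.e1, Kp.e0⟩, ⟨Kp.e3, Kp.e3⟩⟩
  | ⟨⟨Kp.e4, Kp.e0⟩, ⟨Kp.e1, Kp.e0⟩, ⟨Kp.e0, Kp.e0⟩⟩ => ⟨⟨Kp.e1, Kp.e0⟩, ⟨Kp.e0, Kp.e0⟩, ⟨Kp.e3, Kp.e3⟩⟩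
  | ⟨⟨Kp.e4, Kp.e0⟩, ⟨Kp.e2, Kp.e0⟩, ⟨Kp.e3, Kp.e1⟩⟩ => ⟨⟨Kp.e1, Kp.e0⟩, ⟨Kp.e0, Kp.e0⟩, ⟨Kp.e2, Kp.e2⟩⟩
  | ⟨⟨Kp.e4, Kp.e0⟩, ⟨Kp.e3, Kp.e0⟩, ⟨Kp.e1, Kp.e2⟩⟩ => ⟨⟨Kp.e1, Kp.e0⟩, ⟨Kp.e1, Kp.e0⟩, ⟨Kp.e1, Kp.e3⟩⟩
  | ⟨⟨Kp.e4, Kp.e0⟩, ⟨Kp.e4, Kp.e0⟩, ⟨Kp.e4, Kp.e3⟩⟩ => ⟨⟨Kp.e0, Kp.e0⟩, ⟨Kp.e1, Kp.e0⟩, ⟨Kp.e2, Kp.e4⟩⟩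
  | ⟨⟨Kp.e4, Kp.e0⟩, ⟨Kp.e0, Kp.e1⟩, ⟨Kp.e4, Kp.e0⟩⟩ => ⟨⟨Kp.e0, Kp.e0⟩, ⟨Kp.e0, Kp.e1⟩, ⟨Kp.e4, Kp.e3⟩⟩
  | ⟨⟨Kp.e4, Kp.e0⟩, ⟨Kp.e1, Kp.e1⟩, ⟨Kp.e2, Kp.e1⟩⟩ => ⟨⟨Kp.e0, Kp.e0⟩, ⟨Kp.e2, Kp.e0⟩, ⟨Kp.e1, Kp.e2⟩⟩
  | ⟨⟨Kp.e4, Kp.e0⟩, ⟨Kp.e2, Kp.e1⟩, ⟨Kp.e0, Kp.e2⟩⟩ => ⟨⟨Kp.e0, Kp.e0⟩, ⟨Kp.e2, Kp.e0⟩, ⟨Kp.e2, Kp.e0⟩⟩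
  | ⟨⟨Kp.e4, Kp.e0⟩, ⟨Kp.e3, Kp.e1⟩, ⟨Kp.e3, Kp.e3⟩⟩ => ⟨⟨Kp.e0, Kp.e0⟩, ⟨Kp.e1, Kp.e0⟩, ⟨Kp.e2, Kp.e2⟩⟩
  | ⟨⟨Kp.e4, Kp.e0⟩, ⟨Kp.e4, Kp.e1⟩, ⟨Kp.e1, Kp.e4⟩⟩ => ⟨⟨Kp.e1, Kp.e0⟩, ⟨Kp.e0, Kp.e1⟩, ⟨Kp.e4, Kp.e4⟩⟩
  | ⟨⟨Kp.e4, Kp.e0⟩, ⟨Kp.e0, Kp.e2⟩, ⟨Kp.e1, Kp.e1⟩⟩ => ⟨⟨Kp.e0, Kp.e0⟩, ⟨Kp.e1, Kp.e0⟩, ⟨Kp.e4, Kp.e1⟩⟩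
  | ⟨⟨Kp.e4, Kp.e0⟩, ⟨Kp.e1, Kp.e2⟩, ⟨Kp.e4, Kp.e2⟩⟩ => ⟨⟨Kp.e0, Kp.e0⟩, ⟨Kp.e0, Kp.e1⟩, ⟨Kp.e0, Kp.e4⟩⟩
  | ⟨⟨Kp.e4, Kp.e0⟩, ⟨Kp.e2, Kp.e2⟩, ⟨Kp.e2, Kp.e3⟩⟩ => ⟨⟨Kp.e0, Kp.e0⟩, ⟨Kp.e1, Kp.e0⟩, ⟨Kp.e2, Kp.e0⟩⟩
  | ⟨⟨Kp.e4, Kp.e0⟩, ⟨Kp.e3, Kp.e2⟩, ⟨Kp.e0, Kp.e4⟩⟩ => ⟨⟨Kp.e1, Kp.e0⟩, ⟨Kp.e1, Kp.e0⟩, ⟨Kp.e3, Kp.e3⟩⟩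
  | ⟨⟨Kp.e4, Kp.e0⟩, ⟨Kp.e4, Kp.e2⟩, ⟨Kp.e3, Kp.e0⟩⟩ => ⟨⟨Kp.e0, Kp.e0⟩, ⟨Kp.e1, Kp.e0⟩, ⟨Kp.e2, Kp.e3⟩⟩
  | ⟨⟨Kp.e4, Kp.e0⟩, ⟨Kp.e0, Kp.e3⟩, ⟨Kp.e3, Kp.e2⟩⟩ => ⟨⟨Kp.e0, Kp.e0⟩, ⟨Kp.e1, Kp.e0⟩, ⟨Kp.e0, Kp.e3⟩⟩
  | ⟨⟨Kp.e4, Kp.e0⟩, ⟨Kp.e1, Kp.e3⟩, ⟨Kp.e1, Kp.e3⟩⟩ => ⟨⟨Kp.e0, Kp.e0⟩, ⟨Kp.e0, Kp.e0⟩, ⟨Kp.e2, Kp.e1⟩⟩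
  | ⟨⟨Kp.e4, Kp.e0⟩, ⟨Kp.e2, Kp.e3⟩, ⟨Kp.e4, Kp.e4⟩⟩ => ⟨⟨Kp.e1, Kp.e0⟩, ⟨Kp.e1, Kp.e0⟩, ⟨Kp.e1, Kp.e1⟩⟩
  | ⟨⟨Kp.e4, Kp.e0⟩, ⟨Kp.e3, Kp.e3⟩, ⟨Kp.e2, Kp.e0⟩⟩ => ⟨⟨Kp.e0, Kp.e0⟩, ⟨Kp.e1, Kp.e0⟩, ⟨Kp.e3, Kp.e4⟩⟩
  | ⟨⟨Kp.e4, Kp.e0⟩, ⟨Kp.e4, Kp.e3⟩, ⟨Kp.e0, Kp.e1⟩⟩ => ⟨⟨Kp.e1, Kp.e0⟩, ⟨Kp.e1, Kp.e0⟩, ⟨Kp.e1, Kp.e2⟩⟩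
  | ⟨⟨Kp.e4, Kp.e0⟩, ⟨Kp.e0, Kp.e4⟩, ⟨Kp.e0, Kp.e3⟩⟩ => ⟨⟨Kp.e1, Kp.e0⟩, ⟨Kp.e0, Kp.e0⟩, ⟨Kp.e0, Kp.e3⟩⟩
  | ⟨⟨Kp.e4, Kp.e0⟩, ⟨Kp.e1, Kp.e4⟩, ⟨Kp.e3, Kp.e4⟩⟩ => ⟨⟨Kp.e1, Kp.e0⟩, ⟨Kp.e0, Kp.e1⟩, ⟨Kp.e4, Kp.e2⟩⟩
  | ⟨⟨Kp.e4, Kp.e0⟩, ⟨Kp.e2, Kp.e4⟩, ⟨Kp.e1, Kp.e0⟩⟩ => ⟨⟨Kp.e1, Kp.e0⟩, ⟨Kp.e1, Kp.e0⟩, ⟨Kp.e0, Kp.e3⟩⟩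
  | ⟨⟨Kp.e4, Kp.e0⟩, ⟨Kp.e3, Kp.e4⟩, ⟨Kp.e4, Kp.e1⟩⟩ => ⟨⟨Kp.e1, Kp.e0⟩, ⟨Kp.e3, Kp.e0⟩, ⟨Kp.e4, Kp.e2⟩⟩
  | ⟨⟨Kp.e4, Kp.e0⟩, ⟨Kp.e4, Kp.e4⟩, ⟨Kp.e2, Kp.e2⟩⟩ => ⟨⟨Kp.e1, Kp.e0⟩, ⟨Kp.e0, Kp.e0⟩, ⟨Kp.e2, Kp.e0⟩⟩
  | _ => V3.zero

def gamma0 : V3 := ⟨⟨Kp.e3, Kp.e0⟩, ⟨Kp.e2, Kp.e1⟩, ⟨Kp.e2, Kp.e1⟩⟩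

def admissible (x : V3) : Bool :=
  (Kq.frob x.a == x.a) &&
  recs x.a x.b x.c (g3 x) (Kq.frob (g3 x)) (Kq.frob x.c) (Kq.frob x.b)

def normalise (x : V3) : V3 :=
  newg (tbl x).a (tbl x).b (tbl x).c x.a x.b x.c (g3 x) (Kq.frob (g3 x)) (Kq.frob x.c) (Kq.frob x.b)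

theorem normalise_eq : ∀ a0 a1 b0 b1 c0 c1 : Kp, admissible ⟨⟨a0, a1⟩, ⟨b0, b1⟩, ⟨c0, c1⟩⟩ = true →
    (⟨⟨a0, a1⟩, ⟨b0, b1⟩, ⟨c0, c1⟩⟩ : V3) ≠ V3.zero →
    normalise ⟨⟨a0, a1⟩, ⟨b0, b1⟩, ⟨c0, c1⟩⟩ = gamma0 := by decide +kernel

/-- the Gram matrix is the one of `gamma0` -/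
theorem gram_gamma0 : Gm = ⟨⟨gamma0.a, gamma0.b, gamma0.c⟩,
    ⟨Kq.frob gamma0.b, gamma0.a, gamma0.b⟩,
    ⟨Kq.frob gamma0.c, Kq.frob gamma0.b, gamma0.a⟩⟩ := by decide

/-- arithmetic of the prime field -/
theorem Kp_sq_sum : ∀ r m : Kp, Kp.add (Kp.mul r r) (Kp.mul (Kp.neg Kp.e2) (Kp.mul m m)) = Kp.e0 → r = Kp.e0 ∧ m = Kp.e0 := by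
  decide

end Cfsg.Agent.Lib.Helper10.SU35
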