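import Mathlib
import Cfsg.Agent.Lib.Helper10.UHerm
import Cfsg.Agent.Lib.Helper10.SU35Model

set_option autoImplicit false

/-!
# `7 : 3 < L_2(7) < SU_3(5)`: from the model to a field with `25` elements
-/

namespace Cfsg.Agent.Lib.Helper10.SU35

open Cfsg.Agent.Lib.Helper10.UH Matrix

/-- the representatives `0, …, 4` -/
def Kp.toNat : Kp → ℕ
  | e0 => 0
  | e1 => 1
  | e2 => 2
  | e3 => 3
  | e4 => 4

theorem toNat_add : ∀ x y : Kp, (Kp.add x y).toNat % 5 = (x.toNat + y.toNat) % 5 := by decide
theorem toNat_mul : ∀ x y : Kp, (Kp.mul x y).toNat % 5 = (x.toNat * y.toNat) % 5 := by decide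
theorem toNat_neg : ∀ x : Kp, ((Kp.neg x).toNat + x.toNat) % 5 = 0 % 5 := by decide
theorem toNat_inj : ∀ x y : Kp, x.toNat % 5 = y.toNat % 5 → x = y := by decide
theorem toNat_pow : ∀ x : Kp, (x.toNat ^ 5) % 5 = x.toNat % 5 := by decide
theorem sub_eq_zero_Kp : ∀ x y : Kp, Kp.add x (Kp.neg y) = Kp.e0 → x = y := by decide

instance : Fintype Kq :=
  Fintype.ofEquiv (Kp × Kp) ⟨fun x => ⟨x.1, x.2⟩, fun x => (x.re, x.im), fun _ => rfl, fun _ => rfl⟩

theorem card_Kq : Fintype.card Kq = 5 ^ 2 := by
  rw [Fintype.ofEquiv_card, Fintype.card_prod]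
  rfl

section

variable {F : Type*} [Field F]

/-- the map from the prime field of the model -/
def phip (x : Kp) : F := (x.toNat : F)

/-- the map from the model to `F` attached to a square root `ι` of `2` -/
def phi (ι : F) (x : Kq) : F := phip x.re + phip x.im * ι

variable [Fintype F]

theorem charP_F (hF : Fintype.card F = 5 ^ 2) : CharP F 5 := by
  have hp : Nat.Prime 5 := by norm_num
  refine (CharP.charP_iff_prime_eq_zero hp).mpr ?_
  exact_mod_cast char_eq_zero hp hF

theorem exists_iota (hF : Fintype.card F = 5 ^ 2) : ∃ ι : F, ι ^ 2 = 2 := by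
  haveI := charP_F hF
  have hp0 : ((5 : ℕ) : F) = 0 := CharP.cast_eq_zero F 5
  have h3 : (5 : F) = 0 := by exact_mod_cast hp0
  have hchar : ringChar F ≠ 2 := by
    rw [ringChar.eq F 5]
    norm_num
  have h20 : (2 : F) ≠ 0 := by
    intro h
    have h1 : ((2 : ℕ) : F) = 0 := by exact_mod_cast h
    rw [CharP.cast_eq_zero_iff F 5] at h1
    norm_num at h1
  have hsq : IsSquare (2 : F) := by
    rw [FiniteField.isSquare_iff hchar h20, hF]
    norm_num
    linear_combination (819 : F) * h3
  obtain ⟨ι, hι⟩ := hsq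
  exact ⟨ι, by rw [pow_two]; exact hι.symm⟩

end

section

variable {F : Type*} [Field F] [CharP F 5]

theorem phip_add (x y : Kp) : (phip (Kp.add x y) : F) = phip x + phip y := by
  unfold phip
  rw [← Nat.cast_add, CharP.natCast_eq_natCast F 5]
  exact toNat_add x y

theorem phip_mul (x y : Kp) : (phip (Kp.mul x y) : F) = phip x * phip y := by
  unfold phip
  rw [← Nat.cast_mul, CharP.natCast_eq_natCast F 5]
  exact toNat_mul x y

theorem phip_neg (x : Kp) : (phip (Kp.neg x) : F) = -phip x := by
  have h : (phip (Kp.neg x) : F) + phip x = 0 := by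
    unfold phip
    rw [← Nat.cast_add, ← Nat.cast_zero, CharP.natCast_eq_natCast F 5]
    exact toNat_neg x
  linear_combination h

theorem phip_pow (x : Kp) : (phip x : F) ^ 5 = phip x := by
  unfold phip
  rw [← Nat.cast_pow, CharP.natCast_eq_natCast F 5]
  exact toNat_pow x

theorem phip_injective : Function.Injective (phip : Kp → F) := by
  intro x y h
  unfold phip at h
  rw [CharP.natCast_eq_natCast F 5] at h
  exact toNat_inj x y h

theorem phip_e0 : (phip Kp.e0 : F) = 0 := by simp [phip, Kp.toNat]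
theorem phip_e1 : (phip Kp.e1 : F) = 1 := by simp [phip, Kp.toNat]
theorem phip_e2 : (phip Kp.e2 : F) = 2 := by simp [phip, Kp.toNat]

variable (ι : F) (hι : ι ^ 2 = 2)

theorem phi_add (x y : Kq) : phi ι (Kq.add x y) = phi ι x + phi ι y := by
  simp only [phi, Kq.add, phip_add]
  ring

include hι in
theorem phi_mul (x y : Kq) : phi ι (Kq.mul x y) = phi ι x * phi ι y := by
  simp only [phi, Kq.mul, phip_add, phip_mul, phip_e2]
  linear_combination (-(phip x.im * phip y.im) : F) * hι

theorem phi_neg (x : Kq) : phi ι (Kq.neg x) = -phi ι x := by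
  simp only [phi, Kq.neg, phip_neg]
  ring

theorem phi_zero : phi ι Kq.zero = 0 := by simp [phi, Kq.zero, phip_e0]
theorem phi_one : phi ι Kq.one = 1 := by simp [phi, Kq.one, phip_e0, phip_e1]
theorem phi_iota : phi ι Kq.iota = ι := by simp [phi, Kq.iota, phip_e0, phip_e1]

include hι in
theorem iota_pow : ι ^ 5 = -ι := by
  have h3 : ((5 : ℕ) : F) = 0 := CharP.cast_eq_zero F 5
  have h3' : (5 : F) = 0 := by exact_mod_cast h3
  calc ι ^ 5 = ι * (ι ^ 2) ^ 2 := by ring
    _ = ι * 2 ^ 2 := by rw [hι]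
    _ = -ι := by linear_combination ι * h3'

include hι in
theorem phi_frob (x : Kq) : phi ι (Kq.frob x) = (phi ι x) ^ 5 := by
  haveI : Fact (Nat.Prime 5) := ⟨by norm_num⟩
  simp only [phi, Kq.frob, phip_neg]
  rw [add_pow_char, mul_pow, phip_pow, phip_pow, iota_pow ι hι]
  ring

include hι in
theorem phi_injective : Function.Injective (phi ι) := by
  intro x y h
  have h1 : (phip (Kp.add x.re (Kp.neg y.re)) : F) + phip (Kp.add x.im (Kp.neg y.im)) * ι = 0 := by
    simp only [phi] at h
    simp only [phip_add, phip_neg]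
    linear_combination h
  have h2 : (phip (Kp.add (Kp.mul (Kp.add x.re (Kp.neg y.re)) (Kp.add x.re (Kp.neg y.re)))
      (Kp.mul (Kp.neg Kp.e2) (Kp.mul (Kp.add x.im (Kp.neg y.im)) (Kp.add x.im (Kp.neg y.im))))) : F) = 0 := by
    simp only [phip_add, phip_mul, phip_neg, phip_e2] at h1 ⊢
    linear_combination (phip x.re - phip y.re - (phip x.im - phip y.im) * ι) * h1 +
      (phip x.im - phip y.im) ^ 2 * hι
  rw [← phip_e0] at h2
  obtain ⟨hr, hm⟩ := Kp_sq_sum _ _ (phip_injective h2)
  have e1 := sub_eq_zero_Kp _ _ hr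
  have e2 := sub_eq_zero_Kp _ _ hm
  cases x
  cases y
  simp only at e1 e2
  rw [e1, e2]

end

section

variable {F : Type*} [Field F] [Fintype F]

theorem phi_surjective (hF : Fintype.card F = 5 ^ 2) (ι : F) (hι : ι ^ 2 = 2) :
    Function.Surjective (phi ι) := by
  haveI := charP_F hF
  have hinj := phi_injective ι hι
  have hcard : Fintype.card Kq = Fintype.card F := by rw [hF, card_Kq]
  exact ((Fintype.bijective_iff_injective_and_card (phi ι)).mpr ⟨hinj, hcard⟩).2

end

/-! ### vectors and matrices -/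

section

variable {F : Type*} [Field F]

/-- the vector of `F^3` of a model vector -/
def vec (ι : F) (v : V3) : Fin 3 → F := ![phi ι v.a, phi ι v.b, phi ι v.c]

/-- the matrix over `F` of a model matrix -/
def mat (ι : F) (A : M3) : Matrix (Fin 3) (Fin 3) F := Matrix.of fun i j => vec ι (A.col j) i

variable [CharP F 5] (ι : F) (hι : ι ^ 2 = 2)

theorem vec_add (v w : V3) : vec ι (V3.add v w) = vec ι v + vec ι w := by
  funext i
  fin_cases i <;> simp [vec, V3.add, phi_add]

include hι in
theorem vec_smul (k : Kq) (v : V3) : vec ι (V3.smul k v) = phi ι k • vec ι v := by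
  funext i
  fin_cases i <;> simp [vec, V3.smul, phi_mul ι hι]

include hι in
theorem vec_frob (v : V3) (i : Fin 3) : vec ι (V3.frob v) i = (vec ι v i) ^ 5 := by
  fin_cases i <;> simp [vec, V3.frob, phi_frob ι hι]

include hι in
theorem phi_dot (v w : V3) : phi ι (V3.dot v w) = ∑ i, vec ι v i * vec ι w i := by
  rw [Fin.sum_univ_three]
  simp [vec, V3.dot, phi_add, phi_mul ι hι]

include hι in
theorem mat_mulVec (A : M3) (v : V3) : mat ι A *ᵥ vec ι v = vec ι (mv A v) := by
  have h : ∀ x : Fin 3 → F, mat ι A *ᵥ x = x 0 • vec ι A.c0 + x 1 • vec ι A.c1 + x 2 • vec ι A.c2 := by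
    intro x
    funext i
    simp only [Matrix.mulVec, dotProduct, mat, Matrix.of_apply, Fin.sum_univ_three, M3.col, Pi.add_apply,
      Pi.smul_apply, smul_eq_mul]
    ring
  rw [h]
  simp only [mv, vec_add, vec_smul ι hι]
  rfl

include hι in
theorem mat_mul (A B : M3) : mat ι A * mat ι B = mat ι (mm A B) := by
  ext i j
  have h := congrFun (mat_mulVec ι hι A (B.col j)) i
  rw [Matrix.mul_apply]
  simp only [Matrix.mulVec, dotProduct] at h
  have hcol : (mm A B).col j = mv A (B.col j) := by
    fin_cases j <;> rfl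
  simp only [mat, Matrix.of_apply, hcol] at h ⊢
  exact h

theorem vec_Id3_col (i : Fin 3) : vec ι (Id3.col i) = Pi.single i 1 := by
  funext k
  fin_cases i <;> fin_cases k <;> simp [vec, Id3, M3.col, phi, phip_e0, phip_e1]

theorem mat_Id3 : mat ι Id3 = 1 := by
  ext i j
  have := congrFun (vec_Id3_col ι j) i
  simp only [mat, Matrix.of_apply, this, Matrix.one_apply, Pi.single_apply]

include hι in
theorem det_mat (A : M3) : (mat ι A).det = phi ι (det3 A) := by
  rw [Matrix.det_fin_three]
  simp only [mat, Matrix.of_apply, vec, M3.col, det3, phi_add, phi_mul ι hι, phi_neg,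
    Matrix.cons_val_zero, Matrix.cons_val_one, Matrix.cons_val]
  ring

include hι in
theorem vec_injective : Function.Injective (vec ι) := by
  intro v w h
  have hinj := phi_injective ι hι
  have h0 := congrFun h 0
  have h1 := congrFun h 1
  have h2' := congrFun h 2
  simp only [vec, Matrix.cons_val_zero, Matrix.cons_val_one, Matrix.cons_val] at h0 h1 h2'
  cases v; cases w
  simp only [V3.mk.injEq]
  exact ⟨hinj h0, hinj h1, hinj h2'⟩

include hι in
theorem mat_injective {A B : M3} (h : mat ι A = mat ι B) : A = B := by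
  have hc : ∀ j : Fin 3, A.col j = B.col j := by
    intro j
    apply vec_injective ι hι
    funext i
    have := congrFun (congrFun h i) j
    simpa [mat] using this
  have h0 := hc 0
  have h1 := hc 1
  have h2' := hc 2
  cases A
  cases B
  simp only [M3.col] at h0 h1 h2'
  simp only [M3.mk.injEq]
  exact ⟨h0, h1, h2'⟩

end

section

variable {F : Type*} [Field F] [Fintype F]

theorem vec_surjective (hF : Fintype.card F = 5 ^ 2) (ι : F) (hι : ι ^ 2 = 2) (c : Fin 3 → F) :
    ∃ v : V3, vec ι v = c := by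
  obtain ⟨x0, hx0⟩ := phi_surjective hF ι hι (c 0)
  obtain ⟨x1, hx1⟩ := phi_surjective hF ι hι (c 1)
  obtain ⟨x2, hx2⟩ := phi_surjective hF ι hι (c 2)
  refine ⟨⟨x0, x1, x2⟩, ?_⟩
  funext i
  fin_cases i
  · exact hx0
  · exact hx1
  · exact hx2

end

end Cfsg.Agent.Lib.Helper10.SU35
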