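import Mathlib
import Cfsg.Agent.Lib.Helper10.SU35Bridge

set_option autoImplicit false
set_option maxHeartbeats 1000000

/-!
# Normalising the Gram sequence of an isometry of order seven of the hermitian space `F^3`, `|F| = 25`
-/

namespace Cfsg.Agent.Lib.Helper10.SU35

open Cfsg.Agent.Lib.Helper10.UH Matrix

section

variable {F : Type*} [Field F] (s : Matrix (Fin 3) (Fin 3) F)

theorem hf_pow (hsU : ∀ u v : Fin 3 → F, hf 5 (s *ᵥ u) (s *ᵥ v) = hf 5 u v) (m : ℕ) (u v : Fin 3 → F) :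
    hf 5 (s ^ m *ᵥ u) (s ^ m *ᵥ v) = hf 5 u v := by
  induction m generalizing u v with
  | zero => simp
  | succ m ih => rw [pow_succ, ← Matrix.mulVec_mulVec, ← Matrix.mulVec_mulVec, ih, hsU]

theorem gram_shift (hsU : ∀ u v : Fin 3 → F, hf 5 (s *ᵥ u) (s *ᵥ v) = hf 5 u v) (hs7 : s ^ 7 = 1)
    (v₀ : Fin 3 → F) (m j : ℕ) (hj : j ≤ 7) :
    hf 5 (s ^ m *ᵥ v₀) (s ^ j *ᵥ v₀) = hf 5 (s ^ (m + 7 - j) *ᵥ v₀) v₀ := by
  rw [← hf_pow s hsU (7 - j) (s ^ m *ᵥ v₀) (s ^ j *ᵥ v₀), Matrix.mulVec_mulVec, Matrix.mulVec_mulVec,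
    ← pow_add, ← pow_add]
  have e1 : 7 - j + j = 7 := by omega
  have e2 : 7 - j + m = m + 7 - j := by omega
  rw [e1, e2, hs7, Matrix.one_mulVec]

theorem gram_period (hs7 : s ^ 7 = 1) (v₀ : Fin 3 → F) (n : ℕ) :
    hf 5 (s ^ (n + 7) *ᵥ v₀) v₀ = hf 5 (s ^ n *ᵥ v₀) v₀ := by
  rw [pow_add, hs7, mul_one]

theorem gram_symm (hq : QF F 5)
    (hsU : ∀ u v : Fin 3 → F, hf 5 (s *ᵥ u) (s *ᵥ v) = hf 5 u v) (hs7 : s ^ 7 = 1)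
    (v₀ : Fin 3 → F) (d : ℕ) (hd : d ≤ 7) :
    hf 5 (s ^ (7 - d) *ᵥ v₀) v₀ = (hf 5 (s ^ d *ᵥ v₀) v₀) ^ 5 := by
  rw [hf_symm hq (by norm_num)]
  have := gram_shift s hsU hs7 v₀ 0 d hd
  rw [pow_zero, Matrix.one_mulVec, zero_add] at this
  exact this.symm

theorem gram_rec (A0 A1 A2 : F) (hs3 : s ^ 3 = A0 • 1 + A1 • s + A2 • s ^ 2) (v₀ : Fin 3 → F)
    (e : ℕ) : hf 5 (s ^ (e + 3) *ᵥ v₀) v₀ = A0 * hf 5 (s ^ e *ᵥ v₀) v₀ + A1 * hf 5 (s ^ (e + 1) *ᵥ v₀) v₀ +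
      A2 * hf 5 (s ^ (e + 2) *ᵥ v₀) v₀ := by
  have : s ^ (e + 3) = A0 • s ^ e + A1 • s ^ (e + 1) + A2 • s ^ (e + 2) := by
    rw [pow_add, hs3]
    simp only [mul_add, mul_one, Matrix.mul_smul, ← pow_add, ← pow_succ]
  rw [this]
  simp only [Matrix.add_mulVec, Matrix.smul_mulVec, hf_add_left, hf_smul_left]

/-- a vector whose Gram sequence is the normal one -/
theorem exists_v1 [Fintype F] (hF : Fintype.card F = 5 ^ 2) (ι : F) (hι : ι ^ 2 = 2)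
    (hsU : ∀ u v : Fin 3 → F, hf 5 (s *ᵥ u) (s *ᵥ v) = hf 5 u v) (hs7 : s ^ 7 = 1)
    (hs3 : s ^ 3 = phi ι ac0 • 1 + phi ι ac1 • s + phi ι ac2 • s ^ 2) :
    ∃ v₁ : Fin 3 → F, hf 5 (s ^ 0 *ᵥ v₁) v₁ = phi ι gamma0.a ∧ hf 5 (s ^ 1 *ᵥ v₁) v₁ = phi ι gamma0.b ∧
      hf 5 (s ^ 2 *ᵥ v₁) v₁ = phi ι gamma0.c := by
  haveI := charP_F hF
  have hq : QF F 5 := QF.of_card (by norm_num) hF
  have hinj := phi_injective ι hι
  obtain ⟨v₀, hv₀⟩ : ∃ v₀ : Fin 3 → F, v₀ = Pi.single 0 1 := ⟨_, rfl⟩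
  obtain ⟨U, hU⟩ : ∃ U : ℕ → Fin 3 → F, ∀ n, U n = s ^ n *ᵥ v₀ := ⟨_, fun _ => rfl⟩
  obtain ⟨γ, hγ⟩ : ∃ γ : ℕ → F, ∀ n, γ n = hf 5 (U n) v₀ := ⟨_, fun _ => rfl⟩
  have hsUn : ∀ d n, s ^ d *ᵥ U n = U (d + n) := by
    intro d n
    rw [hU, hU, Matrix.mulVec_mulVec, ← pow_add]
  have hper : ∀ n, γ (n + 7) = γ n := by
    intro n
    rw [hγ, hγ, hU, hU]
    exact gram_period s hs7 v₀ n
  have hrec : ∀ e, γ (e + 3) = phi ι ac0 * γ e + phi ι ac1 * γ (e + 1) + phi ι ac2 * γ (e + 2) := by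
    intro e
    simp only [hγ, hU]
    exact gram_rec s _ _ _ hs3 v₀ e
  have hsym : ∀ d, d ≤ 7 → γ (7 - d) = (γ d) ^ 5 := by
    intro d hd
    simp only [hγ, hU]
    exact gram_symm s hq hsU hs7 v₀ d hd
  have hUU : ∀ m j, j ≤ 7 → hf 5 (U m) (U j) = γ (m + 7 - j) := by
    intro m j hj
    simp only [hγ, hU]
    exact gram_shift s hsU hs7 v₀ m j hj
  have hg0 : γ 0 = 1 := by
    rw [hγ, hU, pow_zero, Matrix.one_mulVec, hv₀, hf_single_left]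
    simp
  have p7 : γ 7 = γ 0 := hper 0
  have p8 : γ 8 = γ 1 := hper 1
  have p9 : γ 9 = γ 2 := hper 2
  have p10 : γ 10 = γ 3 := hper 3
  have p11 : γ 11 = γ 4 := hper 4
  have s4 : γ 4 = γ 3 ^ 5 := hsym 3 (by norm_num)
  have s5 : γ 5 = γ 2 ^ 5 := hsym 2 (by norm_num)
  have s6 : γ 6 = γ 1 ^ 5 := hsym 1 (by norm_num)
  have R0 : γ 3 = phi ι ac0 * γ 0 + phi ι ac1 * γ 1 + phi ι ac2 * γ 2 := hrec 0
  have R1 : γ 4 = phi ι ac0 * γ 1 + phi ι ac1 * γ 2 + phi ι ac2 * γ 3 := hrec 1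
  have R2 : γ 5 = phi ι ac0 * γ 2 + phi ι ac1 * γ 3 + phi ι ac2 * γ 4 := hrec 2
  have R3 : γ 6 = phi ι ac0 * γ 3 + phi ι ac1 * γ 4 + phi ι ac2 * γ 5 := hrec 3
  have R4 : γ 7 = phi ι ac0 * γ 4 + phi ι ac1 * γ 5 + phi ι ac2 * γ 6 := hrec 4
  have R5 : γ 8 = phi ι ac0 * γ 5 + phi ι ac1 * γ 6 + phi ι ac2 * γ 7 := hrec 5
  have R6 : γ 9 = phi ι ac0 * γ 6 + phi ι ac1 * γ 7 + phi ι ac2 * γ 8 := hrec 6
  rw [p7] at R4
  rw [p8, p7] at R5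
  rw [p9, p7, p8] at R6
  simp only [s4, s5, s6] at R1 R2 R3 R4 R5 R6
  obtain ⟨x0, hx0⟩ := phi_surjective hF ι hι (γ 0)
  obtain ⟨x1, hx1⟩ := phi_surjective hF ι hι (γ 1)
  obtain ⟨x2, hx2⟩ := phi_surjective hF ι hι (γ 2)
  have e3 : phi ι (g3 ⟨x0, x1, x2⟩) = γ 3 := by
    rw [R0]
    simp only [g3, phi_add, phi_mul ι hι, hx0, hx1, hx2]
  have hadm : admissible ⟨x0, x1, x2⟩ = true := by
    simp only [admissible, recs, Bool.and_eq_true, beq_iff_eq, and_assoc]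
    refine ⟨?_, ?_, ?_, ?_, ?_, ?_, ?_, ?_⟩ <;> apply hinj <;>
      simp only [phi_add, phi_mul ι hι, phi_frob ι hι, hx0, hx1, hx2, e3]
    · rw [hg0, one_pow]
    · exact R0.symm
    · exact R1.symm
    · exact R2.symm
    · exact R3.symm
    · exact R4.symm
    · exact R5.symm
    · exact R6.symm
  have hne : (⟨x0, x1, x2⟩ : V3) ≠ V3.zero := by
    intro h
    have h0 : x0 = Kq.zero := congrArg V3.a h
    rw [h0, phi_zero, hg0] at hx0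
    exact zero_ne_one hx0
  have hnorm := normalise_eq x0.re x0.im x1.re x1.im x2.re x2.im hadm hne
  obtain ⟨t, ht⟩ : ∃ t : V3, t = tbl ⟨x0, x1, x2⟩ := ⟨_, rfl⟩
  refine ⟨phi ι t.a • U 0 + phi ι t.b • U 1 + phi ι t.c • U 2, ?_⟩
  rw [← hnorm]
  have hUU0 : ∀ m, hf 5 (U m) (U 0) = γ (m + 7) := fun m => hUU m 0 (by norm_num)
  have hUU1 : ∀ m, hf 5 (U m) (U 1) = γ (m + 6) := fun m => hUU m 1 (by norm_num)
  have hUU2 : ∀ m, hf 5 (U m) (U 2) = γ (m + 5) := fun m => hUU m 2 (by norm_num)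
  refine ⟨?_, ?_, ?_⟩ <;>
    simp only [Matrix.mulVec_add, Matrix.mulVec_smul, hsUn, hf_add_left, hf_add_right hq, hf_smul_left,
      hf_smul_right, hUU0, hUU1, hUU2, Nat.reduceAdd, p7, p8, p9, p10, p11,
      s4, s5, s6, normalise, newg, phi_add, phi_mul ι hι, phi_frob ι hι, hx0, hx1, hx2, e3,
      ← ht] <;>
    ring

end

end Cfsg.Agent.Lib.Helper10.SU35
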