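import Mathlib
import Cfsg.Prelude.Def_ClassicalGeometry
import Cfsg.Agent.Lib.Helper10.SU35Gram

set_option autoImplicit false
set_option maxHeartbeats 1000000

/-!
# The basis `v, s v, s² v` and the model; transporting the model matrices to `F^3`
-/

namespace Cfsg.Agent.Lib.Helper10.SU35

open Cfsg.Agent.Lib.Helper10.UH Matrix

section

variable {F : Type*} [Field F] (s : Matrix (Fin 3) (Fin 3) F)

theorem gram_ge (hsU : ∀ u v : Fin 3 → F, hf 5 (s *ᵥ u) (s *ᵥ v) = hf 5 u v) (v : Fin 3 → F) (i j : ℕ)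
    (h : j ≤ i) : hf 5 (s ^ i *ᵥ v) (s ^ j *ᵥ v) = hf 5 (s ^ (i - j) *ᵥ v) v := by
  have e : i = j + (i - j) := by omega
  conv_lhs => rw [e, pow_add, ← Matrix.mulVec_mulVec]
  exact hf_pow s hsU j _ _

theorem gram_lt (hq : QF F 5)
    (hsU : ∀ u v : Fin 3 → F, hf 5 (s *ᵥ u) (s *ᵥ v) = hf 5 u v) (v : Fin 3 → F) (i j : ℕ)
    (h : i ≤ j) : hf 5 (s ^ i *ᵥ v) (s ^ j *ᵥ v) = (hf 5 (s ^ (j - i) *ᵥ v) v) ^ 5 := by
  rw [← hf_symm hq (by norm_num) (s ^ j *ᵥ v) (s ^ i *ᵥ v), gram_ge s hsU v j i h]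

/-- the Gram matrix of the basis `v₁, s v₁, s² v₁` is the one of the model -/
theorem gram_table [CharP F 5] (hq : QF F 5) (ι : F) (hι : ι ^ 2 = 2)
    (hsU : ∀ u v : Fin 3 → F, hf 5 (s *ᵥ u) (s *ᵥ v) = hf 5 u v) (v₁ : Fin 3 → F)
    (d0 : hf 5 (s ^ 0 *ᵥ v₁) v₁ = phi ι gamma0.a) (d1 : hf 5 (s ^ 1 *ᵥ v₁) v₁ = phi ι gamma0.b)
    (d2 : hf 5 (s ^ 2 *ᵥ v₁) v₁ = phi ι gamma0.c) (i j : Fin 3) :
    hf 5 (s ^ (i : ℕ) *ᵥ v₁) (s ^ (j : ℕ) *ᵥ v₁) = mat ι Gm i j := by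
  have T_0_0 : hf 5 (s ^ 0 *ᵥ v₁) (s ^ 0 *ᵥ v₁) = phi ι gamma0.a := by
    rw [gram_ge s hsU v₁ 0 0 (by norm_num)]; exact d0
  have T_0_1 : hf 5 (s ^ 0 *ᵥ v₁) (s ^ 1 *ᵥ v₁) = phi ι (Kq.frob gamma0.b) := by
    rw [gram_lt s hq hsU v₁ 0 1 (by norm_num), phi_frob ι hι]; exact congrArg (· ^ 5) d1
  have T_0_2 : hf 5 (s ^ 0 *ᵥ v₁) (s ^ 2 *ᵥ v₁) = phi ι (Kq.frob gamma0.c) := by
    rw [gram_lt s hq hsU v₁ 0 2 (by norm_num), phi_frob ι hι]; exact congrArg (· ^ 5) d2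
  have T_1_0 : hf 5 (s ^ 1 *ᵥ v₁) (s ^ 0 *ᵥ v₁) = phi ι gamma0.b := by
    rw [gram_ge s hsU v₁ 1 0 (by norm_num)]; exact d1
  have T_1_1 : hf 5 (s ^ 1 *ᵥ v₁) (s ^ 1 *ᵥ v₁) = phi ι gamma0.a := by
    rw [gram_ge s hsU v₁ 1 1 (by norm_num)]; exact d0
  have T_1_2 : hf 5 (s ^ 1 *ᵥ v₁) (s ^ 2 *ᵥ v₁) = phi ι (Kq.frob gamma0.b) := by
    rw [gram_lt s hq hsU v₁ 1 2 (by norm_num), phi_frob ι hι]; exact congrArg (· ^ 5) d1
  have T_2_0 : hf 5 (s ^ 2 *ᵥ v₁) (s ^ 0 *ᵥ v₁) = phi ι gamma0.c := by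
    rw [gram_ge s hsU v₁ 2 0 (by norm_num)]; exact d2
  have T_2_1 : hf 5 (s ^ 2 *ᵥ v₁) (s ^ 1 *ᵥ v₁) = phi ι gamma0.b := by
    rw [gram_ge s hsU v₁ 2 1 (by norm_num)]; exact d1
  have T_2_2 : hf 5 (s ^ 2 *ᵥ v₁) (s ^ 2 *ᵥ v₁) = phi ι gamma0.a := by
    rw [gram_ge s hsU v₁ 2 2 (by norm_num)]; exact d0
  fin_cases i <;> fin_cases j
  exacts [T_0_0, T_0_1, T_0_2, T_1_0, T_1_1, T_1_2, T_2_0, T_2_1, T_2_2]

/-- the matrix with columns `v, s v, s² v` -/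
def Pmat (v : Fin 3 → F) : Matrix (Fin 3) (Fin 3) F := Matrix.of fun i j => (s ^ (j : ℕ) *ᵥ v) i

theorem Pmat_mulVec_sum (v : Fin 3 → F) (c : Fin 3 → F) :
    Pmat s v *ᵥ c = ∑ j, c j • (s ^ (j : ℕ) *ᵥ v) := by
  funext i
  simp only [Pmat, Matrix.mulVec, dotProduct, Matrix.of_apply, Finset.sum_apply, Pi.smul_apply, smul_eq_mul]
  exact Finset.sum_congr rfl fun j _ => mul_comm _ _

theorem Pmat_mulVec_poly (v : Fin 3 → F) (c : Fin 3 → F) :
    Pmat s v *ᵥ c = (∑ j, c j • s ^ (j : ℕ)) *ᵥ v := by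
  rw [Pmat_mulVec_sum, Matrix.sum_mulVec]
  exact Finset.sum_congr rfl fun j _ => (Matrix.smul_mulVec _ _ _).symm

/-- the form in the coordinates of the basis -/
theorem form_bridge [CharP F 5] (hq : QF F 5) (ι : F) (hι : ι ^ 2 = 2) (v₁ : Fin 3 → F)
    (hGr : ∀ i j : Fin 3, hf 5 (s ^ (i : ℕ) *ᵥ v₁) (s ^ (j : ℕ) *ᵥ v₁) = mat ι Gm i j) (v w : V3) :
    hf 5 (Pmat s v₁ *ᵥ vec ι v) (Pmat s v₁ *ᵥ vec ι w) = phi ι (hG v w) := by
  rw [Pmat_mulVec_sum, Pmat_mulVec_sum, hf_sum_left]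
  simp only [hf_sum_right hq (by norm_num), hf_smul_left, hf_smul_right, hGr]
  rw [hG, phi_dot ι hι, ← mat_mulVec ι hι]
  refine Finset.sum_congr rfl fun i _ => ?_
  simp only [Matrix.mulVec, dotProduct, Finset.mul_sum, vec_frob ι hι]
  exact Finset.sum_congr rfl fun j _ => by ring

end

section

variable {F : Type*} [Field F] (ι : F) (P P' : Matrix (Fin 3) (Fin 3) F)

/-- the matrix over `F` of a model matrix in the basis `P` -/
def cj (A : M3) : Matrix (Fin 3) (Fin 3) F := P * mat ι A * P'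

variable [CharP F 5] (hι : ι ^ 2 = 2)

include hι in
theorem cj_mul (hP'P : P' * P = 1) (A B : M3) :
    cj ι P P' A * cj ι P P' B = cj ι P P' (mm A B) := by
  unfold cj
  rw [← mat_mul ι hι]
  calc P * mat ι A * P' * (P * mat ι B * P') = P * mat ι A * (P' * P) * mat ι B * P' := by
        simp only [mul_assoc]
    _ = P * (mat ι A * mat ι B) * P' := by rw [hP'P, mul_one]; simp only [mul_assoc]

theorem cj_Id3 (hPP' : P * P' = 1) : cj ι P P' Id3 = 1 := by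
  unfold cj
  rw [mat_Id3, mul_one, hPP']

include hι in
theorem cj_mulVec (hP'P : P' * P = 1) (A : M3) (v : V3) :
    cj ι P P' A *ᵥ (P *ᵥ vec ι v) = P *ᵥ vec ι (mv A v) := by
  unfold cj
  rw [Matrix.mulVec_mulVec, mul_assoc, mul_assoc, hP'P, mul_one, ← Matrix.mulVec_mulVec,
    mat_mulVec ι hι]

include hι in
theorem cj_det (hPP' : P * P' = 1) (A : M3) : (cj ι P P' A).det = phi ι (det3 A) := by
  unfold cj
  have h1 : P.det * P'.det = 1 := by rw [← Matrix.det_mul, hPP', Matrix.det_one]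
  rw [Matrix.det_mul, Matrix.det_mul, det_mat ι hι]
  linear_combination (phi ι (det3 A)) * h1

include hι in
theorem cj_injective (hPP' : P * P' = 1) (hP'P : P' * P = 1) {A B : M3}
    (h : cj ι P P' A = cj ι P P' B) : A = B := by
  apply mat_injective ι hι
  have : P' * (P * mat ι A * P') * P = P' * (P * mat ι B * P') * P := by
    unfold cj at h
    rw [h]
  have e : ∀ M : Matrix (Fin 3) (Fin 3) F, P' * (P * M * P') * P = M := by
    intro M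
    calc P' * (P * M * P') * P = (P' * P) * M * (P' * P) := by simp only [mul_assoc]
      _ = M := by rw [hP'P, one_mul, mul_one]
  rwa [e, e] at this

/-- every vector is the image of a model vector -/
theorem exists_model_vec [Fintype F] (hF : Fintype.card F = 5 ^ 2) (hι : ι ^ 2 = 2)
    (hPP' : P * P' = 1) (u : Fin 3 → F) : ∃ v : V3, u = P *ᵥ vec ι v := by
  obtain ⟨v, hv⟩ := vec_surjective hF ι hι (P' *ᵥ u)
  refine ⟨v, ?_⟩
  rw [hv, Matrix.mulVec_mulVec, hPP', Matrix.one_mulVec]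

include hι in
theorem model_vec_injective (hP'P : P' * P = 1)
    {v w : V3} (h : P *ᵥ vec ι v = P *ᵥ vec ι w) : v = w := by
  apply vec_injective ι hι
  have := congrArg (fun u => P' *ᵥ u) h
  simpa only [Matrix.mulVec_mulVec, hP'P, Matrix.one_mulVec] using this

omit [CharP F 5] in
/-- a matrix is unitary as soon as it preserves the Gram matrix of a basis -/
theorem unitary_of_basis (hq : QF F 5) (hPP' : P * P' = 1) (M : Matrix (Fin 3) (Fin 3) F)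
    (h : ∀ i j : Fin 3, hf 5 (M *ᵥ (P *ᵥ Pi.single i 1)) (M *ᵥ (P *ᵥ Pi.single j 1)) =
      hf 5 (P *ᵥ Pi.single i 1) (P *ᵥ Pi.single j 1)) (u v : Fin 3 → F) :
    hf 5 (M *ᵥ u) (M *ᵥ v) = hf 5 u v := by
  have hdec : ∀ u : Fin 3 → F, u = ∑ i, (P' *ᵥ u) i • (P *ᵥ Pi.single i 1) := by
    intro u
    have h1 : P' *ᵥ u = ∑ i, (P' *ᵥ u) i • (Pi.single i 1 : Fin 3 → F) := by
      funext k
      simp [Finset.sum_apply, Pi.single_apply]
    calc u = P *ᵥ (P' *ᵥ u) := by rw [Matrix.mulVec_mulVec, hPP', Matrix.one_mulVec]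
      _ = P *ᵥ (∑ i, (P' *ᵥ u) i • (Pi.single i 1 : Fin 3 → F)) := by rw [← h1]
      _ = _ := by
        rw [Matrix.mulVec_sum]
        exact Finset.sum_congr rfl fun i _ => Matrix.mulVec_smul _ _ _
  rw [hdec u, hdec v]
  simp only [Matrix.mulVec_sum, Matrix.mulVec_smul, hf_sum_left, hf_sum_right hq (by norm_num), hf_smul_left,
    hf_smul_right, h]

include hι in
theorem cj_unitary (hq : QF F 5) (hPP' : P * P' = 1) (hP'P : P' * P = 1)
    (hform : ∀ v w : V3, hf 5 (P *ᵥ vec ι v) (P *ᵥ vec ι w) = phi ι (hG v w)) (A : M3)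
    (hA : ∀ i j : Fin 3, hG (mv A (Id3.col i)) (mv A (Id3.col j)) = hG (Id3.col i) (Id3.col j))
    (u v : Fin 3 → F) : hf 5 (cj ι P P' A *ᵥ u) (cj ι P P' A *ᵥ v) = hf 5 u v := by
  apply unitary_of_basis P P' hq hPP'
  intro i j
  rw [← vec_Id3_col ι i, ← vec_Id3_col ι j, cj_mulVec ι P P' hι hP'P, cj_mulVec ι P P' hι hP'P,
    hform, hform, hA]

end

section Stab

variable {F : Type*} [Field F] {n : ℕ}

/-- an invertible matrix mapping a finite set into itself stabilises it -/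
theorem mem_stabilizing_of_mapsTo (g : Matrix.GeneralLinearGroup (Fin n) F) (S : Set (Fin n → F))
    (hS : S.Finite) (h : ∀ w ∈ S, (g : Matrix (Fin n) (Fin n) F) *ᵥ w ∈ S) :
    g ∈ Cfsg.stabilizing (Cfsg.glToMat (Fin n) F) S := by
  intro v
  show v ∈ S ↔ (g : Matrix (Fin n) (Fin n) F) *ᵥ v ∈ S
  refine ⟨h v, fun hv => ?_⟩
  haveI : Finite ↥S := hS.to_subtype
  have hginj : ∀ w w' : Fin n → F, (g : Matrix (Fin n) (Fin n) F) *ᵥ w =
      (g : Matrix (Fin n) (Fin n) F) *ᵥ w' → w = w' := by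
    intro w w' hww
    have := congrArg (fun u => ((g⁻¹ : Matrix.GeneralLinearGroup (Fin n) F) : Matrix (Fin n) (Fin n) F) *ᵥ u) hww
    simpa only [Matrix.mulVec_mulVec, ← Units.val_mul, inv_mul_cancel, Units.val_one,
      Matrix.one_mulVec] using this
  let f : ↥S → ↥S := fun w => ⟨(g : Matrix (Fin n) (Fin n) F) *ᵥ w.1, h w.1 w.2⟩
  have hf : Function.Injective f := by
    intro w w' hww
    exact Subtype.ext (hginj _ _ (congrArg Subtype.val hww))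
  obtain ⟨w, hw⟩ := Finite.surjective_of_injective hf ⟨_, hv⟩
  have : w.1 = v := hginj _ _ (congrArg Subtype.val hw)
  rw [← this]
  exact w.2

theorem pow_mapsTo (M : Matrix (Fin n) (Fin n) F) (S : Set (Fin n → F)) (h : ∀ w ∈ S, M *ᵥ w ∈ S)
    (k : ℕ) : ∀ w ∈ S, M ^ k *ᵥ w ∈ S := by
  induction k with
  | zero => intro w hw; simpa using hw
  | succ k ih =>
    intro w hw
    rw [pow_succ, ← Matrix.mulVec_mulVec]
    exact ih _ (h w hw)

end Stab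

end Cfsg.Agent.Lib.Helper10.SU35
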