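import Mathlib
import Cfsg.Prelude.Def_GeometricClasses

set_option autoImplicit false

/-!
# SU_6(2): the stabiliser of an orthonormal frame is not maximal

`3^5 : S_6 < 3.U_4(3):2 < SU_6(2)`: the overgroup is the stabiliser of the 126 "root points"
(378 vectors: weight 2, or weight 6 with product of the coordinates equal to 1, in the coordinates of the
frame), which is invariant under the monomial group of determinant 1 and under the unitary transvection
with centre the all-ones vector, but not under `SU_6(2)`.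
-/

namespace Cfsg.Agent.Lib.Helper10.SUMLeaf

open Matrix

/-! ### The model of `GF(4)` -/

inductive K4 : Type
  | z | o | w | w2
  deriving DecidableEq

instance : Fintype K4 := ⟨⟨[K4.z, K4.o, K4.w, K4.w2], by decide⟩, by intro x; cases x <;> decide⟩

namespace K4

def add : K4 → K4 → K4
  | z, x => x
  | x, z => x
  | o, o => z
  | o, w => w2
  | o, w2 => w
  | w, o => w2
  | w, w => z
  | w, w2 => o
  | w2, o => w
  | w2, w => o
  | w2, w2 => z

def mul : K4 → K4 → K4
  | z, _ => z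
  | _, z => z
  | o, x => x
  | x, o => x
  | w, w => w2
  | w, w2 => o
  | w2, w => o
  | w2, w2 => w

def nz : K4 → ℕ
  | z => 0
  | _ => 1

def rpat (c0 c1 c2 c3 c4 c5 : K4) : Bool :=
  (nz c0 + nz c1 + nz c2 + nz c3 + nz c4 + nz c5 == 2) ||
  ((nz c0 + nz c1 + nz c2 + nz c3 + nz c4 + nz c5 == 6) &&
    (mul (mul (mul (mul (mul c0 c1) c2) c3) c4) c5 == o))

def sum6 (c0 c1 c2 c3 c4 c5 : K4) : K4 := add (add (add (add (add c0 c1) c2) c3) c4) c5

theorem model_fact : ∀ c0 c1 c2 c3 c4 c5 : K4, rpat c0 c1 c2 c3 c4 c5 = true →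
    rpat (add c0 (sum6 c0 c1 c2 c3 c4 c5)) (add c1 (sum6 c0 c1 c2 c3 c4 c5))
      (add c2 (sum6 c0 c1 c2 c3 c4 c5)) (add c3 (sum6 c0 c1 c2 c3 c4 c5))
      (add c4 (sum6 c0 c1 c2 c3 c4 c5)) (add c5 (sum6 c0 c1 c2 c3 c4 c5)) = true := by
  decide

end K4

/-! ### Fields with four elements -/

section Field4

variable {F : Type*} [Field F] [Fintype F]

theorem two_eq_zero (hF : Fintype.card F = 2 ^ 2) : (2 : F) = 0 := by
  have h4 : ((Fintype.card F : ℕ) : F) = 0 := Nat.cast_card_eq_zero F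
  rw [hF] at h4
  have h : (2 : F) * 2 = 0 := by
    push_cast at h4
    linear_combination h4
  exact mul_self_eq_zero.mp h

theorem pow_four (hF : Fintype.card F = 2 ^ 2) (x : F) : x ^ 4 = x := by
  have h := FiniteField.pow_card x
  rw [hF] at h
  simpa using h

theorem exists_omega (hF : Fintype.card F = 2 ^ 2) : ∃ a : F, a ≠ 0 ∧ a ≠ 1 ∧ a ^ 2 = a + 1 := by
  classical
  have h2 := two_eq_zero hF
  have hlt : ({0, 1} : Finset F).card < (Finset.univ : Finset F).card := by
    rw [Finset.card_univ, hF]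
    calc ({0, 1} : Finset F).card ≤ 2 := Finset.card_le_two
      _ < 2 ^ 2 := by norm_num
  obtain ⟨a, -, ha⟩ := Finset.exists_mem_notMem_of_card_lt_card hlt
  simp only [Finset.mem_insert, Finset.mem_singleton, not_or] at ha
  obtain ⟨ha0, ha1⟩ := ha
  refine ⟨a, ha0, ha1, ?_⟩
  have h4 := pow_four hF a
  have h3 : a ^ 3 = 1 := by
    have : a * a ^ 3 = a * 1 := by rw [mul_one]; linear_combination h4
    exact mul_left_cancel₀ ha0 this
  have hfac : (a - 1) * (a ^ 2 - (a + 1)) = 0 := by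
    linear_combination h3 + (1 - a ^ 2) * h2
  rcases mul_eq_zero.mp hfac with h | h
  · exact absurd (sub_eq_zero.mp h) ha1
  · exact sub_eq_zero.mp h

/-- The map from the model to `F` attached to a root `a` of `x² = x + 1`. -/
def phi (a : F) : K4 → F
  | K4.z => 0
  | K4.o => 1
  | K4.w => a
  | K4.w2 => a + 1

omit [Fintype F] in
theorem phi_add (h2 : (2 : F) = 0) (a : F) (x y : K4) :
    phi a (K4.add x y) = phi a x + phi a y := by
  cases x <;> cases y <;> simp only [K4.add, phi] <;>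
    first
      | ring1
      | linear_combination (-1 : F) * h2
      | linear_combination (-a) * h2
      | linear_combination (-a) * h2 - h2

omit [Fintype F] in
theorem phi_mul (h2 : (2 : F) = 0) (a : F) (ha : a ^ 2 = a + 1) (x y : K4) :
    phi a (K4.mul x y) = phi a x * phi a y := by
  cases x <;> cases y <;> simp only [K4.mul, phi] <;>
    first
      | ring1
      | linear_combination (-1 : F) * ha
      | linear_combination (-1 : F) * ha - h2 * a - h2
      | linear_combination (-1 : F) * ha - h2 * a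

omit [Fintype F] in
theorem phi_injective (a : F) (ha0 : a ≠ 0) (ha1 : a ≠ 1) (h2 : (2 : F) = 0) :
    Function.Injective (phi a) := by
  have h1 : a + 1 ≠ 0 := fun h => ha1 (by linear_combination h - h2)
  have h3 : a + 1 ≠ 1 := fun h => ha0 (by linear_combination h)
  have h4 : a + 1 ≠ a := fun h => one_ne_zero (α := F) (by linear_combination h)
  intro x y hxy
  cases x <;> cases y <;> simp only [phi] at hxy <;>
    first
      | rfl
      | exact absurd hxy zero_ne_one
      | exact absurd hxy.symm zero_ne_one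
      | exact absurd hxy ha0
      | exact absurd hxy.symm ha0
      | exact absurd hxy ha1
      | exact absurd hxy.symm ha1
      | exact absurd hxy h1
      | exact absurd hxy.symm h1
      | exact absurd hxy h3
      | exact absurd hxy.symm h3
      | exact absurd hxy h4
      | exact absurd hxy.symm h4

theorem phi_surjective (hF : Fintype.card F = 2 ^ 2) (a : F) (ha0 : a ≠ 0) (ha1 : a ≠ 1) :
    Function.Surjective (phi a) := by
  have hinj := phi_injective a ha0 ha1 (two_eq_zero hF)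
  have hcard : Fintype.card K4 = Fintype.card F := by rw [hF]; rfl
  exact ((Fintype.bijective_iff_injective_and_card (phi a)).mpr ⟨hinj, hcard⟩).2

open scoped Classical in
/-- The weight of a coordinate vector. -/
noncomputable def wtF (c : Fin 6 → F) : ℕ := ∑ i, (if c i = 0 then 0 else 1 : ℕ)

/-- The pattern of the 378 root vectors. -/
def RpatF (c : Fin 6 → F) : Prop := wtF c = 2 ∨ (wtF c = 6 ∧ ∏ i, c i = 1)

open scoped Classical in
omit [Fintype F] in
theorem ite_phi (a : F) (ha0 : a ≠ 0) (ha1 : a ≠ 1) (h2 : (2 : F) = 0) (k : K4) :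
    (if phi a k = 0 then 0 else 1 : ℕ) = K4.nz k := by
  have h1 : a + 1 ≠ 0 := fun h => ha1 (by linear_combination h - h2)
  cases k <;> simp [phi, K4.nz, ha0, h1]

omit [Fintype F] in
theorem rpatF_phi (a : F) (ha0 : a ≠ 0) (ha1 : a ≠ 1) (h2 : (2 : F) = 0) (ha : a ^ 2 = a + 1)
    (c : Fin 6 → K4) :
    RpatF (fun i => phi a (c i)) ↔ K4.rpat (c 0) (c 1) (c 2) (c 3) (c 4) (c 5) = true := by
  have hw : wtF (fun i => phi a (c i)) =
      K4.nz (c 0) + K4.nz (c 1) + K4.nz (c 2) + K4.nz (c 3) + K4.nz (c 4) + K4.nz (c 5) := by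
    unfold wtF
    rw [Fin.sum_univ_six]
    simp only [ite_phi a ha0 ha1 h2]
  have hp : ∏ i, phi a (c i) =
      phi a (K4.mul (K4.mul (K4.mul (K4.mul (K4.mul (c 0) (c 1)) (c 2)) (c 3)) (c 4)) (c 5)) := by
    rw [Fin.prod_univ_six]
    simp only [phi_mul h2 a ha]
  have h1 : ∀ k : K4, phi a k = 1 ↔ k = K4.o := by
    intro k
    constructor
    · intro h
      exact phi_injective a ha0 ha1 h2 (h.trans rfl)
    · rintro rfl
      rfl
  unfold RpatF K4.rpat
  rw [hw, hp, h1]
  simp only [Bool.or_eq_true, Bool.and_eq_true, beq_iff_eq]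

theorem rpat_shift (hF : Fintype.card F = 2 ^ 2) (c : Fin 6 → F) (hc : RpatF c) :
    RpatF (fun i => c i + ∑ j, c j) := by
  obtain ⟨a, ha0, ha1, ha⟩ := exists_omega hF
  have h2 := two_eq_zero hF
  have hsurj := phi_surjective hF a ha0 ha1
  choose c' hc' using fun i => hsurj (c i)
  have hceq : c = fun i => phi a (c' i) := funext fun i => (hc' i).symm
  rw [hceq] at hc ⊢
  rw [rpatF_phi a ha0 ha1 h2 ha] at hc
  have hs : (fun i => phi a (c' i) + ∑ j, phi a (c' j)) =
      fun i => phi a ((fun i => K4.add (c' i)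
        (K4.sum6 (c' 0) (c' 1) (c' 2) (c' 3) (c' 4) (c' 5))) i) := by
    funext i
    rw [Fin.sum_univ_six]
    simp only [K4.sum6, phi_add h2]
  rw [hs, rpatF_phi a ha0 ha1 h2 ha]
  exact K4.model_fact _ _ _ _ _ _ hc

end Field4

/-! ### The hermitian form over a field with four elements -/

section Herm

variable {F : Type*} [Field F]

/-- The form `Σ u_i v_i²`. -/
abbrev hf (u v : Fin 6 → F) : F := Cfsg.hermForm 6 F 2 u v

theorem hf_def (u v : Fin 6 → F) : hf u v = ∑ i, u i * (v i) ^ 2 := rfl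

theorem add_sq2 (h2 : (2 : F) = 0) (a b : F) : (a + b) ^ 2 = a ^ 2 + b ^ 2 := by
  linear_combination (a * b) * h2

theorem sum_sq2 (h2 : (2 : F) = 0) {κ : Type*} (s : Finset κ) (f : κ → F) :
    (∑ i ∈ s, f i) ^ 2 = ∑ i ∈ s, (f i) ^ 2 := by
  classical
  induction s using Finset.induction_on with
  | empty => simp
  | insert a s ha ih => rw [Finset.sum_insert ha, Finset.sum_insert ha, add_sq2 h2, ih]

theorem hf_add_left (x y v : Fin 6 → F) : hf (x + y) v = hf x v + hf y v := by
  simp only [hf_def, Pi.add_apply, add_mul, Finset.sum_add_distrib]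

theorem hf_smul_left (a : F) (x v : Fin 6 → F) : hf (a • x) v = a * hf x v := by
  simp only [hf_def, Pi.smul_apply, smul_eq_mul, Finset.mul_sum, mul_assoc]

theorem hf_sum_left {κ : Type*} (s : Finset κ) (w : κ → Fin 6 → F) (v : Fin 6 → F) :
    hf (∑ j ∈ s, w j) v = ∑ j ∈ s, hf (w j) v := by
  classical
  induction s using Finset.induction_on with
  | empty => simp [hf_def]
  | insert a s ha ih => rw [Finset.sum_insert ha, Finset.sum_insert ha, hf_add_left, ih]

theorem hf_add_right (h2 : (2 : F) = 0) (x u v : Fin 6 → F) : hf x (u + v) = hf x u + hf x v := by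
  simp only [hf_def, Pi.add_apply, add_sq2 h2, mul_add, Finset.sum_add_distrib]

theorem hf_smul_right (a : F) (x v : Fin 6 → F) : hf x (a • v) = a ^ 2 * hf x v := by
  simp only [hf_def, Pi.smul_apply, smul_eq_mul, Finset.mul_sum, mul_pow]
  exact Finset.sum_congr rfl fun i _ => by ring

theorem hf_sum_right (h2 : (2 : F) = 0) {κ : Type*} (s : Finset κ) (x : Fin 6 → F)
    (w : κ → Fin 6 → F) : hf x (∑ j ∈ s, w j) = ∑ j ∈ s, hf x (w j) := by
  classical
  induction s using Finset.induction_on with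
  | empty => simp [hf_def]
  | insert a s ha ih => rw [Finset.sum_insert ha, Finset.sum_insert ha, hf_add_right h2, ih]

theorem hf_symm (h2 : (2 : F) = 0) (h4 : ∀ x : F, x ^ 4 = x) (u v : Fin 6 → F) :
    (hf u v) ^ 2 = hf v u := by
  rw [hf_def, sum_sq2 h2, hf_def]
  refine Finset.sum_congr rfl fun i _ => ?_
  have := h4 (v i)
  calc (u i * v i ^ 2) ^ 2 = u i ^ 2 * (v i) ^ 4 := by ring
    _ = v i * u i ^ 2 := by rw [this]; ring

/-- The matrix of the unitary transvection with centre `u`. -/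
def tvMat (u : Fin 6 → F) : Matrix (Fin 6) (Fin 6) F :=
  1 + Matrix.of fun i j => u i * (u j) ^ 2

theorem tvMat_mulVec (u x : Fin 6 → F) : tvMat u *ᵥ x = x + hf x u • u := by
  rw [tvMat, Matrix.add_mulVec, Matrix.one_mulVec]
  congr 1
  funext i
  simp only [Pi.smul_apply, smul_eq_mul, Matrix.mulVec, dotProduct, Matrix.of_apply, hf_def,
    Finset.sum_mul]
  exact Finset.sum_congr rfl fun j _ => by ring

theorem tvMat_sq (h2 : (2 : F) = 0) (u : Fin 6 → F) (hu : hf u u = 0) : tvMat u * tvMat u = 1 := by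
  have hN : (Matrix.of fun i j => u i * (u j) ^ 2 : Matrix (Fin 6) (Fin 6) F) *
      (Matrix.of fun i j => u i * (u j) ^ 2) = 0 := by
    ext i j
    simp only [Matrix.mul_apply, Matrix.of_apply, Matrix.zero_apply]
    have : ∑ k, u i * u k ^ 2 * (u k * u j ^ 2) = (u i * u j ^ 2) * hf u u := by
      rw [hf_def, Finset.mul_sum]
      exact Finset.sum_congr rfl fun k _ => by ring
    rw [this, hu, mul_zero]
  unfold tvMat
  rw [add_mul, mul_add, mul_add, hN, one_mul, mul_one, one_mul, add_zero]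
  have : ∀ M : Matrix (Fin 6) (Fin 6) F, 1 + M + M = 1 := by
    intro M
    rw [add_assoc, ← two_smul F M, h2, zero_smul, add_zero]
  exact this _

/-- The unitary transvection with isotropic centre `u`, as an element of the general linear group. -/
def tv (h2 : (2 : F) = 0) (u : Fin 6 → F) (hu : hf u u = 0) : Matrix.GeneralLinearGroup (Fin 6) F :=
  ⟨tvMat u, tvMat u, tvMat_sq h2 u hu, tvMat_sq h2 u hu⟩

theorem tv_mulVec (h2 : (2 : F) = 0) (u : Fin 6 → F) (hu : hf u u = 0) (x : Fin 6 → F) :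
    ((tv h2 u hu : Matrix.GeneralLinearGroup (Fin 6) F) : Matrix (Fin 6) (Fin 6) F) *ᵥ x =
      x + hf x u • u := tvMat_mulVec u x

theorem tv_mem_GU (h2 : (2 : F) = 0) (h4 : ∀ x : F, x ^ 4 = x) (u : Fin 6 → F) (hu : hf u u = 0) :
    tv h2 u hu ∈ Cfsg.GU 6 F 2 := by
  intro x y
  show hf (tvMat u *ᵥ x) (tvMat u *ᵥ y) = hf x y
  rw [tvMat_mulVec, tvMat_mulVec, hf_add_left, hf_add_right h2, hf_add_right h2, hf_smul_left,
    hf_smul_right, hf_smul_right, hf_smul_left, hu, hf_symm h2 h4 y u]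
  linear_combination (hf x u * hf u y) * h2

theorem tv_mem_SL (h2 : (2 : F) = 0) (u : Fin 6 → F) (hu : hf u u = 0) :
    tv h2 u hu ∈ Cfsg.Geo.specialLinear (Fin 6) F := by
  show Matrix.GeneralLinearGroup.det (tv h2 u hu) = 1
  have hsq : tv h2 u hu * tv h2 u hu = 1 := Units.ext (tvMat_sq h2 u hu)
  have hd : Matrix.GeneralLinearGroup.det (tv h2 u hu) * Matrix.GeneralLinearGroup.det (tv h2 u hu) = 1 := by
    rw [← map_mul, hsq, map_one]
  have hd' : ((Matrix.GeneralLinearGroup.det (tv h2 u hu) : Fˣ) : F) *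
      ((Matrix.GeneralLinearGroup.det (tv h2 u hu) : Fˣ) : F) = 1 := by
    rw [← Units.val_mul, hd, Units.val_one]
  apply Units.ext
  rw [Units.val_one]
  have : (((Matrix.GeneralLinearGroup.det (tv h2 u hu) : Fˣ) : F) - 1) *
      (((Matrix.GeneralLinearGroup.det (tv h2 u hu) : Fˣ) : F) - 1) = 0 := by
    linear_combination hd' - ((Matrix.GeneralLinearGroup.det (tv h2 u hu) : Fˣ) : F) * h2 + h2
  exact sub_eq_zero.mp (mul_self_eq_zero.mp this)

end Herm

/-! ### Frames and the root set -/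

section Main

variable {F : Type*} [Field F] [Fintype F]

/-- The vectors `v i` are orthonormal. -/
def IsON (v : Fin 6 → Fin 6 → F) : Prop := ∀ i j, hf (v i) (v j) = if i = j then 1 else 0

/-- The set of root vectors relative to the frame `v`. -/
def rootSet (v : Fin 6 → Fin 6 → F) : Set (Fin 6 → F) := {x | RpatF fun i => hf x (v i)}

omit [Fintype F] in
theorem rpatF_monomial (τ : Equiv.Perm (Fin 6)) (μ : Fin 6 → F) (hμ : ∀ i, μ i ≠ 0)
    (hprod : ∏ i, μ i = 1) (c : Fin 6 → F) : RpatF (fun i => μ i * c (τ i)) ↔ RpatF c := by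
  classical
  have hw : wtF (fun i => μ i * c (τ i)) = wtF c := by
    unfold wtF
    simp only [mul_eq_zero, hμ, false_or]
    exact Equiv.sum_comp τ (fun i => if c i = 0 then 0 else 1)
  have hp : ∏ i, μ i * c (τ i) = ∏ i, c i := by
    rw [Finset.prod_mul_distrib, hprod, one_mul]
    exact Equiv.prod_comp τ c
  unfold RpatF
  rw [hw, hp]

theorem exists_frame (hF : Fintype.card F = 2 ^ 2) (D : Fin 6 → Submodule F (Fin 6 → F))
    (hD : Cfsg.Geo.IsNondegenerateMDecomposition (Cfsg.hermForm 6 F 2) 1 D) :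
    ∃ v : Fin 6 → Fin 6 → F, IsON v ∧ (∀ i, v i ∈ D i) ∧ ∀ i, ∀ w ∈ D i, ∃ a : F, w = a • v i := by
  have h2 := two_eq_zero hF
  have h4 := pow_four hF
  have hex : ∀ i, ∃ v : Fin 6 → F, v ∈ D i ∧ v ≠ 0 ∧ ∀ w ∈ D i, ∃ a : F, w = a • v := by
    intro i
    obtain ⟨v, hv0, hv⟩ := finrank_eq_one_iff'.mp (hD.decomp.finrank_eq i)
    refine ⟨v.1, v.2, fun h => hv0 (Subtype.ext h), fun w hw => ?_⟩
    obtain ⟨a, ha⟩ := hv ⟨w, hw⟩
    exact ⟨a, (congrArg Subtype.val ha).symm⟩
  choose v hvD hv0 hspan using hex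
  refine ⟨v, ?_, hvD, hspan⟩
  intro i j
  by_cases hij : i = j
  · subst hij
    rw [if_pos rfl]
    obtain ⟨⟨x, hx, hxv⟩, -⟩ := hD.nondegenerate i (v i) (hvD i) (hv0 i)
    obtain ⟨a, rfl⟩ := hspan i x hx
    have hn0 : hf (v i) (v i) ≠ 0 := by
      intro h
      apply hxv
      show hf (a • v i) (v i) = 0
      rw [hf_smul_left, h, mul_zero]
    have hsq := hf_symm h2 h4 (v i) (v i)
    have : hf (v i) (v i) * (hf (v i) (v i) - 1) = 0 := by linear_combination hsq
    rcases mul_eq_zero.mp this with h | h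
    · exact absurd h hn0
    · exact sub_eq_zero.mp h
  · rw [if_neg hij]
    exact hD.orthogonal i j hij (v i) (hvD i) (v j) (hvD j)

omit [Fintype F] in
theorem sign_cast (h2 : (2 : F) = 0) (σ : Equiv.Perm (Fin 6)) :
    (((Equiv.Perm.sign σ : ℤˣ) : ℤ) : F) = 1 := by
  rcases Int.units_eq_one_or (Equiv.Perm.sign σ) with h | h
  · rw [h]; simp
  · rw [h]
    simp only [Units.val_neg, Units.val_one, Int.cast_neg, Int.cast_one]
    linear_combination (-1 : F) * h2

omit [Fintype F] in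
theorem frame_det_ne_zero (v : Fin 6 → Fin 6 → F) (hv : IsON v) :
    (Matrix.of fun a i => v i a : Matrix (Fin 6) (Fin 6) F).det ≠ 0 := by
  classical
  have hmul : (Matrix.of fun a i => v i a : Matrix (Fin 6) (Fin 6) F)ᵀ *
      (Matrix.of fun a i => (v i a) ^ 2 : Matrix (Fin 6) (Fin 6) F) = 1 := by
    ext i j
    simp only [Matrix.mul_apply, Matrix.transpose_apply, Matrix.of_apply, Matrix.one_apply]
    exact hv i j
  intro h0
  have := congrArg Matrix.det hmul
  rw [Matrix.det_mul, Matrix.det_transpose, h0, zero_mul, Matrix.det_one] at this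
  exact zero_ne_one this

theorem decomp_coords (hF : Fintype.card F = 2 ^ 2) (D : Fin 6 → Submodule F (Fin 6 → F))
    (v : Fin 6 → Fin 6 → F) (hv : IsON v) (hvD : ∀ i, v i ∈ D i)
    (hspan : ∀ i, ∀ w ∈ D i, ∃ a : F, w = a • v i)
    (g : Matrix.GeneralLinearGroup (Fin 6) F)
    (hgD : g ∈ Cfsg.Geo.decompositionStabilizer D) (hgU : g ∈ Cfsg.GU 6 F 2)
    (hgS : g ∈ Cfsg.Geo.specialLinear (Fin 6) F) :
    ∃ (τ : Equiv.Perm (Fin 6)) (μ : Fin 6 → F), (∀ i, μ i ≠ 0) ∧ ∏ i, μ i = 1 ∧
      ∀ x i, hf ((g : Matrix (Fin 6) (Fin 6) F) *ᵥ x) (v i) = μ i * hf x (v (τ i)) := by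
  classical
  have h2 := two_eq_zero hF
  obtain ⟨σ, hσ⟩ := hgD
  have hgv : ∀ i, ∃ a : F, (g : Matrix (Fin 6) (Fin 6) F) *ᵥ v i = a • v (σ i) := by
    intro i
    apply hspan (σ i)
    rw [← hσ i]
    exact ⟨v i, hvD i, by rw [Matrix.toLin'_apply]⟩
  choose lam hlam using hgv
  have hU : ∀ x y, hf ((g : Matrix (Fin 6) (Fin 6) F) *ᵥ x) ((g : Matrix (Fin 6) (Fin 6) F) *ᵥ y) =
      hf x y := hgU
  have hlam3 : ∀ i, lam i * lam i ^ 2 = 1 := by
    intro i
    have h := hU (v i) (v i)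
    rw [hlam i, hf_smul_left, hf_smul_right, hv, hv, if_pos rfl, if_pos rfl] at h
    linear_combination h
  have hlam0 : ∀ i, lam i ≠ 0 := by
    intro i h
    have := hlam3 i
    rw [h] at this
    simp at this
  -- the determinant
  have hdet : (g : Matrix (Fin 6) (Fin 6) F).det = 1 := by
    have : Matrix.GeneralLinearGroup.det g = 1 := hgS
    have h := congrArg (fun u : Fˣ => (u : F)) this
    simpa using h
  have hprod : ∏ i, lam i = 1 := by
    set P : Matrix (Fin 6) (Fin 6) F := Matrix.of fun a i => v i a with hP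
    have hgP : (g : Matrix (Fin 6) (Fin 6) F) * P =
        Matrix.of fun a i => lam i * (P.submatrix id σ) a i := by
      ext a i
      have := congrFun (hlam i) a
      simp only [Matrix.mulVec, dotProduct, Pi.smul_apply, smul_eq_mul] at this
      simp only [Matrix.mul_apply, Matrix.of_apply, Matrix.submatrix_apply, id, hP]
      exact this
    have h := congrArg Matrix.det hgP
    rw [Matrix.det_mul, hdet, one_mul, Matrix.det_mul_row, Matrix.det_permute', sign_cast h2,
      one_mul] at h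
    have hP0 : P.det ≠ 0 := frame_det_ne_zero v hv
    have : (∏ i, lam i - 1) * P.det = 0 := by linear_combination -h
    rcases mul_eq_zero.mp this with h' | h'
    · exact sub_eq_zero.mp h'
    · exact absurd h' hP0
  refine ⟨σ.symm, fun j => (lam (σ.symm j) ^ 2)⁻¹, fun j => inv_ne_zero (pow_ne_zero 2 (hlam0 _)),
    ?_, ?_⟩
  · have h1 : ∏ j, (lam (σ.symm j) ^ 2)⁻¹ = ∏ i, (lam i ^ 2)⁻¹ :=
      Equiv.prod_comp σ.symm (fun i => (lam i ^ 2)⁻¹)
    rw [h1, Finset.prod_inv_distrib, Finset.prod_pow, hprod, one_pow, inv_one]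
  · intro x j
    have h := hU x (v (σ.symm j))
    rw [hlam, hf_smul_right, Equiv.apply_symm_apply] at h
    rw [← h, ← mul_assoc, inv_mul_cancel₀ (pow_ne_zero 2 (hlam0 _)), one_mul]

omit [Fintype F] in
theorem hf_frameSum_left (v : Fin 6 → Fin 6 → F) (hv : IsON v) (S : Finset (Fin 6)) (i : Fin 6) :
    hf (∑ j ∈ S, v j) (v i) = if i ∈ S then 1 else 0 := by
  classical
  have hv' : ∀ i j, hf (v i) (v j) = if i = j then 1 else 0 := hv
  rw [hf_sum_left]
  simp only [hv']
  rw [Finset.sum_ite_eq' S i]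

omit [Fintype F] in
theorem hf_frameSum_right (h2 : (2 : F) = 0) (v : Fin 6 → Fin 6 → F) (S : Finset (Fin 6))
    (x : Fin 6 → F) : hf x (∑ j ∈ S, v j) = ∑ j ∈ S, hf x (v j) := hf_sum_right h2 S x v

omit [Fintype F] in
theorem hf_frameSum_self (h2 : (2 : F) = 0) (v : Fin 6 → Fin 6 → F) (hv : IsON v)
    (S : Finset (Fin 6)) : hf (∑ j ∈ S, v j) (∑ j ∈ S, v j) = (S.card : F) := by
  classical
  rw [hf_frameSum_right h2]
  simp only [hf_frameSum_left v hv]
  rw [Finset.sum_ite_mem, Finset.inter_self, Finset.sum_const, nsmul_eq_mul, mul_one]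

omit [Fintype F] in
/-- Coordinates of the image under the transvection with centre `∑ j ∈ S, v j`. -/
theorem tv_coords (h2 : (2 : F) = 0) (v : Fin 6 → Fin 6 → F) (hv : IsON v) (S : Finset (Fin 6))
    (hS : hf (∑ j ∈ S, v j) (∑ j ∈ S, v j) = 0) (x : Fin 6 → F) (i : Fin 6) :
    hf (((tv h2 (∑ j ∈ S, v j) hS : Matrix.GeneralLinearGroup (Fin 6) F) :
      Matrix (Fin 6) (Fin 6) F) *ᵥ x) (v i) =
      hf x (v i) + (∑ j ∈ S, hf x (v j)) * (if i ∈ S then 1 else 0) := by
  rw [tv_mulVec, hf_add_left, hf_smul_left, hf_frameSum_left v hv, hf_frameSum_right h2]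

theorem su6_two_frame_not_max (hF : Fintype.card F = 2 ^ 2) (D : Fin 6 → Submodule F (Fin 6 → F))
    (hD : Cfsg.Geo.IsNondegenerateMDecomposition (Cfsg.hermForm 6 F 2) 1 D) :
    ¬ Cfsg.Geo.IsMaximalIn (Cfsg.GU 6 F 2 ⊓ Cfsg.Geo.specialLinear (Fin 6) F)
      (Cfsg.Geo.decompositionStabilizer D ⊓ (Cfsg.GU 6 F 2 ⊓ Cfsg.Geo.specialLinear (Fin 6) F)) := by
  classical
  rintro ⟨-, hmax⟩
  have h2 := two_eq_zero hF
  have h4 := pow_four hF
  obtain ⟨v, hv, hvD, hspan⟩ := exists_frame hF D hD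
  -- the overgroup
  have hNX : Cfsg.Geo.decompositionStabilizer D ⊓ (Cfsg.GU 6 F 2 ⊓ Cfsg.Geo.specialLinear (Fin 6) F) ≤
      Cfsg.stabilizing (Cfsg.glToMat (Fin 6) F) (rootSet v) ⊓
        (Cfsg.GU 6 F 2 ⊓ Cfsg.Geo.specialLinear (Fin 6) F) := by
    rintro g ⟨hgD, hgU, hgS⟩
    refine ⟨?_, hgU, hgS⟩
    obtain ⟨τ, μ, hμ, hprod, hco⟩ := decomp_coords hF D v hv hvD hspan g hgD hgU hgS
    intro x
    show RpatF (fun i => hf x (v i)) ↔
      RpatF (fun i => hf ((g : Matrix (Fin 6) (Fin 6) F) *ᵥ x) (v i))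
    simp only [hco]
    exact (rpatF_monomial τ μ hμ hprod (fun i => hf x (v i))).symm
  rcases hmax _ hNX inf_le_right with h | h
  · -- the transvection with centre the sum of the frame lies in the overgroup, not in the frame group
    have hr : hf (∑ j ∈ (Finset.univ : Finset (Fin 6)), v j) (∑ j ∈ (Finset.univ : Finset (Fin 6)), v j) = 0 := by
      rw [hf_frameSum_self h2 v hv]
      simp only [Finset.card_univ, Fintype.card_fin]
      push_cast
      linear_combination (3 : F) * h2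
    set t := tv h2 (∑ j ∈ (Finset.univ : Finset (Fin 6)), v j) hr with ht
    have hco : ∀ x i, hf ((t : Matrix (Fin 6) (Fin 6) F) *ᵥ x) (v i) = hf x (v i) + ∑ j, hf x (v j) := by
      intro x i
      rw [ht, tv_coords h2 v hv, if_pos (Finset.mem_univ i), mul_one]
    have hfwd : ∀ x, x ∈ rootSet v → (t : Matrix (Fin 6) (Fin 6) F) *ᵥ x ∈ rootSet v := by
      intro x hx
      show RpatF (fun i => hf ((t : Matrix (Fin 6) (Fin 6) F) *ᵥ x) (v i))
      simp only [hco]
      exact rpat_shift hF (fun i => hf x (v i)) hx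
    have htt : ∀ x, (t : Matrix (Fin 6) (Fin 6) F) *ᵥ ((t : Matrix (Fin 6) (Fin 6) F) *ᵥ x) = x := by
      intro x
      rw [Matrix.mulVec_mulVec]
      have : (t : Matrix (Fin 6) (Fin 6) F) * (t : Matrix (Fin 6) (Fin 6) F) = 1 := tvMat_sq h2 _ hr
      rw [this, Matrix.one_mulVec]
    have htX : t ∈ Cfsg.stabilizing (Cfsg.glToMat (Fin 6) F) (rootSet v) ⊓
        (Cfsg.GU 6 F 2 ⊓ Cfsg.Geo.specialLinear (Fin 6) F) := by
      refine ⟨fun x => ⟨hfwd x, fun hx => ?_⟩, tv_mem_GU h2 h4 _ hr, tv_mem_SL h2 _ hr⟩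
      have hx' : (t : Matrix (Fin 6) (Fin 6) F) *ᵥ x ∈ rootSet v := hx
      have := hfwd _ hx'
      rwa [htt] at this
    rw [h] at htX
    obtain ⟨σ, hσ⟩ := htX.1
    have hmem : (t : Matrix (Fin 6) (Fin 6) F) *ᵥ v 0 ∈ D (σ 0) := by
      rw [← hσ 0]
      exact ⟨v 0, hvD 0, by rw [Matrix.toLin'_apply]⟩
    obtain ⟨a, ha⟩ := hspan (σ 0) _ hmem
    have hc : ∀ i, hf ((t : Matrix (Fin 6) (Fin 6) F) *ᵥ v 0) (v i) = (if (0 : Fin 6) = i then 1 else 0) + 1 := by
      intro i
      have hv' : ∀ i j, hf (v i) (v j) = if i = j then 1 else 0 := hv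
      rw [hco]
      simp only [hv']
      rw [Finset.sum_ite_eq Finset.univ (0 : Fin 6), if_pos (Finset.mem_univ _)]
    have hc' : ∀ i, hf ((t : Matrix (Fin 6) (Fin 6) F) *ᵥ v 0) (v i) = a * (if σ 0 = i then 1 else 0) := by
      intro i
      rw [ha, hf_smul_left, hv]
    have h1 := (hc 1).symm.trans (hc' 1)
    have h2' := (hc 2).symm.trans (hc' 2)
    rw [if_neg (by decide), zero_add] at h1 h2'
    by_cases hs : σ 0 = 1
    · rw [hs, if_neg (by decide), mul_zero] at h2'
      exact one_ne_zero h2'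
    · rw [if_neg hs, mul_zero] at h1
      exact one_ne_zero h1
  · -- a transvection of the special unitary group which does not preserve the root set
    obtain ⟨a, ha0, ha1, -⟩ := exists_omega hF
    have hu : hf (∑ j ∈ ({0, 1, 2, 3} : Finset (Fin 6)), v j) (∑ j ∈ ({0, 1, 2, 3} : Finset (Fin 6)), v j) = 0 := by
      rw [hf_frameSum_self h2 v hv]
      have : ({0, 1, 2, 3} : Finset (Fin 6)).card = 4 := by decide
      rw [this]
      push_cast
      linear_combination (2 : F) * h2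
    set s := tv h2 (∑ j ∈ ({0, 1, 2, 3} : Finset (Fin 6)), v j) hu with hs
    have hsK : s ∈ Cfsg.GU 6 F 2 ⊓ Cfsg.Geo.specialLinear (Fin 6) F :=
      ⟨tv_mem_GU h2 h4 _ hu, tv_mem_SL h2 _ hu⟩
    rw [← h] at hsK
    have hstab := hsK.1 (v 0 + a • v 1)
    -- coordinates of x₀
    have hx0 : ∀ i, hf (v 0 + a • v 1) (v i) =
        (if (0 : Fin 6) = i then 1 else 0) + a * (if (1 : Fin 6) = i then 1 else 0) := by
      intro i
      rw [hf_add_left, hf_smul_left, hv, hv]
    have hin : (v 0 + a • v 1) ∈ rootSet v := by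
      show RpatF (fun i => hf (v 0 + a • v 1) (v i))
      left
      unfold wtF
      simp only [hx0]
      rw [Fin.sum_univ_six]
      simp [ha0]
    have hout : (s : Matrix (Fin 6) (Fin 6) F) *ᵥ (v 0 + a • v 1) ∈ rootSet v := hstab.mp hin
    have hco : ∀ i, hf ((s : Matrix (Fin 6) (Fin 6) F) *ᵥ (v 0 + a • v 1)) (v i) =
        (if (0 : Fin 6) = i then 1 else 0) + a * (if (1 : Fin 6) = i then 1 else 0) +
          (1 + a) * (if i ∈ ({0, 1, 2, 3} : Finset (Fin 6)) then 1 else 0) := by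
      intro i
      rw [hs, tv_coords h2 v hv]
      simp only [hx0]
      congr 1
      congr 1
      simp
    have hwt : wtF (fun i => hf ((s : Matrix (Fin 6) (Fin 6) F) *ᵥ (v 0 + a • v 1)) (v i)) = 4 := by
      have e1 : (1 : F) + a ≠ 0 := fun h => ha1 (by linear_combination h - h2)
      have e0 : (1 : F) + (1 + a) ≠ 0 := fun h => ha0 (by linear_combination h - h2)
      have e2 : a + (1 + a) ≠ 0 := fun h => one_ne_zero (α := F) (by linear_combination h - a * h2)
      unfold wtF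
      simp only [hco]
      rw [Fin.sum_univ_six]
      simp [e0, e1, e2]
    rcases hout with h' | ⟨h', -⟩
    · rw [hwt] at h'; omega
    · rw [hwt] at h'; omega

end Main

end Cfsg.Agent.Lib.Helper10.SUMLeaf
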