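import Mathlib
import Cfsg.Agent.Lib.Helper10.SU6Q2

set_option autoImplicit false

/-!
# `11:5 < L_2(11) < SU_5(2)`: the computational model over `GF(4)`

Coordinates: the basis `1, s, ..., s⁴` of `GF(4)[s] / (s⁵ + ω² s⁴ + s³ + s² + ω s + 1)`, the hermitian form
`Tr(x ȳ)`, the companion matrix `Cm`, the Frobenius `Sm`, the involution `gm` generating `L_2(11)` with them,
an orbit `O55` of 55 vectors, and the normalisation table `tbl`.  Vectors are 5-tuples, matrices 5-tuples of columns.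
-/

namespace Cfsg.Agent.Lib.Helper10.SU5

open Cfsg.Agent.Lib.Helper10.SUMLeaf

/-- vectors of the model -/
structure V5 where
  a : K4
  b : K4
  c : K4
  d : K4
  e : K4
  deriving DecidableEq

namespace V5

def add (v w : V5) : V5 := ⟨K4.add v.a w.a, K4.add v.b w.b, K4.add v.c w.c, K4.add v.d w.d, K4.add v.e w.e⟩

def smul (k : K4) (v : V5) : V5 := ⟨K4.mul k v.a, K4.mul k v.b, K4.mul k v.c, K4.mul k v.d, K4.mul k v.e⟩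

def frob (v : V5) : V5 := ⟨K4.mul v.a v.a, K4.mul v.b v.b, K4.mul v.c v.c, K4.mul v.d v.d, K4.mul v.e v.e⟩

def dot (v w : V5) : K4 :=
  K4.add (K4.add (K4.add (K4.add (K4.mul v.a w.a) (K4.mul v.b w.b)) (K4.mul v.c w.c)) (K4.mul v.d w.d))
    (K4.mul v.e w.e)

def zero : V5 := ⟨K4.z, K4.z, K4.z, K4.z, K4.z⟩

end V5

/-- matrices of the model, as 5-tuples of columns -/
structure M5 where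
  c0 : V5
  c1 : V5
  c2 : V5
  c3 : V5
  c4 : V5
  deriving DecidableEq

/-- matrix times vector -/
def mv (A : M5) (v : V5) : V5 :=
  V5.add (V5.add (V5.add (V5.add (V5.smul v.a A.c0) (V5.smul v.b A.c1)) (V5.smul v.c A.c2))
    (V5.smul v.d A.c3)) (V5.smul v.e A.c4)

/-- matrix times matrix -/
def mm (A B : M5) : M5 := ⟨mv A B.c0, mv A B.c1, mv A B.c2, mv A B.c3, mv A B.c4⟩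

/-- the column of index `i` -/
def M5.col (A : M5) : Fin 5 → V5
  | 0 => A.c0
  | 1 => A.c1
  | 2 => A.c2
  | 3 => A.c3
  | 4 => A.c4

def Id5 : M5 := ⟨⟨K4.o, K4.z, K4.z, K4.z, K4.z⟩, ⟨K4.z, K4.o, K4.z, K4.z, K4.z⟩, ⟨K4.z, K4.z, K4.o, K4.z, K4.z⟩,
  ⟨K4.z, K4.z, K4.z, K4.o, K4.z⟩, ⟨K4.z, K4.z, K4.z, K4.z, K4.o⟩⟩

def Cm : M5 := ⟨⟨K4.z, K4.o, K4.z, K4.z, K4.z⟩, ⟨K4.z, K4.z, K4.o, K4.z, K4.z⟩, ⟨K4.z, K4.z, K4.z, K4.o, K4.z⟩, ⟨K4.z, K4.z, K4.z, K4.z, K4.o⟩, ⟨K4.o, K4.w, K4.o, K4.o, K4.w2⟩⟩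

def C2m : M5 := ⟨⟨K4.z, K4.z, K4.o, K4.z, K4.z⟩, ⟨K4.z, K4.z, K4.z, K4.o, K4.z⟩, ⟨K4.z, K4.z, K4.z, K4.z, K4.o⟩, ⟨K4.o, K4.w, K4.o, K4.o, K4.w2⟩, ⟨K4.w2, K4.z, K4.o, K4.w, K4.w2⟩⟩

def C4m : M5 := ⟨⟨K4.z, K4.z, K4.z, K4.z, K4.o⟩, ⟨K4.o, K4.w, K4.o, K4.o, K4.w2⟩, ⟨K4.w2, K4.z, K4.o, K4.w, K4.w2⟩, ⟨K4.w2, K4.w, K4.w2, K4.w, K4.z⟩, ⟨K4.z, K4.w2, K4.w, K4.w2, K4.w⟩⟩

def Sm : M5 := ⟨⟨K4.o, K4.z, K4.z, K4.z, K4.z⟩, ⟨K4.z, K4.z, K4.z, K4.z, K4.o⟩, ⟨K4.z, K4.w2, K4.w, K4.w2, K4.w⟩, ⟨K4.z, K4.o, K4.z, K4.z, K4.z⟩, ⟨K4.o, K4.w, K4.o, K4.o, K4.w2⟩⟩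

def S2m : M5 := ⟨⟨K4.o, K4.z, K4.z, K4.z, K4.z⟩, ⟨K4.o, K4.w, K4.o, K4.o, K4.w2⟩, ⟨K4.w, K4.o, K4.o, K4.w2, K4.o⟩, ⟨K4.z, K4.z, K4.z, K4.z, K4.o⟩, ⟨K4.w, K4.w2, K4.o, K4.z, K4.w⟩⟩

def S4m : M5 := ⟨⟨K4.o, K4.z, K4.z, K4.z, K4.z⟩, ⟨K4.z, K4.z, K4.z, K4.o, K4.z⟩, ⟨K4.w2, K4.z, K4.o, K4.w, K4.w2⟩, ⟨K4.w, K4.w2, K4.o, K4.z, K4.w⟩, ⟨K4.z, K4.o, K4.z, K4.z, K4.z⟩⟩

def gm : M5 := ⟨⟨K4.o, K4.z, K4.z, K4.z, K4.z⟩, ⟨K4.w2, K4.o, K4.o, K4.w2, K4.o⟩, ⟨K4.z, K4.w, K4.o, K4.o, K4.w2⟩, ⟨K4.w, K4.w, K4.w2, K4.w, K4.z⟩, ⟨K4.o, K4.w2, K4.w, K4.w2, K4.w⟩⟩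

def Gm : M5 := ⟨⟨K4.o, K4.w2, K4.w, K4.w2, K4.w2⟩, ⟨K4.w, K4.o, K4.w2, K4.w, K4.w2⟩, ⟨K4.w2, K4.w, K4.o, K4.w2, K4.w⟩, ⟨K4.w, K4.w2, K4.w, K4.o, K4.w2⟩, ⟨K4.w, K4.w, K4.w2, K4.w, K4.o⟩⟩

/-- the hermitian form of the model: `vᵀ G w^(2)` -/
def hG (v w : V5) : K4 := V5.dot v (mv Gm (V5.frob w))

theorem mm_C_C : mm Cm Cm = C2m := by decide
theorem mm_C2_C2 : mm C2m C2m = C4m := by decide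
theorem mm_S_C : mm Sm Cm = mm C4m Sm := by decide
theorem mm_S_S : mm Sm Sm = S2m := by decide
theorem mm_S2_S2 : mm S2m S2m = S4m := by decide
theorem mm_S4_S : mm S4m Sm = Id5 := by decide
theorem mm_S_S4 : mm Sm S4m = Id5 := by decide
theorem mm_g_g : mm gm gm = Id5 := by decide

theorem unitary_S : ∀ i j : Fin 5, hG (Sm.col i) (Sm.col j) = hG (Id5.col i) (Id5.col j) := by decide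
theorem unitary_g : ∀ i j : Fin 5, hG (gm.col i) (gm.col j) = hG (Id5.col i) (Id5.col j) := by decide

theorem noncomm : mm (mm (mm gm Cm) gm) Cm ≠ mm Cm (mm (mm gm Cm) gm) := by decide

/-- an orbit of `L_2(11)` on vectors -/
def O55 : List V5 := [
  ⟨K4.z, K4.z, K4.o, K4.o, K4.w⟩,
  ⟨K4.z, K4.z, K4.o, K4.w2, K4.w2⟩,
  ⟨K4.z, K4.z, K4.w, K4.w, K4.o⟩,
  ⟨K4.z, K4.z, K4.w2, K4.o, K4.o⟩,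
  ⟨K4.z, K4.o, K4.o, K4.w, K4.z⟩,
  ⟨K4.z, K4.o, K4.w, K4.w2, K4.w2⟩,
  ⟨K4.z, K4.o, K4.w2, K4.w2, K4.z⟩,
  ⟨K4.z, K4.w, K4.w, K4.o, K4.z⟩,
  ⟨K4.z, K4.w, K4.w, K4.w2, K4.o⟩,
  ⟨K4.z, K4.w, K4.w2, K4.w, K4.w2⟩,
  ⟨K4.z, K4.w2, K4.z, K4.w, K4.w⟩,
  ⟨K4.z, K4.w2, K4.o, K4.o, K4.z⟩,
  ⟨K4.z, K4.w2, K4.w2, K4.z, K4.w⟩,
  ⟨K4.o, K4.z, K4.o, K4.z, K4.w2⟩,
  ⟨K4.o, K4.z, K4.w, K4.z, K4.w⟩,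
  ⟨K4.o, K4.z, K4.w2, K4.w2, K4.w2⟩,
  ⟨K4.o, K4.o, K4.z, K4.w, K4.o⟩,
  ⟨K4.o, K4.o, K4.z, K4.w2, K4.w⟩,
  ⟨K4.o, K4.o, K4.o, K4.w, K4.w2⟩,
  ⟨K4.o, K4.o, K4.w, K4.z, K4.z⟩,
  ⟨K4.o, K4.o, K4.w2, K4.o, K4.w⟩,
  ⟨K4.o, K4.w, K4.o, K4.w, K4.w⟩,
  ⟨K4.o, K4.w, K4.o, K4.w2, K4.o⟩,
  ⟨K4.o, K4.w, K4.w2, K4.w2, K4.z⟩,
  ⟨K4.o, K4.w2, K4.z, K4.o, K4.o⟩,
  ⟨K4.o, K4.w2, K4.w, K4.o, K4.w⟩,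
  ⟨K4.o, K4.w2, K4.w2, K4.z, K4.z⟩,
  ⟨K4.w, K4.z, K4.z, K4.w2, K4.w⟩,
  ⟨K4.w, K4.z, K4.o, K4.z, K4.o⟩,
  ⟨K4.w, K4.z, K4.w, K4.o, K4.w2⟩,
  ⟨K4.w, K4.o, K4.z, K4.o, K4.w2⟩,
  ⟨K4.w, K4.o, K4.w, K4.w, K4.w⟩,
  ⟨K4.w, K4.o, K4.w2, K4.z, K4.w2⟩,
  ⟨K4.w, K4.w, K4.z, K4.w2, K4.w2⟩,
  ⟨K4.w, K4.w, K4.o, K4.z, K4.z⟩,
  ⟨K4.w, K4.w, K4.w, K4.z, K4.o⟩,
  ⟨K4.w, K4.w, K4.w2, K4.o, K4.z⟩,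
  ⟨K4.w, K4.w, K4.w2, K4.w, K4.w⟩,
  ⟨K4.w, K4.w2, K4.o, K4.o, K4.o⟩,
  ⟨K4.w, K4.w2, K4.o, K4.w, K4.w2⟩,
  ⟨K4.w, K4.w2, K4.w, K4.w2, K4.z⟩,
  ⟨K4.w2, K4.z, K4.w, K4.w, K4.z⟩,
  ⟨K4.w2, K4.z, K4.w2, K4.z, K4.o⟩,
  ⟨K4.w2, K4.z, K4.w2, K4.w, K4.w⟩,
  ⟨K4.w2, K4.o, K4.o, K4.z, K4.z⟩,
  ⟨K4.w2, K4.o, K4.w, K4.o, K4.o⟩,
  ⟨K4.w2, K4.o, K4.w2, K4.w, K4.o⟩,
  ⟨K4.w2, K4.w, K4.z, K4.z, K4.w2⟩,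
  ⟨K4.w2, K4.w, K4.z, K4.o, K4.o⟩,
  ⟨K4.w2, K4.w, K4.o, K4.w2, K4.w⟩,
  ⟨K4.w2, K4.w2, K4.z, K4.w, K4.z⟩,
  ⟨K4.w2, K4.w2, K4.o, K4.w2, K4.o⟩,
  ⟨K4.w2, K4.w2, K4.w, K4.z, K4.w⟩,
  ⟨K4.w2, K4.w2, K4.w, K4.w2, K4.w2⟩,
  ⟨K4.w2, K4.w2, K4.w2, K4.o, K4.w2⟩]

theorem orbit_C : ∀ o ∈ O55, mv Cm o ∈ O55 := by decide
theorem orbit_S : ∀ o ∈ O55, mv Sm o ∈ O55 := by decide
theorem orbit_g : ∀ o ∈ O55, mv gm o ∈ O55 := by decide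

/-- centre of a transvection moving the orbit -/
def u0 : V5 := ⟨K4.z, K4.z, K4.z, K4.o, K4.w⟩
def o0 : V5 := ⟨K4.z, K4.o, K4.o, K4.w, K4.z⟩
theorem u0_isotropic : hG u0 u0 = K4.z := by decide
theorem o0_mem : o0 ∈ O55 := by decide
theorem tv_moves : V5.add o0 (V5.smul (hG o0 u0) u0) ∉ O55 := by decide

/-- `γ(5)` from `γ(0..4)` by the recurrence of `s⁵ = ω² s⁴ + s³ + s² + ω s + 1` -/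
def g5 (x : V5) : K4 := K4.add (K4.add (K4.add (K4.add (K4.mul K4.o x.a) (K4.mul K4.w x.b)) (K4.mul K4.o x.c)) (K4.mul K4.o x.d)) (K4.mul K4.w2 x.e)

def sq (k : K4) : K4 := K4.mul k k

/-- all the recurrences `Σ_k a_k γ(e + k) = 0` -/
def recs (x0 x1 x2 x3 x4 x5 x6 x7 x8 x9 x10 : K4) : Bool :=
  (K4.add (K4.add (K4.add (K4.add (K4.add (K4.mul K4.o x0) (K4.mul K4.w x1)) (K4.mul K4.o x2)) (K4.mul K4.o x3)) (K4.mul K4.w2 x4)) (K4.mul K4.o x5) == K4.z) &&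
  (K4.add (K4.add (K4.add (K4.add (K4.add (K4.mul K4.o x1) (K4.mul K4.w x2)) (K4.mul K4.o x3)) (K4.mul K4.o x4)) (K4.mul K4.w2 x5)) (K4.mul K4.o x6) == K4.z) &&
  (K4.add (K4.add (K4.add (K4.add (K4.add (K4.mul K4.o x2) (K4.mul K4.w x3)) (K4.mul K4.o x4)) (K4.mul K4.o x5)) (K4.mul K4.w2 x6)) (K4.mul K4.o x7) == K4.z) &&
  (K4.add (K4.add (K4.add (K4.add (K4.add (K4.mul K4.o x3) (K4.mul K4.w x4)) (K4.mul K4.o x5)) (K4.mul K4.o x6)) (K4.mul K4.w2 x7)) (K4.mul K4.o x8) == K4.z) &&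
  (K4.add (K4.add (K4.add (K4.add (K4.add (K4.mul K4.o x4) (K4.mul K4.w x5)) (K4.mul K4.o x6)) (K4.mul K4.o x7)) (K4.mul K4.w2 x8)) (K4.mul K4.o x9) == K4.z) &&
  (K4.add (K4.add (K4.add (K4.add (K4.add (K4.mul K4.o x5) (K4.mul K4.w x6)) (K4.mul K4.o x7)) (K4.mul K4.o x8)) (K4.mul K4.w2 x9)) (K4.mul K4.o x10) == K4.z) &&
  (K4.add (K4.add (K4.add (K4.add (K4.add (K4.mul K4.o x6) (K4.mul K4.w x7)) (K4.mul K4.o x8)) (K4.mul K4.o x9)) (K4.mul K4.w2 x10)) (K4.mul K4.o x0) == K4.z) &&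
  (K4.add (K4.add (K4.add (K4.add (K4.add (K4.mul K4.o x7) (K4.mul K4.w x8)) (K4.mul K4.o x9)) (K4.mul K4.o x10)) (K4.mul K4.w2 x0)) (K4.mul K4.o x1) == K4.z) &&
  (K4.add (K4.add (K4.add (K4.add (K4.add (K4.mul K4.o x8) (K4.mul K4.w x9)) (K4.mul K4.o x10)) (K4.mul K4.o x0)) (K4.mul K4.w2 x1)) (K4.mul K4.o x2) == K4.z) &&
  (K4.add (K4.add (K4.add (K4.add (K4.add (K4.mul K4.o x9) (K4.mul K4.w x10)) (K4.mul K4.o x0)) (K4.mul K4.o x1)) (K4.mul K4.w2 x2)) (K4.mul K4.o x3) == K4.z) &&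
  (K4.add (K4.add (K4.add (K4.add (K4.add (K4.mul K4.o x10) (K4.mul K4.w x0)) (K4.mul K4.o x1)) (K4.mul K4.o x2)) (K4.mul K4.w2 x3)) (K4.mul K4.o x4) == K4.z)

/-- the values `h(s^d v', v')`, `d < 5`, for `v' = Σ t_i s^i v` -/
def newg (t0 t1 t2 t3 t4 x0 x1 x2 x3 x4 x5 x6 x7 x8 x9 x10 : K4) : V5 :=
  ⟨K4.add (K4.add (K4.add (K4.add (K4.add (K4.add (K4.add (K4.add (K4.add (K4.add (K4.add (K4.add (K4.add (K4.add (K4.add (K4.add (K4.add (K4.add (K4.add (K4.add (K4.add (K4.add (K4.add (K4.add (K4.mul (K4.mul t0 (sq t0)) x0) (K4.mul (K4.mul t0 (sq t1)) x10)) (K4.mul (K4.mul t0 (sq t2)) x9)) (K4.mul (K4.mul t0 (sq t3)) x8)) (K4.mul (K4.mul t0 (sq t4)) x7)) (K4.mul (K4.mul t1 (sq t0)) x1)) (K4.mul (K4.mul t1 (sq t1)) x0)) (K4.mul (K4.mul t1 (sq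 t2)) x10)) (K4.mul (K4.mul t1 (sq t3)) x9)) (K4.mul (K4.mul t1 (sq t4)) x8)) (K4.mul (K4.mul t2 (sq t0)) x2)) (K4.mul (K4.mul t2 (sq t1)) x1)) (K4.mul (K4.mul t2 (sq t2)) x0)) (K4.mul (K4.mul t2 (sq t3)) x10)) (K4.mul (K4.mul t2 (sq t4)) x9)) (K4.mul (K4.mul t3 (sq t0)) x3)) (K4.mul (K4.mul t3 (sq t1)) x2)) (K4.mul (K4.mul t3 (sq t2)) x1)) (K4.mul (K4.mul t3 (sq t3)) x0)) (K4.mul (K4.mul t3 (sq t4)) x10)) (K4.mul (K4.mul t4 (sq t0)) x4)) (K4.mul (K4.mul t4 (sq t1)) x3)) (K4.mul (K4.mul t4 (sq t2)) x2)) (K4.mul (K4.mul t4 (sq t3)) x1)) (K4.mul (K4.mul t4 (sq t4)) x0),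
   K4.add (K4.add (K4.add (K4.add (K4.add (K4.add (K4.add (K4.add (K4.add (K4.add (K4.add (K4.add (K4.add (K4.add (K4.add (K4.add (K4.add (K4.add (K4.add (K4.add (K4.add (K4.add (K4.add (K4.add (K4.mul (K4.mul t0 (sq t0)) x1) (K4.mul (K4.mul t0 (sq t1)) x0)) (K4.mul (K4.mul t0 (sq t2)) x10)) (K4.mul (K4.mul t0 (sq t3)) x9)) (K4.mul (K4.mul t0 (sq t4)) x8)) (K4.mul (K4.mul t1 (sq t0)) x2)) (K4.mul (K4.mul t1 (sq t1)) x1)) (K4.mul (K4.mul t1 (sq t2)) x0)) (K4.mul (K4.mul t1 (sq t3)) x10)) (K4.mul (K4.mul t1 (sq t4)) x9)) (K4.mul (K4.mul t2 (sq t0)) x3)) (K4.mul (K4.mul t2 (sq t1)) x2)) (K4.mul (K4.mul t2 (sq t2)) x1)) (K4.mul (K4.mul t2 (sq t3)) x0)) (K4.mul (K4.mul t2 (sq t4)) x10)) (K4.mul (K4.mul t3 (sq t0)) x4)) (K4.mul (K4.mul t3 (sq t1))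 x3)) (K4.mul (K4.mul t3 (sq t2)) x2)) (K4.mul (K4.mul t3 (sq t3)) x1)) (K4.mul (K4.mul t3 (sq t4)) x0)) (K4.mul (K4.mul t4 (sq t0)) x5)) (K4.mul (K4.mul t4 (sq t1)) x4)) (K4.mul (K4.mul t4 (sq t2)) x3)) (K4.mul (K4.mul t4 (sq t3)) x2)) (K4.mul (K4.mul t4 (sq t4)) x1),
   K4.add (K4.add (K4.add (K4.add (K4.add (K4.add (K4.add (K4.add (K4.add (K4.add (K4.add (K4.add (K4.add (K4.add (K4.add (K4.add (K4.add (K4.add (K4.add (K4.add (K4.add (K4.add (K4.add (K4.add (K4.mul (K4.mul t0 (sq t0)) x2) (K4.mul (K4.mul t0 (sq t1)) x1)) (K4.mul (K4.mul t0 (sq t2)) x0)) (K4.mul (K4.mul t0 (sq t3)) x10)) (K4.mul (K4.mul t0 (sq t4)) x9)) (K4.mul (K4.mul t1 (sq t0)) x3)) (K4.mul (K4.mul t1 (sq t1)) x2)) (K4.mul (K4.mul t1 (sq t2)) x1)) (K4.mul (K4.mul t1 (sq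 t3)) x0)) (K4.mul (K4.mul t1 (sq t4)) x10)) (K4.mul (K4.mul t2 (sq t0)) x4)) (K4.mul (K4.mul t2 (sq t1)) x3)) (K4.mul (K4.mul t2 (sq t2)) x2)) (K4.mul (K4.mul t2 (sq t3)) x1)) (K4.mul (K4.mul t2 (sq t4)) x0)) (K4.mul (K4.mul t3 (sq t0)) x5)) (K4.mul (K4.mul t3 (sq t1)) x4)) (K4.mul (K4.mul t3 (sq t2)) x3)) (K4.mul (K4.mul t3 (sq t3)) x2)) (K4.mul (K4.mul t3 (sq t4)) x1)) (K4.mul (K4.mul t4 (sq t0)) x6)) (K4.mul (K4.mul t4 (sq t1)) x5)) (K4.mul (K4.mul t4 (sq t2)) x4)) (K4.mul (K4.mul t4 (sq t3)) x3)) (K4.mul (K4.mul t4 (sq t4)) x2),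
   K4.add (K4.add (K4.add (K4.add (K4.add (K4.add (K4.add (K4.add (K4.add (K4.add (K4.add (K4.add (K4.add (K4.add (K4.add (K4.add (K4.add (K4.add (K4.add (K4.add (K4.add (K4.add (K4.add (K4.add (K4.mul (K4.mul t0 (sq t0)) x3) (K4.mul (K4.mul t0 (sq t1)) x2)) (K4.mul (K4.mul t0 (sq t2)) x1)) (K4.mul (K4.mul t0 (sq t3)) x0)) (K4.mul (K4.mul t0 (sq t4)) x10)) (K4.mul (K4.mul t1 (sq t0)) x4)) (K4.mul (K4.mul t1 (sq t1)) x3)) (K4.mul (K4.mul t1 (sq t2)) x2)) (K4.mul (K4.mul t1 (sq t3)) x1)) (K4.mul (K4.mul t1 (sq t4)) x0)) (K4.mul (K4.mul t2 (sq t0)) x5)) (K4.mul (K4.mul t2 (sq t1)) x4)) (K4.mul (K4.mul t2 (sq t2)) x3)) (K4.mul (K4.mul t2 (sq t3)) x2)) (K4.mul (K4.mul t2 (sq t4)) x1)) (K4.mul (K4.mul t3 (sq t0)) x6)) (K4.mul (K4.mul t3 (sq t1))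 x5)) (K4.mul (K4.mul t3 (sq t2)) x4)) (K4.mul (K4.mul t3 (sq t3)) x3)) (K4.mul (K4.mul t3 (sq t4)) x2)) (K4.mul (K4.mul t4 (sq t0)) x7)) (K4.mul (K4.mul t4 (sq t1)) x6)) (K4.mul (K4.mul t4 (sq t2)) x5)) (K4.mul (K4.mul t4 (sq t3)) x4)) (K4.mul (K4.mul t4 (sq t4)) x3),
   K4.add (K4.add (K4.add (K4.add (K4.add (K4.add (K4.add (K4.add (K4.add (K4.add (K4.add (K4.add (K4.add (K4.add (K4.add (K4.add (K4.add (K4.add (K4.add (K4.add (K4.add (K4.add (K4.add (K4.add (K4.mul (K4.mul t0 (sq t0)) x4) (K4.mul (K4.mul t0 (sq t1)) x3)) (K4.mul (K4.mul t0 (sq t2)) x2)) (K4.mul (K4.mul t0 (sq t3)) x1)) (K4.mul (K4.mul t0 (sq t4)) x0)) (K4.mul (K4.mul t1 (sq t0)) x5)) (K4.mul (K4.mul t1 (sq t1)) x4)) (K4.mul (K4.mul t1 (sq t2)) x3)) (K4.mul (K4.mul t1 (sq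 t3)) x2)) (K4.mul (K4.mul t1 (sq t4)) x1)) (K4.mul (K4.mul t2 (sq t0)) x6)) (K4.mul (K4.mul t2 (sq t1)) x5)) (K4.mul (K4.mul t2 (sq t2)) x4)) (K4.mul (K4.mul t2 (sq t3)) x3)) (K4.mul (K4.mul t2 (sq t4)) x2)) (K4.mul (K4.mul t3 (sq t0)) x7)) (K4.mul (K4.mul t3 (sq t1)) x6)) (K4.mul (K4.mul t3 (sq t2)) x5)) (K4.mul (K4.mul t3 (sq t3)) x4)) (K4.mul (K4.mul t3 (sq t4)) x3)) (K4.mul (K4.mul t4 (sq t0)) x8)) (K4.mul (K4.mul t4 (sq t1)) x7)) (K4.mul (K4.mul t4 (sq t2)) x6)) (K4.mul (K4.mul t4 (sq t3)) x5)) (K4.mul (K4.mul t4 (sq t4)) x4)⟩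

/-- the table of normalising vectors -/
def tbl : V5 → V5
  | ⟨K4.z, K4.z, K4.o, K4.w, K4.z⟩ => ⟨K4.z, K4.z, K4.o, K4.o, K4.w2⟩
  | ⟨K4.z, K4.z, K4.w, K4.w, K4.w2⟩ => ⟨K4.z, K4.o, K4.z, K4.w2, K4.w⟩
  | ⟨K4.z, K4.z, K4.w2, K4.z, K4.w2⟩ => ⟨K4.o, K4.z, K4.z, K4.w, K4.o⟩
  | ⟨K4.z, K4.o, K4.z, K4.w2, K4.w⟩ => ⟨K4.z, K4.o, K4.o, K4.w, K4.w2⟩
  | ⟨K4.z, K4.o, K4.o, K4.o, K4.w⟩ => ⟨K4.z, K4.o, K4.o, K4.o, K4.w⟩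
  | ⟨K4.z, K4.o, K4.w, K4.o, K4.o⟩ => ⟨K4.z, K4.o, K4.w2, K4.w, K4.o⟩
  | ⟨K4.z, K4.o, K4.w2, K4.w2, K4.o⟩ => ⟨K4.z, K4.z, K4.o, K4.o, K4.o⟩
  | ⟨K4.z, K4.w, K4.z, K4.w2, K4.w2⟩ => ⟨K4.z, K4.o, K4.z, K4.o, K4.w⟩
  | ⟨K4.z, K4.w, K4.o, K4.o, K4.w2⟩ => ⟨K4.z, K4.o, K4.z, K4.w, K4.o⟩
  | ⟨K4.z, K4.w, K4.w, K4.o, K4.z⟩ => ⟨K4.z, K4.z, K4.o, K4.o, K4.w⟩
  | ⟨K4.z, K4.w, K4.w2, K4.w2, K4.z⟩ => ⟨K4.z, K4.o, K4.z, K4.o, K4.o⟩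
  | ⟨K4.z, K4.w2, K4.z, K4.z, K4.o⟩ => ⟨K4.z, K4.o, K4.z, K4.w2, K4.w2⟩
  | ⟨K4.z, K4.w2, K4.o, K4.w, K4.o⟩ => ⟨K4.z, K4.o, K4.o, K4.w, K4.w⟩
  | ⟨K4.z, K4.w2, K4.w, K4.w, K4.w⟩ => ⟨K4.z, K4.o, K4.o, K4.w2, K4.w⟩
  | ⟨K4.z, K4.w2, K4.w2, K4.z, K4.w⟩ => ⟨K4.z, K4.o, K4.o, K4.o, K4.o⟩
  | ⟨K4.o, K4.z, K4.z, K4.o, K4.o⟩ => ⟨K4.z, K4.o, K4.z, K4.z, K4.w2⟩
  | ⟨K4.o, K4.z, K4.o, K4.w2, K4.o⟩ => ⟨K4.z, K4.z, K4.o, K4.w, K4.o⟩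
  | ⟨K4.o, K4.z, K4.w, K4.w2, K4.w⟩ => ⟨K4.z, K4.o, K4.o, K4.w, K4.o⟩
  | ⟨K4.o, K4.z, K4.w2, K4.o, K4.w⟩ => ⟨K4.z, K4.o, K4.z, K4.o, K4.w2⟩
  | ⟨K4.o, K4.o, K4.z, K4.w, K4.w2⟩ => ⟨K4.z, K4.o, K4.z, K4.z, K4.o⟩
  | ⟨K4.o, K4.o, K4.o, K4.z, K4.w2⟩ => ⟨K4.z, K4.z, K4.o, K4.z, K4.w⟩
  | ⟨K4.o, K4.o, K4.w, K4.z, K4.z⟩ => ⟨K4.z, K4.z, K4.z, K4.o, K4.w2⟩
  | ⟨K4.o, K4.o, K4.w2, K4.w, K4.z⟩ => ⟨K4.z, K4.z, K4.o, K4.z, K4.w2⟩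
  | ⟨K4.o, K4.w, K4.z, K4.w, K4.w⟩ => ⟨K4.z, K4.z, K4.z, K4.o, K4.w⟩
  | ⟨K4.o, K4.w, K4.o, K4.z, K4.w⟩ => ⟨K4.z, K4.o, K4.w, K4.w, K4.w2⟩
  | ⟨K4.o, K4.w, K4.w, K4.z, K4.o⟩ => ⟨K4.z, K4.z, K4.z, K4.o, K4.o⟩
  | ⟨K4.o, K4.w, K4.w2, K4.w, K4.o⟩ => ⟨K4.z, K4.z, K4.o, K4.w2, K4.w⟩
  | ⟨K4.o, K4.w2, K4.z, K4.o, K4.z⟩ => ⟨K4.z, K4.z, K4.o, K4.w, K4.w2⟩
  | ⟨K4.o, K4.w2, K4.o, K4.w2, K4.z⟩ => ⟨K4.z, K4.o, K4.o, K4.o, K4.w2⟩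
  | ⟨K4.o, K4.w2, K4.w, K4.w2, K4.w2⟩ => ⟨K4.z, K4.z, K4.z, K4.z, K4.o⟩
  | ⟨K4.o, K4.w2, K4.w2, K4.o, K4.w2⟩ => ⟨K4.z, K4.z, K4.o, K4.z, K4.o⟩
  | _ => V5.zero

def gamma0 : V5 := ⟨K4.o, K4.w2, K4.w, K4.w2, K4.w2⟩

def ext5 (x : V5) : K4 := g5 x
def admissible (x : V5) : Bool :=
  (sq x.a == x.a) &&
  recs x.a x.b x.c x.d x.e (g5 x) (sq (g5 x)) (sq x.e) (sq x.d) (sq x.c) (sq x.b)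

def normalise (x : V5) : V5 :=
  newg (tbl x).a (tbl x).b (tbl x).c (tbl x).d (tbl x).e
    x.a x.b x.c x.d x.e (g5 x) (sq (g5 x)) (sq x.e) (sq x.d) (sq x.c) (sq x.b)

theorem normalise_eq : ∀ a b c d e : K4, admissible ⟨a, b, c, d, e⟩ = true → (⟨a, b, c, d, e⟩ : V5) ≠ V5.zero →
    normalise ⟨a, b, c, d, e⟩ = gamma0 := by decide

/-- the Gram matrix is the one of `gamma0` -/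
theorem gram_gamma0 : Gm = ⟨⟨gamma0.a, gamma0.b, gamma0.c, gamma0.d, gamma0.e⟩,
    ⟨sq gamma0.b, gamma0.a, gamma0.b, gamma0.c, gamma0.d⟩,
    ⟨sq gamma0.c, sq gamma0.b, gamma0.a, gamma0.b, gamma0.c⟩,
    ⟨sq gamma0.d, sq gamma0.c, sq gamma0.b, gamma0.a, gamma0.b⟩,
    ⟨sq gamma0.e, sq gamma0.d, sq gamma0.c, sq gamma0.b, gamma0.a⟩⟩ := by decide

end Cfsg.Agent.Lib.Helper10.SU5
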