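import Mathlib
import Cfsg.Agent.Lib.Helper10.SU5Model

set_option autoImplicit false

/-!
# `11:5 < L_2(11) < SU_5(2)`: from the model to a field with four elements
-/

namespace Cfsg.Agent.Lib.Helper10.SU5

open Cfsg.Agent.Lib.Helper10.SUMLeaf Matrix

variable {F : Type*} [Field F]

theorem phi_z (a : F) : phi a K4.z = 0 := rfl
theorem phi_o (a : F) : phi a K4.o = 1 := rfl
theorem phi_w (a : F) : phi a K4.w = a := rfl
theorem phi_w2 (a : F) : phi a K4.w2 = a + 1 := rfl

/-- the vector of `F^5` of a model vector -/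
def vec (a : F) (v : V5) : Fin 5 → F := ![phi a v.a, phi a v.b, phi a v.c, phi a v.d, phi a v.e]

/-- the matrix over `F` of a model matrix -/
def mat (a : F) (A : M5) : Matrix (Fin 5) (Fin 5) F := Matrix.of fun i j => vec a (A.col j) i

section

variable (a : F) (h2 : (2 : F) = 0) (ha : a ^ 2 = a + 1)

include h2 in
theorem vec_add (v w : V5) : vec a (V5.add v w) = vec a v + vec a w := by
  funext i
  fin_cases i <;> simp [vec, V5.add, phi_add h2]

include h2 ha in
theorem vec_smul (k : K4) (v : V5) : vec a (V5.smul k v) = phi a k • vec a v := by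
  funext i
  fin_cases i <;> simp [vec, V5.smul, phi_mul h2 a ha]

include h2 ha in
theorem vec_frob (v : V5) (i : Fin 5) : vec a (V5.frob v) i = (vec a v i) ^ 2 := by
  fin_cases i <;> simp [vec, V5.frob, phi_mul h2 a ha, pow_two]

include h2 ha in
theorem phi_dot (v w : V5) : phi a (V5.dot v w) = ∑ i, vec a v i * vec a w i := by
  rw [Fin.sum_univ_five]
  simp [vec, V5.dot, phi_add h2, phi_mul h2 a ha]

include h2 ha in
theorem mat_mulVec (A : M5) (v : V5) : mat a A *ᵥ vec a v = vec a (mv A v) := by
  have h : ∀ x : Fin 5 → F, mat a A *ᵥ x =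
      x 0 • vec a A.c0 + x 1 • vec a A.c1 + x 2 • vec a A.c2 + x 3 • vec a A.c3 + x 4 • vec a A.c4 := by
    intro x
    funext i
    simp only [Matrix.mulVec, dotProduct, mat, Matrix.of_apply, Fin.sum_univ_five, M5.col, Pi.add_apply,
      Pi.smul_apply, smul_eq_mul]
    ring
  rw [h]
  simp only [mv, vec_add a h2, vec_smul a h2 ha]
  rfl

include h2 ha in
theorem mat_mul (A B : M5) : mat a A * mat a B = mat a (mm A B) := by
  ext i j
  have h := congrFun (mat_mulVec a h2 ha A (B.col j)) i
  rw [Matrix.mul_apply]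
  simp only [Matrix.mulVec, dotProduct] at h
  have hcol : (mm A B).col j = mv A (B.col j) := by
    fin_cases j <;> rfl
  simp only [mat, Matrix.of_apply, hcol] at h ⊢
  exact h

theorem mat_Id5 : mat a Id5 = 1 := by
  ext i j
  fin_cases i <;> fin_cases j <;> simp [mat, vec, Id5, M5.col, phi]

include h2 in
theorem vec_injective (ha0 : a ≠ 0) (ha1 : a ≠ 1) : Function.Injective (vec a) := by
  intro v w h
  have hinj := phi_injective a ha0 ha1 h2
  have h0 := congrFun h 0
  have h1 := congrFun h 1
  have h2' := congrFun h 2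
  have h3 := congrFun h 3
  have h4 := congrFun h 4
  simp only [vec, Matrix.cons_val_zero, Matrix.cons_val_one, Matrix.cons_val] at h0 h1 h2' h3 h4
  cases v; cases w
  simp only [V5.mk.injEq]
  exact ⟨hinj h0, hinj h1, hinj h2', hinj h3, hinj h4⟩

end

end Cfsg.Agent.Lib.Helper10.SU5
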