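import Mathlib
import Cfsg.Prelude.Def_GeometricClasses
import Cfsg.Agent.Lib.Helper10.SU6Q2

set_option autoImplicit false

/-!
# The hermitian form `Σ u_i v_i²` over a field with four elements, in any dimension, and its transvections
(generic-dimension copies of the lemmas of `SU6Q2`).
-/

namespace Cfsg.Agent.Lib.Helper10.SUH

open Matrix

/-! ### The hermitian form over a field with four elements -/

section Herm

variable {F : Type*} [Field F] {n : ℕ}

/-- The form `Σ u_i v_i²`. -/
abbrev hf (u v : Fin n → F) : F := Cfsg.hermForm n F 2 u v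

theorem hf_def (u v : Fin n → F) : hf u v = ∑ i, u i * (v i) ^ 2 := rfl

theorem add_sq2 (h2 : (2 : F) = 0) (a b : F) : (a + b) ^ 2 = a ^ 2 + b ^ 2 := by
  linear_combination (a * b) * h2

theorem sum_sq2 (h2 : (2 : F) = 0) {κ : Type*} (s : Finset κ) (f : κ → F) :
    (∑ i ∈ s, f i) ^ 2 = ∑ i ∈ s, (f i) ^ 2 := by
  classical
  induction s using Finset.induction_on with
  | empty => simp
  | insert a s ha ih => rw [Finset.sum_insert ha, Finset.sum_insert ha, add_sq2 h2, ih]

theorem hf_add_left (x y v : Fin n → F) : hf (x + y) v = hf x v + hf y v := by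
  simp only [hf_def, Pi.add_apply, add_mul, Finset.sum_add_distrib]

theorem hf_smul_left (a : F) (x v : Fin n → F) : hf (a • x) v = a * hf x v := by
  simp only [hf_def, Pi.smul_apply, smul_eq_mul, Finset.mul_sum, mul_assoc]

theorem hf_sum_left {κ : Type*} (s : Finset κ) (w : κ → Fin n → F) (v : Fin n → F) :
    hf (∑ j ∈ s, w j) v = ∑ j ∈ s, hf (w j) v := by
  classical
  induction s using Finset.induction_on with
  | empty => simp [hf_def]
  | insert a s ha ih => rw [Finset.sum_insert ha, Finset.sum_insert ha, hf_add_left, ih]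

theorem hf_add_right (h2 : (2 : F) = 0) (x u v : Fin n → F) : hf x (u + v) = hf x u + hf x v := by
  simp only [hf_def, Pi.add_apply, add_sq2 h2, mul_add, Finset.sum_add_distrib]

theorem hf_smul_right (a : F) (x v : Fin n → F) : hf x (a • v) = a ^ 2 * hf x v := by
  simp only [hf_def, Pi.smul_apply, smul_eq_mul, Finset.mul_sum, mul_pow]
  exact Finset.sum_congr rfl fun i _ => by ring

theorem hf_sum_right (h2 : (2 : F) = 0) {κ : Type*} (s : Finset κ) (x : Fin n → F)
    (w : κ → Fin n → F) : hf x (∑ j ∈ s, w j) = ∑ j ∈ s, hf x (w j) := by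
  classical
  induction s using Finset.induction_on with
  | empty => simp [hf_def]
  | insert a s ha ih => rw [Finset.sum_insert ha, Finset.sum_insert ha, hf_add_right h2, ih]

theorem hf_symm (h2 : (2 : F) = 0) (h4 : ∀ x : F, x ^ 4 = x) (u v : Fin n → F) :
    (hf u v) ^ 2 = hf v u := by
  rw [hf_def, sum_sq2 h2, hf_def]
  refine Finset.sum_congr rfl fun i _ => ?_
  have := h4 (v i)
  calc (u i * v i ^ 2) ^ 2 = u i ^ 2 * (v i) ^ 4 := by ring
    _ = v i * u i ^ 2 := by rw [this]; ring

/-- The matrix of the unitary transvection with centre `u`. -/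
def tvMat (u : Fin n → F) : Matrix (Fin n) (Fin n) F :=
  1 + Matrix.of fun i j => u i * (u j) ^ 2

theorem tvMat_mulVec (u x : Fin n → F) : tvMat u *ᵥ x = x + hf x u • u := by
  rw [tvMat, Matrix.add_mulVec, Matrix.one_mulVec]
  congr 1
  funext i
  simp only [Pi.smul_apply, smul_eq_mul, Matrix.mulVec, dotProduct, Matrix.of_apply, hf_def,
    Finset.sum_mul]
  exact Finset.sum_congr rfl fun j _ => by ring

theorem tvMat_sq (h2 : (2 : F) = 0) (u : Fin n → F) (hu : hf u u = 0) : tvMat u * tvMat u = 1 := by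
  have hN : (Matrix.of fun i j => u i * (u j) ^ 2 : Matrix (Fin n) (Fin n) F) *
      (Matrix.of fun i j => u i * (u j) ^ 2) = 0 := by
    ext i j
    simp only [Matrix.mul_apply, Matrix.of_apply, Matrix.zero_apply]
    have : ∑ k, u i * u k ^ 2 * (u k * u j ^ 2) = (u i * u j ^ 2) * hf u u := by
      rw [hf_def, Finset.mul_sum]
      exact Finset.sum_congr rfl fun k _ => by ring
    rw [this, hu, mul_zero]
  unfold tvMat
  rw [add_mul, mul_add, mul_add, hN, one_mul, mul_one, one_mul, add_zero]
  have : ∀ M : Matrix (Fin n) (Fin n) F, 1 + M + M = 1 := by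
    intro M
    rw [add_assoc, ← two_smul F M, h2, zero_smul, add_zero]
  exact this _

/-- The unitary transvection with isotropic centre `u`, as an element of the general linear group. -/
def tv (h2 : (2 : F) = 0) (u : Fin n → F) (hu : hf u u = 0) : Matrix.GeneralLinearGroup (Fin n) F :=
  ⟨tvMat u, tvMat u, tvMat_sq h2 u hu, tvMat_sq h2 u hu⟩

theorem tv_mulVec (h2 : (2 : F) = 0) (u : Fin n → F) (hu : hf u u = 0) (x : Fin n → F) :
    ((tv h2 u hu : Matrix.GeneralLinearGroup (Fin n) F) : Matrix (Fin n) (Fin n) F) *ᵥ x =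
      x + hf x u • u := tvMat_mulVec u x

theorem tv_mem_GU (h2 : (2 : F) = 0) (h4 : ∀ x : F, x ^ 4 = x) (u : Fin n → F) (hu : hf u u = 0) :
    tv h2 u hu ∈ Cfsg.GU n F 2 := by
  intro x y
  show hf (tvMat u *ᵥ x) (tvMat u *ᵥ y) = hf x y
  rw [tvMat_mulVec, tvMat_mulVec, hf_add_left, hf_add_right h2, hf_add_right h2, hf_smul_left,
    hf_smul_right, hf_smul_right, hf_smul_left, hu, hf_symm h2 h4 y u]
  linear_combination (hf x u * hf u y) * h2

theorem tv_mem_SL (h2 : (2 : F) = 0) (u : Fin n → F) (hu : hf u u = 0) :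
    tv h2 u hu ∈ Cfsg.Geo.specialLinear (Fin n) F := by
  show Matrix.GeneralLinearGroup.det (tv h2 u hu) = 1
  have hsq : tv h2 u hu * tv h2 u hu = 1 := Units.ext (tvMat_sq h2 u hu)
  have hd : Matrix.GeneralLinearGroup.det (tv h2 u hu) * Matrix.GeneralLinearGroup.det (tv h2 u hu) = 1 := by
    rw [← map_mul, hsq, map_one]
  have hd' : ((Matrix.GeneralLinearGroup.det (tv h2 u hu) : Fˣ) : F) *
      ((Matrix.GeneralLinearGroup.det (tv h2 u hu) : Fˣ) : F) = 1 := by
    rw [← Units.val_mul, hd, Units.val_one]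
  apply Units.ext
  rw [Units.val_one]
  have : (((Matrix.GeneralLinearGroup.det (tv h2 u hu) : Fˣ) : F) - 1) *
      (((Matrix.GeneralLinearGroup.det (tv h2 u hu) : Fˣ) : F) - 1) = 0 := by
    linear_combination hd' - ((Matrix.GeneralLinearGroup.det (tv h2 u hu) : Fˣ) : F) * h2 + h2
  exact sub_eq_zero.mp (mul_self_eq_zero.mp this)

end Herm


end Cfsg.Agent.Lib.Helper10.SUH
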