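import Mathlib
import Cfsg.Agent.Lib.Helper10.SUHerm

set_option autoImplicit false

/-!
# The adjoint for the hermitian form `Σ u_i v_i²` over a field with four elements
-/

namespace Cfsg.Agent.Lib.Helper10.SUH

open Matrix

variable {F : Type*} [Field F] {n : ℕ}

/-- the adjoint matrix for the form `Σ u_i v_i²` over a field with four elements -/
def adj (k : Matrix (Fin n) (Fin n) F) : Matrix (Fin n) (Fin n) F := Matrix.of fun i j => (k j i) ^ 2

theorem adj_apply (k : Matrix (Fin n) (Fin n) F) (i j : Fin n) : adj k i j = (k j i) ^ 2 := rfl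

theorem hf_adj (h2 : (2 : F) = 0) (h4 : ∀ x : F, x ^ 4 = x) (k : Matrix (Fin n) (Fin n) F)
    (u v : Fin n → F) : hf (k *ᵥ u) v = hf u (adj k *ᵥ v) := by
  simp only [hf_def, Matrix.mulVec, dotProduct, adj_apply]
  have : ∀ j, (∑ i, k i j ^ 2 * v i) ^ 2 = ∑ i, k i j * v i ^ 2 := by
    intro j
    rw [sum_sq2 h2]
    refine Finset.sum_congr rfl fun i _ => ?_
    rw [mul_pow, ← pow_mul, h4]
  simp only [this, Finset.sum_mul, Finset.mul_sum]
  rw [Finset.sum_comm]
  refine Finset.sum_congr rfl fun j _ => Finset.sum_congr rfl fun i _ => by ring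

theorem hf_single_left (j : Fin n) (w : Fin n → F) : hf (Pi.single j 1) w = (w j) ^ 2 := by
  rw [hf_def, Finset.sum_eq_single j]
  · simp
  · intro i _ hij
    simp [Pi.single_apply, hij]
  · simp

theorem sq_inj (h4 : ∀ x : F, x ^ 4 = x) {x y : F} (h : x ^ 2 = y ^ 2) : x = y := by
  rw [← h4 x, ← h4 y, show (4 : ℕ) = 2 * 2 from rfl, pow_mul, pow_mul, h]

theorem hf_right_ext (h4 : ∀ x : F, x ^ 4 = x) {w w' : Fin n → F} (h : ∀ u, hf u w = hf u w') : w = w' := by
  funext j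
  have := h (Pi.single j 1)
  rw [hf_single_left, hf_single_left] at this
  exact sq_inj h4 this

theorem mat_ext_mulVec {A B : Matrix (Fin n) (Fin n) F} (h : ∀ v, A *ᵥ v = B *ᵥ v) : A = B := by
  ext i j
  have := congrFun (h (Pi.single j 1)) i
  simpa using this

theorem adj_unique (h4 : ∀ x : F, x ^ 4 = x) {k' k'' : Matrix (Fin n) (Fin n) F}
    (h : ∀ u v, hf u (k' *ᵥ v) = hf u (k'' *ᵥ v)) : k' = k'' :=
  mat_ext_mulVec fun v => hf_right_ext h4 fun u => h u v

theorem adj_of_isAdj (h2 : (2 : F) = 0) (h4 : ∀ x : F, x ^ 4 = x) {k k' : Matrix (Fin n) (Fin n) F}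
    (h : ∀ u v, hf (k *ᵥ u) v = hf u (k' *ᵥ v)) : k' = adj k :=
  adj_unique h4 fun u v => by rw [← h, hf_adj h2 h4]

theorem adj_add (h2 : (2 : F) = 0) (k l : Matrix (Fin n) (Fin n) F) : adj (k + l) = adj k + adj l := by
  ext i j
  simp only [adj_apply, Matrix.add_apply, add_sq2 h2]

theorem adj_zero : adj (0 : Matrix (Fin n) (Fin n) F) = 0 := by
  ext i j
  simp [adj_apply]

theorem adj_one : adj (1 : Matrix (Fin n) (Fin n) F) = 1 := by
  ext i j
  simp only [adj_apply, Matrix.one_apply]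
  by_cases h : i = j
  · subst h; simp
  · rw [if_neg h, if_neg (Ne.symm h)]; simp

theorem adj_smul (c : F) (k : Matrix (Fin n) (Fin n) F) : adj (c • k) = c ^ 2 • adj k := by
  ext i j
  simp only [adj_apply, Matrix.smul_apply, smul_eq_mul, mul_pow]

theorem adj_mul (h2 : (2 : F) = 0) (k l : Matrix (Fin n) (Fin n) F) : adj (k * l) = adj l * adj k := by
  ext i j
  simp only [adj_apply, Matrix.mul_apply, sum_sq2 h2, mul_pow]
  exact Finset.sum_congr rfl fun m _ => mul_comm _ _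

theorem adj_adj (h4 : ∀ x : F, x ^ 4 = x) (k : Matrix (Fin n) (Fin n) F) : adj (adj k) = k := by
  ext i j
  simp only [adj_apply, ← pow_mul, h4]

theorem adj_pow (h2 : (2 : F) = 0) (k : Matrix (Fin n) (Fin n) F) (m : ℕ) : adj (k ^ m) = adj k ^ m := by
  induction m with
  | zero => simp [adj_one]
  | succ m ih => rw [pow_succ, adj_mul h2, ih, pow_succ']

/-- membership in the unitary group through the adjoint -/
theorem mem_GU_iff (h2 : (2 : F) = 0) (h4 : ∀ x : F, x ^ 4 = x) (g : Matrix.GeneralLinearGroup (Fin n) F) :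
    g ∈ Cfsg.GU n F 2 ↔ adj (g : Matrix (Fin n) (Fin n) F) * (g : Matrix (Fin n) (Fin n) F) = 1 := by
  constructor
  · intro hg
    refine adj_unique h4 fun u v => ?_
    rw [Matrix.one_mulVec, ← Matrix.mulVec_mulVec, ← hf_adj h2 h4]
    exact hg u v
  · intro h u v
    show hf ((g : Matrix (Fin n) (Fin n) F) *ᵥ u) ((g : Matrix (Fin n) (Fin n) F) *ᵥ v) = hf u v
    rw [hf_adj h2 h4, Matrix.mulVec_mulVec, h, Matrix.one_mulVec]

theorem adj_mem_of_closed (h2 : (2 : F) = 0) (h4 : ∀ x : F, x ^ 4 = x)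
    {K : Subalgebra F (Matrix (Fin n) (Fin n) F)}
    (hadj : Cfsg.Geo.IsAdjointClosedFor (Cfsg.hermForm n F 2) K) {k : Matrix (Fin n) (Fin n) F}
    (hk : k ∈ K) : adj k ∈ K := by
  obtain ⟨k', hk', h⟩ := hadj k hk
  have : k' = adj k := adj_of_isAdj h2 h4 h
  rwa [← this]

end Cfsg.Agent.Lib.Helper10.SUH
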