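import Mathlib
import Cfsg.Agent.Lib.Helper10.SUAdj
import Cfsg.Agent.Lib.Helper10.SU5Bridge

set_option autoImplicit false
set_option maxHeartbeats 1000000

/-!
# Normalising the Gram sequence of an isometry of order eleven
-/

namespace Cfsg.Agent.Lib.Helper10.SU5

open Cfsg.Agent.Lib.Helper10.SUH Matrix
open Cfsg.Agent.Lib.Helper10.SUMLeaf (K4 phi phi_add phi_mul phi_injective phi_surjective two_eq_zero pow_four exists_omega)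

section

variable {F : Type*} [Field F] (s : Matrix (Fin 5) (Fin 5) F)

theorem hf_pow (hsU : ∀ u v : Fin 5 → F, hf (s *ᵥ u) (s *ᵥ v) = hf u v) (m : ℕ) (u v : Fin 5 → F) :
    hf (s ^ m *ᵥ u) (s ^ m *ᵥ v) = hf u v := by
  induction m generalizing u v with
  | zero => simp
  | succ m ih => rw [pow_succ, ← Matrix.mulVec_mulVec, ← Matrix.mulVec_mulVec, ih, hsU]

theorem gram_shift (hsU : ∀ u v : Fin 5 → F, hf (s *ᵥ u) (s *ᵥ v) = hf u v) (hs11 : s ^ 11 = 1)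
    (v₀ : Fin 5 → F) (m j : ℕ) (hj : j ≤ 11) :
    hf (s ^ m *ᵥ v₀) (s ^ j *ᵥ v₀) = hf (s ^ (m + 11 - j) *ᵥ v₀) v₀ := by
  rw [← hf_pow s hsU (11 - j) (s ^ m *ᵥ v₀) (s ^ j *ᵥ v₀), Matrix.mulVec_mulVec, Matrix.mulVec_mulVec,
    ← pow_add, ← pow_add]
  have e1 : 11 - j + j = 11 := by omega
  have e2 : 11 - j + m = m + 11 - j := by omega
  rw [e1, e2, hs11, Matrix.one_mulVec]

theorem gram_period (hs11 : s ^ 11 = 1) (v₀ : Fin 5 → F) (n : ℕ) :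
    hf (s ^ (n + 11) *ᵥ v₀) v₀ = hf (s ^ n *ᵥ v₀) v₀ := by
  rw [pow_add, hs11, mul_one]

theorem gram_symm (h2 : (2 : F) = 0) (h4 : ∀ x : F, x ^ 4 = x)
    (hsU : ∀ u v : Fin 5 → F, hf (s *ᵥ u) (s *ᵥ v) = hf u v) (hs11 : s ^ 11 = 1)
    (v₀ : Fin 5 → F) (d : ℕ) (hd : d ≤ 11) :
    hf (s ^ (11 - d) *ᵥ v₀) v₀ = (hf (s ^ d *ᵥ v₀) v₀) ^ 2 := by
  rw [hf_symm h2 h4]
  have := gram_shift s hsU hs11 v₀ 0 d hd
  rw [pow_zero, Matrix.one_mulVec, zero_add] at this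
  exact this.symm

theorem gram_rec (a : F) (hs5 : s ^ 5 = 1 + a • s + s ^ 2 + s ^ 3 + (a + 1) • s ^ 4) (v₀ : Fin 5 → F)
    (e : ℕ) : hf (s ^ (e + 5) *ᵥ v₀) v₀ = hf (s ^ e *ᵥ v₀) v₀ + a * hf (s ^ (e + 1) *ᵥ v₀) v₀ +
      hf (s ^ (e + 2) *ᵥ v₀) v₀ + hf (s ^ (e + 3) *ᵥ v₀) v₀ + (a + 1) * hf (s ^ (e + 4) *ᵥ v₀) v₀ := by
  have : s ^ (e + 5) = s ^ e + a • s ^ (e + 1) + s ^ (e + 2) + s ^ (e + 3) + (a + 1) • s ^ (e + 4) := by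
    rw [pow_add, hs5]
    simp only [mul_add, mul_one, Matrix.mul_smul, ← pow_add, ← pow_succ]
  rw [this]
  simp only [Matrix.add_mulVec, Matrix.smul_mulVec, hf_add_left, hf_smul_left]

/-- a vector whose Gram sequence is the normal one -/
theorem exists_v1 [Fintype F] (hF : Fintype.card F = 2 ^ 2) (a : F) (ha0 : a ≠ 0) (ha1 : a ≠ 1)
    (ha : a ^ 2 = a + 1) (hsU : ∀ u v : Fin 5 → F, hf (s *ᵥ u) (s *ᵥ v) = hf u v) (hs11 : s ^ 11 = 1)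
    (hs5 : s ^ 5 = 1 + a • s + s ^ 2 + s ^ 3 + (a + 1) • s ^ 4) :
    ∃ v₁ : Fin 5 → F, hf (s ^ 0 *ᵥ v₁) v₁ = phi a gamma0.a ∧ hf (s ^ 1 *ᵥ v₁) v₁ = phi a gamma0.b ∧
      hf (s ^ 2 *ᵥ v₁) v₁ = phi a gamma0.c ∧ hf (s ^ 3 *ᵥ v₁) v₁ = phi a gamma0.d ∧
      hf (s ^ 4 *ᵥ v₁) v₁ = phi a gamma0.e := by
  have h2 := two_eq_zero hF
  have h4 := pow_four hF
  have hinj := phi_injective a ha0 ha1 h2
  obtain ⟨v₀, hv₀⟩ : ∃ v₀ : Fin 5 → F, v₀ = Pi.single 0 1 := ⟨_, rfl⟩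
  obtain ⟨U, hU⟩ : ∃ U : ℕ → Fin 5 → F, ∀ n, U n = s ^ n *ᵥ v₀ := ⟨_, fun _ => rfl⟩
  obtain ⟨γ, hγ⟩ : ∃ γ : ℕ → F, ∀ n, γ n = hf (U n) v₀ := ⟨_, fun _ => rfl⟩
  have hsUn : ∀ d n, s ^ d *ᵥ U n = U (d + n) := by
    intro d n
    rw [hU, hU, Matrix.mulVec_mulVec, ← pow_add]
  have hper : ∀ n, γ (n + 11) = γ n := by
    intro n
    rw [hγ, hγ, hU, hU]
    exact gram_period s hs11 v₀ n
  have hrec : ∀ e, γ (e + 5) = γ e + a * γ (e + 1) + γ (e + 2) + γ (e + 3) + (a + 1) * γ (e + 4) := by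
    intro e
    simp only [hγ, hU]
    exact gram_rec s a hs5 v₀ e
  have hsym : ∀ d, d ≤ 11 → γ (11 - d) = (γ d) ^ 2 := by
    intro d hd
    simp only [hγ, hU]
    exact gram_symm s h2 h4 hsU hs11 v₀ d hd
  have hUU : ∀ m j, j ≤ 11 → hf (U m) (U j) = γ (m + 11 - j) := by
    intro m j hj
    simp only [hγ, hU]
    exact gram_shift s hsU hs11 v₀ m j hj
  have hg0 : γ 0 = 1 := by
    rw [hγ, hU, pow_zero, Matrix.one_mulVec, hv₀, hf_single_left]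
    simp
  -- the values
  have p11 : γ 11 = γ 0 := hper 0
  have p12 : γ 12 = γ 1 := hper 1
  have p13 : γ 13 = γ 2 := hper 2
  have p14 : γ 14 = γ 3 := hper 3
  have p15 : γ 15 = γ 4 := hper 4
  have p16 : γ 16 = γ 5 := hper 5
  have p17 : γ 17 = γ 6 := hper 6
  have p18 : γ 18 = γ 7 := hper 7
  have p19 : γ 19 = γ 8 := hper 8
  have s6 : γ 6 = γ 5 ^ 2 := hsym 5 (by norm_num)
  have s7 : γ 7 = γ 4 ^ 2 := hsym 4 (by norm_num)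
  have s8 : γ 8 = γ 3 ^ 2 := hsym 3 (by norm_num)
  have s9 : γ 9 = γ 2 ^ 2 := hsym 2 (by norm_num)
  have s10 : γ 10 = γ 1 ^ 2 := hsym 1 (by norm_num)
  have R0 : γ 5 = γ 0 + a * γ 1 + γ 2 + γ 3 + (a + 1) * γ 4 := hrec 0
  have R1 : γ 6 = γ 1 + a * γ 2 + γ 3 + γ 4 + (a + 1) * γ 5 := hrec 1
  have R2 : γ 7 = γ 2 + a * γ 3 + γ 4 + γ 5 + (a + 1) * γ 6 := hrec 2
  have R3 : γ 8 = γ 3 + a * γ 4 + γ 5 + γ 6 + (a + 1) * γ 7 := hrec 3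
  have R4 : γ 9 = γ 4 + a * γ 5 + γ 6 + γ 7 + (a + 1) * γ 8 := hrec 4
  have R5 : γ 10 = γ 5 + a * γ 6 + γ 7 + γ 8 + (a + 1) * γ 9 := hrec 5
  have R6 : γ 11 = γ 6 + a * γ 7 + γ 8 + γ 9 + (a + 1) * γ 10 := hrec 6
  have R7 : γ 12 = γ 7 + a * γ 8 + γ 9 + γ 10 + (a + 1) * γ 11 := hrec 7
  have R8 : γ 13 = γ 8 + a * γ 9 + γ 10 + γ 11 + (a + 1) * γ 12 := hrec 8
  have R9 : γ 14 = γ 9 + a * γ 10 + γ 11 + γ 12 + (a + 1) * γ 13 := hrec 9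
  have R10 : γ 15 = γ 10 + a * γ 11 + γ 12 + γ 13 + (a + 1) * γ 14 := hrec 10
  rw [p11] at R6
  rw [p12, p11] at R7
  rw [p13, p11, p12] at R8
  rw [p14, p11, p12, p13] at R9
  rw [p15, p11, p12, p13, p14] at R10
  simp only [s6, s7, s8, s9, s10] at R1 R2 R3 R4 R5 R6 R7 R8 R9 R10
  obtain ⟨x0, hx0⟩ := phi_surjective hF a ha0 ha1 (γ 0)
  obtain ⟨x1, hx1⟩ := phi_surjective hF a ha0 ha1 (γ 1)
  obtain ⟨x2, hx2⟩ := phi_surjective hF a ha0 ha1 (γ 2)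
  obtain ⟨x3, hx3⟩ := phi_surjective hF a ha0 ha1 (γ 3)
  obtain ⟨x4, hx4⟩ := phi_surjective hF a ha0 ha1 (γ 4)
  have e5 : phi a (g5 ⟨x0, x1, x2, x3, x4⟩) = γ 5 := by
    rw [R0]
    simp only [g5, phi_add h2, phi_mul h2 a ha, phi_z, phi_o, phi_w, phi_w2, hx0, hx1, hx2, hx3, hx4]
    ring
  have hadm : admissible ⟨x0, x1, x2, x3, x4⟩ = true := by
    simp only [admissible, recs, Bool.and_eq_true, beq_iff_eq, and_assoc]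
    refine ⟨?_, ?_, ?_, ?_, ?_, ?_, ?_, ?_, ?_, ?_, ?_, ?_⟩ <;> apply hinj <;>
      simp only [sq, phi_add h2, phi_mul h2 a ha, phi_z, phi_o, phi_w, phi_w2, hx0, hx1, hx2, hx3, hx4, e5]
    · rw [hg0, mul_one]
    · linear_combination (-1 : F) * R0 + γ 5 * h2
    · linear_combination (-1 : F) * R1 + γ 5 ^ 2 * h2
    · linear_combination (-1 : F) * R2 + γ 4 ^ 2 * h2
    · linear_combination (-1 : F) * R3 + γ 3 ^ 2 * h2
    · linear_combination (-1 : F) * R4 + γ 2 ^ 2 * h2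
    · linear_combination (-1 : F) * R5 + γ 1 ^ 2 * h2
    · linear_combination (-1 : F) * R6 + γ 0 * h2
    · linear_combination (-1 : F) * R7 + γ 1 * h2
    · linear_combination (-1 : F) * R8 + γ 2 * h2
    · linear_combination (-1 : F) * R9 + γ 3 * h2
    · linear_combination (-1 : F) * R10 + γ 4 * h2
  have hne : (⟨x0, x1, x2, x3, x4⟩ : V5) ≠ V5.zero := by
    intro h
    have h0 : x0 = K4.z := congrArg V5.a h
    rw [h0, hg0] at hx0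
    exact zero_ne_one hx0
  have hnorm := normalise_eq x0 x1 x2 x3 x4 hadm hne
  obtain ⟨t, ht⟩ : ∃ t : V5, t = tbl ⟨x0, x1, x2, x3, x4⟩ := ⟨_, rfl⟩
  refine ⟨phi a t.a • U 0 + phi a t.b • U 1 + phi a t.c • U 2 + phi a t.d • U 3 + phi a t.e • U 4, ?_⟩
  rw [← hnorm]
  have hUU0 : ∀ m, hf (U m) (U 0) = γ (m + 11) := fun m => hUU m 0 (by norm_num)
  have hUU1 : ∀ m, hf (U m) (U 1) = γ (m + 10) := fun m => hUU m 1 (by norm_num)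
  have hUU2 : ∀ m, hf (U m) (U 2) = γ (m + 9) := fun m => hUU m 2 (by norm_num)
  have hUU3 : ∀ m, hf (U m) (U 3) = γ (m + 8) := fun m => hUU m 3 (by norm_num)
  have hUU4 : ∀ m, hf (U m) (U 4) = γ (m + 7) := fun m => hUU m 4 (by norm_num)
  refine ⟨?_, ?_, ?_, ?_, ?_⟩ <;>
    simp only [Matrix.mulVec_add, Matrix.mulVec_smul, hsUn, hf_add_left, hf_add_right h2, hf_smul_left,
      hf_smul_right, hUU0, hUU1, hUU2, hUU3, hUU4, Nat.reduceAdd, p11, p12, p13, p14, p15, p16, p17, p18, p19,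
      s6, s7, s8, s9, s10, normalise, newg, sq, phi_add h2, phi_mul h2 a ha, hx0, hx1, hx2, hx3, hx4, e5,
      ← ht] <;>
    ring

end

end Cfsg.Agent.Lib.Helper10.SU5
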