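import Mathlib
import Cfsg.Agent.Lib.Helper10.SU5Gram

set_option autoImplicit false
set_option maxHeartbeats 1000000

/-!
# The basis `v, s v, …, s⁴ v` and the model
-/

namespace Cfsg.Agent.Lib.Helper10.SU5

open Cfsg.Agent.Lib.Helper10.SUH Matrix
open Cfsg.Agent.Lib.Helper10.SUMLeaf (K4 phi phi_add phi_mul phi_injective phi_surjective two_eq_zero pow_four exists_omega)

section

variable {F : Type*} [Field F] (s : Matrix (Fin 5) (Fin 5) F)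

theorem gram_ge (hsU : ∀ u v : Fin 5 → F, hf (s *ᵥ u) (s *ᵥ v) = hf u v) (v : Fin 5 → F) (i j : ℕ)
    (h : j ≤ i) : hf (s ^ i *ᵥ v) (s ^ j *ᵥ v) = hf (s ^ (i - j) *ᵥ v) v := by
  have e : i = j + (i - j) := by omega
  conv_lhs => rw [e, pow_add, ← Matrix.mulVec_mulVec]
  exact hf_pow s hsU j _ _

theorem gram_lt (h2 : (2 : F) = 0) (h4 : ∀ x : F, x ^ 4 = x)
    (hsU : ∀ u v : Fin 5 → F, hf (s *ᵥ u) (s *ᵥ v) = hf u v) (v : Fin 5 → F) (i j : ℕ)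
    (h : i ≤ j) : hf (s ^ i *ᵥ v) (s ^ j *ᵥ v) = (hf (s ^ (j - i) *ᵥ v) v) ^ 2 := by
  rw [← hf_symm h2 h4 (s ^ j *ᵥ v) (s ^ i *ᵥ v), gram_ge s hsU v j i h]

/-- the Gram matrix of the basis `v₁, s v₁, …` is the one of the model -/
theorem gram_table (h2 : (2 : F) = 0) (h4 : ∀ x : F, x ^ 4 = x) (a : F) (ha : a ^ 2 = a + 1)
    (hsU : ∀ u v : Fin 5 → F, hf (s *ᵥ u) (s *ᵥ v) = hf u v) (v₁ : Fin 5 → F)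
    (d0 : hf (s ^ 0 *ᵥ v₁) v₁ = phi a gamma0.a) (d1 : hf (s ^ 1 *ᵥ v₁) v₁ = phi a gamma0.b)
    (d2 : hf (s ^ 2 *ᵥ v₁) v₁ = phi a gamma0.c) (d3 : hf (s ^ 3 *ᵥ v₁) v₁ = phi a gamma0.d)
    (d4 : hf (s ^ 4 *ᵥ v₁) v₁ = phi a gamma0.e) (i j : Fin 5) :
    hf (s ^ (i : ℕ) *ᵥ v₁) (s ^ (j : ℕ) *ᵥ v₁) = mat a Gm i j := by
  have g0 : hf (s ^ 0 *ᵥ v₁) v₁ = 1 := d0
  have g1 : hf (s ^ 1 *ᵥ v₁) v₁ = a + 1 := d1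
  have g2 : hf (s ^ 2 *ᵥ v₁) v₁ = a := d2
  have g3 : hf (s ^ 3 *ᵥ v₁) v₁ = a + 1 := d3
  have g4 : hf (s ^ 4 *ᵥ v₁) v₁ = a + 1 := d4
  have q1 : (hf (s ^ 1 *ᵥ v₁) v₁) ^ 2 = a := by rw [g1]; linear_combination ha + (a + 1) * h2
  have q2 : (hf (s ^ 2 *ᵥ v₁) v₁) ^ 2 = a + 1 := by rw [g2]; exact ha
  have q3 : (hf (s ^ 3 *ᵥ v₁) v₁) ^ 2 = a := by rw [g3]; linear_combination ha + (a + 1) * h2
  have q4 : (hf (s ^ 4 *ᵥ v₁) v₁) ^ 2 = a := by rw [g4]; linear_combination ha + (a + 1) * h2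
  have T_0_0 : hf (s ^ 0 *ᵥ v₁) (s ^ 0 *ᵥ v₁) = 1 := by
    rw [gram_ge s hsU v₁ 0 0 (by norm_num)]; exact g0
  have T_0_1 : hf (s ^ 0 *ᵥ v₁) (s ^ 1 *ᵥ v₁) = a := by
    rw [gram_lt s h2 h4 hsU v₁ 0 1 (by norm_num)]; exact q1
  have T_0_2 : hf (s ^ 0 *ᵥ v₁) (s ^ 2 *ᵥ v₁) = a + 1 := by
    rw [gram_lt s h2 h4 hsU v₁ 0 2 (by norm_num)]; exact q2
  have T_0_3 : hf (s ^ 0 *ᵥ v₁) (s ^ 3 *ᵥ v₁) = a := by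
    rw [gram_lt s h2 h4 hsU v₁ 0 3 (by norm_num)]; exact q3
  have T_0_4 : hf (s ^ 0 *ᵥ v₁) (s ^ 4 *ᵥ v₁) = a := by
    rw [gram_lt s h2 h4 hsU v₁ 0 4 (by norm_num)]; exact q4
  have T_1_0 : hf (s ^ 1 *ᵥ v₁) (s ^ 0 *ᵥ v₁) = a + 1 := by
    rw [gram_ge s hsU v₁ 1 0 (by norm_num)]; exact g1
  have T_1_1 : hf (s ^ 1 *ᵥ v₁) (s ^ 1 *ᵥ v₁) = 1 := by
    rw [gram_ge s hsU v₁ 1 1 (by norm_num)]; exact g0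
  have T_1_2 : hf (s ^ 1 *ᵥ v₁) (s ^ 2 *ᵥ v₁) = a := by
    rw [gram_lt s h2 h4 hsU v₁ 1 2 (by norm_num)]; exact q1
  have T_1_3 : hf (s ^ 1 *ᵥ v₁) (s ^ 3 *ᵥ v₁) = a + 1 := by
    rw [gram_lt s h2 h4 hsU v₁ 1 3 (by norm_num)]; exact q2
  have T_1_4 : hf (s ^ 1 *ᵥ v₁) (s ^ 4 *ᵥ v₁) = a := by
    rw [gram_lt s h2 h4 hsU v₁ 1 4 (by norm_num)]; exact q3
  have T_2_0 : hf (s ^ 2 *ᵥ v₁) (s ^ 0 *ᵥ v₁) = a := by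
    rw [gram_ge s hsU v₁ 2 0 (by norm_num)]; exact g2
  have T_2_1 : hf (s ^ 2 *ᵥ v₁) (s ^ 1 *ᵥ v₁) = a + 1 := by
    rw [gram_ge s hsU v₁ 2 1 (by norm_num)]; exact g1
  have T_2_2 : hf (s ^ 2 *ᵥ v₁) (s ^ 2 *ᵥ v₁) = 1 := by
    rw [gram_ge s hsU v₁ 2 2 (by norm_num)]; exact g0
  have T_2_3 : hf (s ^ 2 *ᵥ v₁) (s ^ 3 *ᵥ v₁) = a := by
    rw [gram_lt s h2 h4 hsU v₁ 2 3 (by norm_num)]; exact q1
  have T_2_4 : hf (s ^ 2 *ᵥ v₁) (s ^ 4 *ᵥ v₁) = a + 1 := by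
    rw [gram_lt s h2 h4 hsU v₁ 2 4 (by norm_num)]; exact q2
  have T_3_0 : hf (s ^ 3 *ᵥ v₁) (s ^ 0 *ᵥ v₁) = a + 1 := by
    rw [gram_ge s hsU v₁ 3 0 (by norm_num)]; exact g3
  have T_3_1 : hf (s ^ 3 *ᵥ v₁) (s ^ 1 *ᵥ v₁) = a := by
    rw [gram_ge s hsU v₁ 3 1 (by norm_num)]; exact g2
  have T_3_2 : hf (s ^ 3 *ᵥ v₁) (s ^ 2 *ᵥ v₁) = a + 1 := by
    rw [gram_ge s hsU v₁ 3 2 (by norm_num)]; exact g1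
  have T_3_3 : hf (s ^ 3 *ᵥ v₁) (s ^ 3 *ᵥ v₁) = 1 := by
    rw [gram_ge s hsU v₁ 3 3 (by norm_num)]; exact g0
  have T_3_4 : hf (s ^ 3 *ᵥ v₁) (s ^ 4 *ᵥ v₁) = a := by
    rw [gram_lt s h2 h4 hsU v₁ 3 4 (by norm_num)]; exact q1
  have T_4_0 : hf (s ^ 4 *ᵥ v₁) (s ^ 0 *ᵥ v₁) = a + 1 := by
    rw [gram_ge s hsU v₁ 4 0 (by norm_num)]; exact g4
  have T_4_1 : hf (s ^ 4 *ᵥ v₁) (s ^ 1 *ᵥ v₁) = a + 1 := by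
    rw [gram_ge s hsU v₁ 4 1 (by norm_num)]; exact g3
  have T_4_2 : hf (s ^ 4 *ᵥ v₁) (s ^ 2 *ᵥ v₁) = a := by
    rw [gram_ge s hsU v₁ 4 2 (by norm_num)]; exact g2
  have T_4_3 : hf (s ^ 4 *ᵥ v₁) (s ^ 3 *ᵥ v₁) = a + 1 := by
    rw [gram_ge s hsU v₁ 4 3 (by norm_num)]; exact g1
  have T_4_4 : hf (s ^ 4 *ᵥ v₁) (s ^ 4 *ᵥ v₁) = 1 := by
    rw [gram_ge s hsU v₁ 4 4 (by norm_num)]; exact g0
  fin_cases i <;> fin_cases j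
  exacts [T_0_0, T_0_1, T_0_2, T_0_3, T_0_4, T_1_0, T_1_1, T_1_2, T_1_3, T_1_4, T_2_0, T_2_1, T_2_2, T_2_3, T_2_4, T_3_0, T_3_1, T_3_2, T_3_3, T_3_4, T_4_0, T_4_1, T_4_2, T_4_3, T_4_4]

/-- the matrix with columns `v, s v, …, s⁴ v` -/
def Pmat (v : Fin 5 → F) : Matrix (Fin 5) (Fin 5) F := Matrix.of fun i j => (s ^ (j : ℕ) *ᵥ v) i

theorem Pmat_mulVec_sum (v : Fin 5 → F) (c : Fin 5 → F) :
    Pmat s v *ᵥ c = ∑ j, c j • (s ^ (j : ℕ) *ᵥ v) := by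
  funext i
  simp only [Pmat, Matrix.mulVec, dotProduct, Matrix.of_apply, Finset.sum_apply, Pi.smul_apply, smul_eq_mul]
  exact Finset.sum_congr rfl fun j _ => mul_comm _ _

theorem Pmat_mulVec_poly (v : Fin 5 → F) (c : Fin 5 → F) :
    Pmat s v *ᵥ c = (∑ j, c j • s ^ (j : ℕ)) *ᵥ v := by
  rw [Pmat_mulVec_sum, Matrix.sum_mulVec]
  exact Finset.sum_congr rfl fun j _ => (Matrix.smul_mulVec _ _ _).symm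

theorem Pmat_single (v : Fin 5 → F) (j : Fin 5) : Pmat s v *ᵥ Pi.single j 1 = s ^ (j : ℕ) *ᵥ v := by
  rw [Matrix.mulVec_single_one]
  rfl

/-- the form in the coordinates of the basis -/
theorem form_bridge (h2 : (2 : F) = 0) (a : F) (ha : a ^ 2 = a + 1) (v₁ : Fin 5 → F)
    (hG : ∀ i j : Fin 5, hf (s ^ (i : ℕ) *ᵥ v₁) (s ^ (j : ℕ) *ᵥ v₁) = mat a Gm i j) (v w : V5) :
    hf (Pmat s v₁ *ᵥ vec a v) (Pmat s v₁ *ᵥ vec a w) = phi a (SU5.hG v w) := by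
  rw [Pmat_mulVec_sum, Pmat_mulVec_sum, hf_sum_left]
  simp only [hf_sum_right h2, hf_smul_left, hf_smul_right, hG]
  rw [SU5.hG, phi_dot a h2 ha, ← mat_mulVec a h2 ha]
  refine Finset.sum_congr rfl fun i _ => ?_
  simp only [Matrix.mulVec, dotProduct, Finset.mul_sum, vec_frob a h2 ha]
  exact Finset.sum_congr rfl fun j _ => by ring

end

end Cfsg.Agent.Lib.Helper10.SU5
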