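import Mathlib
import Cfsg.Prelude.Def_ClassicalGeometry
import Cfsg.Agent.Lib.Helper10.SU5Basis

set_option autoImplicit false
set_option maxHeartbeats 1000000

/-!
# Transporting the model matrices to `F^5`
-/

namespace Cfsg.Agent.Lib.Helper10.SU5

open Cfsg.Agent.Lib.Helper10.SUH Matrix
open Cfsg.Agent.Lib.Helper10.SUMLeaf (K4 phi phi_add phi_mul phi_injective phi_surjective two_eq_zero pow_four exists_omega)

section

variable {F : Type*} [Field F]

theorem mat_injective (a : F) (h2 : (2 : F) = 0) (ha0 : a ≠ 0) (ha1 : a ≠ 1) {A B : M5}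
    (h : mat a A = mat a B) : A = B := by
  have hc : ∀ j : Fin 5, A.col j = B.col j := by
    intro j
    apply vec_injective a h2 ha0 ha1
    funext i
    have := congrFun (congrFun h i) j
    simpa [mat] using this
  have h0 := hc 0
  have h1 := hc 1
  have h2' := hc 2
  have h3 := hc 3
  have h4 := hc 4
  cases A
  cases B
  simp only [M5.col] at h0 h1 h2' h3 h4
  simp only [M5.mk.injEq]
  exact ⟨h0, h1, h2', h3, h4⟩

theorem vec_surjective [Fintype F] (hF : Fintype.card F = 2 ^ 2) (a : F) (ha0 : a ≠ 0) (ha1 : a ≠ 1)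
    (c : Fin 5 → F) : ∃ v : V5, vec a v = c := by
  obtain ⟨x0, hx0⟩ := phi_surjective hF a ha0 ha1 (c 0)
  obtain ⟨x1, hx1⟩ := phi_surjective hF a ha0 ha1 (c 1)
  obtain ⟨x2, hx2⟩ := phi_surjective hF a ha0 ha1 (c 2)
  obtain ⟨x3, hx3⟩ := phi_surjective hF a ha0 ha1 (c 3)
  obtain ⟨x4, hx4⟩ := phi_surjective hF a ha0 ha1 (c 4)
  refine ⟨⟨x0, x1, x2, x3, x4⟩, ?_⟩
  funext i
  fin_cases i
  · exact hx0
  · exact hx1
  · exact hx2
  · exact hx3
  · exact hx4

theorem vec_Id5_col (a : F) (i : Fin 5) : vec a (Id5.col i) = Pi.single i 1 := by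
  funext k
  fin_cases i <;> fin_cases k <;> simp [vec, Id5, M5.col, phi_z, phi_o]

variable (a : F) (P P' : Matrix (Fin 5) (Fin 5) F)

/-- the matrix over `F` of a model matrix in the basis `P` -/
def cj (A : M5) : Matrix (Fin 5) (Fin 5) F := P * mat a A * P'

theorem cj_mul (h2 : (2 : F) = 0) (ha : a ^ 2 = a + 1) (hP'P : P' * P = 1) (A B : M5) :
    cj a P P' A * cj a P P' B = cj a P P' (mm A B) := by
  unfold cj
  rw [← mat_mul a h2 ha]
  calc P * mat a A * P' * (P * mat a B * P') = P * mat a A * (P' * P) * mat a B * P' := by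
        simp only [mul_assoc]
    _ = P * (mat a A * mat a B) * P' := by rw [hP'P, mul_one]; simp only [mul_assoc]

theorem cj_Id5 (hPP' : P * P' = 1) : cj a P P' Id5 = 1 := by
  unfold cj
  rw [mat_Id5, mul_one, hPP']

theorem cj_mulVec (h2 : (2 : F) = 0) (ha : a ^ 2 = a + 1) (hP'P : P' * P = 1) (A : M5) (v : V5) :
    cj a P P' A *ᵥ (P *ᵥ vec a v) = P *ᵥ vec a (mv A v) := by
  unfold cj
  rw [Matrix.mulVec_mulVec, mul_assoc, mul_assoc, hP'P, mul_one, ← Matrix.mulVec_mulVec,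
    mat_mulVec a h2 ha]

theorem cj_injective (h2 : (2 : F) = 0) (ha0 : a ≠ 0) (ha1 : a ≠ 1) (hPP' : P * P' = 1)
    (hP'P : P' * P = 1) {A B : M5} (h : cj a P P' A = cj a P P' B) : A = B := by
  apply mat_injective a h2 ha0 ha1
  have : P' * (P * mat a A * P') * P = P' * (P * mat a B * P') * P := by
    unfold cj at h
    rw [h]
  have e : ∀ M : Matrix (Fin 5) (Fin 5) F, P' * (P * M * P') * P = M := by
    intro M
    calc P' * (P * M * P') * P = (P' * P) * M * (P' * P) := by simp only [mul_assoc]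
      _ = M := by rw [hP'P, one_mul, mul_one]
  rwa [e, e] at this

/-- every vector is the image of a model vector -/
theorem exists_model_vec [Fintype F] (hF : Fintype.card F = 2 ^ 2) (ha0 : a ≠ 0) (ha1 : a ≠ 1)
    (hPP' : P * P' = 1) (u : Fin 5 → F) : ∃ v : V5, u = P *ᵥ vec a v := by
  obtain ⟨v, hv⟩ := vec_surjective hF a ha0 ha1 (P' *ᵥ u)
  refine ⟨v, ?_⟩
  rw [hv, Matrix.mulVec_mulVec, hPP', Matrix.one_mulVec]

theorem model_vec_injective (h2 : (2 : F) = 0) (ha0 : a ≠ 0) (ha1 : a ≠ 1) (hP'P : P' * P = 1)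
    {v w : V5} (h : P *ᵥ vec a v = P *ᵥ vec a w) : v = w := by
  apply vec_injective a h2 ha0 ha1
  have := congrArg (fun u => P' *ᵥ u) h
  simpa only [Matrix.mulVec_mulVec, hP'P, Matrix.one_mulVec] using this

/-- a matrix is unitary as soon as it preserves the Gram matrix of a basis -/
theorem unitary_of_basis (h2 : (2 : F) = 0) (hPP' : P * P' = 1) (M : Matrix (Fin 5) (Fin 5) F)
    (h : ∀ i j : Fin 5, hf (M *ᵥ (P *ᵥ Pi.single i 1)) (M *ᵥ (P *ᵥ Pi.single j 1)) =
      hf (P *ᵥ Pi.single i 1) (P *ᵥ Pi.single j 1)) (u v : Fin 5 → F) :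
    hf (M *ᵥ u) (M *ᵥ v) = hf u v := by
  have hdec : ∀ u : Fin 5 → F, u = ∑ i, (P' *ᵥ u) i • (P *ᵥ Pi.single i 1) := by
    intro u
    have h1 : P' *ᵥ u = ∑ i, (P' *ᵥ u) i • (Pi.single i 1 : Fin 5 → F) := by
      funext k
      simp [Finset.sum_apply, Pi.single_apply]
    calc u = P *ᵥ (P' *ᵥ u) := by rw [Matrix.mulVec_mulVec, hPP', Matrix.one_mulVec]
      _ = P *ᵥ (∑ i, (P' *ᵥ u) i • (Pi.single i 1 : Fin 5 → F)) := by rw [← h1]
      _ = _ := by
        rw [Matrix.mulVec_sum]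
        exact Finset.sum_congr rfl fun i _ => Matrix.mulVec_smul _ _ _
  rw [hdec u, hdec v]
  simp only [Matrix.mulVec_sum, Matrix.mulVec_smul, hf_sum_left, hf_sum_right h2, hf_smul_left,
    hf_smul_right, h]

theorem cj_unitary [Fintype F] (h2 : (2 : F) = 0) (ha : a ^ 2 = a + 1) (hPP' : P * P' = 1)
    (hP'P : P' * P = 1)
    (hform : ∀ v w : V5, hf (P *ᵥ vec a v) (P *ᵥ vec a w) = phi a (hG v w)) (A : M5)
    (hA : ∀ i j : Fin 5, hG (mv A (Id5.col i)) (mv A (Id5.col j)) = hG (Id5.col i) (Id5.col j))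
    (u v : Fin 5 → F) : hf (cj a P P' A *ᵥ u) (cj a P P' A *ᵥ v) = hf u v := by
  apply unitary_of_basis P P' h2 hPP'
  intro i j
  rw [← vec_Id5_col a i, ← vec_Id5_col a j, cj_mulVec a P P' h2 ha hP'P, cj_mulVec a P P' h2 ha hP'P,
    hform, hform, hA]

end

section Stab

variable {F : Type*} [Field F] {n : ℕ}

/-- an invertible matrix mapping a finite set into itself stabilises it -/
theorem mem_stabilizing_of_mapsTo (g : Matrix.GeneralLinearGroup (Fin n) F) (S : Set (Fin n → F))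
    (hS : S.Finite) (h : ∀ w ∈ S, (g : Matrix (Fin n) (Fin n) F) *ᵥ w ∈ S) :
    g ∈ Cfsg.stabilizing (Cfsg.glToMat (Fin n) F) S := by
  intro v
  show v ∈ S ↔ (g : Matrix (Fin n) (Fin n) F) *ᵥ v ∈ S
  refine ⟨h v, fun hv => ?_⟩
  haveI : Finite ↥S := hS.to_subtype
  have hginj : ∀ w w' : Fin n → F, (g : Matrix (Fin n) (Fin n) F) *ᵥ w =
      (g : Matrix (Fin n) (Fin n) F) *ᵥ w' → w = w' := by
    intro w w' hww
    have := congrArg (fun u => ((g⁻¹ : Matrix.GeneralLinearGroup (Fin n) F) : Matrix (Fin n) (Fin n) F) *ᵥ u) hww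
    simpa only [Matrix.mulVec_mulVec, ← Units.val_mul, inv_mul_cancel, Units.val_one,
      Matrix.one_mulVec] using this
  let f : ↥S → ↥S := fun w => ⟨(g : Matrix (Fin n) (Fin n) F) *ᵥ w.1, h w.1 w.2⟩
  have hf : Function.Injective f := by
    intro w w' hww
    exact Subtype.ext (hginj _ _ (congrArg Subtype.val hww))
  obtain ⟨w, hw⟩ := Finite.surjective_of_injective hf ⟨_, hv⟩
  have : w.1 = v := hginj _ _ (congrArg Subtype.val hw)
  rw [← this]
  exact w.2

theorem pow_mapsTo (M : Matrix (Fin n) (Fin n) F) (S : Set (Fin n → F)) (h : ∀ w ∈ S, M *ᵥ w ∈ S)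
    (k : ℕ) : ∀ w ∈ S, M ^ k *ᵥ w ∈ S := by
  induction k with
  | zero => intro w hw; simpa using hw
  | succ k ih =>
    intro w hw
    rw [pow_succ, ← Matrix.mulVec_mulVec]
    exact ih _ (h w hw)

theorem eq_one_of_sq (h2 : (2 : F) = 0) {δ : F} (h : δ ^ 2 = 1) : δ = 1 := by
  have : (δ - 1) * (δ - 1) = 0 := by linear_combination h + (1 - δ) * h2
  exact sub_eq_zero.mp (mul_self_eq_zero.mp this)

end Stab

end Cfsg.Agent.Lib.Helper10.SU5
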