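import Mathlib
import Cfsg.Agent.Lib.Helper10.SUAdj

set_option autoImplicit false

/-!
# The extension field of degree five of the field with four elements, realised by matrices
-/

namespace Cfsg.Agent.Lib.Helper10.SU5

open Cfsg.Agent.Lib.Helper10.SUMLeaf Cfsg.Agent.Lib.Helper10.SUH Matrix Module

section

variable {F : Type*} [Field F] [Fintype F] {E : Type*} [Field E] [Algebra F E]

theorem finite_E (hfin : finrank F E = 5) : Finite E := by
  haveI : Module.Finite F E := Module.finite_of_finrank_pos (by rw [hfin]; norm_num)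
  exact Module.finite_of_finite F

theorem card_E (hF : Fintype.card F = 2 ^ 2) (hfin : finrank F E = 5) [Fintype E] :
    Fintype.card E = 2 ^ 10 := by
  rw [Module.card_eq_pow_finrank (K := F) (V := E), hfin, hF, ← pow_mul]

theorem two_eq_zero_E (hF : Fintype.card F = 2 ^ 2) : (2 : E) = 0 := by
  have := congrArg (algebraMap F E) (two_eq_zero hF)
  rw [map_ofNat, map_zero] at this
  exact this

theorem pow_card_E (hF : Fintype.card F = 2 ^ 2) (hfin : finrank F E = 5) (y : E) : y ^ 1024 = y := by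
  have := finite_E hfin
  haveI : Fintype E := Fintype.ofFinite E
  have := FiniteField.pow_card y
  rwa [card_E hF hfin] at this

/-- an element of order eleven -/
theorem exists_order11 (hF : Fintype.card F = 2 ^ 2) (hfin : finrank F E = 5) : ∃ x : E, orderOf x = 11 := by
  classical
  have := finite_E hfin
  haveI : Fintype E := Fintype.ofFinite E
  haveI : Fact (Nat.Prime 11) := ⟨by norm_num⟩
  have hc : Fintype.card Eˣ = 1023 := by
    rw [Fintype.card_units, card_E hF hfin]
    norm_num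
  obtain ⟨u, hu⟩ := exists_prime_orderOf_dvd_card 11 (show 11 ∣ Fintype.card Eˣ by rw [hc]; norm_num)
  exact ⟨(u : E), by rw [orderOf_units, hu]⟩

theorem ga_or_gb (h2E : (2 : E) = 0) (A x : E) (hA : A ^ 2 = A + 1) (hx : x ^ 11 = 1) (hx1 : x ≠ 1) :
    x ^ 5 = 1 + A * x + x ^ 2 + x ^ 3 + (A + 1) * x ^ 4 ∨
      x ^ 5 = 1 + (A + 1) * x + x ^ 2 + x ^ 3 + A * x ^ 4 := by
  have h : (x - 1) * ((x ^ 5 + (A + 1) * x ^ 4 + x ^ 3 + x ^ 2 + A * x + 1) *
      (x ^ 5 + A * x ^ 4 + x ^ 3 + x ^ 2 + (A + 1) * x + 1)) = 0 := by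
    linear_combination (-x ^ 2 + x ^ 3 - 2 * x ^ 5 + 2 * x ^ 6 - x ^ 8 + x ^ 9) * hA +
      (-x * A - x ^ 2 - x ^ 4 * A - 2 * x ^ 5 + 2 * x ^ 6 + x ^ 7 * A + x ^ 9 + x ^ 10 * A) * h2E + hx
  rcases mul_eq_zero.mp h with h | h
  · exact absurd (sub_eq_zero.mp h) hx1
  rcases mul_eq_zero.mp h with h | h
  · left
    linear_combination h - (A * x + 1 + x ^ 2 + x ^ 3 + (A + 1) * x ^ 4) * h2E
  · right
    linear_combination h - ((A + 1) * x + 1 + x ^ 2 + x ^ 3 + A * x ^ 4) * h2E

/-- an element of order eleven which is a root of `x⁵ + ω² x⁴ + x³ + x² + ω x + 1` -/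
theorem exists_x (hF : Fintype.card F = 2 ^ 2) (hfin : finrank F E = 5) (a : F) (ha : a ^ 2 = a + 1) :
    ∃ x : E, orderOf x = 11 ∧ x ^ 5 = 1 + algebraMap F E a * x + x ^ 2 + x ^ 3 +
      (algebraMap F E a + 1) * x ^ 4 := by
  obtain ⟨x, hx⟩ := exists_order11 hF hfin
  have h2E : (2 : E) = 0 := two_eq_zero_E hF
  have hA : (algebraMap F E a) ^ 2 = algebraMap F E a + 1 := by
    rw [← map_pow, ha, map_add, map_one]
  have hx11 : x ^ 11 = 1 := by rw [← hx]; exact pow_orderOf_eq_one x
  have hx1 : x ≠ 1 := by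
    intro h
    rw [h, orderOf_one] at hx
    norm_num at hx
  rcases ga_or_gb h2E _ x hA hx11 hx1 with h | h
  · exact ⟨x, hx, h⟩
  · refine ⟨x ^ 10, ?_, ?_⟩
    · rw [Nat.Coprime.orderOf_pow (by rw [hx]; norm_num), hx]
    · set A := algebraMap F E a with hAdef
      have e50 : (x ^ 10) ^ 5 = x ^ 6 := by
        calc (x ^ 10) ^ 5 = (x ^ 11) ^ 4 * x ^ 6 := by ring
          _ = x ^ 6 := by rw [hx11]; ring
      have e20 : (x ^ 10) ^ 2 = x ^ 9 := by
        calc (x ^ 10) ^ 2 = (x ^ 11) * x ^ 9 := by ring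
          _ = x ^ 9 := by rw [hx11]; ring
      have e30 : (x ^ 10) ^ 3 = x ^ 8 := by
        calc (x ^ 10) ^ 3 = (x ^ 11) ^ 2 * x ^ 8 := by ring
          _ = x ^ 8 := by rw [hx11]; ring
      have e40 : (x ^ 10) ^ 4 = x ^ 7 := by
        calc (x ^ 10) ^ 4 = (x ^ 11) ^ 3 * x ^ 7 := by ring
          _ = x ^ 7 := by rw [hx11]; ring
      rw [e50, e20, e30, e40]
      linear_combination (-x ^ 6) * h + hx11 +
        (-(A + 1) * x ^ 7 - x ^ 8 - x ^ 9 - A * x ^ 10) * h2E

/-- the adjoint on the field is the map `y ↦ y³²` -/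
theorem adj_rho (hF : Fintype.card F = 2 ^ 2) (hfin : finrank F E = 5) {n : ℕ} (hn : 0 < n)
    (ρ : E →ₐ[F] Matrix (Fin n) (Fin n) F) (hinj : Function.Injective ρ)
    (hcl : ∀ y : E, adj (ρ y) ∈ ρ.range) (y : E) : adj (ρ y) = ρ (y ^ 32) := by
  classical
  have h2 := two_eq_zero hF
  have h4 := pow_four hF
  have := finite_E hfin
  haveI : Fintype E := Fintype.ofFinite E
  have h2E : (2 : E) = 0 := two_eq_zero_E hF
  haveI : CharP E 2 := CharTwo.of_one_ne_zero_of_two_eq_zero one_ne_zero h2E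
  letI : Algebra (ZMod 2) E := ZMod.algebra E 2
  have hex : ∀ y : E, ∃ z : E, ρ z = adj (ρ y) := fun y => (AlgHom.mem_range ρ).mp (hcl y)
  choose t ht using hex
  have hcomm : ∀ k l : Matrix (Fin n) (Fin n) F, k ∈ ρ.range → l ∈ ρ.range → k * l = l * k := by
    rintro k l ⟨u, rfl⟩ ⟨v, rfl⟩
    rw [← map_mul, ← map_mul, mul_comm]
  let τ₀ : E →+* E :=
    { toFun := t
      map_one' := by
        apply hinj
        rw [ht, map_one, adj_one]
      map_mul' := by
        intro u v
        apply hinj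
        rw [ht, map_mul, adj_mul h2, map_mul, ht, ht]
        exact hcomm _ _ (hcl v) (hcl u)
      map_zero' := by
        apply hinj
        rw [ht, map_zero, adj_zero]
      map_add' := by
        intro u v
        apply hinj
        rw [ht, map_add, map_add, adj_add h2, ht, ht] }
  let τ : E →ₐ[ZMod 2] E :=
    { τ₀ with
      commutes' := by
        intro r
        have : τ₀.comp (algebraMap (ZMod 2) E) = algebraMap (ZMod 2) E := Subsingleton.elim _ _
        exact RingHom.congr_fun this r }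
  have hτ : ∀ u, ρ (τ u) = adj (ρ u) := ht
  have hττ : τ * τ = 1 := by
    apply AlgHom.ext
    intro u
    apply hinj
    show ρ (τ (τ u)) = ρ u
    rw [hτ, hτ, adj_adj h4]
  have hrank : finrank (ZMod 2) E = 10 := by
    have h1 := Module.card_eq_pow_finrank (K := ZMod 2) (V := E)
    rw [card_E hF hfin, ZMod.card] at h1
    exact (Nat.pow_right_injective (le_refl 2) h1).symm
  obtain ⟨⟨j, hj⟩, hjτ⟩ := (FiniteField.bijective_frobeniusAlgHom_pow (ZMod 2) E).2 τ
  simp only at hjτ
  rw [hrank] at hj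
  have hdvd : 10 ∣ j * 2 := by
    rw [← hrank, ← FiniteField.orderOf_frobeniusAlgHom (ZMod 2) E]
    apply orderOf_dvd_of_pow_eq_one
    rw [pow_mul, hjτ, pow_two, hττ]
  have hτy : ∀ u, τ u = u ^ (2 ^ j) := by
    intro u
    rw [← hjτ, AlgHom.coe_pow, FiniteField.coe_frobeniusAlgHom, pow_iterate, ZMod.card]
  have hj5 : j = 0 ∨ j = 5 := by omega
  rcases hj5 with rfl | rfl
  · exfalso
    obtain ⟨a, ha0, ha1, ha⟩ := exists_omega hF
    have h1 := hτ (algebraMap F E a)
    rw [hτy, pow_zero, pow_one, AlgHom.commutes, Algebra.algebraMap_eq_smul_one, adj_smul, adj_one] at h1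
    have h3 := congrFun (congrFun h1 ⟨0, hn⟩) ⟨0, hn⟩
    simp only [Matrix.smul_apply, Matrix.one_apply_eq, smul_eq_mul, mul_one] at h3
    apply ha1
    have : a * (a - 1) = 0 := by linear_combination -h3
    rcases mul_eq_zero.mp this with h | h
    · exact absurd h ha0
    · exact sub_eq_zero.mp h
  · rw [← hτ, hτy]
    norm_num

/-- the powers `1, x, …, x⁴` of an element of order eleven are linearly independent -/
theorem li_pow (hF : Fintype.card F = 2 ^ 2) (hfin : finrank F E = 5) (x : E) (hx : orderOf x = 11) :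
    LinearIndependent F (fun i : Fin 5 => x ^ (i : ℕ)) := by
  haveI : Module.Finite F E := Module.finite_of_finrank_pos (by rw [hfin]; norm_num)
  have hint : IsIntegral F x := IsIntegral.of_finite F x
  have hx11 : x ^ 11 = 1 := by rw [← hx]; exact pow_orderOf_eq_one x
  have hx0 : x ≠ 0 := by
    rintro rfl
    rw [zero_pow (by norm_num)] at hx11
    exact zero_ne_one hx11
  have hdeg : (minpoly F x).natDegree = 5 := by
    have h1 := IntermediateField.adjoin.finrank hint
    have h2 := Module.finrank_mul_finrank F (IntermediateField.adjoin F {x}) E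
    rw [h1, hfin] at h2
    have hd : (minpoly F x).natDegree ∣ 5 := Dvd.intro _ h2
    rcases (Nat.dvd_prime (by norm_num)).mp hd with h | h
    · exfalso
      have hdeg1 : (minpoly F x).degree = 1 := by
        have h' : (minpoly F x).degree = ((1 : ℕ) : WithBot ℕ) :=
          (Polynomial.degree_eq_iff_natDegree_eq (minpoly.ne_zero hint)).mpr h
        simpa using h'
      obtain ⟨c, hc⟩ := minpoly.mem_range_of_degree_eq_one F x hdeg1
      have hx4 : x ^ 4 = x := by
        rw [← hc, ← map_pow, pow_four hF]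
      have hx3 : x ^ 3 = 1 := by
        have : x * x ^ 3 = x * 1 := by rw [mul_one]; linear_combination hx4
        exact mul_left_cancel₀ hx0 this
      have := orderOf_dvd_of_pow_eq_one hx3
      rw [hx] at this
      norm_num at this
    · exact h
  have := linearIndependent_pow (K := F) x
  rw [hdeg] at this
  exact this

omit [Fintype F] in
theorem conj_mul' {n : ℕ} (g g' k l : Matrix (Fin n) (Fin n) F) (h : g' * g = 1) :
    g * (k * l) * g' = (g * k * g') * (g * l * g') := by
  have : (g * k * g') * (g * l * g') = g * k * (g' * g) * l * g' := by simp only [mul_assoc]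
  rw [this, h, mul_one]
  simp only [mul_assoc]

omit [Fintype F] in
theorem rho_mulVec_eq_zero {n : ℕ} (ρ : E →ₐ[F] Matrix (Fin n) (Fin n) F) {y : E} {v : Fin n → F}
    (hv : v ≠ 0) (h : ρ y *ᵥ v = 0) : y = 0 := by
  by_contra hy
  apply hv
  have h1 : ρ (y⁻¹ * y) *ᵥ v = v := by rw [inv_mul_cancel₀ hy, map_one, Matrix.one_mulVec]
  rw [map_mul, ← Matrix.mulVec_mulVec, h, Matrix.mulVec_zero] at h1
  exact h1.symm

/-- an element normalising the field acts on it as a power of the Frobenius map -/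
theorem conj_eq_pow (hF : Fintype.card F = 2 ^ 2) (hfin : finrank F E = 5) {n : ℕ}
    (ρ : E →ₐ[F] Matrix (Fin n) (Fin n) F) (hinj : Function.Injective ρ)
    (g : Matrix.GeneralLinearGroup (Fin n) F) (hg : g ∈ Cfsg.Geo.subalgebraNormalizer ρ.range) :
    ∃ j : ℕ, ∀ y : E, (g : Matrix (Fin n) (Fin n) F) * ρ y *
      ((g⁻¹ : Matrix.GeneralLinearGroup (Fin n) F) : Matrix (Fin n) (Fin n) F) = ρ (y ^ (4 ^ j)) := by
  classical
  have := finite_E hfin
  have hgg : (g : Matrix (Fin n) (Fin n) F) *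
      ((g⁻¹ : Matrix.GeneralLinearGroup (Fin n) F) : Matrix (Fin n) (Fin n) F) = 1 := by
    rw [← Units.val_mul, mul_inv_cancel, Units.val_one]
  have hgg' : ((g⁻¹ : Matrix.GeneralLinearGroup (Fin n) F) : Matrix (Fin n) (Fin n) F) *
      (g : Matrix (Fin n) (Fin n) F) = 1 := by
    rw [← Units.val_mul, inv_mul_cancel, Units.val_one]
  have hex : ∀ y : E, ∃ z : E, ρ z = (g : Matrix (Fin n) (Fin n) F) * ρ y *
      ((g⁻¹ : Matrix.GeneralLinearGroup (Fin n) F) : Matrix (Fin n) (Fin n) F) := fun y =>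
    (AlgHom.mem_range ρ).mp ((hg (ρ y)).mp ((AlgHom.mem_range ρ).mpr ⟨y, rfl⟩))
  choose t ht using hex
  let θ : E →ₐ[F] E :=
    { toFun := t
      map_one' := by
        apply hinj
        rw [ht, map_one, mul_one, hgg]
      map_mul' := by
        intro u v
        apply hinj
        rw [ht, map_mul, map_mul, ht, ht]
        exact conj_mul' _ _ _ _ hgg'
      map_zero' := by
        apply hinj
        rw [ht, map_zero, mul_zero, zero_mul]
      map_add' := by
        intro u v
        apply hinj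
        rw [ht, map_add, map_add, ht, ht, mul_add, add_mul]
      commutes' := by
        intro c
        apply hinj
        rw [ht, AlgHom.commutes, Algebra.algebraMap_eq_smul_one, Matrix.mul_smul, Matrix.smul_mul,
          mul_one, hgg] }
  obtain ⟨⟨j, hj⟩, hjθ⟩ := (FiniteField.bijective_frobeniusAlgHom_pow F E).2 θ
  simp only at hjθ
  refine ⟨j, fun y => ?_⟩
  have hθy : θ y = y ^ (4 ^ j) := by
    rw [← hjθ, AlgHom.coe_pow, FiniteField.coe_frobeniusAlgHom, pow_iterate, hF]
    norm_num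
  rw [← hθy]
  exact (ht y).symm

/-- the unitary elements of the field -/
theorem unitary_in_range (hF : Fintype.card F = 2 ^ 2) (hfin : finrank F E = 5) {n : ℕ}
    (ρ : E →ₐ[F] Matrix (Fin n) (Fin n) F) (hinj : Function.Injective ρ)
    (hadj : ∀ y : E, adj (ρ y) = ρ (y ^ 32)) (x : E) (hx : orderOf x = 11) (y : E)
    (hy : adj (ρ y) * ρ y = 1) :
    ∃ (c : F) (m : ℕ), c ≠ 0 ∧ y = algebraMap F E c * x ^ m := by
  obtain ⟨a, ha0, ha1, ha⟩ := exists_omega hF
  have h2 := two_eq_zero hF
  have h2E : (2 : E) = 0 := two_eq_zero_E hF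
  have hA : (algebraMap F E a) ^ 2 = algebraMap F E a + 1 := by
    rw [← map_pow, ha, map_add, map_one]
  have hy33 : y ^ 33 = 1 := by
    apply hinj
    rw [map_one, ← hy, hadj, ← map_mul]
    congr 1
    ring
  have hz3 : (y ^ 11) ^ 3 = 1 := by rw [← pow_mul]; exact hy33
  have hw11 : (y ^ 3) ^ 11 = 1 := by rw [← pow_mul]; exact hy33
  haveI : NeZero (11 : ℕ) := ⟨by norm_num⟩
  have hprim : IsPrimitiveRoot x 11 := by rw [← hx]; exact IsPrimitiveRoot.orderOf x
  obtain ⟨i, -, hi⟩ := hprim.eq_pow_of_pow_eq_one hw11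
  have hz : ∃ c : F, c ≠ 0 ∧ y ^ 11 = algebraMap F E c := by
    set z := y ^ 11 with hzdef
    set A := algebraMap F E a with hAdef
    have hfac : (z - 1) * ((z - A) * (z - (A + 1))) = 0 := by
      linear_combination (z - 1) * hA + (z - 1) * (-z - A * z + A) * h2E + hz3
    rcases mul_eq_zero.mp hfac with h | h
    · exact ⟨1, one_ne_zero, by rw [map_one]; exact sub_eq_zero.mp h⟩
    rcases mul_eq_zero.mp h with h | h
    · exact ⟨a, ha0, sub_eq_zero.mp h⟩
    · refine ⟨a + 1, fun h0 => ha1 (by linear_combination h0 - h2), ?_⟩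
      rw [map_add, map_one]
      exact sub_eq_zero.mp h
  obtain ⟨c, hc0, hc⟩ := hz
  refine ⟨c ^ 2, 4 * i, pow_ne_zero 2 hc0, ?_⟩
  rw [map_pow, ← hc, pow_mul', hi]
  calc y = y ^ 33 * y := by rw [hy33, one_mul]
    _ = (y ^ 11) ^ 2 * ((y ^ 3) ^ 4) := by ring

end

end Cfsg.Agent.Lib.Helper10.SU5
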