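import Mathlib
import Cfsg.Prelude.Def_GeometricClasses
import Cfsg.Agent.Lib.Helper27.AschKF3
import Cfsg.Agent.Lib.Helper10.SU5Field
import Cfsg.Agent.Lib.Helper10.SU5Conj

set_option autoImplicit false
set_option maxHeartbeats 2000000

/-!
# `11 : 5 < L_2(11) < SU_5(2)`: the normaliser of an extension field of degree five is not maximal in `SU_5(2)`
-/

namespace Cfsg.Agent.Lib.Helper10.SU5

open Cfsg.Agent.Lib.Helper10.SUH Matrix Module
open Cfsg.Agent.Lib.Helper10.SUMLeaf (K4 phi phi_add phi_mul phi_injective phi_surjective two_eq_zero pow_four exists_omega)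

variable {F : Type*} [Field F] [Fintype F]

omit [Fintype F] in
theorem pow5_eq (h4 : ∀ x : F, x ^ 4 = x) (δ : F) : δ ^ 5 = δ ^ 2 := by
  calc δ ^ 5 = δ ^ 4 * δ := by ring
    _ = δ * δ := by rw [h4]
    _ = δ ^ 2 := by ring

omit [Fintype F] in
theorem pow11_eq (h4 : ∀ x : F, x ^ 4 = x) (δ : F) : δ ^ 11 = δ ^ 2 := by
  calc δ ^ 11 = (δ ^ 4) ^ 2 * δ ^ 3 := by ring
    _ = δ ^ 2 * δ ^ 3 := by rw [h4]
    _ = δ ^ 4 * δ := by ring
    _ = δ * δ := by rw [h4]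
    _ = δ ^ 2 := by ring

theorem su5_main (hF : Fintype.card F = 2 ^ 2)
    {K : Subalgebra F (Matrix (Fin 5) (Fin 5) F)} (hK : Cfsg.Geo.IsFieldSubalgebra 5 K)
    (hadj : Cfsg.Geo.IsAdjointClosedFor (Cfsg.hermForm 5 F 2) K) :
    ¬ Cfsg.Geo.IsMaximalIn (Cfsg.GU 5 F 2 ⊓ Cfsg.Geo.specialLinear (Fin 5) F)
      (Cfsg.Geo.subalgebraNormalizer K ⊓ (Cfsg.GU 5 F 2 ⊓ Cfsg.Geo.specialLinear (Fin 5) F)) := by
  classical
  rintro ⟨-, hmax⟩
  have h2 := two_eq_zero hF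
  have h4 := pow_four hF
  obtain ⟨a, ha0, ha1, ha⟩ := exists_omega hF
  obtain ⟨E, instE, instA, ρ, hinj, hrange, hfin⟩ :=
    Cfsg.Agent.Lib.Helper27.AschKF3.exists_model 5 (by norm_num) K hK
  have hmemK : ∀ y : E, ρ y ∈ K := fun y => by
    rw [← hrange]; exact (AlgHom.mem_range ρ).mpr ⟨y, rfl⟩
  have hcl : ∀ y : E, adj (ρ y) ∈ ρ.range := fun y => by
    rw [hrange]; exact adj_mem_of_closed h2 h4 hadj (hmemK y)
  have hadjρ := adj_rho hF hfin (by norm_num) ρ hinj hcl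
  obtain ⟨x, hx, hx5⟩ := exists_x (E := E) hF hfin a ha
  have hx11 : x ^ 11 = 1 := by rw [← hx]; exact pow_orderOf_eq_one x
  obtain ⟨s, hs⟩ : ∃ s, s = ρ x := ⟨_, rfl⟩
  have hs11 : s ^ 11 = 1 := by rw [hs, ← map_pow, hx11, map_one]
  have hs5 : s ^ 5 = 1 + a • s + s ^ 2 + s ^ 3 + (a + 1) • s ^ 4 := by
    have hx5' : x ^ 5 = 1 + a • x + x ^ 2 + x ^ 3 + (a + 1) • x ^ 4 := by
      rw [hx5]
      simp only [Algebra.smul_def, map_add, map_one]
    have h := congrArg ρ hx5'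
    simp only [map_add, map_smul, map_pow, map_one, ← hs] at h
    exact h
  have hsK : s ∈ K := hs ▸ hmemK x
  have hsadj : adj s * s = 1 := by
    rw [hs, hadjρ, ← map_mul, ← pow_succ, show 32 + 1 = 11 * 3 from rfl, pow_mul, hx11, one_pow, map_one]
  have hsU : ∀ u v : Fin 5 → F, hf (s *ᵥ u) (s *ᵥ v) = hf u v := by
    intro u v
    rw [hf_adj h2 h4, Matrix.mulVec_mulVec, hsadj, Matrix.one_mulVec]
  obtain ⟨v₁, d0, d1, d2, d3, d4⟩ := exists_v1 s hF a ha0 ha1 ha hsU hs11 hs5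
  have hv₁ : v₁ ≠ 0 := by
    rintro rfl
    rw [pow_zero, Matrix.one_mulVec] at d0
    have h0 : hf (0 : Fin 5 → F) 0 = 0 := by simp [hf_def]
    rw [h0] at d0
    exact zero_ne_one d0
  have hGr := gram_table s h2 h4 a ha hsU v₁ d0 d1 d2 d3 d4
  obtain ⟨P, hP⟩ : ∃ P, P = Pmat s v₁ := ⟨_, rfl⟩
  have hform : ∀ v w : V5, hf (P *ᵥ vec a v) (P *ᵥ vec a w) = phi a (hG v w) := by
    rw [hP]; exact form_bridge s h2 a ha v₁ hGr
  have hpoly : ∀ c : Fin 5 → F, (∑ j, c j • s ^ (j : ℕ)) = ρ (∑ j, c j • x ^ (j : ℕ)) := by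
    intro c
    rw [map_sum]
    refine Finset.sum_congr rfl fun j _ => ?_
    rw [map_smul, map_pow, hs]
  have hPpoly : ∀ c : Fin 5 → F, P *ᵥ c = (∑ j, c j • s ^ (j : ℕ)) *ᵥ v₁ := by
    intro c; rw [hP]; exact Pmat_mulVec_poly s v₁ c
  have hli := li_pow hF hfin x hx
  have hPinj : Function.Injective P.mulVec := by
    intro c c' hcc
    have h0 : P *ᵥ (c - c') = 0 := by rw [Matrix.mulVec_sub]; exact sub_eq_zero.mpr hcc
    rw [hPpoly, hpoly] at h0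
    have h1 := rho_mulVec_eq_zero ρ hv₁ h0
    have h3 := Fintype.linearIndependent_iff.mp hli (c - c') h1
    funext i
    exact sub_eq_zero.mp (h3 i)
  have hdet : IsUnit P.det := (Matrix.isUnit_iff_isUnit_det P).mp (Matrix.mulVec_injective_iff_isUnit.mp hPinj)
  obtain ⟨P', hP'⟩ : ∃ P', P' = P⁻¹ := ⟨_, rfl⟩
  have hPP' : P * P' = 1 := by rw [hP']; exact Matrix.mul_nonsing_inv P hdet
  have hP'P : P' * P = 1 := by rw [hP']; exact Matrix.nonsing_inv_mul P hdet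
  -- `s` in the model
  have hsP : s * P = P * mat a Cm := by
    apply mat_ext_mulVec
    intro c
    rw [← Matrix.mulVec_mulVec, ← Matrix.mulVec_mulVec, hPpoly, hPpoly, Matrix.mulVec_mulVec]
    congr 1
    simp only [Fin.sum_univ_five, Matrix.mulVec, dotProduct, mat, Matrix.of_apply, vec, Cm, M5.col,
      Matrix.cons_val_zero, Matrix.cons_val_one, Matrix.cons_val, phi_z, phi_o, phi_w, phi_w2,
      Fin.coe_ofNat_eq_mod, Nat.reduceMod, pow_zero, pow_one,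
      zero_mul, one_mul, zero_add, add_zero, mul_add, Matrix.mul_smul, mul_one, ← pow_succ']
    simp only [Nat.reduceAdd, ← pow_two]
    rw [hs5]
    module
  have hscj : s = cj a P P' Cm := by
    unfold cj
    rw [← hsP, mul_assoc, hPP', mul_one]
  -- abbreviations
  have hcjmul : ∀ A B : M5, cj a P P' A * cj a P P' B = cj a P P' (mm A B) := cj_mul a P P' h2 ha hP'P
  have hcj1 : cj a P P' Id5 = 1 := cj_Id5 a P P' hPP'
  have hcjv : ∀ (A : M5) (v : V5), cj a P P' A *ᵥ (P *ᵥ vec a v) = P *ᵥ vec a (mv A v) :=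
    cj_mulVec a P P' h2 ha hP'P
  -- the orbit
  obtain ⟨O, hO⟩ : ∃ O : Set (Fin 5 → F), O = {w | ∃ o ∈ O55, w = P *ᵥ vec a o} := ⟨_, rfl⟩
  have hOfin : O.Finite := by
    have h1 : O ⊆ (fun o => P *ᵥ vec a o) '' {o | o ∈ O55} := by
      rw [hO]
      rintro w ⟨o, ho, rfl⟩
      exact ⟨o, ho, rfl⟩
    exact ((List.finite_toSet O55).image _).subset h1
  have hcjO : ∀ A : M5, (∀ o ∈ O55, mv A o ∈ O55) → ∀ w ∈ O, cj a P P' A *ᵥ w ∈ O := by
    intro A hA w hw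
    rw [hO] at hw ⊢
    obtain ⟨o, ho, rfl⟩ := hw
    exact ⟨mv A o, hA o ho, hcjv A o⟩
  have hcjU : ∀ A : M5, (∀ i j : Fin 5, hG (mv A (Id5.col i)) (mv A (Id5.col j)) =
      hG (Id5.col i) (Id5.col j)) → ∀ u v : Fin 5 → F, hf (cj a P P' A *ᵥ u) (cj a P P' A *ᵥ v) = hf u v :=
    fun A hA => cj_unitary a P P' h2 ha hPP' hP'P hform A hA
  have hdetsq : ∀ M : Matrix.GeneralLinearGroup (Fin 5) F, (M : Matrix (Fin 5) (Fin 5) F).det ^ 2 = 1 →
      M ∈ Cfsg.Geo.specialLinear (Fin 5) F := by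
    intro M hM
    show Matrix.GeneralLinearGroup.det M = 1
    apply Units.ext
    rw [Matrix.GeneralLinearGroup.val_det_apply, Units.val_one]
    exact eq_one_of_sq h2 hM
  have hGUmem : ∀ M : Matrix.GeneralLinearGroup (Fin 5) F,
      (∀ u v : Fin 5 → F, hf ((M : Matrix (Fin 5) (Fin 5) F) *ᵥ u) ((M : Matrix (Fin 5) (Fin 5) F) *ᵥ v) =
        hf u v) → M ∈ Cfsg.GU 5 F 2 := fun M hM => hM
  have hSLdet : ∀ M : Matrix.GeneralLinearGroup (Fin 5) F, M ∈ Cfsg.Geo.specialLinear (Fin 5) F →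
      (M : Matrix (Fin 5) (Fin 5) F).det = 1 := by
    intro M hM
    have h1 : Matrix.GeneralLinearGroup.det M = 1 := hM
    have h3 := congrArg Units.val h1
    rwa [Matrix.GeneralLinearGroup.val_det_apply, Units.val_one] at h3
  -- the element of order five
  obtain ⟨zG, hzG, hzG'⟩ : ∃ zG : Matrix.GeneralLinearGroup (Fin 5) F,
      (zG : Matrix (Fin 5) (Fin 5) F) = cj a P P' Sm ∧
      ((zG⁻¹ : Matrix.GeneralLinearGroup (Fin 5) F) : Matrix (Fin 5) (Fin 5) F) = cj a P P' S4m :=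
    ⟨⟨cj a P P' Sm, cj a P P' S4m, by rw [hcjmul, mm_S_S4, hcj1], by rw [hcjmul, mm_S4_S, hcj1]⟩, rfl, rfl⟩
  have hZ5 : (zG : Matrix (Fin 5) (Fin 5) F) ^ 5 = 1 := by
    have e5 : ∀ M : Matrix (Fin 5) (Fin 5) F, M ^ 5 = (M * M) * (M * M) * M := by
      intro M
      simp only [pow_succ, pow_zero, one_mul, mul_assoc]
    rw [hzG, e5, hcjmul, mm_S_S, hcjmul, mm_S2_S2, hcjmul, mm_S4_S, hcj1]
  have hZU : zG ∈ Cfsg.GU 5 F 2 := by
    apply hGUmem
    rw [hzG]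
    apply hcjU
    have e : ∀ i : Fin 5, mv Sm (Id5.col i) = Sm.col i := by decide
    intro i j
    rw [e, e]
    exact unitary_S i j
  have hZS : zG ∈ Cfsg.Geo.specialLinear (Fin 5) F := by
    apply hdetsq
    have h5 : (zG : Matrix (Fin 5) (Fin 5) F).det ^ 5 = 1 := by rw [← Matrix.det_pow, hZ5, Matrix.det_one]
    have := h4 (zG : Matrix (Fin 5) (Fin 5) F).det
    rw [← h5]
    exact (pow5_eq h4 _).symm
  have hZO : ∀ w ∈ O, (zG : Matrix (Fin 5) (Fin 5) F) *ᵥ w ∈ O := by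
    rw [hzG]; exact hcjO Sm orbit_S
  have hsO : ∀ w ∈ O, s *ᵥ w ∈ O := by
    rw [hscj]; exact hcjO Cm orbit_C
  have hs4 : s ^ 4 = cj a P P' C4m := by
    have e4 : ∀ M : Matrix (Fin 5) (Fin 5) F, M ^ 4 = (M * M) * (M * M) := by
      intro M
      simp only [pow_succ, pow_zero, one_mul, mul_assoc]
    rw [e4]
    conv_lhs => rw [hscj]
    rw [hcjmul, mm_C_C, hcjmul, mm_C2_C2]
  have hZsemi : SemiconjBy (zG : Matrix (Fin 5) (Fin 5) F) s (s ^ 4) := by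
    show (zG : Matrix (Fin 5) (Fin 5) F) * s = s ^ 4 * (zG : Matrix (Fin 5) (Fin 5) F)
    rw [hs4, hzG]
    conv_lhs => rw [hscj]
    rw [hcjmul, hcjmul, mm_S_C]
  have hZk : ∀ k : ℕ, SemiconjBy ((zG ^ k : Matrix.GeneralLinearGroup (Fin 5) F) : Matrix (Fin 5) (Fin 5) F)
      s (s ^ (4 ^ k)) := by
    intro k
    induction k with
    | zero => simp [SemiconjBy]
    | succ k ih =>
      rw [pow_succ', Units.val_mul]
      have h1 := hZsemi.pow_right (4 ^ k)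
      rw [← pow_mul, ← pow_succ'] at h1
      exact h1.mul_left ih
  -- the overgroup
  have hNX : Cfsg.Geo.subalgebraNormalizer K ⊓ (Cfsg.GU 5 F 2 ⊓ Cfsg.Geo.specialLinear (Fin 5) F) ≤
      Cfsg.stabilizing (Cfsg.glToMat (Fin 5) F) O ⊓ (Cfsg.GU 5 F 2 ⊓ Cfsg.Geo.specialLinear (Fin 5) F) := by
    rintro g ⟨hgN, hgU, hgS⟩
    refine ⟨?_, hgU, hgS⟩
    have hgN' : g ∈ Cfsg.Geo.subalgebraNormalizer ρ.range := by rw [hrange]; exact hgN
    obtain ⟨j, hj⟩ := conj_eq_pow hF hfin ρ hinj g hgN'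
    have hgsemi : SemiconjBy (g : Matrix (Fin 5) (Fin 5) F) s (s ^ (4 ^ j)) := by
      show (g : Matrix (Fin 5) (Fin 5) F) * s = s ^ (4 ^ j) * (g : Matrix (Fin 5) (Fin 5) F)
      have h1 := hj x
      rw [map_pow, ← hs] at h1
      rw [← h1, mul_assoc, ← Units.val_mul, inv_mul_cancel, Units.val_one, mul_one]
    obtain ⟨g', hg'⟩ : ∃ g' : Matrix.GeneralLinearGroup (Fin 5) F, g' = (zG ^ j)⁻¹ * g := ⟨_, rfl⟩
    have hg'comm : SemiconjBy (g' : Matrix (Fin 5) (Fin 5) F) s s := by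
      rw [hg', Units.val_mul]
      exact (hZk j).units_inv_symm_left.mul_left hgsemi
    have hg'U : g' ∈ Cfsg.GU 5 F 2 := by
      rw [hg']
      exact Subgroup.mul_mem _ (Subgroup.inv_mem _ (Subgroup.pow_mem _ hZU j)) hgU
    have hg'S : g' ∈ Cfsg.Geo.specialLinear (Fin 5) F := by
      rw [hg']
      exact Subgroup.mul_mem _ (Subgroup.inv_mem _ (Subgroup.pow_mem _ hZS j)) hgS
    -- `g'` is a polynomial in `s`
    obtain ⟨c, hc⟩ : ∃ c : Fin 5 → F, c = P' *ᵥ ((g' : Matrix (Fin 5) (Fin 5) F) *ᵥ v₁) := ⟨_, rfl⟩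
    have hcv : (∑ i, c i • s ^ (i : ℕ)) *ᵥ v₁ = (g' : Matrix (Fin 5) (Fin 5) F) *ᵥ v₁ := by
      rw [← hPpoly, hc, Matrix.mulVec_mulVec, hPP', Matrix.one_mulVec]
    have hcomm_poly : ∀ (M : Matrix (Fin 5) (Fin 5) F), Commute M s → ∀ c' : Fin 5 → F,
        Commute M (∑ i, c' i • s ^ (i : ℕ)) := by
      intro M hM c'
      exact Commute.sum_right _ _ _ fun i _ => (hM.pow_right _).smul_right _
    have hss : Commute s s := Commute.refl s
    have hg'eq : (g' : Matrix (Fin 5) (Fin 5) F) = ∑ i, c i • s ^ (i : ℕ) := by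
      apply mat_ext_mulVec
      intro u
      have hu : u = P *ᵥ (P' *ᵥ u) := by rw [Matrix.mulVec_mulVec, hPP', Matrix.one_mulVec]
      rw [hu, hPpoly, Matrix.mulVec_mulVec, Matrix.mulVec_mulVec]
      have e1 : (g' : Matrix (Fin 5) (Fin 5) F) * (∑ j, (P' *ᵥ u) j • s ^ (j : ℕ)) =
          (∑ j, (P' *ᵥ u) j • s ^ (j : ℕ)) * (g' : Matrix (Fin 5) (Fin 5) F) :=
        hcomm_poly _ hg'comm _
      have e2 : (∑ i, c i • s ^ (i : ℕ)) * (∑ j, (P' *ᵥ u) j • s ^ (j : ℕ)) =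
          (∑ j, (P' *ᵥ u) j • s ^ (j : ℕ)) * (∑ i, c i • s ^ (i : ℕ)) :=
        hcomm_poly _ (hcomm_poly _ hss c).symm _
      rw [e1, e2, ← Matrix.mulVec_mulVec, ← Matrix.mulVec_mulVec, hcv]
    obtain ⟨y, hy⟩ : ∃ y : E, y = ∑ i, c i • x ^ (i : ℕ) := ⟨_, rfl⟩
    have hg'ρ : (g' : Matrix (Fin 5) (Fin 5) F) = ρ y := by rw [hg'eq, hpoly, hy]
    have hyU : adj (ρ y) * ρ y = 1 := by
      rw [← hg'ρ]
      exact (mem_GU_iff h2 h4 g').mp hg'U
    obtain ⟨c₀, m, hc₀, hym⟩ := unitary_in_range hF hfin ρ hinj hadjρ x hx y hyU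
    have hg'sm : (g' : Matrix (Fin 5) (Fin 5) F) = c₀ • s ^ m := by
      rw [hg'ρ, hym, map_mul, AlgHom.commutes, Algebra.algebraMap_eq_smul_one, smul_mul_assoc, one_mul, map_pow,
        hs]
    have hsdet : s.det = 1 := by
      apply eq_one_of_sq h2
      have h11 : s.det ^ 11 = 1 := by rw [← Matrix.det_pow, hs11, Matrix.det_one]
      have := h4 s.det
      rw [← h11]
      exact (pow11_eq h4 _).symm
    have hc₀1 : c₀ = 1 := by
      apply eq_one_of_sq h2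
      have h1 := hSLdet g' hg'S
      rw [hg'sm, Matrix.det_smul, Matrix.det_pow, hsdet, one_pow, mul_one, Fintype.card_fin] at h1
      have := h4 c₀
      rw [← h1]
      exact (pow5_eq h4 _).symm
    have hgmat : (g : Matrix (Fin 5) (Fin 5) F) = (zG : Matrix (Fin 5) (Fin 5) F) ^ j * s ^ m := by
      have h1 : g = zG ^ j * g' := by rw [hg', mul_inv_cancel_left]
      rw [h1, Units.val_mul, Units.val_pow_eq_pow_val, hg'sm, hc₀1, one_smul]
    apply mem_stabilizing_of_mapsTo g O hOfin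
    intro w hw
    rw [hgmat, ← Matrix.mulVec_mulVec]
    exact pow_mapsTo _ O hZO j _ (pow_mapsTo _ O hsO m w hw)
  rcases hmax _ hNX inf_le_right with h | h
  · -- an involution of the overgroup which does not normalise the field
    obtain ⟨g₁, hg₁, hg₁'⟩ : ∃ g₁ : Matrix.GeneralLinearGroup (Fin 5) F,
        (g₁ : Matrix (Fin 5) (Fin 5) F) = cj a P P' gm ∧
        ((g₁⁻¹ : Matrix.GeneralLinearGroup (Fin 5) F) : Matrix (Fin 5) (Fin 5) F) = cj a P P' gm :=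
      ⟨⟨cj a P P' gm, cj a P P' gm, by rw [hcjmul, mm_g_g, hcj1], by rw [hcjmul, mm_g_g, hcj1]⟩, rfl, rfl⟩
    have hg₁X : g₁ ∈ Cfsg.stabilizing (Cfsg.glToMat (Fin 5) F) O ⊓
        (Cfsg.GU 5 F 2 ⊓ Cfsg.Geo.specialLinear (Fin 5) F) := by
      refine ⟨mem_stabilizing_of_mapsTo g₁ O hOfin ?_, ?_, ?_⟩
      · rw [hg₁]; exact hcjO gm orbit_g
      · apply hGUmem
        rw [hg₁]
        apply hcjU
        have e : ∀ i : Fin 5, mv gm (Id5.col i) = gm.col i := by decide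
        intro i j
        rw [e, e]
        exact unitary_g i j
      · apply hdetsq
        rw [← Matrix.det_pow, pow_two, hg₁, hcjmul, mm_g_g, hcj1, Matrix.det_one]
    rw [h] at hg₁X
    have hN := hg₁X.1
    have hk : (g₁ : Matrix (Fin 5) (Fin 5) F) * s *
        ((g₁⁻¹ : Matrix.GeneralLinearGroup (Fin 5) F) : Matrix (Fin 5) (Fin 5) F) ∈ K := (hN s).mp hsK
    have hcomm := hK.comm _ hk _ hsK
    rw [hg₁, hg₁'] at hcomm
    have e : cj a P P' gm * s * cj a P P' gm = cj a P P' (mm (mm gm Cm) gm) := by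
      conv_lhs => rw [hscj]
      rw [hcjmul, hcjmul]
    rw [e] at hcomm
    have hne : cj a P P' (mm (mm (mm gm Cm) gm) Cm) = cj a P P' (mm Cm (mm (mm gm Cm) gm)) := by
      rw [← hcjmul (mm (mm gm Cm) gm) Cm, ← hcjmul Cm (mm (mm gm Cm) gm), ← hscj]
      exact hcomm
    exact noncomm (cj_injective a P P' h2 ha0 ha1 hPP' hP'P hne)
  · -- a transvection of the special unitary group which moves the orbit
    have hu : hf (P *ᵥ vec a u0) (P *ᵥ vec a u0) = 0 := by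
      rw [hform, u0_isotropic]
      rfl
    obtain ⟨T, hT⟩ : ∃ T, T = tv h2 (P *ᵥ vec a u0) hu := ⟨_, rfl⟩
    have hTK : T ∈ Cfsg.GU 5 F 2 ⊓ Cfsg.Geo.specialLinear (Fin 5) F := by
      rw [hT]
      exact ⟨tv_mem_GU h2 h4 _ hu, tv_mem_SL h2 _ hu⟩
    rw [← h] at hTK
    have hstab := hTK.1 (P *ᵥ vec a o0)
    have hin : P *ᵥ vec a o0 ∈ O := by
      rw [hO]
      exact ⟨o0, o0_mem, rfl⟩
    have hout : (T : Matrix (Fin 5) (Fin 5) F) *ᵥ (P *ᵥ vec a o0) ∈ O := hstab.mp hin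
    rw [hT, tv_mulVec, hform] at hout
    have e : P *ᵥ vec a o0 + phi a (hG o0 u0) • (P *ᵥ vec a u0) =
        P *ᵥ vec a (V5.add o0 (V5.smul (hG o0 u0) u0)) := by
      rw [vec_add a h2, vec_smul a h2 ha, Matrix.mulVec_add, Matrix.mulVec_smul]
    rw [e, hO] at hout
    obtain ⟨o', ho', heq⟩ := hout
    have h3 := model_vec_injective a P P' h2 ha0 ha1 hP'P heq
    rw [← h3] at ho'
    exact tv_moves ho'

end Cfsg.Agent.Lib.Helper10.SU5

namespace Cfsg.Agent.Lib.Helper10.SUMLeaf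

variable {F : Type*} [Field F] [Fintype F]

/-- `11 : 5` is not maximal in `SU_5(2)` (it lies in `L_2(11)`) -/
theorem su5_two_field_not_max (hF : Fintype.card F = 2 ^ 2)
    {K : Subalgebra F (Matrix (Fin 5) (Fin 5) F)} (hK : Cfsg.Geo.IsFieldSubalgebra 5 K)
    (hadj : Cfsg.Geo.IsAdjointClosedFor (Cfsg.hermForm 5 F 2) K) :
    ¬ Cfsg.Geo.IsMaximalIn (Cfsg.GU 5 F 2 ⊓ Cfsg.Geo.specialLinear (Fin 5) F)
      (Cfsg.Geo.subalgebraNormalizer K ⊓ (Cfsg.GU 5 F 2 ⊓ Cfsg.Geo.specialLinear (Fin 5) F)) :=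
  Cfsg.Agent.Lib.Helper10.SU5.su5_main hF hK hadj

end Cfsg.Agent.Lib.Helper10.SUMLeaf
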