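import Cfsg.Agent.Lib.Helper17.SUgDec6
import Cfsg.Agent.Lib.Helper10.F6Main

/-!
# Orthogonal frames are maximal in `SU_n(q)` for every `6 ≤ n`, `q ≥ 3` (S5655 with `k = 1`, `q ≥ 3`, bound `6` instead of `13`)

helper17's re-run `Helper17.SUgDec6` of the non-dense chain (bound `4 ≤ n`) on top of the dense kill for every `6 ≤ n`
(`Helper10.F6Main.not_worldW_six`; its extra hypothesis, the zero pattern closed under inverse-transpose, holds inside `GU`).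
-/

set_option autoImplicit false
set_option linter.unusedSectionVars false
set_option linter.unusedVariables false

namespace Cfsg.Agent.Lib.Helper10.SUgFrames6
open Cfsg Matrix Cfsg.Agent.Lib.Helper11.Mono Cfsg.Agent.Lib.Helper15.MonoLeaf
  Cfsg.Agent.Lib.Helper2.MonoLeaf Cfsg.Agent.Lib.Helper5.SUMax Cfsg.Agent.Lib.Helper5.HermBridge
  Cfsg.Agent.Lib.Helper5.UForm Cfsg.Agent.Lib.Helper18.UNd

variable {F : Type*} [Field F] [Fintype F] {n q : ℕ}

/-- in `GU` an entry vanishes iff the transposed entry of the inverse does: `y i j = ((y⁻¹) j i) ^ q` -/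
theorem entry_eq_inv_pow (hq : q ≠ 0) (y : GL (Fin n) F) (hy : y ∈ Cfsg.GU n F q) (i j : Fin n) :
    (y : Matrix (Fin n) (Fin n) F) i j = (((y⁻¹ : GL (Fin n) F) : Matrix (Fin n) (Fin n) F) j i) ^ q := by
  have h1 := hy (Pi.single j (1 : F)) (((y⁻¹ : GL (Fin n) F) : Matrix (Fin n) (Fin n) F) *ᵥ Pi.single i (1 : F))
  have e1 : (Units.coeHom (Matrix (Fin n) (Fin n) F) y) *ᵥ
      (((y⁻¹ : GL (Fin n) F) : Matrix (Fin n) (Fin n) F) *ᵥ Pi.single i (1 : F)) = Pi.single i (1 : F) := by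
    rw [Units.coeHom_apply]
    exact mulVec_inv_mulVec y _
  rw [e1, Units.coeHom_apply, herm_single_right hq, herm_single_left, Matrix.mulVec_single_one,
    Matrix.mulVec_single_one] at h1
  exact h1

theorem hsym_of_GU (hq : q ≠ 0) (y : GL (Fin n) F) (hy : y ∈ Cfsg.GU n F q) (i j : Fin n)
    (h : (y : Matrix (Fin n) (Fin n) F) i j = 0) :
    ((y⁻¹ : GL (Fin n) F) : Matrix (Fin n) (Fin n) F) j i = 0 := by
  have := entry_eq_inv_pow hq y hy i j
  rw [h] at this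
  exact pow_eq_zero_iff (by omega) |>.mp this.symm

/-- L0 for every `6 ≤ n`: the dense case is impossible, so a non-monomial element with a monomial column exists. -/
theorem exists_nonmono_monoCol_six (hF : Fintype.card F = q ^ 2) (hq : 3 ≤ q) (hn : 6 ≤ n)
    (M : Subgroup (GL (Fin n) F))
    (hM : M ≤ Cfsg.GU n F q ⊓ Cfsg.Geo.specialLinear (Fin n) F) (hH : ContainsMonoU n q M)
    (g : GL (Fin n) F) (hg : g ∈ M) (hnm : ¬ IsMono (g : Matrix (Fin n) (Fin n) F)) :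
    ∃ h ∈ M, ¬ IsMono (h : Matrix (Fin n) (Fin n) F) ∧ HasMonoCol (h : Matrix (Fin n) (Fin n) F) := by
  classical
  set Θ : Subgroup Fˣ := Cfsg.Agent.Lib.Helper14.normOne F q with hΘdef
  have hcard : Nat.card Θ = q + 1 := Cfsg.Agent.Lib.Helper14.card_normOne hF
  have hΘ4 : 4 ≤ Nat.card Θ := by omega
  have hT : Cfsg.Agent.Lib.Helper18.UDense.HasTorus Θ M := by
    intro c c' hcc ε hε
    exact dg_tcc_mem_M hH hcc ((Cfsg.Agent.Lib.Helper14.mem_normOne ε).mp hε)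
  obtain ⟨r, hr, hrd⟩ : ∃ r : ℕ, r.Prime ∧ r ∣ q + 1 := Nat.exists_prime_and_dvd (by omega)
  haveI : Fact r.Prime := ⟨hr⟩
  haveI : Finite Θ := Nat.finite_of_card_ne_zero (by omega)
  obtain ⟨ζ, hζ⟩ := exists_prime_orderOf_dvd_card' (G := Θ) r (by rw [hcard]; exact hrd)
  have hζ' : orderOf (ζ : Fˣ) = r := by rw [Subgroup.orderOf_coe]; exact hζ
  have hnW := Cfsg.Agent.Lib.Helper10.F6Main.not_worldW_six (ι := Fin n) (by simpa using hn) Θ hΘ4 M hT
    (fun y hy i j h => hsym_of_GU (by omega) y (hM hy).1 i j h)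
    (ζ : Fˣ) ζ.2 r hr hζ' g hg hnm
  unfold WorldW at hnW
  push Not at hnW
  obtain ⟨h, hh, hcol, hnmh⟩ := hnW
  exact ⟨h, hh, hnmh, hcol⟩

theorem k1_std_core_q3_of_six (hF : Fintype.card F = q ^ 2) (hq : 3 ≤ q) (hn : 6 ≤ n)
    (M : Subgroup (GL (Fin n) F))
    (hGROW : (∀ (a b : Fin n) (α β : F), a ≠ b → α ^ (q + 1) + β ^ (q + 1) = 0 →
        w2 a b α β ∈ Sset hF M) → ∀ v : Fin n → F, Cfsg.hermForm n F q v v = 0 → v ∈ Sset hF M)
    (hM : M ≤ Cfsg.GU n F q ⊓ Cfsg.Geo.specialLinear (Fin n) F)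
    (hH : ∀ g : GL (Fin n) F, g ∈ Cfsg.GU n F q ⊓ Cfsg.Geo.specialLinear (Fin n) F →
      IsMono (g : Matrix (Fin n) (Fin n) F) → g ∈ M)
    (hne : ∃ g ∈ M, ¬ IsMono (g : Matrix (Fin n) (Fin n) F)) :
    Cfsg.GU n F q ⊓ Cfsg.Geo.specialLinear (Fin n) F ≤ M := by
  obtain ⟨g, hg, hnm⟩ := hne
  obtain ⟨h, hh, hhnm, j, i, hcol⟩ := exists_nonmono_monoCol_six hF hq hn M hM hH g hg hnm
  have htv : HasTv hF M i := by
    by_cases h2 : (2 : F) = 0
    · exact Cfsg.Agent.Lib.Helper12.UNdLeaf.hasTv_even hF hq h2 M hM hH h hh hhnm j i hcol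
    · exact hasTv_odd hF hq h2 M hM hH h hh hhnm j i hcol
  obtain ⟨z, c, t, l, ht, hzi, hli, hzl, hzz, hc0, hc, htx, hcl⟩ := htv
  have hzS : z ∈ Sset hF M :=
    Cfsg.Agent.Lib.Helper24.UNdLeaf.mem_Sset_of_tv hF M hM hH i l hli z hzi hzl hzz c hc0 hc t ht htx hcl
  have hz0 : z ≠ 0 := fun h0 => hzl (by rw [h0]; rfl)
  obtain ⟨a, b, α, β, hab, hα, hβ, hαβ, hS⟩ :=
    Cfsg.Agent.Lib.Helper11.UNdLeaf.exists_weight_two hF hq M hM hH i z hzi hz0 hzz hzS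
  have hall2 := Cfsg.Agent.Lib.Helper11.UNdLeaf.all_weight_two hF (by omega) M hM hH a b α β hab hα hβ hαβ hS
  have hall := hGROW (fun a' b' α' β' hab' h' => hall2 a' b' α' β' hab' h')
  exact le_of_forall_mem_Sset hF (by omega) (by omega) M hall

theorem k1_std_core_q3_six (hF : Fintype.card F = q ^ 2) (hq : 3 ≤ q) (hn : 6 ≤ n)
    (M : Subgroup (GL (Fin n) F))
    (hM : M ≤ Cfsg.GU n F q ⊓ Cfsg.Geo.specialLinear (Fin n) F)
    (hH : ∀ g : GL (Fin n) F, g ∈ Cfsg.GU n F q ⊓ Cfsg.Geo.specialLinear (Fin n) F →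
      IsMono (g : Matrix (Fin n) (Fin n) F) → g ∈ M)
    (hne : ∃ g ∈ M, ¬ IsMono (g : Matrix (Fin n) (Fin n) F)) :
    Cfsg.GU n F q ⊓ Cfsg.Geo.specialLinear (Fin n) F ≤ M :=
  k1_std_core_q3_of_six hF hq hn M
    (Cfsg.Agent.Lib.Helper12.UNdLeaf.all_isotropic hF hq (by omega) M hM) hM hH hne

/-- S5655 with `k = 1`, `q ≥ 3` for every `6 ≤ n`: the stabiliser of a decomposition into `n` pairwise orthogonal non-degenerate
lines is maximal in `SU_n(q)`. -/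
theorem frames_max_ge_six {F : Type*} [Field F] [Fintype F] (n q : ℕ) (hF : Fintype.card F = q ^ 2) (hn : 6 ≤ n)
    (hq : 3 ≤ q) {t : ℕ} (D : Fin t → Submodule F (Fin n → F))
    (hD : Cfsg.Geo.IsNondegenerateMDecomposition (Cfsg.hermForm n F q) 1 D) :
    Cfsg.Geo.IsMaximalIn (Cfsg.GU n F q ⊓ Cfsg.Geo.specialLinear (Fin n) F)
      (Cfsg.Geo.decompositionStabilizer D ⊓ (Cfsg.GU n F q ⊓ Cfsg.Geo.specialLinear (Fin n) F)) :=
  Cfsg.Agent.Lib.Helper17.SUgDec6.k1_of_std_four n q hF (by omega)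
    (fun M hM hH hne => k1_std_core_q3_six hF hq hn M hM hH hne) D hD

end Cfsg.Agent.Lib.Helper10.SUgFrames6
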