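import Cfsg.Agent.Lib.Helper10.SWGlue

set_option autoImplicit false

/-!
Further glue: a full orbit from the size check, powers of formal products, coatoms from relative
maximality, transitivity from paths.
-/

namespace Cfsg.Agent.Lib.Helper10.SW

open MulAction

/-- when the claimed orbit length is the degree, every point has a path -/
theorem levelPre_full {n : ℕ} {L : Lvl} {rest : List Lvl} (h : levelPre n L rest = true)
    (hs : L.size = n) : ∀ p < n, (pathOf L.tree fuel p).isSome = true := by
  unfold levelPre at h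
  rw [Bool.and_eq_true] at h
  have h2 := h.2
  unfold sizeOk at h2
  rw [if_pos hs, allLt_iff] at h2
  exact h2

theorem prodL_flatten_replicate (n : ℕ) (L : List ℕ) (k : ℕ) :
    prodL n (List.replicate k L).flatten = prodL n L ^ k := by
  induction k with
  | zero => rw [List.replicate_zero, List.flatten_nil, prodL_nil, pow_zero]
  | succ k ih => rw [List.replicate_succ, List.flatten_cons, prodL_append, ih, pow_succ']

section coatom

variable {P V : Type*} [Group P] [MulAction P V]

/-- the stabiliser in the subgroup type is a coatom when it is maximal in the ambient sense -/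
theorem isCoatom_stabilizer_subtype (G : Subgroup P) (v : V)
    (h : ∀ L : Subgroup P, G ⊓ stabilizer P v ≤ L → L ≤ G → L = G ⊓ stabilizer P v ∨ L = G)
    (hne : ∃ g ∈ G, g • v ≠ v) : IsCoatom (stabilizer ↥G v) := by
  have h' := rel_max_subtype G G le_rfl v h ⊤ (fun g => ⟨fun _ => g.2, fun _ => Subgroup.mem_top g⟩)
  constructor
  · intro htop
    obtain ⟨g, hg, hgv⟩ := hne
    have : (⟨g, hg⟩ : ↥G) ∈ stabilizer ↥G v := by rw [htop]; exact Subgroup.mem_top _
    rw [mem_stabilizer_subtype] at this
    exact hgv (mem_stabilizer_iff.mp this)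
  · intro L hL
    have h1 : (⊤ : Subgroup ↥G) ⊓ stabilizer ↥G v ≤ L := by
      rw [top_inf_eq]; exact le_of_lt hL
    rcases h' L h1 le_top with h2 | h2
    · rw [top_inf_eq] at h2
      exact absurd h2 (ne_of_gt hL)
    · exact h2

/-- relative maximality of the two-point stabiliser in the subgroup type -/
theorem rel_max_stabilizer_subtype (G K : Subgroup P) (v y : V)
    (hK : G ⊓ stabilizer P v = K)
    (h : ∀ L : Subgroup P, K ⊓ stabilizer P y ≤ L → L ≤ K → L = K ⊓ stabilizer P y ∨ L = K) :
    ∀ L : Subgroup ↥G, stabilizer ↥G v ⊓ stabilizer ↥G y ≤ L → L ≤ stabilizer ↥G v →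
      L = stabilizer ↥G v ⊓ stabilizer ↥G y ∨ L = stabilizer ↥G v := by
  have hKG : K ≤ G := by rw [← hK]; exact inf_le_left
  apply rel_max_subtype G K hKG y h (stabilizer ↥G v)
  intro g
  rw [mem_stabilizer_subtype, ← hK, Subgroup.mem_inf]
  exact ⟨fun hg => ⟨g.2, hg⟩, fun hg => hg.2⟩

/-- transitivity of the subgroup type from a base point -/
theorem isPretransitive_subtype (G : Subgroup P) (v : V) (h : ∀ p : V, ∃ g ∈ G, g • v = p) :
    IsPretransitive ↥G V := by
  refine ⟨fun x y => ?_⟩
  obtain ⟨g₁, hg₁, h1⟩ := h x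
  obtain ⟨g₂, hg₂, h2⟩ := h y
  refine ⟨⟨g₂ * g₁⁻¹, G.mul_mem hg₂ (G.inv_mem hg₁)⟩, ?_⟩
  show (g₂ * g₁⁻¹) • x = y
  rw [mul_smul, ← h1, inv_smul_smul, h2]

end coatom

end Cfsg.Agent.Lib.Helper10.SW
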