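import Cfsg.Agent.Lib.Helper10.HSSimple

set_option autoImplicit false
set_option linter.style.haveILetI false
set_option linter.unusedSectionVars false

/-!
A simplicity criterion for a perfect primitive permutation group: maximality of stabilisers from
generation certificates, exclusion of regular normal subgroups by a fixed-point count, and a
solvable, core-free, maximal two-point stabiliser.
-/

namespace Cfsg.Agent.Lib.Helper10.SWSimple

open MulAction Cfsg.Agent.Lib.Helper10.HSSimple

section general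

variable {H V : Type*} [Group H] [MulAction H V]

/-- maximality of a point stabiliser from generation certificates -/
theorem stabilizer_max (v : V)
    (hgen : ∀ g : H, g • v ≠ v → ∃ k ∈ stabilizer H v, ∃ g₀ : H, k • (g₀ • v) = g • v ∧
      ∀ L : Subgroup H, stabilizer H v ≤ L → g₀ ∈ L → L = ⊤) :
    ∀ L : Subgroup H, stabilizer H v ≤ L → L = stabilizer H v ∨ L = ⊤ := by
  intro L hKL
  by_cases hLK : L ≤ stabilizer H v
  · exact Or.inl (le_antisymm hLK hKL)
  · right
    rw [SetLike.not_le_iff_exists] at hLK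
    obtain ⟨l, hl, hlK⟩ := hLK
    rw [mem_stabilizer_iff] at hlK
    obtain ⟨k, hk, g₀, hkg, hg₀⟩ := hgen l hlK
    apply hg₀ L hKL
    have h1 : (k * g₀)⁻¹ * l ∈ stabilizer H v := by
      rw [mem_stabilizer_iff, mul_smul, inv_smul_eq_iff, mul_smul]
      exact hkg.symm
    have h2 : k * g₀ ∈ L := by
      have : k * g₀ = l * ((k * g₀)⁻¹ * l)⁻¹ := by group
      rw [this]
      exact L.mul_mem hl (L.inv_mem (hKL h1))
    have h3 : g₀ = k⁻¹ * (k * g₀) := by group
    rw [h3]
    exact L.mul_mem (L.inv_mem (hKL hk)) h2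

end general

section regular

variable {H V : Type*} [Group H] [Finite H] [MulAction H V] [Finite V]

/-- a regular normal subgroup forces the number of fixed points of an element of the point
stabiliser to divide the degree -/
theorem card_fixedBy_dvd (v : V) (N : Subgroup H) [N.Normal]
    (htr : ∀ x : V, ∃ n ∈ N, n • v = x) (hreg : ∀ n ∈ N, n • v = v → n = 1)
    (k : H) (hk : k • v = v) : Nat.card (fixedBy V k) ∣ Nat.card V := by
  -- the bijection `N → V`
  have hinj : ∀ n ∈ N, ∀ n' ∈ N, n • v = n' • v → n = n' := by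
    intro n hn n' hn' h
    have h1 : (n'⁻¹ * n) • v = v := by rw [mul_smul, h, inv_smul_smul]
    have h2 := hreg _ (N.mul_mem (N.inv_mem hn') hn) h1
    have : n = n' * (n'⁻¹ * n) := by group
    rw [this, h2, mul_one]
  have hNV : Nat.card ↥N = Nat.card V := by
    apply Nat.card_congr
    refine Equiv.ofBijective (fun n => n.1 • v) ⟨?_, ?_⟩
    · intro n n' h
      exact Subtype.ext (hinj n.1 n.2 n'.1 n'.2 h)
    · intro x
      obtain ⟨n, hn, hx⟩ := htr x
      exact ⟨⟨n, hn⟩, hx⟩
  let C : Subgroup ↥N := (Subgroup.centralizer ({k} : Set H)).subgroupOf N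
  have hCV : Nat.card ↥C = Nat.card (fixedBy V k) := by
    apply Nat.card_congr
    refine Equiv.ofBijective (fun n => ⟨n.1.1 • v, ?_⟩) ⟨?_, ?_⟩
    · have hn : n.1.1 ∈ Subgroup.centralizer ({k} : Set H) := Subgroup.mem_subgroupOf.mp n.2
      rw [Subgroup.mem_centralizer_singleton_iff] at hn
      rw [mem_fixedBy, ← mul_smul, ← hn, mul_smul, hk]
    · intro n n' h
      have h' : n.1.1 • v = n'.1.1 • v := congrArg Subtype.val h
      exact Subtype.ext (Subtype.ext (hinj n.1.1 n.1.2 n'.1.1 n'.1.2 h'))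
    · rintro ⟨x, hx⟩
      obtain ⟨n, hn, hnx⟩ := htr x
      rw [mem_fixedBy] at hx
      have hkn : k * n * k⁻¹ ∈ N := ‹N.Normal›.conj_mem n hn k
      have h1 : (k * n * k⁻¹) • v = n • v := by
        have hk' : k⁻¹ • v = v := by rw [inv_smul_eq_iff, hk]
        rw [mul_smul, mul_smul, hk', hnx, hx]
      have h2 : k * n * k⁻¹ = n := hinj _ hkn _ hn h1
      have h3 : n ∈ Subgroup.centralizer ({k} : Set H) := by
        rw [Subgroup.mem_centralizer_singleton_iff]
        have : k * n = (k * n * k⁻¹) * k := by group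
        rw [this, h2]
      exact ⟨⟨⟨n, hn⟩, Subgroup.mem_subgroupOf.mpr h3⟩, Subtype.ext hnx⟩
  rw [← hCV, ← hNV]
  exact Subgroup.card_subgroup_dvd_card C

/-- a regular normal subgroup contains every element of prime order not dividing the order of
the point stabiliser, hence its normal closure, which therefore acts semiregularly -/
theorem no_regular_normal (v : V) (x : H) (p : ℕ) (hx : x ^ p = 1)
    (hcop : Nat.Coprime p (Nat.card ↥(stabilizer H v)))
    (w : H) (hw : w ∈ Subgroup.normalClosure ({x} : Set H)) (hwv : w • v = v) (hw1 : w ≠ 1)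
    (N : Subgroup H) [N.Normal]
    (htr : ∀ y : V, ∃ n ∈ N, n • v = y) (hreg : ∀ n ∈ N, n • v = v → n = 1) : False := by
  have hinj : ∀ n ∈ N, ∀ n' ∈ N, n • v = n' • v → n = n' := by
    intro n hn n' hn' h
    have h1 : (n'⁻¹ * n) • v = v := by rw [mul_smul, h, inv_smul_smul]
    have h2 := hreg _ (N.mul_mem (N.inv_mem hn') hn) h1
    have : n = n' * (n'⁻¹ * n) := by group
    rw [this, h2, mul_one]
  -- `H = N K` with `N ⊓ K = 1`, so `H ⧸ N` has the order of `K`
  have hbij : Function.Bijective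
      ((QuotientGroup.mk' N).comp (stabilizer H v).subtype) := by
    constructor
    · rw [injective_iff_map_eq_one]
      intro k hk
      have hkN : k.1 ∈ N := (QuotientGroup.eq_one_iff k.1).mp hk
      exact Subtype.ext (hreg k.1 hkN (mem_stabilizer_iff.mp k.2))
    · intro q
      obtain ⟨g, rfl⟩ := QuotientGroup.mk'_surjective N q
      obtain ⟨n, hn, hnv⟩ := htr (g • v)
      refine ⟨⟨n⁻¹ * g, ?_⟩, ?_⟩
      · rw [mem_stabilizer_iff, mul_smul, ← hnv, inv_smul_smul]
      · show (QuotientGroup.mk' N) (n⁻¹ * g) = QuotientGroup.mk' N g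
        rw [map_mul, map_inv]
        have : (QuotientGroup.mk' N) n = 1 := (QuotientGroup.eq_one_iff n).mpr hn
        rw [this, inv_one, one_mul]
  have hcard : Nat.card (H ⧸ N) = Nat.card ↥(stabilizer H v) :=
    (Nat.card_congr (Equiv.ofBijective _ hbij)).symm
  have hxN : x ∈ N := by
    rw [← QuotientGroup.eq_one_iff]
    have h1 : ((x : H ⧸ N)) ^ p = 1 := by
      rw [← QuotientGroup.mk_pow, hx, QuotientGroup.mk_one]
    have h2 : orderOf (x : H ⧸ N) ∣ p := orderOf_dvd_of_pow_eq_one h1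
    have h3 : orderOf (x : H ⧸ N) ∣ Nat.card ↥(stabilizer H v) := by
      rw [← hcard]; exact orderOf_dvd_natCard _
    have h4 : orderOf (x : H ⧸ N) = 1 := Nat.eq_one_of_dvd_coprimes hcop h2 h3
    exact orderOf_eq_one_iff.mp h4
  have hle : Subgroup.normalClosure ({x} : Set H) ≤ N :=
    Subgroup.normalClosure_le_normal (Set.singleton_subset_iff.mpr hxN)
  exact hw1 (hreg w (hle hw) hwv)

end regular

section main

variable {H V : Type*} [Group H] [Finite H] [MulAction H V] [Fintype V] [FaithfulSMul H V]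

theorem subsingleton_of_perfect_solvable' {Q : Type*} [Group Q] [Group.IsSolvable Q]
    (h : commutator Q = ⊤) : Subsingleton Q := by
  by_contra hns
  rw [not_subsingleton_iff_nontrivial] at hns
  have := Group.IsSolvable.commutator_lt_top_of_nontrivial Q
  rw [h] at this
  exact lt_irrefl _ this

/-- nontrivial normal subgroups of a primitive group are transitive -/
theorem transitive_of_normal' [IsPretransitive H V] (v y : V) (hvy : y ≠ v)
    (hmax : IsCoatom (stabilizer H v))
    (N : Subgroup H) [N.Normal] (hN : N ≠ ⊥) : ∀ x : V, ∃ n ∈ N, n • v = x := by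
  haveI : Nontrivial V := ⟨y, v, hvy⟩
  haveI : IsPreprimitive H V := (isCoatom_stabilizer_iff_preprimitive (G := H) v).mp hmax
  have hfix : fixedPoints ↥N V ≠ Set.univ := by
    intro h
    apply hN
    rw [eq_bot_iff]
    intro n hn
    rw [Subgroup.mem_bot]
    apply FaithfulSMul.eq_of_smul_eq_smul (α := V)
    intro x
    have hx : x ∈ fixedPoints ↥N V := by rw [h]; exact Set.mem_univ x
    have := hx ⟨n, hn⟩
    rw [one_smul]
    exact this
  haveI : IsPretransitive ↥N V := IsQuasiPreprimitive.isPretransitive_of_normal hfix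
  intro x
  obtain ⟨n, hn⟩ := exists_smul_eq ↥N v x
  exact ⟨n.1, n.2, hn⟩

/-- the simplicity criterion -/
theorem isSimpleGroup_of_certificates [IsPretransitive H V] (v y : V) (hvy : y ≠ v)
    (hmax : IsCoatom (stabilizer H v))
    (hKymax : ∀ L : Subgroup H, stabilizer H v ⊓ stabilizer H y ≤ L → L ≤ stabilizer H v →
      L = stabilizer H v ⊓ stabilizer H y ∨ L = stabilizer H v)
    (hcore : ∀ k ∈ stabilizer H v, (∀ k' ∈ stabilizer H v, k • (k' • y) = k' • y) → k = 1)
    (hnoreg : ∀ N : Subgroup H, N.Normal → (∀ x : V, ∃ n ∈ N, n • v = x) →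
      (∀ n ∈ N, n • v = v → n = 1) → False)
    (hsolv : Group.IsSolvable ↥(stabilizer H v ⊓ stabilizer H y))
    (hperf : commutator H = ⊤) : IsSimpleGroup H := by
  haveI : Nontrivial V := ⟨y, v, hvy⟩
  haveI : Nontrivial H := by
    obtain ⟨g, hg⟩ := exists_smul_eq H v y
    refine ⟨g, 1, ?_⟩
    rintro rfl
    rw [one_smul] at hg
    exact hvy hg.symm
  refine ⟨fun N hN => ?_⟩
  haveI := hN
  by_contra hcon
  rw [not_or] at hcon
  obtain ⟨hbot, htop⟩ := hcon
  have htr := transitive_of_normal' v y hvy hmax N hbot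
  -- the subgroup `(N ⊓ K) Ky`
  let L : Subgroup H :=
    { carrier := {g | ∃ n ∈ N ⊓ stabilizer H v, ∃ k ∈ stabilizer H v ⊓ stabilizer H y, g = n * k}
      one_mem' := ⟨1, one_mem _, 1, one_mem _, (mul_one 1).symm⟩
      mul_mem' := by
        rintro _ _ ⟨n₁, hn₁, k₁, hk₁, rfl⟩ ⟨n₂, hn₂, k₂, hk₂, rfl⟩
        refine ⟨n₁ * (k₁ * n₂ * k₁⁻¹), ?_, k₁ * k₂, mul_mem hk₁ hk₂, by group⟩
        have hk₁v : k₁ ∈ stabilizer H v := (Subgroup.mem_inf.mp hk₁).1
        have hn₂' := Subgroup.mem_inf.mp hn₂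
        refine Subgroup.mul_mem _ hn₁ (Subgroup.mem_inf.mpr ⟨hN.conj_mem n₂ hn₂'.1 k₁, ?_⟩)
        exact Subgroup.mul_mem _ (Subgroup.mul_mem _ hk₁v hn₂'.2) (Subgroup.inv_mem _ hk₁v)
      inv_mem' := by
        rintro _ ⟨n, hn, k, hk, rfl⟩
        have hkv : k ∈ stabilizer H v := (Subgroup.mem_inf.mp hk).1
        have hn' := Subgroup.mem_inf.mp hn
        refine ⟨k⁻¹ * n⁻¹ * k⁻¹⁻¹, ?_, k⁻¹, Subgroup.inv_mem _ hk, by group⟩
        refine Subgroup.mem_inf.mpr ⟨hN.conj_mem n⁻¹ (Subgroup.inv_mem _ hn'.1) k⁻¹, ?_⟩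
        exact Subgroup.mul_mem _ (Subgroup.mul_mem _ (Subgroup.inv_mem _ hkv)
          (Subgroup.inv_mem _ hn'.2)) (Subgroup.inv_mem _ (Subgroup.inv_mem _ hkv)) }
  have hKyL : stabilizer H v ⊓ stabilizer H y ≤ L :=
    fun k hk => ⟨1, one_mem _, k, hk, (one_mul k).symm⟩
  have hLK : L ≤ stabilizer H v := by
    rintro _ ⟨n, hn, k, hk, rfl⟩
    exact Subgroup.mul_mem _ (Subgroup.mem_inf.mp hn).2 (Subgroup.mem_inf.mp hk).1
  rcases hKymax L hKyL hLK with hL | hL
  · -- `N ⊓ K` fixes `y`, hence the orbit of `y` pointwise, hence is trivial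
    have h1 : ∀ n ∈ N ⊓ stabilizer H v, n • y = y := by
      intro n hn
      have : n ∈ L := ⟨n, hn, 1, one_mem _, (mul_one n).symm⟩
      rw [hL] at this
      exact mem_stabilizer_iff.mp (Subgroup.mem_inf.mp this).2
    have h5 : ∀ n ∈ N ⊓ stabilizer H v, n = 1 := by
      intro n hn
      have hn' := Subgroup.mem_inf.mp hn
      apply hcore n hn'.2
      intro k hk
      have h3 : k⁻¹ * n * k⁻¹⁻¹ ∈ N ⊓ stabilizer H v :=
        Subgroup.mem_inf.mpr ⟨hN.conj_mem n hn'.1 k⁻¹,
          Subgroup.mul_mem _ (Subgroup.mul_mem _ (Subgroup.inv_mem _ hk) hn'.2)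
            (Subgroup.inv_mem _ (Subgroup.inv_mem _ hk))⟩
      have h4 := h1 _ h3
      rw [inv_inv, mul_smul, mul_smul, inv_smul_eq_iff] at h4
      exact h4
    apply hnoreg N hN htr
    intro n hn hnv
    exact h5 n (Subgroup.mem_inf.mpr ⟨hn, mem_stabilizer_iff.mpr hnv⟩)
  · -- `H = N Ky`, so `H ⧸ N` is solvable and perfect
    have h1 : ∀ g : H, ∃ n ∈ N, ∃ k ∈ stabilizer H v ⊓ stabilizer H y, g = n * k := by
      intro g
      obtain ⟨n₁, hn₁, h⟩ := htr (g • v)
      have h2 : n₁⁻¹ * g ∈ stabilizer H v := by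
        rw [mem_stabilizer_iff, mul_smul, ← h, inv_smul_smul]
      rw [← hL] at h2
      obtain ⟨n₂, hn₂, k, hk, h3⟩ := h2
      refine ⟨n₁ * n₂, Subgroup.mul_mem _ hn₁ (Subgroup.mem_inf.mp hn₂).1, k, hk, ?_⟩
      rw [mul_assoc, ← h3, mul_inv_cancel_left]
    have hsurj : Function.Surjective
        ((QuotientGroup.mk' N).comp (stabilizer H v ⊓ stabilizer H y).subtype) := by
      intro q
      obtain ⟨g, rfl⟩ := QuotientGroup.mk'_surjective N q
      obtain ⟨n, hn, k, hk, rfl⟩ := h1 g
      refine ⟨⟨k, hk⟩, ?_⟩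
      show (QuotientGroup.mk' N) k = QuotientGroup.mk' N (n * k)
      rw [map_mul]
      have : (QuotientGroup.mk' N) n = 1 := (QuotientGroup.eq_one_iff n).mpr hn
      rw [this, one_mul]
    haveI : Group.IsSolvable (H ⧸ N) := Group.isSolvable_of_surjective hsurj
    have hq : commutator (H ⧸ N) = ⊤ := by
      rw [commutator_def, ← Subgroup.map_top_of_surjective (QuotientGroup.mk' N)
        (QuotientGroup.mk'_surjective N), ← Subgroup.map_commutator, ← commutator_def, hperf]
    have hsub := subsingleton_of_perfect_solvable' hq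
    exact htop (QuotientGroup.subgroup_eq_top_of_subsingleton N hsub)

end main

section solvable

/-- groups of order 68 are solvable -/
theorem isSolvable_of_card_68 {S : Type*} [Group S] [Finite S] (hS : Nat.card S = 68) :
    Group.IsSolvable S := by
  classical
  haveI : Fact (Nat.Prime 17) := ⟨by norm_num⟩
  haveI : Fact (Nat.Prime 2) := ⟨Nat.prime_two⟩
  obtain ⟨P⟩ : Nonempty (Sylow 17 S) := inferInstance
  have hPcard : Nat.card ↥(P : Subgroup S) = 17 := by
    obtain ⟨m, hm⟩ := (P.isPGroup').exists_card_eq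
    have h1 := Subgroup.card_mul_index (P : Subgroup S)
    have h2 : ¬ 17 ∣ (P : Subgroup S).index := P.not_dvd_index
    rw [hm, hS] at h1
    rcases m with _ | _ | m
    · exfalso
      apply h2
      rw [pow_zero, one_mul] at h1
      rw [h1]
      norm_num
    · rw [hm]; norm_num
    · exfalso
      have h3 : 17 ^ (m + 1 + 1) ∣ 68 := Dvd.intro _ h1
      have h4 : 17 ^ 2 ∣ 68 := dvd_trans (pow_dvd_pow 17 (by omega)) h3
      norm_num at h4
  have hidx : (P : Subgroup S).index = 4 := by
    have h1 := Subgroup.card_mul_index (P : Subgroup S)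
    rw [hPcard, hS] at h1
    omega
  have hn1 : Nat.card (Sylow 17 S) ≡ 1 [MOD 17] := card_sylow_modEq_one 17 S
  have hn2 : Nat.card (Sylow 17 S) ∣ 4 := hidx ▸ P.card_dvd_index
  have hn : Nat.card (Sylow 17 S) = 1 := by
    have hle : Nat.card (Sylow 17 S) ≤ 4 := Nat.le_of_dvd (by norm_num) hn2
    have hpos : 0 < Nat.card (Sylow 17 S) := Nat.pos_of_dvd_of_pos hn2 (by norm_num)
    unfold Nat.ModEq at hn1
    interval_cases h : Nat.card (Sylow 17 S) <;> simp_all
  haveI : Subsingleton (Sylow 17 S) := (Nat.card_eq_one_iff_unique.mp hn).1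
  haveI hPn : (P : Subgroup S).Normal := P.normal_of_subsingleton
  haveI : IsCyclic ↥(P : Subgroup S) := isCyclic_of_prime_card hPcard
  haveI : Group.IsSolvable ↥(P : Subgroup S) :=
    Group.isSolvable_of_comm (fun a b => IsCyclic.commGroup.mul_comm a b)
  have hq : Nat.card (S ⧸ (P : Subgroup S)) = 2 ^ 2 := by
    have := Subgroup.card_eq_card_quotient_mul_card_subgroup (P : Subgroup S)
    rw [hS, hPcard] at this
    omega
  haveI : Group.IsSolvable (S ⧸ (P : Subgroup S)) :=
    by
      haveI := IsPGroup.isMulCommutative_of_card_eq_prime_sq hq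
      exact Group.isSolvable_of_comm (fun a b => mul_comm' a b)
  refine Group.isSolvable_of_ker_le_range (P : Subgroup S).subtype
    (QuotientGroup.mk' (P : Subgroup S)) ?_
  rw [QuotientGroup.ker_mk']
  intro x hx
  exact ⟨⟨x, hx⟩, rfl⟩

end solvable

end Cfsg.Agent.Lib.Helper10.SWSimple
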