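import Cfsg.Agent.Lib.Helper10.SWBasic

set_option autoImplicit false

/-!
Packed Schreier trees: the entry of a point is `0` (absent), `1` (a root) or
`2 + 64 * parent + move`; the path of a point gives a formal product mapping its root to it.
-/

namespace Cfsg.Agent.Lib.Helper10.SW

/-- a Boolean `∀ x < k` that the kernel evaluates without deep recursion -/
def allLt : ℕ → (ℕ → Bool) → Bool
  | 0, _ => true
  | k + 1, f => f k && allLt k f

theorem allLt_iff (k : ℕ) (f : ℕ → Bool) : allLt k f = true ↔ ∀ x < k, f x = true := by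
  induction k with
  | zero => simp [allLt]
  | succ k ih =>
    unfold allLt
    rw [Bool.and_eq_true, ih]
    constructor
    · rintro ⟨h1, h2⟩ x hx
      rcases Nat.lt_succ_iff_lt_or_eq.mp hx with h | rfl
      · exact h2 x h
      · exact h1
    · intro h
      exact ⟨h k (Nat.lt_succ_self k), fun x hx => h x (Nat.lt_succ_of_lt hx)⟩

/-- a Boolean `∀ x, lo ≤ x < lo + k` -/
def allRange (lo : ℕ) : ℕ → (ℕ → Bool) → Bool
  | 0, _ => true
  | k + 1, f => f (lo + k) && allRange lo k f

theorem allRange_iff (lo k : ℕ) (f : ℕ → Bool) :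
    allRange lo k f = true ↔ ∀ x, lo ≤ x → x < lo + k → f x = true := by
  induction k with
  | zero =>
    simp only [allRange, true_iff]
    intro x h1 h2
    omega
  | succ k ih =>
    unfold allRange
    rw [Bool.and_eq_true, ih]
    constructor
    · rintro ⟨h1, h2⟩ x hx1 hx2
      by_cases hxk : x = lo + k
      · rw [hxk]; exact h1
      · exact h2 x hx1 (by omega)
    · intro h
      exact ⟨h _ (Nat.le_add_right lo k) (by omega), fun x hx1 hx2 => h x hx1 (by omega)⟩

/-- assemble a check on `x < n` from four ranges -/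
theorem allLt_of_ranges {n a b c : ℕ} {f : ℕ → Bool} (h1 : allRange 0 a f = true)
    (h2 : allRange a (b - a) f = true) (h3 : allRange b (c - b) f = true)
    (h4 : allRange c (n - c) f = true) (hab : a ≤ b) (hbc : b ≤ c) (hcn : c ≤ n) :
    allLt n f = true := by
  rw [allLt_iff]
  rw [allRange_iff] at h1 h2 h3 h4
  intro x hx
  by_cases ha : x < a
  · exact h1 x (Nat.zero_le x) (by omega)
  by_cases hb : x < b
  · exact h2 x (by omega) (by omega)
  by_cases hc : x < c
  · exact h3 x (by omega) (by omega)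
  · exact h4 x (by omega) (by omega)

/-- Boolean form of `InvOf` -/
def invB (n P Q : ℕ) : Bool := allLt n fun x => ap n P (ap n Q x) == x

theorem invB_iff (n P Q : ℕ) : invB n P Q = true ↔ InvOf n P Q := by
  unfold invB InvOf
  rw [allLt_iff]
  constructor
  · intro h x hx
    exact beq_iff_eq.mp (h x hx)
  · intro h x hx
    exact beq_iff_eq.mpr (h x hx)

/-- entry of a point in a packed tree -/
def ent (T p : ℕ) : ℕ := Nat.land (Nat.shiftRight T (Nat.mul 20 p)) 1048575

/-- the code of a move -/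
def mv (M : List (ℕ × ℕ)) (i : ℕ) : ℕ := (M.getD i (0, 0)).1

/-- the inverse code of a move -/
def mvi (M : List (ℕ × ℕ)) (i : ℕ) : ℕ := (M.getD i (0, 0)).2

/-- the formal product of a list of move indices -/
def codes (M : List (ℕ × ℕ)) (w : List ℕ) : List ℕ := w.map (mv M)

/-- the formal product inverse to `codes M w` -/
def icodes (M : List (ℕ × ℕ)) (w : List ℕ) : List ℕ := w.reverse.map (mvi M)

/-- follow the tree from a point to its root; returns the root and the moves (last move first) -/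
def pathOf (T : ℕ) : ℕ → ℕ → Option (ℕ × List ℕ)
  | 0, _ => none
  | fuel + 1, p =>
    if ent T p = 0 then none
    else if ent T p = 1 then some (p, [])
    else (pathOf T fuel ((ent T p - 2) / 64)).map (fun rw => (rw.1, ((ent T p - 2) % 64) :: rw.2))

/-- local consistency of a packed tree -/
def treeOk (n : ℕ) (M : List (ℕ × ℕ)) (T : ℕ) : Bool :=
  allLt n fun p => decide (2 ≤ ent T p → (ent T p - 2) / 64 < n ∧ (ent T p - 2) % 64 < M.length ∧
    ap n (mv M ((ent T p - 2) % 64)) ((ent T p - 2) / 64) = p)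

theorem pathOf_sound {n : ℕ} {M : List (ℕ × ℕ)} {T : ℕ} (hT : treeOk n M T = true) :
    ∀ (fuel p r : ℕ) (w : List ℕ), p < n → pathOf T fuel p = some (r, w) →
      r < n ∧ ent T r = 1 ∧ evalL n (codes M w) r = p ∧ ∀ i ∈ w, i < M.length := by
  unfold treeOk at hT
  rw [allLt_iff] at hT
  intro fuel
  induction fuel with
  | zero =>
    intro p r w _ h
    simp [pathOf] at h
  | succ fuel ih =>
    intro p r w hp h
    unfold pathOf at h
    split_ifs at h with h0 h1
    · simp only [Option.some.injEq, Prod.mk.injEq] at h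
      obtain ⟨rfl, rfl⟩ := h
      exact ⟨hp, h1, rfl, by simp⟩
    · have h2 : 2 ≤ ent T p := by omega
      have hk := hT p hp
      rw [decide_eq_true_eq] at hk
      obtain ⟨hq, hm, hap⟩ := hk h2
      rw [Option.map_eq_some_iff] at h
      obtain ⟨⟨r', w'⟩, hrec, heq⟩ := h
      simp only [Prod.mk.injEq] at heq
      obtain ⟨rfl, rfl⟩ := heq
      obtain ⟨hr, hroot, hev, hw⟩ := ih _ _ _ hq hrec
      refine ⟨hr, hroot, ?_, ?_⟩
      · show ap n (mv M ((ent T p - 2) % 64)) (evalL n (codes M w') r') = p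
        rw [hev]
        exact hap
      · intro i hi
        rcases List.mem_cons.mp hi with rfl | hi
        · exact hm
        · exact hw i hi

/-- the moves are valid, mutually inverse, and lie in a subgroup -/
def MovesIn (n : ℕ) (M : List (ℕ × ℕ)) (H : Subgroup (Equiv.Perm (Fin n))) : Prop :=
  ∀ e ∈ M, Valid n e.1 ∧ Valid n e.2 ∧ perm n e.2 = (perm n e.1)⁻¹ ∧ perm n e.1 ∈ H

theorem movesIn_mv {n : ℕ} {M : List (ℕ × ℕ)} {H : Subgroup (Equiv.Perm (Fin n))}
    (hM : MovesIn n M H) {i : ℕ} (hi : i < M.length) :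
    Valid n (mv M i) ∧ Valid n (mvi M i) ∧ perm n (mvi M i) = (perm n (mv M i))⁻¹ ∧
      perm n (mv M i) ∈ H := by
  have hmem : M.getD i (0, 0) ∈ M := by
    rw [List.getD_eq_getElem _ _ hi]
    exact List.getElem_mem hi
  exact hM _ hmem

theorem codes_valid {n : ℕ} {M : List (ℕ × ℕ)} {H : Subgroup (Equiv.Perm (Fin n))}
    (hM : MovesIn n M H) {w : List ℕ} (hw : ∀ i ∈ w, i < M.length) :
    ∀ c ∈ codes M w, Valid n c ∧ perm n c ∈ H := by
  intro c hc
  unfold codes at hc
  obtain ⟨i, hi, rfl⟩ := List.mem_map.mp hc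
  obtain ⟨h1, -, -, h4⟩ := movesIn_mv hM (hw i hi)
  exact ⟨h1, h4⟩

theorem icodes_valid {n : ℕ} {M : List (ℕ × ℕ)} {H : Subgroup (Equiv.Perm (Fin n))}
    (hM : MovesIn n M H) {w : List ℕ} (hw : ∀ i ∈ w, i < M.length) :
    ∀ c ∈ icodes M w, Valid n c ∧ perm n c ∈ H := by
  intro c hc
  unfold icodes at hc
  obtain ⟨i, hi, rfl⟩ := List.mem_map.mp hc
  obtain ⟨-, h2, h3, h4⟩ := movesIn_mv hM (hw i (List.mem_reverse.mp hi))
  refine ⟨h2, ?_⟩
  rw [h3]
  exact H.inv_mem h4

theorem prodL_append (n : ℕ) (L L' : List ℕ) : prodL n (L ++ L') = prodL n L * prodL n L' := by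
  unfold prodL
  rw [List.map_append, List.prod_append]

theorem prodL_mem {n : ℕ} {H : Subgroup (Equiv.Perm (Fin n))} {L : List ℕ}
    (hL : ∀ c ∈ L, perm n c ∈ H) : prodL n L ∈ H := by
  induction L with
  | nil => rw [prodL_nil]; exact H.one_mem
  | cons c L ih =>
    rw [prodL_cons]
    exact H.mul_mem (hL c (List.mem_cons_self ..)) (ih fun d hd => hL d (List.mem_cons_of_mem _ hd))

theorem prodL_icodes {n : ℕ} {M : List (ℕ × ℕ)} {H : Subgroup (Equiv.Perm (Fin n))}
    (hM : MovesIn n M H) : ∀ {w : List ℕ}, (∀ i ∈ w, i < M.length) →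
    prodL n (icodes M w) = (prodL n (codes M w))⁻¹ := by
  intro w
  induction w with
  | nil =>
    intro _
    simp [icodes, codes, prodL]
  | cons i w ih =>
    intro hw
    have hi := hw i (List.mem_cons_self ..)
    have hw' : ∀ j ∈ w, j < M.length := fun j hj => hw j (List.mem_cons_of_mem _ hj)
    obtain ⟨-, -, h3, -⟩ := movesIn_mv hM hi
    have h1 : icodes M (i :: w) = icodes M w ++ [mvi M i] := by
      simp [icodes]
    have h2 : codes M (i :: w) = mv M i :: codes M w := rfl
    rw [h1, h2, prodL_append, prodL_cons, prodL_cons, prodL_nil, mul_one, ih hw', h3, mul_inv_rev]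

/-- the permutation of a path maps the root to the point -/
theorem prodL_codes_apply {n : ℕ} {M : List (ℕ × ℕ)} {H : Subgroup (Equiv.Perm (Fin n))}
    (hM : MovesIn n M H) {w : List ℕ} (hw : ∀ i ∈ w, i < M.length) {r p : ℕ} (hr : r < n)
    (hp : p < n) (hev : evalL n (codes M w) r = p) :
    prodL n (codes M w) ⟨r, hr⟩ = ⟨p, hp⟩ := by
  apply Fin.ext
  rw [prodL_apply_val _ (fun c hc => (codes_valid hM hw c hc).1)]
  exact hev

end Cfsg.Agent.Lib.Helper10.SW
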