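import Mathlib

set_option autoImplicit false

/-!
Packed permutations of `Fin n` (`n ≤ 32768`, fifteen bits per point), formal products, straight-line
programs: the basic layer of a verified Schreier–Sims checker for larger degrees.  The lookups are
written so that the kernel sees the same term for the same value, and its cache is hit.
-/

namespace Cfsg.Agent.Lib.Helper10.SX

/-- apply a function to a number after evaluating the number: the kernel then sees the same
term for the same value, and its cache of evaluated terms is hit -/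
def forceNat (y : ℕ) (f : ℕ → ℕ) : ℕ :=
  Nat.rec (motive := fun _ => ℕ) (f 0) (fun k _ => f (Nat.succ k)) y

theorem forceNat_eq (y : ℕ) (f : ℕ → ℕ) : forceNat y f = f y := by
  cases y <;> rfl

/-- the block of 64 fields of `w` bits number `q` -/
def blk (w P q : ℕ) : ℕ :=
  Nat.land (Nat.shiftRight P (Nat.mul (Nat.mul 64 w) q)) (Nat.sub (Nat.shiftLeft 1 (Nat.mul 64 w)) 1)

/-- field `i` of `w` bits, read in two stages -/
def fld (w P i : ℕ) : ℕ :=
  forceNat (Nat.div i 64) fun q =>
    Nat.land (Nat.shiftRight (blk w P q) (Nat.mul w (Nat.mod i 64))) (Nat.sub (Nat.shiftLeft 1 w) 1)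

/-- image of `i` under a packed map -/
def img (P i : ℕ) : ℕ := fld 15 P i

/-- the packed map on numbers below `n` (images are reduced modulo `n`) -/
def ap (n P x : ℕ) : ℕ := Nat.mod (img P x) n

theorem ap_lt {n P x : ℕ} (hx : x < n) : ap n P x < n :=
  Nat.mod_lt _ (Nat.lt_of_le_of_lt (Nat.zero_le x) hx)

/-- the packed map as a function on `Fin n` -/
def fn (n P : ℕ) (i : Fin n) : Fin n := ⟨ap n P i.val, ap_lt i.isLt⟩

theorem fn_val (n P : ℕ) (i : Fin n) : (fn n P i).val = ap n P i.val := rfl

/-- the packed map is a bijection -/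
def Valid (n P : ℕ) : Prop := Function.Bijective (fn n P)

/-- `Q` is a right inverse of `P` -/
def InvOf (n P Q : ℕ) : Prop := ∀ x < n, ap n P (ap n Q x) = x

instance (n P Q : ℕ) : Decidable (InvOf n P Q) := by unfold InvOf; infer_instance

theorem valid_of_invOf {n P Q : ℕ} (h : InvOf n P Q) : Valid n P := by
  unfold Valid
  rw [← Finite.surjective_iff_bijective]
  intro y
  refine ⟨fn n Q y, ?_⟩
  apply Fin.ext
  rw [fn_val, fn_val]
  exact h y.val y.isLt

/-- the permutation given by a packed map (the identity if the map is not bijective) -/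
noncomputable def perm (n P : ℕ) : Equiv.Perm (Fin n) :=
  if h : Function.Bijective (fn n P) then Equiv.ofBijective (fn n P) h else 1

theorem perm_apply {n P : ℕ} (h : Valid n P) (i : Fin n) : perm n P i = fn n P i := by
  have h' : Function.Bijective (fn n P) := h
  unfold perm
  rw [dif_pos h']
  rfl

theorem perm_apply_val {n P : ℕ} (h : Valid n P) (i : Fin n) :
    (perm n P i).val = ap n P i.val := by
  rw [perm_apply h, fn_val]

/-- `P` is the composite of `Q` after `R` -/
def IsComp (n P Q R : ℕ) : Prop := ∀ x < n, ap n P x = ap n Q (ap n R x)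

instance (n P Q R : ℕ) : Decidable (IsComp n P Q R) := by unfold IsComp; infer_instance

theorem fn_eq_of_isComp {n P Q R : ℕ} (h : IsComp n P Q R) (i : Fin n) :
    fn n P i = fn n Q (fn n R i) := by
  apply Fin.ext
  rw [fn_val, fn_val, fn_val]
  exact h i.val i.isLt

theorem valid_of_isComp {n P Q R : ℕ} (h : IsComp n P Q R) (hQ : Valid n Q) (hR : Valid n R) :
    Valid n P := by
  unfold Valid at *
  have : fn n P = fn n Q ∘ fn n R := funext (fn_eq_of_isComp h)
  rw [this]
  exact hQ.comp hR

theorem perm_of_isComp {n P Q R : ℕ} (h : IsComp n P Q R) (hQ : Valid n Q) (hR : Valid n R) :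
    perm n P = perm n Q * perm n R := by
  apply Equiv.ext
  intro i
  rw [Equiv.Perm.mul_apply, perm_apply (valid_of_isComp h hQ hR), perm_apply hQ, perm_apply hR]
  exact fn_eq_of_isComp h i

theorem perm_inv_of_invOf {n P Q : ℕ} (h : InvOf n P Q) (hQ : Valid n Q) :
    perm n Q = (perm n P)⁻¹ := by
  have hP := valid_of_invOf h
  rw [eq_inv_iff_mul_eq_one]
  rw [← mul_right_inj (perm n P), ← mul_assoc]
  have h1 : perm n P * perm n Q = 1 := by
    apply Equiv.ext
    intro i
    rw [Equiv.Perm.mul_apply, perm_apply hP, perm_apply hQ]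
    apply Fin.ext
    rw [fn_val, fn_val]
    exact h i.val i.isLt
  rw [h1, one_mul, mul_one]

/-! ### formal products -/

/-- evaluate a formal product (the head of the list is applied last) -/
def evalL (n : ℕ) (L : List ℕ) (x : ℕ) : ℕ :=
  List.rec (motive := fun _ => ℕ) x (fun c _ ih => forceNat ih fun y => ap n c y) L

theorem evalL_nil (n x : ℕ) : evalL n [] x = x := rfl

theorem evalL_cons (n c : ℕ) (L : List ℕ) (x : ℕ) : evalL n (c :: L) x = ap n c (evalL n L x) := by
  show forceNat (evalL n L x) (fun y => ap n c y) = _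
  rw [forceNat_eq]

theorem evalL_lt {n : ℕ} (L : List ℕ) {x : ℕ} (hx : x < n) : evalL n L x < n := by
  induction L with
  | nil => exact hx
  | cons c L ih => rw [evalL_cons]; exact ap_lt ih

/-- the product of the permutations of a list of codes -/
noncomputable def prodL (n : ℕ) (L : List ℕ) : Equiv.Perm (Fin n) := (L.map (perm n)).prod

theorem prodL_nil (n : ℕ) : prodL n [] = 1 := rfl

theorem prodL_cons (n c : ℕ) (L : List ℕ) : prodL n (c :: L) = perm n c * prodL n L := by
  unfold prodL
  rw [List.map_cons, List.prod_cons]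

theorem prodL_apply_val {n : ℕ} (L : List ℕ) (hL : ∀ c ∈ L, Valid n c) (i : Fin n) :
    (prodL n L i).val = evalL n L i.val := by
  induction L with
  | nil => rfl
  | cons c L ih =>
    rw [prodL_cons, Equiv.Perm.mul_apply, perm_apply_val (hL c (List.mem_cons_self ..)),
      ih (fun d hd => hL d (List.mem_cons_of_mem _ hd)), evalL_cons]

/-! ### groups generated by lists of codes -/

/-- the group generated by the permutations of a list of codes -/
noncomputable def grp (n : ℕ) (S : List ℕ) : Subgroup (Equiv.Perm (Fin n)) :=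
  Subgroup.closure {g | ∃ c ∈ S, g = perm n c}

theorem perm_mem_grp {n : ℕ} {S : List ℕ} {c : ℕ} (hc : c ∈ S) : perm n c ∈ grp n S :=
  Subgroup.subset_closure ⟨c, hc, rfl⟩

theorem grp_le_iff {n : ℕ} {S : List ℕ} {H : Subgroup (Equiv.Perm (Fin n))} :
    grp n S ≤ H ↔ ∀ c ∈ S, perm n c ∈ H := by
  unfold grp
  rw [Subgroup.closure_le]
  constructor
  · intro h c hc
    exact h ⟨c, hc, rfl⟩
  · rintro h _ ⟨c, hc, rfl⟩
    exact h c hc

theorem grp_mono {n : ℕ} {S S' : List ℕ} (h : ∀ c ∈ S, c ∈ S') : grp n S ≤ grp n S' :=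
  grp_le_iff.mpr fun c hc => perm_mem_grp (h c hc)

theorem grp_nil (n : ℕ) : grp n [] = ⊥ := by
  unfold grp
  rw [Subgroup.closure_eq_bot_iff]
  rintro _ ⟨c, hc, rfl⟩
  simp at hc

/-! ### straight-line programs -/

/-- check a straight-line program: each entry `(c, c₁, c₂)` defines `c = c₁ ∘ c₂` from known codes -/
def slpOk (n : ℕ) : List ℕ → List (ℕ × ℕ × ℕ) → Bool
  | _, [] => true
  | known, (c, c1, c2) :: rest =>
    decide (c1 ∈ known) && decide (c2 ∈ known) && decide (IsComp n c c1 c2) &&
      slpOk n (c :: known) rest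

/-- the codes known after running a straight-line program -/
def slpOut : List ℕ → List (ℕ × ℕ × ℕ) → List ℕ
  | known, [] => known
  | known, (c, _, _) :: rest => slpOut (c :: known) rest

theorem slp_sound {n : ℕ} (H : Subgroup (Equiv.Perm (Fin n))) (E : List (ℕ × ℕ × ℕ)) :
    ∀ known : List ℕ, (∀ c ∈ known, Valid n c ∧ perm n c ∈ H) → slpOk n known E = true →
      ∀ c ∈ slpOut known E, Valid n c ∧ perm n c ∈ H := by
  induction E with
  | nil =>
    intro known hk _ c hc
    exact hk c hc
  | cons e E ih =>
    obtain ⟨c, c1, c2⟩ := e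
    intro known hk hok
    unfold slpOk at hok
    simp only [Bool.and_eq_true, decide_eq_true_eq] at hok
    obtain ⟨⟨⟨h1, h2⟩, h3⟩, h4⟩ := hok
    apply ih (c :: known) _ h4
    intro d hd
    rcases List.mem_cons.mp hd with rfl | hd
    · obtain ⟨v1, m1⟩ := hk c1 h1
      obtain ⟨v2, m2⟩ := hk c2 h2
      refine ⟨valid_of_isComp h3 v1 v2, ?_⟩
      rw [perm_of_isComp h3 v1 v2]
      exact H.mul_mem m1 m2
    · exact hk d hd

theorem known_sub_slpOut (E : List (ℕ × ℕ × ℕ)) :
    ∀ known : List ℕ, ∀ c ∈ known, c ∈ slpOut known E := by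
  induction E with
  | nil => intro known c hc; exact hc
  | cons e E ih =>
    obtain ⟨c', c1, c2⟩ := e
    intro known c hc
    exact ih (c' :: known) c (List.mem_cons_of_mem _ hc)

end Cfsg.Agent.Lib.Helper10.SX
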