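import Cfsg.Agent.Lib.Helper10.SXChain

set_option autoImplicit false

/-!
Certificates for maximality of a stabiliser inside a permutation group: a forest for the orbits of
the stabiliser, and for each root a spanning tree for the group generated by the stabiliser and
an element mapping the point to the root.
-/

namespace Cfsg.Agent.Lib.Helper10.SX

open MulAction

/-- the path of `p` exists and ends at the root `r` -/
def rootIs (T p r : ℕ) : Bool :=
  match pathOf T fuel p with
  | some (r', _) => r' == r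
  | none => false

/-- the path of `p` exists and ends at a root in the list -/
def rootIn (T p : ℕ) (rs : List ℕ) : Bool :=
  match pathOf T fuel p with
  | some (r', _) => rs.contains r'
  | none => false

theorem rootIs_iff {T p r : ℕ} : rootIs T p r = true ↔ ∃ w, pathOf T fuel p = some (r, w) := by
  unfold rootIs
  split
  · rename_i r' w h
    rw [beq_iff_eq, h]
    constructor
    · rintro rfl; exact ⟨w, rfl⟩
    · rintro ⟨w', hw'⟩
      simp only [Option.some.injEq, Prod.mk.injEq] at hw'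
      exact hw'.1
  · rename_i h
    rw [h]
    simp

theorem rootIn_iff {T p : ℕ} {rs : List ℕ} :
    rootIn T p rs = true ↔ ∃ r w, pathOf T fuel p = some (r, w) ∧ r ∈ rs := by
  unfold rootIn
  split
  · rename_i r' w h
    rw [List.contains_iff_mem, h]
    constructor
    · intro hr; exact ⟨r', w, rfl, hr⟩
    · rintro ⟨r, w', hw', hr⟩
      simp only [Option.some.injEq, Prod.mk.injEq] at hw'
      rw [hw'.1]; exact hr
  · rename_i h
    rw [h]
    simp

/-- every point with a path is the image of its root under a product of moves -/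
theorem exists_of_path {n : ℕ} {M : List (ℕ × ℕ)} {T : ℕ} (hT : treeOk n M T = true)
    {P : Subgroup (Equiv.Perm (Fin n))} (hM : MovesIn n M P) {p r : ℕ} {w : List ℕ}
    (hp : p < n) (h : pathOf T fuel p = some (r, w)) :
    ∃ hr : r < n, ∃ g ∈ P, g ⟨r, hr⟩ = ⟨p, hp⟩ := by
  obtain ⟨hr, -, hev, hw⟩ := pathOf_sound hT fuel p r w hp h
  exact ⟨hr, prodL n (codes M w), prodL_mem fun c hc => (codes_valid hM hw c hc).2,
    prodL_codes_apply hM hw hr hp hev⟩

/-- data for one root: the root, a code mapping the point to it, its inverse, a spanning tree -/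
def RootOk (n : ℕ) (K : Subgroup (Equiv.Perm (Fin n))) (M : List (ℕ × ℕ)) (y : Fin n)
    (e : ℕ × ℕ × ℕ × ℕ) : Prop :=
  Valid n e.2.1 ∧ Valid n e.2.2.1 ∧ perm n e.2.2.1 = (perm n e.2.1)⁻¹ ∧ perm n e.2.1 ∈ K ∧
    ap n e.2.1 y.val = e.1 ∧
    treeOk n (M ++ [(e.2.1, e.2.2.1), (e.2.2.1, e.2.1)]) e.2.2.2 = true ∧
    ∀ g ∈ K, ∃ w, pathOf e.2.2.2 fuel (g y).val = some (y.val, w)

/-- maximality of `K ⊓ stabilizer y` in `K` from a forest and spanning trees -/
theorem rel_max {n : ℕ} (K : Subgroup (Equiv.Perm (Fin n))) (y : Fin n)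
    (M : List (ℕ × ℕ))
    (hM : MovesIn n M (K ⊓ stabilizer (Equiv.Perm (Fin n)) y))
    (F : ℕ) (hF : treeOk n M F = true) (roots : List (ℕ × ℕ × ℕ × ℕ))
    (hroots : ∀ e ∈ roots, RootOk n K M y e)
    (hcover : ∀ g ∈ K, g y ≠ y → ∃ r w, pathOf F fuel (g y).val = some (r, w) ∧
      r ∈ roots.map Prod.fst) :
    ∀ L : Subgroup (Equiv.Perm (Fin n)), K ⊓ stabilizer (Equiv.Perm (Fin n)) y ≤ L → L ≤ K →
      L = K ⊓ stabilizer (Equiv.Perm (Fin n)) y ∨ L = K := by
  intro L hKyL hLK
  by_cases hLKy : L ≤ K ⊓ stabilizer (Equiv.Perm (Fin n)) y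
  · exact Or.inl (le_antisymm hLKy hKyL)
  · right
    apply le_antisymm hLK
    rw [SetLike.not_le_iff_exists] at hLKy
    obtain ⟨l, hl, hlKy⟩ := hLKy
    have hlK : l ∈ K := hLK hl
    have hly : l y ≠ y := by
      intro h
      exact hlKy (Subgroup.mem_inf.mpr ⟨hlK, mem_stabilizer_iff.mpr h⟩)
    obtain ⟨r, w, hpath, hr⟩ := hcover l hlK hly
    obtain ⟨e, he, rfl⟩ := List.mem_map.mp hr
    obtain ⟨hv, hvi, hinv, hcK, hcy, hTe, hspan⟩ := hroots e he
    -- the element of `K ⊓ stabilizer y` mapping the root to `l y`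
    obtain ⟨hr', k, hk, hkr⟩ := exists_of_path hF hM (l y).isLt hpath
    -- the root element
    have hg₀ : perm n e.2.1 y = ⟨e.1, hr'⟩ := by
      apply Fin.ext
      rw [perm_apply_val hv]
      exact hcy
    have h1 : (k * perm n e.2.1)⁻¹ * l ∈ K ⊓ stabilizer (Equiv.Perm (Fin n)) y := by
      refine Subgroup.mem_inf.mpr ⟨?_, ?_⟩
      · exact K.mul_mem (K.inv_mem (K.mul_mem (Subgroup.mem_inf.mp hk).1 hcK)) hlK
      · rw [mem_stabilizer_iff, mul_smul, inv_smul_eq_iff, mul_smul]
        show l y = k (perm n e.2.1 y)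
        rw [hg₀, hkr]
    have h2 : k * perm n e.2.1 ∈ L := by
      have : k * perm n e.2.1 = l * ((k * perm n e.2.1)⁻¹ * l)⁻¹ := by group
      rw [this]
      exact L.mul_mem hl (L.inv_mem (hKyL h1))
    have h3 : perm n e.2.1 ∈ L := by
      have : perm n e.2.1 = k⁻¹ * (k * perm n e.2.1) := by group
      rw [this]
      exact L.mul_mem (L.inv_mem (hKyL hk)) h2
    -- the moves of the spanning tree lie in `L`
    have hM' : MovesIn n (M ++ [(e.2.1, e.2.2.1), (e.2.2.1, e.2.1)]) L := by
      intro m hm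
      rcases List.mem_append.mp hm with hm | hm
      · obtain ⟨a, b, c, d⟩ := hM m hm
        exact ⟨a, b, c, hKyL d⟩
      · simp only [List.mem_cons, List.not_mem_nil, or_false] at hm
        rcases hm with rfl | rfl
        · exact ⟨hv, hvi, hinv, h3⟩
        · refine ⟨hvi, hv, ?_, ?_⟩
          · show perm n e.2.1 = (perm n e.2.2.1)⁻¹
            rw [hinv, inv_inv]
          · show perm n e.2.2.1 ∈ L
            rw [hinv]
            exact L.inv_mem h3
    intro h hh
    obtain ⟨w', hw'⟩ := hspan h hh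
    obtain ⟨hy', l', hl', hl'y⟩ := exists_of_path hTe hM' (h y).isLt hw'
    have h4 : l'⁻¹ * h ∈ K ⊓ stabilizer (Equiv.Perm (Fin n)) y := by
      refine Subgroup.mem_inf.mpr ⟨K.mul_mem (K.inv_mem (hLK hl')) hh, ?_⟩
      rw [mem_stabilizer_iff, mul_smul, inv_smul_eq_iff]
      show h y = l' y
      exact hl'y.symm
    have : h = l' * (l'⁻¹ * h) := by group
    rw [this]
    exact L.mul_mem hl' (hKyL h4)

end Cfsg.Agent.Lib.Helper10.SX
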