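import Cfsg.Agent.Lib.Helper10.SXK4
import Cfsg.Agent.Lib.Helper16.PSU32

set_option autoImplicit false

/-!
From a link between a group of unitary 9 × 9 matrices over the field with four elements and a simple
permutation group on a set of 1-spaces: the matrix group is a triple cover of the permutation group.
-/

namespace Cfsg.Agent.Lib.Helper10.SXM

open Matrix Cfsg.Agent.Lib.Helper16.PSU32

theorem card_K4' : Fintype.card K4 = 2 ^ 2 := by
  rw [card_K4]
  norm_num

/-- the matrix of an element of the special unitary group -/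
def matHom : ↥(Cfsg.SU 9 K4 2) →* Matrix (Fin 9) (Fin 9) K4 where
  toFun g := (g.1 : Matrix (Fin 9) (Fin 9) K4)
  map_one' := rfl
  map_mul' a b := su_coe_mul a b

theorem matHom_injective : Function.Injective matHom := fun _ _ h => su_ext h

theorem center_eq_bot_of_perfect {G : Type*} [Group G] [IsSimpleGroup G]
    (hperf : commutator G = ⊤) : Subgroup.center G = ⊥ := by
  rcases (inferInstance : (Subgroup.center G).Normal).eq_bot_or_eq_top with h | h
  · exact h
  · exfalso
    have h1 : commutator G = ⊥ := by
      rw [commutator_def, Subgroup.commutator_eq_bot_iff_le_centralizer]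
      intro g _
      rw [Subgroup.mem_centralizer_iff]
      intro x _
      have hg : g ∈ Subgroup.center G := by rw [h]; trivial
      exact (Subgroup.mem_center_iff.mp hg x)
    rw [hperf] at h1
    exact top_ne_bot h1

section cover

variable {n : ℕ} (pt : Fin n → (Fin 9 → K4)) (G : Subgroup (Equiv.Perm (Fin n)))
  {S : Type*} [Group S] (matHom : S →* Matrix (Fin 9) (Fin 9) K4)
  (matHom_injective : Function.Injective matHom) (H : Subgroup S)

include matHom_injective in
theorem triple_cover [IsSimpleGroup ↥G] (hperf : commutator ↥G = ⊤)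
    (hHG : ∀ h ∈ H, ∃ σ ∈ G, Acts pt (matHom h) σ) (hGH : ∀ σ ∈ G, ∃ h ∈ H, Acts pt (matHom h) σ)
    (hne : ∃ σ ∈ G, ¬ Acts pt (1 : Matrix (Fin 9) (Fin 9) K4) σ)
    (hframe : ∀ M : Matrix (Fin 9) (Fin 9) K4, Acts pt M 1 →
      ∃ s : K4, s ≠ 0 ∧ M = s • (1 : Matrix (Fin 9) (Fin 9) K4))
    (z : S) (hz : z ∈ H)
    (hzm : matHom z = om • (1 : Matrix (Fin 9) (Fin 9) K4)) :
    Nat.card ↥(Subgroup.center ↥H) = 3 ∧ Nonempty ((↥H ⧸ Subgroup.center ↥H) ≃* ↥G) := by
  obtain ⟨φ, hsurj, hacts⟩ := exists_hom pt matHom H G hHG hGH hne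
  -- the kernel consists of the scalar matrices
  have hker1 : ∀ h : ↥H, φ h = 1 → ∃ s : K4, s ≠ 0 ∧ matHom h.1 = s • 1 := by
    intro h hh
    have h1 := hacts h
    rw [hh] at h1
    exact hframe _ h1
  have hker2 : ∀ h : ↥H, (∃ s : K4, s ≠ 0 ∧ matHom h.1 = s • 1) → φ h = 1 := by
    rintro h ⟨s, hs, hm⟩
    have h1 : Acts pt (matHom h.1) 1 := by
      intro i
      refine ⟨s, hs, ?_⟩
      rw [hm, Matrix.smul_mulVec, Matrix.one_mulVec]
      rfl
    apply Subtype.ext
    exact acts_unique pt matHom H G hHG hGH hne (φ h).2 G.one_mem (hacts h) h1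
  -- the centre is the kernel
  have hcenG : Subgroup.center ↥G = ⊥ := center_eq_bot_of_perfect hperf
  have hcen : Subgroup.center ↥H = φ.ker := by
    apply le_antisymm
    · intro h hh
      rw [MonoidHom.mem_ker]
      have : φ h ∈ Subgroup.center ↥G := by
        rw [Subgroup.mem_center_iff]
        intro g
        obtain ⟨x, rfl⟩ := hsurj g
        rw [← map_mul, ← map_mul, Subgroup.mem_center_iff.mp hh x]
      rw [hcenG] at this
      exact Subgroup.mem_bot.mp this
    · intro h hh
      rw [MonoidHom.mem_ker] at hh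
      obtain ⟨s, -, hm⟩ := hker1 h hh
      rw [Subgroup.mem_center_iff]
      intro g
      apply Subtype.ext
      apply matHom_injective
      show matHom (g.1 * h.1) = matHom (h.1 * g.1)
      rw [map_mul, map_mul, hm, Matrix.mul_smul, Matrix.smul_mul, Matrix.mul_one, Matrix.one_mul]
  -- the kernel is generated by `z`
  let z' : ↥H := ⟨z, hz⟩
  have hz3 : z' ^ 3 = 1 := by
    apply Subtype.ext
    apply matHom_injective
    show matHom (z ^ 3) = matHom 1
    rw [map_pow, hzm, map_one, smul_pow, one_pow, om_pow_three, one_smul]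
  have hz1 : z' ≠ 1 := by
    intro h
    have h1 : matHom z = matHom 1 := congrArg (fun u : ↥H => matHom u.1) h
    rw [hzm, map_one] at h1
    have h2 := congrFun (congrFun h1 0) 0
    rw [Matrix.smul_apply, Matrix.one_apply_eq, smul_eq_mul, mul_one] at h2
    exact om_ne_one h2
  have : Fact (Nat.Prime 3) := ⟨Nat.prime_three⟩
  have hord : orderOf z' = 3 := orderOf_eq_prime hz3 hz1
  have hkerz : φ.ker = Subgroup.zpowers z' := by
    apply le_antisymm
    · intro h hh
      rw [MonoidHom.mem_ker] at hh
      obtain ⟨s, hs, hm⟩ := hker1 h hh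
      rcases k4_cases s hs with rfl | rfl | rfl
      · have : h = 1 := by
          apply Subtype.ext
          apply matHom_injective
          rw [hm, one_smul]
          exact (map_one matHom).symm
        rw [this]
        exact one_mem _
      · have : h = z' := by
          apply Subtype.ext
          apply matHom_injective
          rw [hm]
          exact hzm.symm
        rw [this]
        exact Subgroup.mem_zpowers z'
      · have : h = z' ^ 2 := by
          apply Subtype.ext
          apply matHom_injective
          show matHom h.1 = matHom (z ^ 2)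
          rw [hm, map_pow, hzm, smul_pow, one_pow]
        rw [this]
        exact Subgroup.pow_mem _ (Subgroup.mem_zpowers z') 2
    · rw [Subgroup.zpowers_le, MonoidHom.mem_ker]
      exact hker2 z' ⟨om, om_ne_zero, hzm⟩
  refine ⟨?_, ?_⟩
  · rw [hcen, hkerz, Nat.card_zpowers, hord]
  · exact ⟨(QuotientGroup.quotientMulEquivOfEq hcen).trans
      (QuotientGroup.quotientKerEquivOfSurjective φ hsurj)⟩

end cover

end Cfsg.Agent.Lib.Helper10.SXM
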