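import Cfsg.Agent.Lib.Helper10.SXTree

set_option autoImplicit false

/-!
Rigidity of a permutation group from an invariant graph: colour refinement from a few
individualised points ends in a discrete colouring, so an automorphism fixing those points is the
identity.
-/

namespace Cfsg.Agent.Lib.Helper10.SX

/-- a packed graph: the neighbours of each point as `val` fields of 15 bits, `per` rows per chunk -/
structure Gr where
  /-- the valency -/
  val : ℕ
  /-- rows per chunk -/
  per : ℕ
  /-- the chunks -/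
  chunks : List ℕ

/-- decode `k` fields of 15 bits -/
def decodeRow : ℕ → ℕ → List ℕ
  | 0, _ => []
  | k + 1, R => (R &&& 32767) :: decodeRow k (R >>> 15)

/-- the neighbours of a point -/
def nb (Γ : Gr) (x : ℕ) : List ℕ :=
  decodeRow Γ.val ((Γ.chunks.getD (x / Γ.per) 0) >>> (15 * Γ.val * (x % Γ.per)))

/-- strictly increasing, all entries below `n` -/
def incLt (n : ℕ) : List ℕ → Bool
  | [] => true
  | [a] => decide (a < n)
  | a :: b :: L => decide (a < b) && incLt n (b :: L)

theorem incLt_sound (n : ℕ) : ∀ L : List ℕ, incLt n L = true →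
    (∀ a ∈ L, a < n) ∧ L.Pairwise (· < ·) := by
  intro L
  induction L with
  | nil => intro _; simp
  | cons a L ih =>
    cases L with
    | nil =>
      intro h
      simp only [incLt, decide_eq_true_eq] at h
      simp [h]
    | cons b L =>
      intro h
      simp only [incLt, Bool.and_eq_true, decide_eq_true_eq] at h
      obtain ⟨hab, hrest⟩ := h
      obtain ⟨h1, h2⟩ := ih hrest
      refine ⟨?_, ?_⟩
      · intro c hc
        rcases List.mem_cons.mp hc with rfl | hc
        · exact lt_trans hab (h1 b (List.mem_cons_self ..))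
        · exact h1 c hc
      · rw [List.pairwise_cons]
        refine ⟨?_, h2⟩
        intro c hc
        rcases List.mem_cons.mp hc with rfl | hc
        · exact hab
        · exact lt_trans hab ((List.pairwise_cons.mp h2).1 c hc)

/-- all rows are strictly increasing with entries below `n` -/
def rowsOk (n : ℕ) (Γ : Gr) : Bool := allLt n fun x => incLt n (nb Γ x)

theorem rows_lt {n : ℕ} {Γ : Gr} (h : rowsOk n Γ = true) {x : ℕ} (hx : x < n) :
    ∀ a ∈ nb Γ x, a < n :=
  (incLt_sound n _ ((allLt_iff _ _).mp h x hx)).1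

theorem rows_nodup {n : ℕ} {Γ : Gr} (h : rowsOk n Γ = true) {x : ℕ} (hx : x < n) :
    (nb Γ x).Nodup := by
  have := (incLt_sound n _ ((allLt_iff _ _).mp h x hx)).2
  exact this.imp (fun hab => ne_of_lt hab)

/-- the set of a list as a bit mask -/
def maskOf : List ℕ → ℕ
  | [] => 0
  | a :: L => maskOf L ||| 2 ^ a

theorem testBit_maskOf (L : List ℕ) (z : ℕ) : (maskOf L).testBit z = true ↔ z ∈ L := by
  induction L with
  | nil => simp [maskOf]
  | cons a L ih =>
    unfold maskOf
    rw [Nat.testBit_or, Bool.or_eq_true, ih, Nat.testBit_two_pow, decide_eq_true_eq,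
      List.mem_cons]
    constructor
    · rintro (h | h)
      · exact Or.inr h
      · exact Or.inl h.symm
    · rintro (h | h)
      · exact Or.inr h.symm
      · exact Or.inl h

theorem mem_iff_of_maskOf_eq {L L' : List ℕ} (h : maskOf L = maskOf L') (z : ℕ) :
    z ∈ L ↔ z ∈ L' := by
  rw [← testBit_maskOf, ← testBit_maskOf, h]

/-- a packed map preserves the graph -/
def autOk (n : ℕ) (Γ : Gr) (c : ℕ) : Bool :=
  allLt n fun x => maskOf ((nb Γ x).map (ap n c)) == maskOf (nb Γ (ap n c x))

/-- automorphisms of the graph -/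
def IsAut (n : ℕ) (Γ : Gr) (σ : Equiv.Perm (Fin n)) : Prop :=
  ∀ x y : Fin n, y.val ∈ nb Γ x.val ↔ (σ y).val ∈ nb Γ (σ x).val

/-- the automorphism group of the graph -/
def autGroup (n : ℕ) (Γ : Gr) : Subgroup (Equiv.Perm (Fin n)) where
  carrier := {σ | IsAut n Γ σ}
  one_mem' := fun x y => Iff.rfl
  mul_mem' := by
    intro σ τ hσ hτ x y
    show y.val ∈ nb Γ x.val ↔ (σ (τ y)).val ∈ nb Γ (σ (τ x)).val
    rw [hτ x y, hσ (τ x) (τ y)]
  inv_mem' := by
    intro σ hσ x y
    show y.val ∈ nb Γ x.val ↔ (σ⁻¹ y).val ∈ nb Γ (σ⁻¹ x).val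
    rw [hσ (σ⁻¹ x) (σ⁻¹ y)]
    simp

theorem isAut_of_autOk {n : ℕ} {Γ : Gr} (hrows : rowsOk n Γ = true) {c : ℕ} (hc : Valid n c)
    (h : autOk n Γ c = true) : perm n c ∈ autGroup n Γ := by
  unfold autOk at h
  rw [allLt_iff] at h
  intro x y
  have hx := h x.val x.isLt
  rw [beq_iff_eq] at hx
  have hmem := mem_iff_of_maskOf_eq hx
  rw [perm_apply_val hc, perm_apply_val hc]
  constructor
  · intro hy
    rw [← hmem]
    exact List.mem_map.mpr ⟨y.val, hy, rfl⟩
  · intro hy
    rw [← hmem] at hy
    obtain ⟨y', hy', heq⟩ := List.mem_map.mp hy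
    have hy'n : y' < n := rows_lt hrows x.isLt y' hy'
    have hinj : Function.Injective (fn n c) := hc.1
    have : (⟨y', hy'n⟩ : Fin n) = y := by
      apply hinj
      apply Fin.ext
      rw [fn_val, fn_val]
      exact heq
    rw [← this]
    exact hy'

theorem grp_le_autGroup {n : ℕ} {Γ : Gr} (hrows : rowsOk n Γ = true) {S : List ℕ}
    (hS : ∀ c ∈ S, Valid n c) (haut : ∀ c ∈ S, autOk n Γ c = true) :
    grp n S ≤ autGroup n Γ :=
  grp_le_iff.mpr fun c hc => isAut_of_autOk hrows (hS c hc) (haut c hc)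

/-! ### colour refinement -/

/-- entry of a packed colouring -/
def cimg (C x : ℕ) : ℕ := fld 32 C x

/-- the initial colouring: the individualised points get distinct colours -/
def c0fun (RB : List ℕ) (x : ℕ) : ℕ := if x ∈ RB then RB.idxOf x + 1 else 0

/-- the new colour of a point -/
def newCol (Γ : Gr) (col : ℕ → ℕ) (x : ℕ) : ℕ :=
  (col x * 1000003 + ((nb Γ x).map fun y => col y * col y + 12345 * col y).sum) % 4294967291

/-- a packed colouring is the refinement of a colouring -/
def roundOk (n : ℕ) (Γ : Gr) (col : ℕ → ℕ) (C' : ℕ) : Bool :=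
  allLt n fun x => cimg C' x == newCol Γ col x

/-- the neighbours of a point as a finset -/
def nbF (n : ℕ) (Γ : Gr) (x : Fin n) : Finset (Fin n) :=
  Finset.univ.filter fun y => y.val ∈ nb Γ x.val

theorem sum_nb {n : ℕ} {Γ : Gr} (hrows : rowsOk n Γ = true) (x : Fin n) (g : ℕ → ℕ) :
    ((nb Γ x.val).map g).sum = ∑ y ∈ nbF n Γ x, g y.val := by
  have hlt := rows_lt hrows x.isLt
  have hnd := rows_nodup hrows x.isLt
  let L' : List (Fin n) := (nb Γ x.val).pmap Fin.mk hlt
  have h1 : L'.map (fun y => g y.val) = (nb Γ x.val).map g := by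
    rw [List.map_pmap]
    simp [List.pmap_eq_map]
  have h2 : L'.Nodup := by
    apply List.Nodup.pmap _ hnd
    intro a _ b _ hab
    exact Fin.mk.inj hab
  have h3 : L'.toFinset = nbF n Γ x := by
    ext y
    rw [List.mem_toFinset, List.mem_pmap]
    unfold nbF
    rw [Finset.mem_filter]
    constructor
    · rintro ⟨a, ha, rfl⟩
      exact ⟨Finset.mem_univ _, ha⟩
    · rintro ⟨-, hy⟩
      exact ⟨y.val, hy, rfl⟩
  rw [← h1, ← h3, List.sum_toFinset _ h2]

theorem round_inv {n : ℕ} {Γ : Gr} (hrows : rowsOk n Γ = true) {σ : Equiv.Perm (Fin n)}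
    (hσ : σ ∈ autGroup n Γ) {col : ℕ → ℕ} (hcol : ∀ x : Fin n, col (σ x).val = col x.val)
    {C' : ℕ} (hr : roundOk n Γ col C' = true) :
    ∀ x : Fin n, cimg C' (σ x).val = cimg C' x.val := by
  unfold roundOk at hr
  rw [allLt_iff] at hr
  intro x
  have h1 := hr x.val x.isLt
  have h2 := hr (σ x).val (σ x).isLt
  rw [beq_iff_eq] at h1 h2
  rw [h1, h2]
  unfold newCol
  rw [hcol x, sum_nb hrows (σ x), sum_nb hrows x]
  congr 2
  symm
  apply Finset.sum_equiv σ
  · intro y
    unfold nbF
    rw [Finset.mem_filter, Finset.mem_filter]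
    simp only [Finset.mem_univ, true_and]
    exact hσ x y
  · intro y _
    simp only [hcol y]

theorem c0_inv {n : ℕ} (RB : List ℕ) {σ : Equiv.Perm (Fin n)}
    (hfix : ∀ x ∈ RB, ∀ hx : x < n, σ ⟨x, hx⟩ = ⟨x, hx⟩) :
    ∀ x : Fin n, c0fun RB (σ x).val = c0fun RB x.val := by
  intro x
  by_cases hx : x.val ∈ RB
  · have : σ x = x := hfix x.val hx x.isLt
    rw [this]
  · have hsx : (σ x).val ∉ RB := by
      intro h
      have h1 : σ ⟨(σ x).val, (σ x).isLt⟩ = ⟨(σ x).val, (σ x).isLt⟩ := hfix _ h _
      have h2 : σ (σ x) = σ x := h1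
      have h3 : σ x = x := σ.injective h2
      rw [h3] at h
      exact hx h
    unfold c0fun
    rw [if_neg hx, if_neg hsx]

/-- no repetitions, with a bit mask of the entries seen so far -/
def noDup : List ℕ → ℕ → Bool
  | [], _ => true
  | a :: L, m => !(m.testBit a) && noDup L (m ||| 2 ^ a)

theorem noDup_sound : ∀ (L : List ℕ) (m : ℕ), noDup L m = true →
    L.Nodup ∧ ∀ a ∈ L, m.testBit a = false := by
  intro L
  induction L with
  | nil => intro m _; simp
  | cons a L ih =>
    intro m h
    unfold noDup at h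
    rw [Bool.and_eq_true, Bool.not_eq_true'] at h
    obtain ⟨h1, h2⟩ := h
    obtain ⟨hnd, hm⟩ := ih _ h2
    have hm' : ∀ a' ∈ L, m.testBit a' = false ∧ a' ≠ a := by
      intro a' ha'
      have := hm a' ha'
      rw [Nat.testBit_or, Bool.or_eq_false_iff, Nat.testBit_two_pow, decide_eq_false_iff_not]
        at this
      exact ⟨this.1, fun h => this.2 h.symm⟩
    refine ⟨?_, ?_⟩
    · rw [List.nodup_cons]
      refine ⟨fun ha => (hm' a ha).2 rfl, hnd⟩
    · intro a' ha'
      rcases List.mem_cons.mp ha' with rfl | ha'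
      · exact h1
      · exact (hm' a' ha').1

/-- the colours, reduced modulo `m`, are pairwise distinct -/
def distinctOk (n m C : ℕ) : Bool := noDup ((List.range n).map fun x => cimg C x % m) 0

theorem distinct_inj {n m C : ℕ} (h : distinctOk n m C = true) {x y : ℕ} (hx : x < n)
    (hy : y < n) (hxy : cimg C x = cimg C y) : x = y := by
  have hnd := (noDup_sound _ _ h).1
  apply List.inj_on_of_nodup_map hnd (List.mem_range.mpr hx) (List.mem_range.mpr hy)
  show cimg C x % m = cimg C y % m
  rw [hxy]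

theorem eq_one_of_discrete {n m C : ℕ} (h : distinctOk n m C = true) {σ : Equiv.Perm (Fin n)}
    (hσ : ∀ x : Fin n, cimg C (σ x).val = cimg C x.val) : σ = 1 := by
  apply Equiv.ext
  intro x
  apply Fin.ext
  exact distinct_inj h (σ x).isLt x.isLt (hσ x)

end Cfsg.Agent.Lib.Helper10.SX
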