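import Cfsg.Agent.Lib.Helper10.SXCert
import Cfsg.Agent.Lib.Helper10.SXRigid
import Cfsg.Agent.Lib.Helper10.SWSimple

set_option autoImplicit false

/-!
Glue between the verified chain checker and the simplicity criterion: stabilisers from a chain,
Boolean certificates for maximality, transfer to the subgroup type, rigidity from colour
refinement, perfectness of a two-generator group.
-/

namespace Cfsg.Agent.Lib.Helper10.SX

open MulAction

/-! ### validity along a chain -/

theorem valid_cons_of_pre {n : ℕ} {L : Lvl} {rest : List Lvl} (h : levelPre n L rest = true)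
    (hrest : ∀ c ∈ allGens rest, Valid n c) : ∀ c ∈ allGens (L :: rest), Valid n c := by
  intro c hc
  unfold allGens at hc
  rcases List.mem_append.mp hc with hc | hc
  · exact levelPre_valid h c hc
  · exact hrest c hc

theorem levelPre_of_levelOk {n : ℕ} {RB : List ℕ} {L : Lvl} {rest : List Lvl}
    (h : levelOk n RB L rest = true) : levelPre n L rest = true := by
  unfold levelOk at h
  rw [Bool.and_eq_true] at h
  exact h.1

theorem chainOk_cons {n : ℕ} {RB : List ℕ} {L : Lvl} {rest : List Lvl}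
    (h1 : chainOk n RB rest = true) (h2 : levelOk n RB L rest = true) :
    chainOk n RB (L :: rest) = true := by
  unfold chainOk
  rw [Bool.and_eq_true]
  exact ⟨h1, h2⟩

theorem chainOk_nil (n : ℕ) (RB : List ℕ) : chainOk n RB [] = true := rfl

theorem allGens_sub_cons (L : Lvl) (rest : List Lvl) : ∀ c ∈ allGens rest, c ∈ allGens (L :: rest) := by
  intro c hc
  show c ∈ genCodes L ++ allGens rest
  exact List.mem_append_right _ hc

/-! ### the stabiliser of the base point -/

theorem stab_eq {n : ℕ} {RB : List ℕ} {Gtop : Subgroup (Equiv.Perm (Fin n))} {L : Lvl}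
    {rest : List Lvl} (inv : ChainInv n RB Gtop (L :: rest)) (hb : L.b < n) :
    grp n (allGens (L :: rest)) ⊓ stabilizer (Equiv.Perm (Fin n)) (⟨L.b, hb⟩ : Fin n) =
      grp n (allGens rest) := by
  apply le_antisymm
  · intro x hx
    obtain ⟨hxG, hxs⟩ := Subgroup.mem_inf.mp hx
    exact inv.stab L rest rfl hb x hxG (mem_stabilizer_iff.mp hxs)
  · apply le_inf
    · exact grp_mono (allGens_sub_cons L rest)
    · apply grp_le_iff.mpr
      intro c hc
      rw [mem_stabilizer_iff]
      apply Fin.ext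
      show (perm n c ⟨L.b, hb⟩).val = L.b
      rw [perm_apply_val (inv.valid c (allGens_sub_cons L rest c hc))]
      exact (inv.fixb L rest rfl).2 c hc

/-- every point with a path is in the orbit of the base point -/
theorem exists_map_of_path {n : ℕ} {RB : List ℕ} {Gtop : Subgroup (Equiv.Perm (Fin n))} {L : Lvl}
    {rest : List Lvl} (inv : ChainInv n RB Gtop (L :: rest)) (hb : L.b < n) (p : Fin n)
    (hp : (pathOf L.tree fuel p.val).isSome = true) :
    ∃ g ∈ grp n (allGens (L :: rest)), g ⟨L.b, hb⟩ = p := by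
  obtain ⟨w, -, hwl, hev, hall⟩ := inv.orb L rest rfl p.val p.isLt hp
  have hcv : ∀ c ∈ codes L.moves w, Valid n c ∧ perm n c ∈ grp n (allGens (L :: rest)) :=
    fun c hc => hall c (List.mem_append_left _ hc)
  refine ⟨prodL n (codes L.moves w), prodL_mem fun c hc => (hcv c hc).2, ?_⟩
  apply Fin.ext
  rw [prodL_apply_val _ (fun c hc => (hcv c hc).1)]
  exact hev

/-! ### Boolean certificates for maximality -/

/-- a packed map is a word in moves lying in a subgroup -/
theorem wordOk_sound {n : ℕ} {W : List (ℕ × ℕ)} {K : Subgroup (Equiv.Perm (Fin n))}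
    (hW : MovesIn n W K) {c : ℕ} (hc : Valid n c) {w : List ℕ} (h : wordOk n W c w = true) :
    perm n c ∈ K := by
  unfold wordOk at h
  rw [Bool.and_eq_true, List.all_eq_true, allLt_iff] at h
  obtain ⟨hwl, hwe⟩ := h
  have hwl' : ∀ i ∈ w, i < W.length := fun i hi => by
    have := hwl i hi
    rwa [decide_eq_true_eq] at this
  have heq : perm n c = prodL n (codes W w) := by
    apply Equiv.ext
    intro i
    apply Fin.ext
    rw [perm_apply_val hc, prodL_apply_val _ (fun d hd => (codes_valid hW hwl' d hd).1)]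
    exact beq_iff_eq.mp (hwe i.val i.isLt)
  rw [heq]
  exact prodL_mem fun d hd => (codes_valid hW hwl' d hd).2

/-- the Boolean check of one root -/
def rootChk (n : ℕ) (M W : List (ℕ × ℕ)) (y : ℕ) (dom : ℕ → Bool) (e : ℕ × ℕ × ℕ × ℕ)
    (w : List ℕ) : Bool :=
  invB n e.2.1 e.2.2.1 && invB n e.2.2.1 e.2.1 && wordOk n W e.2.1 w && (ap n e.2.1 y == e.1) &&
  treeOk n (M ++ [(e.2.1, e.2.2.1), (e.2.2.1, e.2.1)]) e.2.2.2 &&
  allLt n fun p => !dom p || rootIs e.2.2.2 p y

theorem rootChk_sound {n : ℕ} {M W : List (ℕ × ℕ)} {K : Subgroup (Equiv.Perm (Fin n))}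
    (hW : MovesIn n W K) (y : Fin n) {dom : ℕ → Bool}
    (hdom : ∀ g ∈ K, dom (g y).val = true) {e : ℕ × ℕ × ℕ × ℕ} {w : List ℕ}
    (h : rootChk n M W y.val dom e w = true) : RootOk n K M y e := by
  unfold rootChk at h
  simp only [Bool.and_eq_true, invB_iff, beq_iff_eq, allLt_iff] at h
  obtain ⟨⟨⟨⟨⟨h1, h2⟩, h3⟩, h4⟩, h5⟩, h6⟩ := h
  have hv1 : Valid n e.2.1 := valid_of_invOf h1
  have hv2 : Valid n e.2.2.1 := valid_of_invOf h2
  refine ⟨hv1, hv2, perm_inv_of_invOf h1 hv2, wordOk_sound hW hv1 h3, h4, h5, ?_⟩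
  intro g hg
  have := h6 (g y).val (g y).isLt
  rw [hdom g hg] at this
  simp only [Bool.not_true, Bool.false_or] at this
  exact rootIs_iff.mp this

/-- the Boolean check that the forest covers the domain with the listed roots -/
def coverChk (n F y : ℕ) (dom : ℕ → Bool) (rs : List ℕ) : Bool :=
  allLt n fun p => !dom p || p == y || rootIn F p rs

theorem coverChk_sound {n F : ℕ} {K : Subgroup (Equiv.Perm (Fin n))} (y : Fin n)
    {dom : ℕ → Bool} (hdom : ∀ g ∈ K, dom (g y).val = true) {rs : List ℕ}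
    (h : coverChk n F y.val dom rs = true) :
    ∀ g ∈ K, g y ≠ y → ∃ r w, pathOf F fuel (g y).val = some (r, w) ∧ r ∈ rs := by
  unfold coverChk at h
  rw [allLt_iff] at h
  intro g hg hgy
  have := h (g y).val (g y).isLt
  rw [hdom g hg] at this
  have hne : ((g y).val == y.val) = false := by
    rw [beq_eq_false_iff_ne]
    intro h'
    exact hgy (Fin.ext h')
  rw [hne] at this
  simp only [Bool.not_true, Bool.false_or] at this
  exact rootIn_iff.mp this

/-! ### transfer to the subgroup type -/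

section transfer

variable {P V : Type*} [Group P] [MulAction P V]

theorem mem_stabilizer_subtype {G : Subgroup P} (v : V) (g : ↥G) :
    g ∈ stabilizer ↥G v ↔ g.1 ∈ stabilizer P v := by
  rw [mem_stabilizer_iff, mem_stabilizer_iff, Subgroup.smul_def]

/-- maximality inside the subgroup type from maximality among subgroups of the ambient group -/
theorem rel_max_subtype (G K : Subgroup P) (hKG : K ≤ G) (y : V)
    (h : ∀ L : Subgroup P, K ⊓ stabilizer P y ≤ L → L ≤ K → L = K ⊓ stabilizer P y ∨ L = K)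
    (K' : Subgroup ↥G) (hK' : ∀ g : ↥G, g ∈ K' ↔ g.1 ∈ K) :
    ∀ L' : Subgroup ↥G, K' ⊓ stabilizer ↥G y ≤ L' → L' ≤ K' →
      L' = K' ⊓ stabilizer ↥G y ∨ L' = K' := by
  intro L' h1 h2
  have hmap : ∀ g : P, g ∈ L'.map G.subtype ↔ ∃ hg : g ∈ G, (⟨g, hg⟩ : ↥G) ∈ L' := by
    intro g
    rw [Subgroup.mem_map]
    constructor
    · rintro ⟨x, hx, rfl⟩
      exact ⟨x.2, hx⟩
    · rintro ⟨hg, hx⟩
      exact ⟨⟨g, hg⟩, hx, rfl⟩
  have hA : K ⊓ stabilizer P y ≤ L'.map G.subtype := by
    intro g hg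
    obtain ⟨hgK, hgs⟩ := Subgroup.mem_inf.mp hg
    rw [hmap]
    refine ⟨hKG hgK, h1 (Subgroup.mem_inf.mpr ⟨(hK' _).mpr hgK, ?_⟩)⟩
    rw [mem_stabilizer_subtype]
    exact hgs
  have hB : L'.map G.subtype ≤ K := by
    intro g hg
    obtain ⟨hgG, hgL⟩ := (hmap g).mp hg
    exact (hK' _).mp (h2 hgL)
  rcases h _ hA hB with hL | hL
  · left
    apply le_antisymm _ h1
    intro g hg
    have : g.1 ∈ L'.map G.subtype := (hmap _).mpr ⟨g.2, hg⟩
    rw [hL] at this
    obtain ⟨hgK, hgs⟩ := Subgroup.mem_inf.mp this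
    refine Subgroup.mem_inf.mpr ⟨(hK' _).mpr hgK, ?_⟩
    rw [mem_stabilizer_subtype]
    exact hgs
  · right
    apply le_antisymm h2
    intro g hg
    have : g.1 ∈ L'.map G.subtype := by
      rw [hL]
      exact (hK' _).mp hg
    obtain ⟨_, hgL⟩ := (hmap _).mp this
    exact hgL

/-- the order of a stabiliser in the subgroup type -/
theorem card_stabilizer_subtype (G : Subgroup P) (v : V) :
    Nat.card ↥(stabilizer ↥G v) = Nat.card ↥(G ⊓ stabilizer P v) := by
  apply Nat.card_congr
  refine Equiv.ofBijective (fun k => ⟨k.1.1, Subgroup.mem_inf.mpr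
    ⟨k.1.2, (mem_stabilizer_subtype v k.1).mp k.2⟩⟩) ⟨?_, ?_⟩
  · intro k k' h
    apply Subtype.ext
    apply Subtype.ext
    have h' := congrArg Subtype.val h
    exact h'
  · rintro ⟨g, hg⟩
    obtain ⟨hgG, hgs⟩ := Subgroup.mem_inf.mp hg
    exact ⟨⟨⟨g, hgG⟩, (mem_stabilizer_subtype v _).mpr hgs⟩, rfl⟩

/-- the order of a two-point stabiliser in the subgroup type -/
theorem card_stabilizer₂_subtype (G : Subgroup P) (v y : V) :
    Nat.card ↥(stabilizer ↥G v ⊓ stabilizer ↥G y) =
      Nat.card ↥((G ⊓ stabilizer P v) ⊓ stabilizer P y) := by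
  apply Nat.card_congr
  refine Equiv.ofBijective (fun k => ⟨k.1.1, ?_⟩) ⟨?_, ?_⟩
  · have hk := Subgroup.mem_inf.mp k.2
    exact Subgroup.mem_inf.mpr ⟨Subgroup.mem_inf.mpr
      ⟨k.1.2, (mem_stabilizer_subtype v k.1).mp hk.1⟩, (mem_stabilizer_subtype y k.1).mp hk.2⟩
  · intro k k' h
    apply Subtype.ext
    apply Subtype.ext
    have h' := congrArg Subtype.val h
    exact h'
  · rintro ⟨g, hg⟩
    obtain ⟨hg1, hgy⟩ := Subgroup.mem_inf.mp hg
    obtain ⟨hgG, hgv⟩ := Subgroup.mem_inf.mp hg1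
    exact ⟨⟨⟨g, hgG⟩, Subgroup.mem_inf.mpr ⟨(mem_stabilizer_subtype v _).mpr hgv,
      (mem_stabilizer_subtype y _).mpr hgy⟩⟩, rfl⟩

end transfer

/-! ### rigidity from three rounds of colour refinement -/

theorem rigid_of_rounds {n : ℕ} {Γ : Gr} (hrows : rowsOk n Γ = true) (RB : List ℕ)
    {C1 C2 C3 m : ℕ} (h1 : roundOk n Γ (c0fun RB) C1 = true)
    (h2 : roundOk n Γ (cimg C1) C2 = true) (h3 : roundOk n Γ (cimg C2) C3 = true)
    (hd : distinctOk n m C3 = true) : Rigid n RB (autGroup n Γ) := by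
  intro g hg hfix
  have e0 := c0_inv RB hfix
  have e1 := round_inv hrows hg e0 h1
  have e2 := round_inv hrows hg e1 h2
  have e3 := round_inv hrows hg e2 h3
  exact eq_one_of_discrete hd e3

/-- a product of valid maps in a rigid group which fixes the rigidity points is trivial -/
theorem prodL_eq_one_of_rigid {n : ℕ} {RB : List ℕ} {Gtop : Subgroup (Equiv.Perm (Fin n))}
    (hrig : Rigid n RB Gtop) {L : List ℕ} (hL : ∀ c ∈ L, Valid n c ∧ perm n c ∈ Gtop)
    (h : (RB.all fun x => evalL n L x == x) = true) : prodL n L = 1 := by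
  apply hrig _ (prodL_mem fun c hc => (hL c hc).2)
  intro x hx hxn
  apply Fin.ext
  rw [prodL_apply_val _ (fun c hc => (hL c hc).1)]
  rw [List.all_eq_true] at h
  exact beq_iff_eq.mp (h x hx)

theorem prodL_replicate (n c : ℕ) (k : ℕ) : prodL n (List.replicate k c) = perm n c ^ k := by
  induction k with
  | zero => rw [List.replicate_zero, prodL_nil, pow_zero]
  | succ k ih => rw [List.replicate_succ, prodL_cons, ih, pow_succ']

/-! ### perfectness -/

/-- a group generated by `a`, `b` with `a^p = b^q = (ab)^r = 1`, where `p` is prime to `q r` and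
`q` is prime to `r`, is perfect -/
theorem perfect_of_two_gens {H : Type*} [Group H] (a b : H)
    (hgen : Subgroup.closure ({a, b} : Set H) = ⊤) (p q r : ℕ) (ha : a ^ p = 1) (hb : b ^ q = 1)
    (hab : (a * b) ^ r = 1) (h1 : Nat.Coprime p (r * q)) (h2 : Nat.Coprime q r) :
    commutator H = ⊤ := by
  let f : H →* Abelianization H := Abelianization.of
  have hfa : f a ^ p = 1 := by rw [← map_pow, ha, map_one]
  have hfb : f b ^ q = 1 := by rw [← map_pow, hb, map_one]
  have hfab : f a ^ r * f b ^ r = 1 := by rw [← mul_pow, ← map_mul, ← map_pow, hab, map_one]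
  have hfa' : f a ^ (r * q) = 1 := by
    have e : f a ^ r = (f b ^ r)⁻¹ := eq_inv_of_mul_eq_one_left hfab
    rw [pow_mul, e, inv_pow, ← pow_mul, mul_comm, pow_mul, hfb, one_pow, inv_one]
  have hfa1 : f a = 1 := by
    have d1 : orderOf (f a) ∣ p := orderOf_dvd_of_pow_eq_one hfa
    have d2 : orderOf (f a) ∣ r * q := orderOf_dvd_of_pow_eq_one hfa'
    exact orderOf_eq_one_iff.mp (Nat.eq_one_of_dvd_coprimes h1 d1 d2)
  have hfb' : f b ^ r = 1 := by rw [hfa1, one_pow, one_mul] at hfab; exact hfab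
  have hfb1 : f b = 1 := by
    have d1 : orderOf (f b) ∣ q := orderOf_dvd_of_pow_eq_one hfb
    have d2 : orderOf (f b) ∣ r := orderOf_dvd_of_pow_eq_one hfb'
    exact orderOf_eq_one_iff.mp (Nat.eq_one_of_dvd_coprimes h2 d1 d2)
  rw [eq_top_iff, ← hgen, Subgroup.closure_le]
  intro g hg
  rw [← Abelianization.ker_of]
  rcases hg with rfl | hg
  · exact MonoidHom.mem_ker.mpr hfa1
  · rw [Set.mem_singleton_iff] at hg
    rw [hg]
    exact MonoidHom.mem_ker.mpr hfb1

end Cfsg.Agent.Lib.Helper10.SX
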