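import Cfsg.Agent.Lib.Helper10.SXBasic

set_option autoImplicit false

/-!
Large packed numbers written in pieces of 32768 bits (long numerals are slow to elaborate).
-/

namespace Cfsg.Agent.Lib.Helper10.SX

/-- the number whose pieces of 32768 bits, lowest first, are the members of the list -/
def joinP (L : List ℕ) : ℕ :=
  List.rec (motive := fun _ => ℕ) 0 (fun p _ acc => Nat.lor p (Nat.shiftLeft acc 32768)) L

end Cfsg.Agent.Lib.Helper10.SX
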