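import Cfsg.Agent.Lib.Helper10.SXMat
import Cfsg.Agent.Lib.Helper10.SXTree

set_option autoImplicit false

/-!
Vectors of length 9 over the field with four elements packed into 18 bits, matrices given by tables
of scaled columns, and the Boolean check that a matrix induces a packed permutation on a packed
list of points.
-/

namespace Cfsg.Agent.Lib.Helper10.SXM

open Matrix Cfsg.Agent.Lib.Helper10.SX

/-- the field with 4 elements, as `𝔽₂[ω]`, `ω² = 1 + ω` -/
abbrev K4 : Type := QuadraticAlgebra (ZMod 2) 1 1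

instance factK4 : Fact (∀ r : ZMod 2, r ^ 2 ≠ (1 : ZMod 2) + 1 * r) := ⟨by decide⟩

noncomputable instance fintypeK4 : Fintype K4 :=
  Fintype.ofEquiv _ (QuadraticAlgebra.equivProd (1 : ZMod 2) 1).symm

theorem card_K4 : Fintype.card K4 = 4 := by
  rw [Fintype.card_congr (QuadraticAlgebra.equivProd (1 : ZMod 2) 1)]
  simp

/-- the element with code `c`: bit 0 is the coefficient of `1`, bit 1 that of `ω` -/
def dec (c : ℕ) : K4 := ⟨((c % 2 : ℕ) : ZMod 2), ((c / 2 % 2 : ℕ) : ZMod 2)⟩

/-- the primitive cube root of unity -/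
def om : K4 := ⟨0, 1⟩

theorem dec_xor : ∀ a < 4, ∀ b < 4, dec (a ^^^ b) = dec a + dec b := by
  decide

theorem dec_zero : dec 0 = 0 := by decide

/-- the vector with packed code `v` -/
def vec9 (v : ℕ) : Fin 9 → K4 := fun j => dec (Nat.land (Nat.shiftRight v (Nat.mul 2 j.val)) 3)

theorem land3_lt (a : ℕ) : Nat.land a 3 < 4 := by
  show a &&& 3 < 4
  exact Nat.lt_succ_of_le Nat.and_le_right

theorem vec9_xor (a b : ℕ) : vec9 (a ^^^ b) = vec9 a + vec9 b := by
  funext j
  show dec (((a ^^^ b) >>> (2 * j.val)) &&& 3) =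
    dec ((a >>> (2 * j.val)) &&& 3) + dec ((b >>> (2 * j.val)) &&& 3)
  rw [Nat.shiftRight_xor_distrib, Nat.and_xor_distrib_right]
  exact dec_xor _ (land3_lt _) _ (land3_lt _)

theorem vec9_zero : vec9 0 = 0 := by
  funext j
  show dec ((0 >>> (2 * j.val)) &&& 3) = 0
  rw [Nat.zero_shiftRight, Nat.zero_and]
  exact dec_zero

/-- entry `k` of a table of 18-bit fields -/
def ent18 (T k : ℕ) : ℕ := Nat.land (Nat.shiftRight T (Nat.mul 18 k)) 262143

/-- coordinate `j` of a packed vector, as a code -/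
def crd (v j : ℕ) : ℕ := Nat.land (Nat.shiftRight v (Nat.mul 2 j)) 3

/-- the product of the matrix of a table with a packed vector -/
def mulP (T v : ℕ) : ℕ :=
  Nat.xor (Nat.xor (Nat.xor (Nat.xor (Nat.xor (Nat.xor (Nat.xor (Nat.xor
    (ent18 T (Nat.add 0 (crd v 0))) (ent18 T (Nat.add 4 (crd v 1)))) (ent18 T (Nat.add 8 (crd v 2))))
    (ent18 T (Nat.add 12 (crd v 3)))) (ent18 T (Nat.add 16 (crd v 4))))
    (ent18 T (Nat.add 20 (crd v 5)))) (ent18 T (Nat.add 24 (crd v 6))))
    (ent18 T (Nat.add 28 (crd v 7)))) (ent18 T (Nat.add 32 (crd v 8)))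

/-- the table belongs to the matrix: entry `4 j + c` is the column `j` scaled by `c` -/
def TabOk (M : Matrix (Fin 9) (Fin 9) K4) (T : ℕ) : Prop :=
  ∀ j : Fin 9, ∀ c : Fin 4, vec9 (ent18 T (4 * j.val + c.val)) = fun i => dec c.val * M i j

instance (M : Matrix (Fin 9) (Fin 9) K4) (T : ℕ) : Decidable (TabOk M T) := by
  unfold TabOk; infer_instance

theorem tab_entry {M : Matrix (Fin 9) (Fin 9) K4} {T : ℕ} (h : TabOk M T) (v : ℕ) (j : Fin 9) :
    vec9 (ent18 T (4 * j.val + crd v j.val)) = fun i => vec9 v j * M i j := by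
  have hlt : crd v j.val < 4 := land3_lt _
  have := h j ⟨crd v j.val, hlt⟩
  rw [this]
  rfl

theorem mulP_spec {M : Matrix (Fin 9) (Fin 9) K4} {T : ℕ} (h : TabOk M T) (v : ℕ) :
    vec9 (mulP T v) = M *ᵥ vec9 v := by
  have e : mulP T v = ent18 T (4 * (0 : Fin 9).val + crd v (0 : Fin 9).val) ^^^
      ent18 T (4 * (1 : Fin 9).val + crd v (1 : Fin 9).val) ^^^
      ent18 T (4 * (2 : Fin 9).val + crd v (2 : Fin 9).val) ^^^
      ent18 T (4 * (3 : Fin 9).val + crd v (3 : Fin 9).val) ^^^
      ent18 T (4 * (4 : Fin 9).val + crd v (4 : Fin 9).val) ^^^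
      ent18 T (4 * (5 : Fin 9).val + crd v (5 : Fin 9).val) ^^^
      ent18 T (4 * (6 : Fin 9).val + crd v (6 : Fin 9).val) ^^^
      ent18 T (4 * (7 : Fin 9).val + crd v (7 : Fin 9).val) ^^^
      ent18 T (4 * (8 : Fin 9).val + crd v (8 : Fin 9).val) := rfl
  rw [e]
  simp only [vec9_xor, tab_entry h]
  funext i
  rw [Matrix.mulVec, dotProduct]
  simp only [Fin.sum_univ_succ, Fin.sum_univ_zero, Pi.add_apply]
  simp only [mul_comm (M i _), add_zero, add_assoc]
  rfl

/-- apply a list of tables to a packed vector (the head is applied last) -/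
def evalP : List ℕ → ℕ → ℕ
  | [], v => v
  | T :: L, v => mulP T (evalP L v)

theorem evalP_spec {Ms : List (Matrix (Fin 9) (Fin 9) K4 × ℕ)} (h : ∀ e ∈ Ms, TabOk e.1 e.2)
    (v : ℕ) : vec9 (evalP (Ms.map Prod.snd) v) = (Ms.map Prod.fst).prod *ᵥ vec9 v := by
  induction Ms with
  | nil => simp [evalP]
  | cons e L ih =>
    rw [List.map_cons, List.map_cons, List.prod_cons]
    show vec9 (mulP e.2 (evalP (L.map Prod.snd) v)) = _
    rw [mulP_spec (h e List.mem_cons_self), ih (fun e' he' => h e' (List.mem_cons_of_mem _ he')),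
      Matrix.mulVec_mulVec]

/-- the packed code of the `j`-th basis vector -/
def basisP (j : ℕ) : ℕ := Nat.shiftLeft 1 (Nat.mul 2 j)

theorem vec9_basisP : ∀ j : Fin 9, vec9 (basisP j.val) = Pi.single j 1 := by
  decide

/-- two matrices with the same columns are equal -/
theorem mat_eq_of_cols {A B : Matrix (Fin 9) (Fin 9) K4}
    (h : ∀ j : Fin 9, A *ᵥ Pi.single j 1 = B *ᵥ Pi.single j 1) : A = B := by
  apply Matrix.ext
  intro i j
  have := congrFun (h j) i
  rw [Matrix.mulVec_single_one, Matrix.mulVec_single_one] at this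
  exact this

/-! ### matrices from packed codes, scalars, determinants -/

/-- the matrix with packed code `c`: the entry `(i, j)` is at the bits `2 (9 i + j)` -/
def matOf (c : ℕ) : Matrix (Fin 9) (Fin 9) K4 :=
  Matrix.of fun i j => dec (Nat.land (Nat.shiftRight c (Nat.mul 2 (Nat.add (Nat.mul 9 i.val) j.val))) 3)

/-- the packed code of the `j`-th basis vector scaled by the element with code `c` -/
def sbasisP (c j : ℕ) : ℕ := Nat.shiftLeft c (Nat.mul 2 j)

theorem vec9_sbasisP : ∀ c : Fin 4, ∀ j : Fin 9,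
    vec9 (sbasisP c.val j.val) = dec c.val • (Pi.single j 1 : Fin 9 → K4) := by
  decide

/-- a product of matrices with tables is a scalar matrix if the tables say so on the basis -/
theorem prod_eq_smul_one {Ms : List (Matrix (Fin 9) (Fin 9) K4 × ℕ)}
    (h : ∀ e ∈ Ms, TabOk e.1 e.2) (c : Fin 4)
    (hw : ∀ j : Fin 9, evalP (Ms.map Prod.snd) (basisP j.val) = sbasisP c.val j.val) :
    (Ms.map Prod.fst).prod = dec c.val • (1 : Matrix (Fin 9) (Fin 9) K4) := by
  apply mat_eq_of_cols
  intro j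
  rw [← vec9_basisP j, ← evalP_spec h, hw j, vec9_sbasisP, Matrix.smul_mulVec, Matrix.one_mulVec,
    vec9_basisP]

theorem dec_one : dec 1 = 1 := by decide

/-- the nonzero elements of the field with four elements -/
theorem k4_cases (s : K4) (hs : s ≠ 0) : s = 1 ∨ s = om ∨ s = om ^ 2 := by
  obtain ⟨a, b⟩ := s
  fin_cases a <;> fin_cases b
  · exact absurd rfl hs
  · right; left; rfl
  · left; rfl
  · right; right; decide

theorem om_ne_one : om ≠ 1 := by decide

theorem om_ne_zero : om ≠ 0 := by decide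

theorem om_pow_three : om ^ 3 = 1 := by decide

theorem k4_pow_three (s : K4) (hs : s ≠ 0) : s ^ 3 = 1 := by
  rcases k4_cases s hs with rfl | rfl | rfl <;> decide

/-- a matrix over the field with four elements whose power with an exponent prime to 3 is the
identity has determinant 1 -/
theorem det_eq_one_of_pow {M : Matrix (Fin 9) (Fin 9) K4} {k : ℕ} (hk : Nat.Coprime k 3)
    (h : M ^ k = 1) : M.det = 1 := by
  have h1 : M.det ^ k = 1 := by rw [← Matrix.det_pow, h, Matrix.det_one]
  have hk0 : k ≠ 0 := by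
    rintro rfl
    simp at hk
  have hne : M.det ≠ 0 := by
    intro h0
    rw [h0, zero_pow hk0] at h1
    exact zero_ne_one h1
  have h3 : M.det ^ 3 = 1 := k4_pow_three _ hne
  have := pow_gcd_eq_one.mpr ⟨h1, h3⟩
  rwa [hk.gcd_eq_one, pow_one] at this

/-! ### the points and the link -/

/-- the packed code of the `i`-th point -/
def ptc (P i : ℕ) : ℕ := fld 18 P i

/-- the `i`-th point -/
def ptv (n P : ℕ) (i : Fin n) : Fin 9 → K4 := vec9 (ptc P i.val)

/-- one of the scaled matrices maps the packed point `i` to the packed point `c i` -/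
def linkF (n P : ℕ) (Ts : List ℕ) (c : ℕ) : ℕ → Bool :=
  fun i => Ts.any fun T => Nat.beq (mulP T (ptc P i)) (ptc P (ap n c i))

/-- one of the scaled matrices maps each packed point `i` to the packed point `c i` -/
def linkOk (n P : ℕ) (Ts : List ℕ) (c : ℕ) : Bool :=
  allLt n (linkF n P Ts c)

theorem link_sound {n P : ℕ} {M : Matrix (Fin 9) (Fin 9) K4} (Ts : List (K4 × ℕ))
    (hTs : ∀ e ∈ Ts, e.1 ≠ 0 ∧ TabOk (e.1 • M) e.2) {c : ℕ} (hc : Valid n c)
    (h : linkOk n P (Ts.map Prod.snd) c = true) : Acts (ptv n P) M (perm n c) := by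
  unfold linkOk linkF at h
  rw [allLt_iff] at h
  intro i
  have hi := h i.val i.isLt
  rw [List.any_eq_true] at hi
  obtain ⟨T, hT, hb⟩ := hi
  obtain ⟨e, he, rfl⟩ := List.mem_map.mp hT
  obtain ⟨hs, htab⟩ := hTs e he
  have heq := Nat.eq_of_beq_eq_true hb
  have h1 : (e.1 • M) *ᵥ ptv n P i = ptv n P (perm n c i) := by
    unfold ptv
    rw [← mulP_spec htab, heq, perm_apply_val hc]
  refine ⟨e.1⁻¹, inv_ne_zero hs, ?_⟩
  rw [← h1, Matrix.smul_mulVec, smul_smul, inv_mul_cancel₀ hs, one_smul]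

end Cfsg.Agent.Lib.Helper10.SXM
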