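import Cfsg.Agent.Lib.Helper10.SXBasic

set_option autoImplicit false

/-!
Linking a matrix group to a permutation group: the relation "the matrix `M` induces the
permutation `σ` on a list of 1-spaces", the homomorphism it defines when the permutation group is
simple, and the kernel (scalar matrices) from a projective frame among the points.
-/

namespace Cfsg.Agent.Lib.Helper10.SXM

open Matrix

section acts

variable {F : Type*} [Field F] {m n : ℕ} (pt : Fin n → (Fin m → F))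

/-- the matrix `M` maps the `i`-th point to a nonzero multiple of the `σ i`-th point -/
def Acts (M : Matrix (Fin m) (Fin m) F) (σ : Equiv.Perm (Fin n)) : Prop :=
  ∀ i, ∃ s : F, s ≠ 0 ∧ M *ᵥ pt i = s • pt (σ i)

theorem acts_one : Acts pt (1 : Matrix (Fin m) (Fin m) F) 1 := by
  intro i
  exact ⟨1, one_ne_zero, by rw [Matrix.one_mulVec, one_smul]; rfl⟩

theorem acts_mul {M M' : Matrix (Fin m) (Fin m) F} {σ τ : Equiv.Perm (Fin n)}
    (h : Acts pt M σ) (h' : Acts pt M' τ) : Acts pt (M * M') (σ * τ) := by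
  intro i
  obtain ⟨s', hs', e'⟩ := h' i
  obtain ⟨s, hs, e⟩ := h (τ i)
  refine ⟨s' * s, mul_ne_zero hs' hs, ?_⟩
  rw [← Matrix.mulVec_mulVec, e', Matrix.mulVec_smul, e, smul_smul]
  rfl

theorem acts_inv {M M' : Matrix (Fin m) (Fin m) F} {σ : Equiv.Perm (Fin n)}
    (h : Acts pt M σ) (hM : M' * M = 1) : Acts pt M' σ⁻¹ := by
  intro i
  obtain ⟨s, hs, e⟩ := h (σ⁻¹ i)
  refine ⟨s⁻¹, inv_ne_zero hs, ?_⟩
  have e1 : σ (σ⁻¹ i) = i := by simp
  rw [e1] at e
  have e2 : M' *ᵥ (M *ᵥ pt (σ⁻¹ i)) = pt (σ⁻¹ i) := by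
    rw [Matrix.mulVec_mulVec, hM, Matrix.one_mulVec]
  rw [e, Matrix.mulVec_smul] at e2
  rw [← e2, smul_smul, inv_mul_cancel₀ hs, one_smul]

end acts

section hom

variable {F : Type*} [Field F] {m n : ℕ} (pt : Fin n → (Fin m → F))
  {S : Type*} [Group S] (mat : S →* Matrix (Fin m) (Fin m) F)
  (H : Subgroup S) (G : Subgroup (Equiv.Perm (Fin n)))

/-- every element of `H` induces a permutation in `G` -/
theorem exists_acts_of_closure (SH : Set S) (hH : H = Subgroup.closure SH)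
    (hSH : ∀ h ∈ SH, ∃ σ ∈ G, Acts pt (mat h) σ) :
    ∀ h ∈ H, ∃ σ ∈ G, Acts pt (mat h) σ := by
  intro h hh
  rw [hH] at hh
  induction hh using Subgroup.closure_induction with
  | mem x hx => exact hSH x hx
  | one => exact ⟨1, G.one_mem, by rw [map_one]; exact acts_one pt⟩
  | mul x y _ _ ihx ihy =>
    obtain ⟨σ, hσ, h1⟩ := ihx
    obtain ⟨τ, hτ, h2⟩ := ihy
    exact ⟨σ * τ, G.mul_mem hσ hτ, by rw [map_mul]; exact acts_mul pt h1 h2⟩
  | inv x _ ihx =>
    obtain ⟨σ, hσ, h1⟩ := ihx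
    refine ⟨σ⁻¹, G.inv_mem hσ, acts_inv pt h1 ?_⟩
    rw [← map_mul, inv_mul_cancel, map_one]

/-- every element of `G` is induced by an element of `H` -/
theorem exists_acts_of_closure' (SG : Set (Equiv.Perm (Fin n))) (hG : G = Subgroup.closure SG)
    (hSG : ∀ σ ∈ SG, ∃ h ∈ H, Acts pt (mat h) σ) :
    ∀ σ ∈ G, ∃ h ∈ H, Acts pt (mat h) σ := by
  intro σ hσ
  rw [hG] at hσ
  induction hσ using Subgroup.closure_induction with
  | mem x hx => exact hSG x hx
  | one => exact ⟨1, H.one_mem, by rw [map_one]; exact acts_one pt⟩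
  | mul x y _ _ ihx ihy =>
    obtain ⟨h1, hh1, e1⟩ := ihx
    obtain ⟨h2, hh2, e2⟩ := ihy
    exact ⟨h1 * h2, H.mul_mem hh1 hh2, by rw [map_mul]; exact acts_mul pt e1 e2⟩
  | inv x _ ihx =>
    obtain ⟨h1, hh1, e1⟩ := ihx
    refine ⟨h1⁻¹, H.inv_mem hh1, acts_inv pt e1 ?_⟩
    rw [← map_mul, inv_mul_cancel, map_one]

variable [IsSimpleGroup ↥G]

/-- the permutations induced by the identity matrix form a proper normal subgroup, hence are
trivial -/
theorem acts_one_eq_one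
    (hHG : ∀ h ∈ H, ∃ σ ∈ G, Acts pt (mat h) σ) (hGH : ∀ σ ∈ G, ∃ h ∈ H, Acts pt (mat h) σ)
    (hne : ∃ σ ∈ G, ¬ Acts pt (1 : Matrix (Fin m) (Fin m) F) σ)
    {σ : Equiv.Perm (Fin n)} (hσ : σ ∈ G) (h : Acts pt (1 : Matrix (Fin m) (Fin m) F) σ) :
    σ = 1 := by
  let N : Subgroup ↥G :=
    { carrier := {g | Acts pt (1 : Matrix (Fin m) (Fin m) F) g.1}
      one_mem' := acts_one pt
      mul_mem' := by
        intro a b ha hb
        have := acts_mul pt ha hb
        rw [mul_one] at this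
        exact this
      inv_mem' := by
        intro a ha
        exact acts_inv pt ha (mul_one 1) }
  have hN : N.Normal := by
    constructor
    intro a ha g
    obtain ⟨x, hx, hxg⟩ := hGH g.1 g.2
    have hxinv : Acts pt (mat x⁻¹) g.1⁻¹ := by
      apply acts_inv pt hxg
      rw [← map_mul, inv_mul_cancel, map_one]
    have h1 := acts_mul pt (acts_mul pt hxg ha) hxinv
    rw [mul_one, ← map_mul, mul_inv_cancel, map_one] at h1
    exact h1
  rcases hN.eq_bot_or_eq_top with hbot | htop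
  · have : (⟨σ, hσ⟩ : ↥G) ∈ N := h
    rw [hbot, Subgroup.mem_bot] at this
    exact congrArg Subtype.val this
  · exfalso
    obtain ⟨τ, hτ, hτn⟩ := hne
    have : (⟨τ, hτ⟩ : ↥G) ∈ N := by rw [htop]; exact Subgroup.mem_top _
    exact hτn this

theorem acts_unique
    (hHG : ∀ h ∈ H, ∃ σ ∈ G, Acts pt (mat h) σ) (hGH : ∀ σ ∈ G, ∃ h ∈ H, Acts pt (mat h) σ)
    (hne : ∃ σ ∈ G, ¬ Acts pt (1 : Matrix (Fin m) (Fin m) F) σ)
    {x : S} {σ τ : Equiv.Perm (Fin n)} (hσ : σ ∈ G) (hτ : τ ∈ G)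
    (h1 : Acts pt (mat x) σ) (h2 : Acts pt (mat x) τ) : σ = τ := by
  have hinv : Acts pt (mat x⁻¹) σ⁻¹ := by
    apply acts_inv pt h1
    rw [← map_mul, inv_mul_cancel, map_one]
  have h3 := acts_mul pt hinv h2
  rw [← map_mul, inv_mul_cancel, map_one] at h3
  have := acts_one_eq_one pt mat H G hHG hGH hne (G.mul_mem (G.inv_mem hσ) hτ) h3
  calc σ = σ * (σ⁻¹ * τ) := by rw [this, mul_one]
    _ = τ := by group

/-- the homomorphism from the matrix group onto the permutation group -/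
theorem exists_hom
    (hHG : ∀ h ∈ H, ∃ σ ∈ G, Acts pt (mat h) σ) (hGH : ∀ σ ∈ G, ∃ h ∈ H, Acts pt (mat h) σ)
    (hne : ∃ σ ∈ G, ¬ Acts pt (1 : Matrix (Fin m) (Fin m) F) σ) :
    ∃ φ : ↥H →* ↥G, Function.Surjective φ ∧ ∀ h : ↥H, Acts pt (mat h.1) (φ h).1 := by
  classical
  let f : ↥H → ↥G := fun h => ⟨Classical.choose (hHG h.1 h.2),
    (Classical.choose_spec (hHG h.1 h.2)).1⟩
  have hf : ∀ h : ↥H, Acts pt (mat h.1) (f h).1 := fun h =>
    (Classical.choose_spec (hHG h.1 h.2)).2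
  have huniq : ∀ (h : ↥H) (σ : ↥G), Acts pt (mat h.1) σ.1 → f h = σ := by
    intro h σ hσ
    apply Subtype.ext
    exact acts_unique pt mat H G hHG hGH hne (f h).2 σ.2 (hf h) hσ
  let φ : ↥H →* ↥G :=
    { toFun := f
      map_one' := by
        apply huniq
        show Acts pt (mat (1 : S)) (1 : Equiv.Perm (Fin n))
        rw [map_one]
        exact acts_one pt
      map_mul' := by
        intro a b
        apply huniq
        show Acts pt (mat (a.1 * b.1)) ((f a).1 * (f b).1)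
        rw [map_mul]
        exact acts_mul pt (hf a) (hf b) }
  refine ⟨φ, ?_, hf⟩
  intro σ
  obtain ⟨x, hx, hxσ⟩ := hGH σ.1 σ.2
  exact ⟨⟨x, hx⟩, huniq ⟨x, hx⟩ σ hxσ⟩

end hom

section frame

variable {F : Type*} [Field F] {m n : ℕ} (pt : Fin n → (Fin m → F))

/-- a matrix fixing the points of a projective frame is a scalar matrix -/
theorem scalar_of_frame (B B' : Matrix (Fin m) (Fin m) F) (hB : B * B' = 1)
    (idx : Fin m → Fin n) (hidx : ∀ k i, pt (idx k) i = B i k)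
    (i₀ : Fin n) (c : Fin m → F) (hc : ∀ k, c k ≠ 0) (hi₀ : pt i₀ = B *ᵥ c)
    (M : Matrix (Fin m) (Fin m) F) (hM : Acts pt M 1) :
    ∃ s : F, s ≠ 0 ∧ M = s • (1 : Matrix (Fin m) (Fin m) F) := by
  have hB' : B' * B = 1 := mul_eq_one_comm.mp hB
  choose s hs using hM
  obtain ⟨hs₀, e₀⟩ := hs i₀
  -- the columns
  have hcol : M * B = B * Matrix.diagonal (fun k => s (idx k)) := by
    ext i k
    have e := (hs (idx k)).2
    have e' := congrFun e i
    rw [Matrix.mul_apply]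
    have : (M *ᵥ pt (idx k)) i = ∑ j, M i j * B j k := by
      rw [Matrix.mulVec, dotProduct]
      apply Finset.sum_congr rfl
      intro j _
      rw [hidx]
    rw [← this, e']
    rw [Matrix.mul_diagonal]
    show (s (idx k) • pt ((1 : Equiv.Perm (Fin n)) (idx k))) i = B i k * s (idx k)
    rw [Pi.smul_apply, smul_eq_mul, mul_comm]
    congr 1
    exact hidx k i
  -- the frame point
  have h1 : M *ᵥ (B *ᵥ c) = B *ᵥ (fun k => s (idx k) * c k) := by
    rw [Matrix.mulVec_mulVec, hcol, ← Matrix.mulVec_mulVec]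
    congr 1
    ext k
    rw [Matrix.mulVec_diagonal]
  have h2 : M *ᵥ (B *ᵥ c) = B *ᵥ (fun k => s i₀ * c k) := by
    rw [← hi₀, e₀]
    show s i₀ • pt i₀ = _
    rw [hi₀, ← Matrix.mulVec_smul]
    rfl
  have h3 : (fun k => s (idx k) * c k) = fun k => s i₀ * c k := by
    have := congrArg (fun u => B' *ᵥ u) (h1.symm.trans h2)
    simp only [Matrix.mulVec_mulVec, hB', Matrix.one_mulVec] at this
    exact this
  have h4 : ∀ k, s (idx k) = s i₀ := by
    intro k
    have := congrFun h3 k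
    exact mul_right_cancel₀ (hc k) this
  refine ⟨s i₀, hs₀, ?_⟩
  have h5 : M * B = s i₀ • B := by
    rw [hcol]
    ext i k
    rw [Matrix.mul_diagonal, h4 k, Matrix.smul_apply, smul_eq_mul, mul_comm]
  calc M = M * (B * B') := by rw [hB, mul_one]
    _ = (M * B) * B' := by rw [mul_assoc]
    _ = s i₀ • (1 : Matrix (Fin m) (Fin m) F) := by rw [h5, Matrix.smul_mul, hB]

end frame

end Cfsg.Agent.Lib.Helper10.SXM
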