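import Mathlib
import Cfsg.Prelude.Def_SporadicCombinatorics
import Cfsg.Agent.Lib.Helper28.M24FactsProof
import Cfsg.Agent.Lib.Helper28.M24Fam
import Cfsg.Agent.S1550
set_option autoImplicit false

/-!
The stabiliser of a sextet in `M24`: the homomorphism to the symmetric group on the six tetrads,
its surjectivity (given one element inducing a transposition) and the order of its kernel.
-/

namespace Cfsg.Agent.Lib.Helper10.Sextet
open Cfsg Cfsg.Agent.Lib.Helper28.GolayCode Cfsg.Agent.Lib.Helper28.StabLib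
open scoped Pointwise

theorem tetrad_disjoint {S : Finset (Finset GolayPt)} (hS : S ∈ sextets) {t u : Finset GolayPt}
    (ht : t ∈ S) (hu : u ∈ S) (hne : t ≠ u) : Disjoint t u := by
  obtain ⟨_, h4, hun⟩ := hS
  rw [Finset.disjoint_iff_inter_eq_empty, ← Finset.card_eq_zero]
  have := Finset.card_union_add_card_inter t u
  rw [(hun t ht u hu hne).2, h4 t ht, h4 u hu] at this
  omega

/-- an element of `M24` mapping one tetrad of a sextet to a tetrad of the same sextet stabilises
the sextet. -/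
theorem stab_of_smul_mem {S : Finset (Finset GolayPt)} (hS : S ∈ sextets)
    {σ : Equiv.Perm GolayPt} (hσ : σ ∈ M24) {t : Finset GolayPt} (ht : t ∈ S) (h : σ • t ∈ S) :
    σ • S = S :=
  (eq_sextetOf (smul_mem_sextets hσ hS) (Finset.smul_mem_smul_finset ht)).trans
    (eq_sextetOf hS h).symm

theorem snoc_injective {s : Finset GolayPt} (e : Fin 4 ≃ s) (x : GolayPt) (hx : x ∉ s) :
    Function.Injective (Fin.snoc (fun i : Fin 4 => (e i : GolayPt)) x : Fin 5 → GolayPt) := by
  intro i j hij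
  induction i using Fin.lastCases with
  | last =>
    induction j using Fin.lastCases with
    | last => rfl
    | cast j =>
      simp only [Fin.snoc_last, Fin.snoc_castSucc] at hij
      exact absurd (hij ▸ (e j).2) hx
  | cast i =>
    induction j using Fin.lastCases with
    | last =>
      simp only [Fin.snoc_last, Fin.snoc_castSucc] at hij
      exact absurd (hij ▸ (e i).2) hx
    | cast j =>
      simp only [Fin.snoc_castSucc] at hij
      rw [e.injective (Subtype.ext hij)]

/-- `M24` maps any 4-set with a marked outside point to any other. -/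
theorem exists_map_tetrad_point (t t' : Finset GolayPt) (ht : t.card = 4) (ht' : t'.card = 4)
    (x x' : GolayPt) (hx : x ∉ t) (hx' : x' ∉ t') : ∃ σ ∈ M24, σ • t = t' ∧ σ x = x' := by
  classical
  have e : Fin 4 ≃ t := (Fintype.equivFinOfCardEq (by rw [Fintype.card_coe, ht])).symm
  have e' : Fin 4 ≃ t' := (Fintype.equivFinOfCardEq (by rw [Fintype.card_coe, ht'])).symm
  obtain ⟨σ, hσ, hσf⟩ := facts.five _ _ (snoc_injective e x hx) (snoc_injective e' x' hx')
  refine ⟨σ, hσ, ?_, ?_⟩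
  · apply Finset.eq_of_subset_of_card_le
    · intro y hy
      rw [Finset.mem_smul_finset] at hy
      obtain ⟨z, hz, rfl⟩ := hy
      have := hσf (Fin.castSucc (e.symm ⟨z, hz⟩))
      simp only [Fin.snoc_castSucc, Equiv.apply_symm_apply] at this
      rw [Equiv.Perm.smul_def, this]
      exact (e' _).2
    · rw [Finset.card_smul_finset, ht, ht']
  · have := hσf (Fin.last 4)
    simpa only [Fin.snoc_last] using this

/-- the stabiliser of a sextet is 2-transitive on its tetrads. -/
theorem exists_map_pair {S : Finset (Finset GolayPt)} (hS : S ∈ sextets)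
    {t u t' u' : Finset GolayPt} (ht : t ∈ S) (hu : u ∈ S) (ht' : t' ∈ S) (hu' : u' ∈ S)
    (hne : t ≠ u) (hne' : t' ≠ u') :
    ∃ σ ∈ M24, σ • S = S ∧ σ • t = t' ∧ σ • u = u' := by
  have hu4 := hS.2.1 u hu
  have hu4' := hS.2.1 u' hu'
  obtain ⟨x, hx⟩ : u.Nonempty := by rw [← Finset.card_pos, hu4]; norm_num
  obtain ⟨x', hx'⟩ : u'.Nonempty := by rw [← Finset.card_pos, hu4']; norm_num
  have hxt : x ∉ t := fun h => Finset.disjoint_left.mp (tetrad_disjoint hS ht hu hne) h hx
  have hxt' : x' ∉ t' := fun h => Finset.disjoint_left.mp (tetrad_disjoint hS ht' hu' hne') h hx'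
  obtain ⟨σ, hσ, hσt, hσx⟩ :=
    exists_map_tetrad_point t t' (hS.2.1 t ht) (hS.2.1 t' ht') x x' hxt hxt'
  have hstab : σ • S = S := stab_of_smul_mem hS hσ ht (hσt ▸ ht')
  refine ⟨σ, hσ, hstab, hσt, ?_⟩
  have hσu : σ • u ∈ S := by
    have := Finset.smul_mem_smul_finset (a := σ) hu
    rwa [hstab] at this
  by_contra hcon
  have hd := tetrad_disjoint hS hσu hu' hcon
  have hx'σ : x' ∈ σ • u := by rw [← hσx]; exact (mem_smul_finset_perm' σ u x).mpr hx
  exact Finset.disjoint_left.mp hd hx'σ hx'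

/-! ### the action on the tetrads -/

theorem smul_mem_of_stab {S : Finset (Finset GolayPt)} {g : M24}
    (hg : g ∈ MulAction.stabilizer M24 S) {t : Finset GolayPt} (ht : t ∈ S) : g • t ∈ S := by
  have := Finset.smul_mem_smul_finset (a := g) ht
  rwa [MulAction.mem_stabilizer_iff.mp hg] at this

/-- the permutation of the tetrads induced by an element of the stabiliser. -/
def tetPerm (S : Finset (Finset GolayPt)) (g : ↥(MulAction.stabilizer M24 S)) :
    Equiv.Perm ↥S where
  toFun t := ⟨(g : M24) • (t : Finset GolayPt), smul_mem_of_stab g.2 t.2⟩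
  invFun t := ⟨(g : M24)⁻¹ • (t : Finset GolayPt), smul_mem_of_stab (inv_mem g.2) t.2⟩
  left_inv t := Subtype.ext (inv_smul_smul _ _)
  right_inv t := Subtype.ext (smul_inv_smul _ _)

/-- the homomorphism from the stabiliser of `S` to the symmetric group on `S`. -/
def tetHom (S : Finset (Finset GolayPt)) :
    ↥(MulAction.stabilizer M24 S) →* Equiv.Perm ↥S where
  toFun := tetPerm S
  map_one' := Equiv.ext fun t => Subtype.ext (one_smul _ _)
  map_mul' g h := Equiv.ext fun t => Subtype.ext (mul_smul (g : M24) (h : M24) _)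

theorem tetHom_apply (S : Finset (Finset GolayPt)) (g : ↥(MulAction.stabilizer M24 S)) (t : ↥S) :
    ((tetHom S g t : ↥S) : Finset GolayPt) =
      ((g : M24) : Equiv.Perm GolayPt) • (t : Finset GolayPt) := rfl

theorem mem_ker_tetHom (S : Finset (Finset GolayPt)) (g : ↥(MulAction.stabilizer M24 S)) :
    g ∈ (tetHom S).ker ↔ ∀ t ∈ S, ((g : M24) : Equiv.Perm GolayPt) • t = t := by
  rw [MonoidHom.mem_ker]
  constructor
  · intro h t ht
    have := congrArg (fun e : Equiv.Perm ↥S => ((e ⟨t, ht⟩ : ↥S) : Finset GolayPt)) h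
    exact this
  · intro h
    exact Equiv.ext fun t => Subtype.ext (h t.1 t.2)

/-- build an element of the stabiliser from a permutation in `M24` fixing the sextet. -/
def mkStab {S : Finset (Finset GolayPt)} {σ : Equiv.Perm GolayPt} (hσ : σ ∈ M24)
    (h : σ • S = S) : ↥(MulAction.stabilizer M24 S) :=
  ⟨⟨σ, hσ⟩, MulAction.mem_stabilizer_iff.mpr h⟩

theorem mkStab_coe {S : Finset (Finset GolayPt)} {σ : Equiv.Perm GolayPt} (hσ : σ ∈ M24)
    (h : σ • S = S) : (((mkStab hσ h : ↥(MulAction.stabilizer M24 S)) : M24) :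
      Equiv.Perm GolayPt) = σ := rfl

/-- the hypothesis: some element of `M24` induces a transposition on the tetrads of `S`. -/
def HasSwap (S : Finset (Finset GolayPt)) : Prop :=
  ∃ σ ∈ M24, ∃ t ∈ S, ∃ u ∈ S, t ≠ u ∧ σ • t = u ∧ σ • u = t ∧
    ∀ v ∈ S, v ≠ t → v ≠ u → σ • v = v

theorem tetHom_surjective {S : Finset (Finset GolayPt)} (hS : S ∈ sextets) (hsw : HasSwap S) :
    Function.Surjective (tetHom S) := by
  classical
  obtain ⟨σ, hσ, t, ht, u, hu, hne, htu, hut, hfix⟩ := hsw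
  have hσS : σ • S = S := stab_of_smul_mem hS hσ ht (htu ▸ hu)
  have hg0 : tetHom S (mkStab hσ hσS) = Equiv.swap ⟨t, ht⟩ ⟨u, hu⟩ := by
    apply Equiv.ext
    intro v
    apply Subtype.ext
    rw [tetHom_apply, mkStab_coe]
    by_cases h1 : v = ⟨t, ht⟩
    · subst h1; rw [Equiv.swap_apply_left]; exact htu
    · by_cases h2 : v = ⟨u, hu⟩
      · subst h2; rw [Equiv.swap_apply_right]; exact hut
      · rw [Equiv.swap_apply_of_ne_of_ne h1 h2]
        exact hfix v.1 v.2 (fun h => h1 (Subtype.ext h)) (fun h => h2 (Subtype.ext h))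
  rw [← MonoidHom.range_eq_top, eq_top_iff, ← Equiv.Perm.closure_isSwap, Subgroup.closure_le]
  rintro e ⟨a, b, hab, rfl⟩
  obtain ⟨τ, hτ, hτS, hτt, hτu⟩ :=
    exists_map_pair hS ht hu a.2 b.2 hne (fun h => hab (Subtype.ext h))
  refine ⟨mkStab hτ hτS * mkStab hσ hσS * (mkStab hτ hτS)⁻¹, ?_⟩
  rw [map_mul, map_mul, map_inv, hg0, ← Equiv.swap_apply_apply]
  congr 1 <;> exact Subtype.ext ‹_›

/-! ### orders -/

theorem orbit_sextet {S : Finset (Finset GolayPt)} (hS : S ∈ sextets) :
    MulAction.orbit M24 S = sextets := by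
  ext S'
  constructor
  · rintro ⟨g, rfl⟩
    exact smul_mem_sextets g.2 hS
  · intro hS'
    obtain ⟨σ, hσ, h⟩ := facts.sextet_trans S S' hS hS'
    exact ⟨⟨σ, hσ⟩, h⟩

theorem card_stabilizer_sextet {S : Finset (Finset GolayPt)} (hS : S ∈ sextets) :
    Nat.card ↥(MulAction.stabilizer M24 S) = 138240 := by
  have h := card_orbit_mul_card_stabilizer (G := M24) S
  rw [orbit_sextet hS, facts.card, Nat.card_coe_set_eq, Cfsg.Agent.S1550.result.2] at h
  omega

theorem card_ker_tetHom {S : Finset (Finset GolayPt)} (hS : S ∈ sextets) (hsw : HasSwap S) :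
    Nat.card ↥(tetHom S).ker = 192 := by
  have h6 : Nat.card ↥S = 6 := by rw [Nat.card_eq_fintype_card, Fintype.card_coe, hS.1]
  have h1 := Subgroup.card_mul_index (tetHom S).ker
  rw [Subgroup.index_ker, MonoidHom.range_eq_top.mpr (tetHom_surjective hS hsw),
    Nat.card_congr Subgroup.topEquiv.toEquiv, Nat.card_perm, card_stabilizer_sextet hS, h6] at h1
  have h720 : Nat.factorial 6 = 720 := by decide
  rw [h720] at h1
  omega

/-! ### the kernel and its involutions as sets of plain permutations -/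

/-- the permutations in `M24` fixing every tetrad of `S`. -/
def KSet (S : Finset (Finset GolayPt)) : Set (Equiv.Perm GolayPt) :=
  {x | x ∈ M24 ∧ ∀ t ∈ S, x • t = t}

/-- the elements of `KSet S` squaring to the identity. -/
def ISet (S : Finset (Finset GolayPt)) : Set (Equiv.Perm GolayPt) :=
  {x | x ∈ KSet S ∧ x * x = 1}

theorem smul_eq_of_mem_KSet {S : Finset (Finset GolayPt)} {x : Equiv.Perm GolayPt}
    (hx : x ∈ KSet S) : x • S = S := by
  ext t
  rw [Finset.mem_smul_finset]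
  constructor
  · rintro ⟨u, hu, rfl⟩
    rw [hx.2 u hu]; exact hu
  · intro ht
    exact ⟨t, ht, hx.2 t ht⟩

theorem conj_mem_KSet {S : Finset (Finset GolayPt)} {h x : Equiv.Perm GolayPt} (hh : h ∈ M24)
    (hx : x ∈ KSet S) : h * x * h⁻¹ ∈ KSet (h • S) := by
  refine ⟨M24.mul_mem (M24.mul_mem hh hx.1) (M24.inv_mem hh), ?_⟩
  intro t ht
  rw [Finset.mem_smul_finset] at ht
  obtain ⟨u, hu, rfl⟩ := ht
  rw [mul_smul, mul_smul, inv_smul_smul, hx.2 u hu]

theorem conj_mem_ISet {S : Finset (Finset GolayPt)} {h x : Equiv.Perm GolayPt} (hh : h ∈ M24)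
    (hx : x ∈ ISet S) : h * x * h⁻¹ ∈ ISet (h • S) := by
  refine ⟨conj_mem_KSet hh hx.1, ?_⟩
  calc h * x * h⁻¹ * (h * x * h⁻¹) = h * (x * x) * h⁻¹ := by group
    _ = 1 := by rw [hx.2, mul_one, mul_inv_cancel]

theorem ISet_smul {S : Finset (Finset GolayPt)} {h : Equiv.Perm GolayPt} (hh : h ∈ M24) :
    ISet (h • S) = (fun x => h * x * h⁻¹) '' ISet S := by
  ext y
  constructor
  · intro hy
    refine ⟨h⁻¹ * y * h, ?_, by group⟩
    have := conj_mem_ISet (S := h • S) (M24.inv_mem hh) hy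
    rwa [inv_smul_smul, inv_inv] at this
  · rintro ⟨x, hx, rfl⟩
    exact conj_mem_ISet hh hx

theorem conj_injective (h : Equiv.Perm GolayPt) :
    Function.Injective (fun x : Equiv.Perm GolayPt => h * x * h⁻¹) := by
  intro x y hxy
  simpa using hxy

theorem ncard_ISet_smul {S : Finset (Finset GolayPt)} {h : Equiv.Perm GolayPt} (hh : h ∈ M24) :
    (ISet (h • S)).ncard = (ISet S).ncard := by
  rw [ISet_smul hh, Set.ncard_image_of_injective _ (conj_injective h)]

theorem comm_ISet_smul {S : Finset (Finset GolayPt)} {h : Equiv.Perm GolayPt} (hh : h ∈ M24)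
    (hc : ∀ x ∈ ISet S, ∀ y ∈ ISet S, x * y = y * x) :
    ∀ x ∈ ISet (h • S), ∀ y ∈ ISet (h • S), x * y = y * x := by
  rw [ISet_smul hh]
  rintro _ ⟨x, hx, rfl⟩ _ ⟨y, hy, rfl⟩
  calc h * x * h⁻¹ * (h * y * h⁻¹) = h * (x * y) * h⁻¹ := by group
    _ = h * (y * x) * h⁻¹ := by rw [hc x hx y hy]
    _ = h * y * h⁻¹ * (h * x * h⁻¹) := by group

theorem hasSwap_smul {S : Finset (Finset GolayPt)} {h : Equiv.Perm GolayPt} (hh : h ∈ M24)
    (hsw : HasSwap S) : HasSwap (h • S) := by
  obtain ⟨σ, hσ, t, ht, u, hu, hne, htu, hut, hfix⟩ := hsw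
  refine ⟨h * σ * h⁻¹, M24.mul_mem (M24.mul_mem hh hσ) (M24.inv_mem hh), h • t,
    Finset.smul_mem_smul_finset ht, h • u, Finset.smul_mem_smul_finset hu, ?_, ?_, ?_, ?_⟩
  · intro he
    exact hne (MulAction.injective h he)
  · rw [mul_smul, mul_smul, inv_smul_smul, htu]
  · rw [mul_smul, mul_smul, inv_smul_smul, hut]
  · intro v hv hvt hvu
    rw [Finset.mem_smul_finset] at hv
    obtain ⟨w, hw, rfl⟩ := hv
    rw [mul_smul, mul_smul, inv_smul_smul,
      hfix w hw (fun e => hvt (by rw [e])) (fun e => hvu (by rw [e]))]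

/-- the underlying permutation of an element of the stabiliser. -/
def valPerm (S : Finset (Finset GolayPt)) (g : ↥(MulAction.stabilizer M24 S)) :
    Equiv.Perm GolayPt := ((g : M24) : Equiv.Perm GolayPt)

theorem valPerm_injective (S : Finset (Finset GolayPt)) : Function.Injective (valPerm S) :=
  fun _ _ h => Subtype.ext (Subtype.ext h)

theorem ncard_preimage_valPerm {S : Finset (Finset GolayPt)} (A : Set (Equiv.Perm GolayPt))
    (hA : A ⊆ KSet S) : (valPerm S ⁻¹' A).ncard = A.ncard := by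
  rw [← Set.ncard_image_of_injective _ (valPerm_injective S)]
  congr 1
  ext x
  constructor
  · rintro ⟨g, hg, rfl⟩
    exact hg
  · intro hx
    exact ⟨mkStab (hA hx).1 (smul_eq_of_mem_KSet (hA hx)), hx, rfl⟩

theorem ncard_KSet {S : Finset (Finset GolayPt)} (hS : S ∈ sextets) (hsw : HasSwap S) :
    (KSet S).ncard = 192 := by
  rw [← ncard_preimage_valPerm (KSet S) subset_rfl, ← card_ker_tetHom hS hsw,
    ← Nat.card_coe_set_eq]
  apply Nat.card_congr
  apply Equiv.subtypeEquivRight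
  intro g
  rw [mem_ker_tetHom]
  constructor
  · intro h; exact h.2
  · intro h; exact ⟨(g : M24).2, h⟩

/-- the subgroup of the stabiliser consisting of the elements of the kernel squaring to one. -/
def NSub (S : Finset (Finset GolayPt))
    (hc : ∀ x ∈ ISet S, ∀ y ∈ ISet S, x * y = y * x) :
    Subgroup ↥(MulAction.stabilizer M24 S) where
  carrier := valPerm S ⁻¹' ISet S
  mul_mem' := by
    intro a b ha hb
    have ha' : valPerm S a ∈ ISet S := ha
    have hb' : valPerm S b ∈ ISet S := hb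
    show valPerm S a * valPerm S b ∈ ISet S
    refine ⟨⟨M24.mul_mem ha'.1.1 hb'.1.1, ?_⟩, ?_⟩
    · intro t ht
      rw [mul_smul, hb'.1.2 t ht, ha'.1.2 t ht]
    · have hcab := hc _ ha' _ hb'
      calc valPerm S a * valPerm S b * (valPerm S a * valPerm S b)
          = valPerm S a * (valPerm S b * valPerm S a) * valPerm S b := by group
        _ = valPerm S a * (valPerm S a * valPerm S b) * valPerm S b := by rw [hcab]
        _ = (valPerm S a * valPerm S a) * (valPerm S b * valPerm S b) := by group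
        _ = 1 := by rw [ha'.2, hb'.2, one_mul]
  one_mem' := ⟨⟨M24.one_mem, fun t _ => one_smul _ t⟩, one_mul 1⟩
  inv_mem' := by
    intro a ha
    have ha' : valPerm S a ∈ ISet S := ha
    show (valPerm S a)⁻¹ ∈ ISet S
    rw [inv_eq_of_mul_eq_one_left ha'.2]
    exact ha'

theorem mem_NSub {S : Finset (Finset GolayPt)}
    (hc : ∀ x ∈ ISet S, ∀ y ∈ ISet S, x * y = y * x) (g : ↥(MulAction.stabilizer M24 S)) :
    g ∈ NSub S hc ↔ valPerm S g ∈ ISet S := Iff.rfl

theorem NSub_normal {S : Finset (Finset GolayPt)}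
    (hc : ∀ x ∈ ISet S, ∀ y ∈ ISet S, x * y = y * x) : (NSub S hc).Normal := by
  constructor
  intro n hn g
  rw [mem_NSub] at hn ⊢
  show valPerm S g * valPerm S n * (valPerm S g)⁻¹ ∈ ISet S
  refine ⟨⟨M24.mul_mem (M24.mul_mem (g : M24).2 hn.1.1) (M24.inv_mem (g : M24).2), ?_⟩, ?_⟩
  · intro t ht
    have hgt : (valPerm S g)⁻¹ • t ∈ S := smul_mem_of_stab (inv_mem g.2) ht
    rw [mul_smul, mul_smul, hn.1.2 _ hgt, smul_inv_smul]
  · calc valPerm S g * valPerm S n * (valPerm S g)⁻¹ *
          (valPerm S g * valPerm S n * (valPerm S g)⁻¹)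
          = valPerm S g * (valPerm S n * valPerm S n) * (valPerm S g)⁻¹ := by group
      _ = 1 := by rw [hn.2, mul_one, mul_inv_cancel]

theorem card_NSub {S : Finset (Finset GolayPt)}
    (hc : ∀ x ∈ ISet S, ∀ y ∈ ISet S, x * y = y * x) :
    Nat.card ↥(NSub S hc) = (ISet S).ncard := by
  rw [← ncard_preimage_valPerm (ISet S) (fun x hx => hx.1), ← Nat.card_coe_set_eq]
  rfl

/-- the structure of a sextet stabiliser, from the three facts about the sextet. -/
theorem structure_of_facts {S : Finset (Finset GolayPt)} (hS : S ∈ sextets) (hsw : HasSwap S)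
    (hcard : (ISet S).ncard = 64) (hc : ∀ x ∈ ISet S, ∀ y ∈ ISet S, x * y = y * x) :
    (∀ e : Equiv.Perm ↥S, ∃ g ∈ MulAction.stabilizer Cfsg.M24 S, ∀ t : ↥S,
      (g : Equiv.Perm Cfsg.GolayPt) • (t : Finset Cfsg.GolayPt) =
        ((e t : ↥S) : Finset Cfsg.GolayPt)) ∧
    Nat.card {g : ↥(MulAction.stabilizer Cfsg.M24 S) //
      ∀ t ∈ S, ((g : Cfsg.M24) : Equiv.Perm Cfsg.GolayPt) • t = t} = 192 ∧
    ∃ N : Subgroup ↥(MulAction.stabilizer Cfsg.M24 S), N.Normal ∧ Nat.card N = 64 ∧
      ∀ x ∈ N, x * x = 1 := by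
  refine ⟨?_, ?_, NSub S hc, NSub_normal hc, by rw [card_NSub hc, hcard], ?_⟩
  · intro e
    obtain ⟨g, hg⟩ := tetHom_surjective hS hsw e
    refine ⟨g.1, g.2, ?_⟩
    intro t
    rw [← hg]
    rfl
  · rw [← card_ker_tetHom hS hsw]
    exact Nat.card_congr (Equiv.subtypeEquivRight fun g => (mem_ker_tetHom S g).symm)
  · intro x hx
    rw [mem_NSub] at hx
    exact valPerm_injective S hx.2

/-- transport of the three facts from a base sextet to any sextet. -/
theorem structure_of_base {S₀ : Finset (Finset GolayPt)} (hS₀ : S₀ ∈ sextets) (hsw : HasSwap S₀)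
    (hcard : (ISet S₀).ncard = 64) (hc : ∀ x ∈ ISet S₀, ∀ y ∈ ISet S₀, x * y = y * x)
    (S : Finset (Finset GolayPt)) (hS : S ∈ sextets) :
    (∀ e : Equiv.Perm ↥S, ∃ g ∈ MulAction.stabilizer Cfsg.M24 S, ∀ t : ↥S,
      (g : Equiv.Perm Cfsg.GolayPt) • (t : Finset Cfsg.GolayPt) =
        ((e t : ↥S) : Finset Cfsg.GolayPt)) ∧
    Nat.card {g : ↥(MulAction.stabilizer Cfsg.M24 S) //
      ∀ t ∈ S, ((g : Cfsg.M24) : Equiv.Perm Cfsg.GolayPt) • t = t} = 192 ∧
    ∃ N : Subgroup ↥(MulAction.stabilizer Cfsg.M24 S), N.Normal ∧ Nat.card N = 64 ∧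
      ∀ x ∈ N, x * x = 1 := by
  obtain ⟨h, hh, rfl⟩ := facts.sextet_trans S₀ S hS₀ hS
  exact structure_of_facts hS (hasSwap_smul hh hsw) (by rw [ncard_ISet_smul hh, hcard])
    (comm_ISet_smul hh hc)

end Cfsg.Agent.Lib.Helper10.Sextet
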