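import Mathlib
import Cfsg.Prelude.Def_SporadicCombinatorics
import Cfsg.Agent.Lib.Helper10.SextetB
set_option autoImplicit false

/-!
The structure of the stabiliser of a sextet: the base facts from the explicit data, and the
statement for all sextets.
-/

namespace Cfsg.Agent.Lib.Helper10.Sextet
open Cfsg Cfsg.Agent.Lib.Helper28.GolayCode Cfsg.Agent.Lib.Helper28.M24Fam
open scoped Pointwise

theorem entry_spec {P : ℕ} (hP : P ∈ L192) :
    inM24 P = true ∧ P < 2 ^ 120 ∧ ∀ m ∈ lb, applyMask P m = m := by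
  have := List.all_eq_true.mp L192_ok P hP
  unfold entryOK at this
  rw [Bool.and_eq_true, Bool.and_eq_true, List.all_eq_true] at this
  refine ⟨this.1, ?_, ?_⟩
  · simpa using this.2.1
  · intro m hm
    exact (nat_beq_iff _ _).mp (this.2.2 m hm)

theorem isPerm_of_mem {P : ℕ} (hP : P ∈ L192) : isPerm P = true :=
  isPerm_of_inM24 P (entry_spec hP).1

theorem mem_KSet_of_mem {P : ℕ} (hP : P ∈ L192) : permOf P ∈ KSet (fam lb) := by
  obtain ⟨h1, _, h3⟩ := entry_spec hP
  refine ⟨permOf_mem_M24 P h1, ?_⟩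
  intro t ht
  obtain ⟨m, hm, rfl⟩ := mem_fam.mp ht
  rw [permOf_smul_bset P (isPerm_of_inM24 P h1), h3 m hm]

theorem permOf_injOn : Set.InjOn permOf {P | P ∈ L192} := by
  intro P hP Q hQ h
  exact packed_inj (isPerm_of_mem hP) (isPerm_of_mem hQ) (entry_spec hP).2.1 (entry_spec hQ).2.1 h

theorem ncard_list (l : List ℕ) (h : l.Nodup) : {P | P ∈ l}.ncard = l.length := by
  have : {P | P ∈ l} = ↑l.toFinset := by ext; simp
  rw [this, Set.ncard_coe_finset, List.toFinset_card_of_nodup h]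

theorem hasSwap_base : HasSwap (fam lb) := by
  obtain ⟨h1, h2⟩ := Psw_ok
  have hp := isPerm_of_inM24 Psw h1
  have hm : ∀ m, permOf Psw • bset m = bset (applyMask Psw m) := permOf_smul_bset Psw hp
  simp only [lb, List.map_cons, List.map_nil, List.cons.injEq, and_true] at h2
  obtain ⟨e0, e1, e2, e3, e4, e5⟩ := h2
  refine ⟨permOf Psw, permOf_mem_M24 Psw h1, bset 0x98100, mem_fam.mpr ⟨_, by decide, rfl⟩,
    bset 0x824020, mem_fam.mpr ⟨_, by decide, rfl⟩, ?_, ?_, ?_, ?_⟩
  · intro h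
    have := bset_inj _ _ (by norm_num) (by norm_num) h
    norm_num at this
  · rw [hm, e2]
  · rw [hm, e5]
  · intro v hv hvt hvu
    obtain ⟨m, hm', rfl⟩ := mem_fam.mp hv
    simp only [lb, List.mem_cons, List.not_mem_nil, or_false] at hm'
    rcases hm' with rfl | rfl | rfl | rfl | rfl | rfl
    · rw [hm, e0]
    · rw [hm, e1]
    · exact absurd rfl hvt
    · rw [hm, e3]
    · rw [hm, e4]
    · exact absurd rfl hvu

theorem L192_nodup : L192.Nodup := nodup_of_nodupB _ L192_nodupB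

theorem KSet_base : KSet (fam lb) = permOf '' {P | P ∈ L192} := by
  symm
  apply Set.eq_of_subset_of_ncard_le
  · rintro _ ⟨P, hP, rfl⟩
    exact mem_KSet_of_mem hP
  · rw [ncard_KSet S0_mem hasSwap_base, Set.InjOn.ncard_image permOf_injOn,
      ncard_list L192 L192_nodup, L192_length]
  · exact Set.toFinite _

theorem ISet_base : ISet (fam lb) = permOf '' {P | P ∈ L64} := by
  ext x
  constructor
  · rintro ⟨hx, hx2⟩
    rw [KSet_base] at hx
    obtain ⟨P, hP, rfl⟩ := hx
    refine ⟨P, ?_, rfl⟩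
    have hP' : P ∈ L64 ++ L128 := hP
    rw [List.mem_append] at hP'
    rcases hP' with h | h
    · exact h
    · exfalso
      have h1 := List.all_eq_true.mp L128_not_inv P h
      have h2 := (isInv_iff (isPerm_of_mem hP)).mpr hx2
      rw [h2] at h1
      exact absurd h1 (by decide)
  · rintro ⟨P, hP, rfl⟩
    have hP' : P ∈ L192 := List.mem_append_left _ hP
    exact ⟨mem_KSet_of_mem hP',
      (isInv_iff (isPerm_of_mem hP')).mp (List.all_eq_true.mp L64_inv P hP)⟩

theorem ncard_ISet_base : (ISet (fam lb)).ncard = 64 := by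
  have hinj : Set.InjOn permOf {P | P ∈ L64} :=
    permOf_injOn.mono (fun P hP => List.mem_append_left _ hP)
  rw [ISet_base, Set.InjOn.ncard_image hinj,
    ncard_list L64 (List.Nodup.of_append_left L192_nodup), L64_length]

theorem comm_ISet_base : ∀ x ∈ ISet (fam lb), ∀ y ∈ ISet (fam lb), x * y = y * x := by
  rw [ISet_base]
  rintro _ ⟨P, hP, rfl⟩ _ ⟨Q, hQ, rfl⟩
  have h := List.all_eq_true.mp (List.all_eq_true.mp L64_comm P hP) Q hQ
  exact commP_sound (isPerm_of_mem (List.mem_append_left _ hP))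
    (isPerm_of_mem (List.mem_append_left _ hQ)) h

/-- Structure of a sextet stabiliser. -/
theorem sextet_stabilizer (S : Finset (Finset GolayPt)) (hS : S ∈ sextets) :
    (∀ e : Equiv.Perm ↥S, ∃ g ∈ MulAction.stabilizer Cfsg.M24 S, ∀ t : ↥S,
      (g : Equiv.Perm Cfsg.GolayPt) • (t : Finset Cfsg.GolayPt) =
        ((e t : ↥S) : Finset Cfsg.GolayPt)) ∧
    Nat.card {g : ↥(MulAction.stabilizer Cfsg.M24 S) //
      ∀ t ∈ S, ((g : Cfsg.M24) : Equiv.Perm Cfsg.GolayPt) • t = t} = 192 ∧
    ∃ N : Subgroup ↥(MulAction.stabilizer Cfsg.M24 S), N.Normal ∧ Nat.card N = 64 ∧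
      ∀ x ∈ N, x * x = 1 :=
  structure_of_base S0_mem hasSwap_base ncard_ISet_base comm_ISet_base S hS

end Cfsg.Agent.Lib.Helper10.Sextet
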