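import Mathlib
import Cfsg.Agent.Lib.Helper29.SpAschTools
import Cfsg.Agent.Lib.Helper20.AschTS
import Cfsg.Agent.Lib.Helper29.AschKF2
import Cfsg.Agent.Lib.Helper27.AschKF3
import Cfsg.Agent.Lib.Helper7.AschForms

/-!
S5662, market FQ (planner helper29): leaf (F6) `adj_eq_frobenius`.
-/

set_option autoImplicit false
set_option linter.unusedSectionVars false
set_option linter.unusedVariables false

namespace Cfsg.Agent.Lib.Helper10.SpAschLeaf
open Matrix Cfsg Cfsg.Geo Cfsg.Agent.Lib.Helper20.Asch Cfsg.Agent.Lib.Helper29.SpAsch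
open scoped Kronecker

variable {F : Type*} [Field F] [Fintype F] {n m : ℕ} {J : Matrix (Fin n) (Fin n) F}
  {H N : Subgroup (GL (Fin n) F)}

/-- (F6) the adjoint on an adjoint-closed field subalgebra is a power of the Frobenius -/
theorem adj_eq_frobenius (hJ : IsAltGram J) {d : ℕ} (K : Subalgebra F (Matrix (Fin n) (Fin n) F))
    (hK : IsFieldSubalgebra d K) (hd : 0 < d) (hac : ∀ k ∈ K, adjM J k ∈ K)
    (hns : ∃ k ∈ K, adjM J k ≠ k) :
    ∃ d₀ : ℕ, d = 2 * d₀ ∧ ∀ k ∈ K, adjM J k = k ^ (Fintype.card F ^ d₀) := by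
  classical
  obtain ⟨E, instE, instA, ρ, hinj, hrange, hfin⟩ :=
    Cfsg.Agent.Lib.Helper27.AschKF3.exists_model d hd K hK
  haveI : Module.Finite F E := Module.finite_of_finrank_pos (by rw [hfin]; exact hd)
  haveI : Finite E := Module.finite_of_finite F
  have hmem : ∀ x : E, ρ x ∈ K := by
    intro x
    rw [← hrange]
    exact (AlgHom.mem_range ρ).mpr ⟨x, rfl⟩
  have hex : ∀ x : E, ∃ y : E, ρ y = adjM J (ρ x) := by
    intro x
    have := hac _ (hmem x)
    rw [← hrange] at this
    exact (AlgHom.mem_range ρ).mp this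
  choose t ht using hex
  let τ : E →ₐ[F] E :=
    { toFun := t
      map_one' := by
        apply hinj
        rw [ht, map_one, adjM_one hJ.det]
      map_mul' := by
        intro x y
        apply hinj
        rw [ht, map_mul, adjM_mul hJ.det, map_mul, ht, ht]
        exact hK.comm _ (hac _ (hmem y)) _ (hac _ (hmem x))
      map_zero' := by
        apply hinj
        rw [ht, map_zero, adjM_zero]
      map_add' := by
        intro x y
        apply hinj
        rw [ht, map_add, map_add, adjM_add, ht, ht]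
      commutes' := by
        intro c
        apply hinj
        rw [ht, AlgHom.commutes, Algebra.algebraMap_eq_smul_one, adjM_smul, adjM_one hJ.det] }
  have hτ : ∀ x, ρ (τ x) = adjM J (ρ x) := ht
  have hττ : τ * τ = 1 := by
    apply AlgHom.ext
    intro x
    apply hinj
    show ρ (τ (τ x)) = ρ x
    rw [hτ, hτ, adjM_adjM hJ]
  have hτ1 : τ ≠ 1 := by
    intro h1
    obtain ⟨k, hk, hne⟩ := hns
    rw [← hrange] at hk
    obtain ⟨x, rfl⟩ := (AlgHom.mem_range ρ).mp hk
    apply hne
    rw [← hτ, h1]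
    rfl
  obtain ⟨⟨j, hj⟩, hjτ⟩ := (FiniteField.bijective_frobeniusAlgHom_pow F E).2 τ
  simp only at hjτ
  rw [hfin] at hj
  have hj0 : j ≠ 0 := by
    rintro rfl
    rw [pow_zero] at hjτ
    exact hτ1 hjτ.symm
  have hdvd : d ∣ j * 2 := by
    rw [← hfin, ← FiniteField.orderOf_frobeniusAlgHom F E]
    apply orderOf_dvd_of_pow_eq_one
    rw [pow_mul, hjτ, pow_two, hττ]
  have hd2 : d = 2 * j := by
    obtain ⟨c, hc⟩ := hdvd
    have hc1 : c = 1 := by
      rcases Nat.lt_or_ge c 1 with h0 | h1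
      · have : c = 0 := by omega
        subst this
        omega
      · rcases Nat.lt_or_ge c 2 with h2 | h2
        · omega
        · have : d * 2 ≤ d * c := Nat.mul_le_mul_left d h2
          omega
    subst hc1
    omega
  refine ⟨j, hd2, ?_⟩
  intro k hk
  rw [← hrange] at hk
  obtain ⟨x, rfl⟩ := (AlgHom.mem_range ρ).mp hk
  have hfx : τ x = x ^ (Fintype.card F ^ j) := by
    rw [← hjτ, AlgHom.coe_pow, FiniteField.coe_frobeniusAlgHom, pow_iterate]
  rw [← hτ, hfx, map_pow]

end Cfsg.Agent.Lib.Helper10.SpAschLeaf
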