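import Mathlib
import Cfsg.Agent.Lib.Helper29.SpAschTools
import Cfsg.Agent.Lib.Helper20.AschTS
import Cfsg.Agent.Lib.Helper29.AschKF2
import Cfsg.Agent.Lib.Helper27.AschKF3
import Cfsg.Agent.Lib.Helper7.AschForms

/-!
S5662, market FQ (planner helper29): leaves (F9b) `c8_of_quadratic_elt` and (Q3b) `quad_even`.
-/

set_option autoImplicit false
set_option linter.unusedSectionVars false
set_option linter.unusedVariables false

namespace Cfsg.Agent.Lib.Helper10.SpAschLeaf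
open Matrix Cfsg Cfsg.Geo Cfsg.Agent.Lib.Helper20.Asch Cfsg.Agent.Lib.Helper29.SpAsch
open scoped Kronecker

variable {F : Type*} [Field F] [Fintype F] {n m : ℕ} {J : Matrix (Fin n) (Fin n) F}
  {H N : Subgroup (GL (Fin n) F)}

/-- a quadratic form with polar form `bfm J` and `λ²`-homogeneous is non-degenerate -/
theorem isNondeg_of_polar (hJ : IsAltGram J) (Q : (Fin n → F) → F)
    (hsmul : ∀ (a : F) (v : Fin n → F), Q (a • v) = a ^ 2 * Q v)
    (hpolar : ∀ u v, QuadraticMap.polar Q u v = bfm J u v) : IsNondegenerateQuadraticForm Q := by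
  have hfun : QuadraticMap.polar Q = bfm J := funext fun u => funext fun v => hpolar u v
  refine ⟨hsmul, ?_, ?_⟩
  · rw [hfun]; exact bfm_bilinear J
  · rw [hfun]; exact bfm_nondeg hJ

/-- (F9b) -/
theorem c8_of_quadratic_elt (h : SpCtx J m H) (heven : ¬ Odd (Fintype.card F)) (h2 : (2 : F) = 0)
    (k₀ : Matrix (Fin n) (Fin n) F) (c : F) (hc : c ≠ 0)
    (hadj : adjM J k₀ = c • (1 : Matrix (Fin n) (Fin n) F) - k₀)
    (hconj : ∀ g ∈ H,
      ((g⁻¹ : GL (Fin n) F) : Matrix (Fin n) (Fin n) F) * k₀ * (g : Matrix (Fin n) (Fin n) F) = k₀ ∨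
      ((g⁻¹ : GL (Fin n) F) : Matrix (Fin n) (Fin n) F) * k₀ * (g : Matrix (Fin n) (Fin n) F) = adjM J k₀) :
    SGeo J m H := by
  have hJ := h.alt
  have hneg : ∀ x : F, -x = x := fun x => by linear_combination (-x) * h2
  -- the key symmetry
  have hsym : ∀ u v, bfm J (k₀ *ᵥ v) u = bfm J (k₀ *ᵥ u) v + c * bfm J u v := by
    intro u v
    rw [bfm_adjM hJ.det k₀ v u, hadj, Matrix.sub_mulVec, Matrix.smul_mulVec, Matrix.one_mulVec,
      bfm_sub_right, bfm_smul_right, bfm_skew hJ v u, bfm_skew hJ v (k₀ *ᵥ u)]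
    have := hneg (bfm J u v)
    linear_combination c * this
  have hadjv : ∀ v, bfm J (adjM J k₀ *ᵥ v) v = bfm J (k₀ *ᵥ v) v := by
    intro v
    rw [hadj, Matrix.sub_mulVec, Matrix.smul_mulVec, Matrix.one_mulVec, bfm_sub_left, bfm_smul_left,
      bfm_self hJ, mul_zero, zero_sub, hneg]
  set Q : (Fin n → F) → F := fun v => c⁻¹ * bfm J (k₀ *ᵥ v) v with hQdef
  have hsmul : ∀ (a : F) (v : Fin n → F), Q (a • v) = a ^ 2 * Q v := by
    intro a v
    simp only [hQdef, Matrix.mulVec_smul, bfm_smul_left, bfm_smul_right]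
    ring
  have hpolar : ∀ u v, QuadraticMap.polar Q u v = bfm J u v := by
    intro u v
    simp only [QuadraticMap.polar, hQdef, Matrix.mulVec_add, bfm_add_left, bfm_add_right]
    rw [hsym u v]
    have hcc : c⁻¹ * c = 1 := inv_mul_cancel₀ hc
    linear_combination (bfm J u v) * hcc + (c⁻¹ * bfm J (k₀ *ᵥ u) v) * h2
  refine SGeo.of_C8 h.le Q heven (isNondeg_of_polar hJ Q hsmul hpolar) hpolar ?_
  intro g hg
  refine ⟨1, fun v => ?_⟩
  rw [Units.val_one, one_mul]
  have hgJ := h.le hg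
  have hkg : ∀ k' : Matrix (Fin n) (Fin n) F,
      ((g⁻¹ : GL (Fin n) F) : Matrix (Fin n) (Fin n) F) * k₀ * (g : Matrix (Fin n) (Fin n) F) = k' →
      k₀ *ᵥ ((g : Matrix (Fin n) (Fin n) F) *ᵥ v) = (g : Matrix (Fin n) (Fin n) F) *ᵥ (k' *ᵥ v) := by
    intro k' hk'
    rw [← hk', Matrix.mulVec_mulVec, Matrix.mulVec_mulVec, ← mul_assoc, ← mul_assoc, ← Units.val_mul,
      mul_inv_cancel, Units.val_one, one_mul]
  simp only [hQdef]
  rcases hconj g hg with h1 | h1
  · rw [hkg _ h1, isoG_apply hgJ]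
  · rw [hkg _ h1, isoG_apply hgJ, hadjv]

/-- (Q3b) -/
theorem quad_even (h : SpCtx J m H) (heven : ¬ Odd (Fintype.card F)) (hN : N ≤ H) (hnorm : NormBy H N)
    (Q : (Fin n → F) → F) (hQ : IsNondegenerateQuadraticForm Q) (hfix : FixesQuadForm (matrixSet N) Q) (c : F)
    (hc : ∀ u v, QuadraticMap.polar Q u v = c * bfm J u v)
    (hzero : ∀ D : (Fin n → F) → F, (∀ u v, D (u + v) = D u + D v) →
      (∀ (a : F) (v : Fin n → F), D (a • v) = a ^ 2 * D v) →
      (∀ x ∈ N, ∀ v, D ((x : Matrix (Fin n) (Fin n) F) *ᵥ v) = D v) → ∀ v, D v = 0) : SGeo J m H := by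
  have hJ := h.alt
  have hn0 : 0 < n := by have := h.dim; have := h.two_le; omega
  have hc0 : c ≠ 0 := by
    rintro rfl
    obtain ⟨⟨x, hx⟩, -⟩ := hQ.nondegenerate (Pi.single (⟨0, hn0⟩ : Fin n) 1) (by
      intro h0
      have := congrFun h0 ⟨0, hn0⟩
      simp at this)
    apply hx
    rw [hc, zero_mul]
  set Q' : (Fin n → F) → F := fun v => c⁻¹ * Q v with hQ'
  have hsmul : ∀ (a : F) (v : Fin n → F), Q' (a • v) = a ^ 2 * Q' v := by
    intro a v
    simp only [hQ', hQ.smul]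
    ring
  have hpolar : ∀ u v, QuadraticMap.polar Q' u v = bfm J u v := by
    intro u v
    have := hc u v
    simp only [QuadraticMap.polar] at this
    simp only [QuadraticMap.polar, hQ']
    field_simp
    linear_combination this
  have hadd : ∀ u v, Q' (u + v) = Q' u + Q' v + bfm J u v := by
    intro u v
    have := hpolar u v
    simp only [QuadraticMap.polar] at this
    linear_combination this
  have hNinv : ∀ x ∈ N, ∀ v, Q' ((x : Matrix (Fin n) (Fin n) F) *ᵥ v) = Q' v := by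
    intro x hx v
    simp only [hQ']
    rw [hfix _ ⟨x, hx, rfl⟩ v]
  refine SGeo.of_C8 h.le Q' heven (isNondeg_of_polar hJ Q' hsmul hpolar) hpolar ?_
  intro g hg
  refine ⟨1, fun v => ?_⟩
  rw [Units.val_one, one_mul]
  have hgJ := h.le hg
  have hD := hzero (fun v => Q' ((g : Matrix (Fin n) (Fin n) F) *ᵥ v) - Q' v) ?_ ?_ ?_ v
  · exact sub_eq_zero.mp hD
  · intro u v
    simp only [Matrix.mulVec_add, hadd, isoG_apply hgJ]
    ring
  · intro a v
    simp only [Matrix.mulVec_smul, hsmul]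
    ring
  · intro x hx v
    have hx' : g * x * g⁻¹ ∈ N := hnorm g hg x hx
    have e1 : (g : Matrix (Fin n) (Fin n) F) *ᵥ ((x : Matrix (Fin n) (Fin n) F) *ᵥ v) =
        ((g * x * g⁻¹ : GL (Fin n) F) : Matrix (Fin n) (Fin n) F) *ᵥ
          ((g : Matrix (Fin n) (Fin n) F) *ᵥ v) := by
      rw [Matrix.mulVec_mulVec, Matrix.mulVec_mulVec, ← Units.val_mul, ← Units.val_mul,
        inv_mul_cancel_right]
    show Q' ((g : Matrix (Fin n) (Fin n) F) *ᵥ ((x : Matrix (Fin n) (Fin n) F) *ᵥ v)) -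
      Q' ((x : Matrix (Fin n) (Fin n) F) *ᵥ v) = Q' ((g : Matrix (Fin n) (Fin n) F) *ᵥ v) - Q' v
    rw [e1, hNinv _ hx', hNinv _ hx]

end Cfsg.Agent.Lib.Helper10.SpAschLeaf
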