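import Mathlib
import Cfsg.Prelude.Def_Sporadic_a
import Cfsg.Agent.Lib.Helper28.GolayCode
import Cfsg.Agent.Lib.Helper28.M24Basic
import Cfsg.Agent.Lib.Helper28.FinMask
import Cfsg.Agent.Lib.Helper28.SteinerDerived

set_option autoImplicit false

/-! A verified checker of search certificates for the uniqueness of Steiner systems
`S(t, t + 1, v)` on `Fin v`: subsets are bitmasks, permutations are packed numbers. -/

namespace Cfsg.Agent.Lib.Helper10.StCert

open Cfsg Cfsg.Agent.Lib.Helper28.GolayCode Cfsg.Agent.Lib.Helper28.FinMask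
  Cfsg.Agent.Lib.Helper28.SteinerDerived

/-! ### Packed permutations of `Fin n` -/

/-- image of a mask under a packed map on `n` points -/
noncomputable def applyN (n P m : ℕ) : ℕ := applyMaskLoop P m n

theorem testBit_applyN (n P m k : ℕ) :
    (applyN n P m).testBit k = true ↔ ∃ i, i < n ∧ m.testBit i = true ∧ img P i = k :=
  testBit_applyMaskLoop P m n k

/-- the packed map permutes `0..n-1` -/
noncomputable def isPermN (n P : ℕ) : Bool := Nat.beq (applyN n P (2 ^ n - 1)) (2 ^ n - 1)

theorem testBit_full (n i : ℕ) : (2 ^ n - 1).testBit i = true ↔ i < n := by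
  rw [Nat.testBit_two_pow_sub_one]
  simp

theorem img_lt_of_isPermN {n P : ℕ} (h : isPermN n P = true) {i : ℕ} (hi : i < n) :
    img P i < n := by
  unfold isPermN at h
  rw [nat_beq_iff] at h
  have h1 : (applyN n P (2 ^ n - 1)).testBit (img P i) = true :=
    (testBit_applyN _ _ _ _).mpr ⟨i, hi, (testBit_full n i).mpr hi, rfl⟩
  rw [h] at h1
  exact (testBit_full _ _).mp h1

theorem exists_img_of_isPermN {n P : ℕ} (h : isPermN n P = true) {k : ℕ} (hk : k < n) :
    ∃ i, i < n ∧ img P i = k := by
  unfold isPermN at h
  rw [nat_beq_iff] at h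
  have h1 : (applyN n P (2 ^ n - 1)).testBit k = true := by
    rw [h]; exact (testBit_full n k).mpr hk
  obtain ⟨i, hi, _, hik⟩ := (testBit_applyN _ _ _ _).mp h1
  exact ⟨i, hi, hik⟩

/-- the packed map as a function -/
def permFunN (n P : ℕ) (i : Fin n) : Fin n :=
  if h : img P i.val < n then ⟨img P i.val, h⟩ else i

theorem permFunN_val {n P : ℕ} (h : isPermN n P = true) (i : Fin n) :
    (permFunN n P i).val = img P i.val := by
  unfold permFunN
  rw [dif_pos (img_lt_of_isPermN h i.isLt)]

theorem permFunN_bijective {n P : ℕ} (h : isPermN n P = true) :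
    Function.Bijective (permFunN n P) := by
  rw [← Finite.surjective_iff_bijective]
  intro q
  obtain ⟨i, hi, hik⟩ := exists_img_of_isPermN h q.isLt
  refine ⟨⟨i, hi⟩, ?_⟩
  apply Fin.ext
  rw [permFunN_val h]
  exact hik

/-- the permutation given by a packed map (the identity if the map is not bijective) -/
noncomputable def permN (n P : ℕ) : Equiv.Perm (Fin n) :=
  if h : Function.Bijective (permFunN n P) then Equiv.ofBijective (permFunN n P) h else 1

theorem permN_val {n P : ℕ} (h : isPermN n P = true) (i : Fin n) :
    (permN n P i).val = img P i.val := by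
  unfold permN
  rw [dif_pos (permFunN_bijective h)]
  exact permFunN_val h i

theorem image_permN {n P : ℕ} (h : isPermN n P = true) (m : ℕ) :
    (fset n m).image (permN n P) = fset n (applyN n P m) := by
  apply image_fset_eq
  intro i
  rw [Bool.eq_iff_iff, testBit_applyN, permN_val h]
  constructor
  · rintro ⟨j, hj, hm, hij⟩
    have : permN n P ⟨j, hj⟩ = permN n P i := by
      apply Fin.ext
      rw [permN_val h, permN_val h]
      exact hij
    have := (permN n P).injective this
    rw [← this]
    exact hm
  · intro hm
    exact ⟨i.val, i.isLt, hm, rfl⟩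

/-! ### The target family and the goal -/

/-- the family of subsets of `Fin v` given by a list of masks -/
def Std (v : ℕ) (std : List ℕ) : Set (Finset (Fin v)) := {b | ∃ m ∈ std, b = fset v m}

/-- every Steiner system containing the known blocks is isomorphic to the target -/
def Goal (t v : ℕ) (std known : List ℕ) : Prop :=
  ∀ B : Set (Finset (Fin v)), IsSteinerSystem t (t + 1) B → (∀ m ∈ known, fset v m ∈ B) →
    SetSystemIso B (Std v std)

/-- every `t`-subset lies in a member of the list -/
def Cover (t v : ℕ) (std : List ℕ) : Prop :=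
  ∀ s : Finset (Fin v), s.card = t → ∃ m ∈ std, s ⊆ fset v m

/-- computable form of `Cover` -/
noncomputable def coverOk (t v : ℕ) (std : List ℕ) : Bool :=
  (List.range (2 ^ v)).all fun s =>
    !(Nat.beq (popcN v s) t) || std.any fun m => Nat.beq (Nat.land s m) s

theorem cover_of_ok {t v : ℕ} {std : List ℕ} (h : coverOk t v std = true) : Cover t v std := by
  intro s hs
  unfold coverOk at h
  rw [List.all_eq_true] at h
  have h1 := h (fmask s) (List.mem_range.mpr (fmask_lt s))
  have hp : popcN v (fmask s) = t := by rw [← card_fset, fset_fmask, hs]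
  rw [hp, Bool.or_eq_true] at h1
  rcases h1 with h1 | h1
  · simp [Nat.beq_refl] at h1
  · rw [List.any_eq_true] at h1
    obtain ⟨m, hm, hsm⟩ := h1
    rw [nat_beq_iff] at hsm
    refine ⟨m, hm, ?_⟩
    have : fset v (fmask s) ⊆ fset v m := by
      rw [subset_fset_iff]
      show fset v (Nat.land (fmask s) m) = _
      rw [hsm]
    rwa [fset_fmask] at this

/-- two distinct blocks of a Steiner system with parameter `t` share fewer than `t` points -/
theorem inter_card_lt {α : Type*} [DecidableEq α] {t k : ℕ} {B : Set (Finset α)}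
    (hB : IsSteinerSystem t k B) {b b' : Finset α} (hb : b ∈ B) (hb' : b' ∈ B) (hne : b ≠ b') :
    (b ∩ b').card < t := by
  by_contra h
  push Not at h
  obtain ⟨T, hT, hTc⟩ := Finset.exists_subset_card_eq h
  obtain ⟨c, -, huniq⟩ := hB.2 T hTc
  have h1 := huniq b ⟨hb, hT.trans Finset.inter_subset_left⟩
  have h2 := huniq b' ⟨hb', hT.trans Finset.inter_subset_right⟩
  exact hne (h1.trans h2.symm)

/-! ### Conflicts -/

/-- the candidate `c` has exactly one point outside the block `m` -/
def conflict1 (c m : ℕ) : Bool :=
  !(Nat.beq (Nat.xor c (Nat.land c m)) 0) &&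
    Nat.beq (Nat.xor c (Nat.land c m)) (2 ^ Nat.log2 (Nat.xor c (Nat.land c m)))

theorem fset_two_pow {v j : ℕ} (hj : j < v) : fset v (2 ^ j) = {⟨j, hj⟩} := by
  ext i
  rw [mem_fset, Nat.testBit_two_pow, Finset.mem_singleton]
  simp only [decide_eq_true_eq]
  constructor
  · intro h; exact Fin.ext h.symm
  · intro h; rw [h]

theorem conflict1_sound {t v : ℕ} {B : Set (Finset (Fin v))} (hB : IsSteinerSystem t (t + 1) B)
    {c m : ℕ} (hcv : c < 2 ^ v) (hc : fset v c ∈ B) (hm : fset v m ∈ B)
    (h : conflict1 c m = true) : False := by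
  unfold conflict1 at h
  rw [Bool.and_eq_true, nat_beq_iff] at h
  obtain ⟨-, h2⟩ := h
  set j := Nat.log2 (Nat.xor c (Nat.land c m)) with hj
  have hbit : ∀ i, (c.testBit i && !m.testBit i) = decide (j = i) := by
    intro i
    have := congrArg (fun d => Nat.testBit d i) h2
    simp only [Nat.testBit_two_pow] at this
    rw [← this]
    show _ = (c ^^^ (c &&& m)).testBit i
    rw [Nat.testBit_xor, Nat.testBit_and]
    cases c.testBit i <;> cases m.testBit i <;> rfl
  have hcj : c.testBit j = true ∧ m.testBit j = false := by
    have := hbit j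
    simp only [decide_true, Bool.and_eq_true, Bool.not_eq_true'] at this
    exact this
  have hjv : j < v := by
    by_contra hge
    push Not at hge
    have : c.testBit j = false :=
      Nat.testBit_lt_two_pow (lt_of_lt_of_le hcv (Nat.pow_le_pow_right (by norm_num) hge))
    rw [this] at hcj
    exact absurd hcj.1 (by simp)
  have hne : fset v c ≠ fset v m := by
    intro e
    have h1 : (⟨j, hjv⟩ : Fin v) ∈ fset v c := mem_fset.mpr hcj.1
    rw [e, mem_fset, hcj.2] at h1
    exact absurd h1 (by simp)
  have hlt := inter_card_lt hB hc hm hne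
  have hsub : (fset v c).erase ⟨j, hjv⟩ ⊆ fset v c ∩ fset v m := by
    intro i hi
    rw [Finset.mem_erase] at hi
    rw [Finset.mem_inter]
    refine ⟨hi.2, ?_⟩
    rw [mem_fset]
    have hci : c.testBit i.val = true := mem_fset.mp hi.2
    have := hbit i.val
    rw [hci] at this
    have hji : ¬ j = i.val := fun e => hi.1 (Fin.ext e.symm)
    simp only [Bool.true_and, hji, decide_false, Bool.not_eq_false'] at this
    exact this
  have hcard := Finset.card_le_card hsub
  rw [Finset.card_erase_of_mem (mem_fset.mpr hcj.1), hB.1 _ hc] at hcard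
  omega

/-! ### Certificates -/

/-- search certificates: `leaf σ` closes a branch (the packed map `σ` carries the target onto the
known blocks); `branch s subs syms` splits on the block through the `t`-set `s`, `subs` is a list
(`nil`/`cons`) of solved cases and `syms` reduces further cases to solved ones by symmetries. -/
inductive Cert : Type
  | leaf (σ : ℕ)
  | nil
  | cons (y : ℕ) (c : Cert) (rest : Cert)
  | branch (s : ℕ) (subs : Cert) (syms : List (ℕ × ℕ × ℕ))

/-- the cases solved in a list of cases -/
def keys : Cert → List ℕ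
  | .cons y _ rest => y :: keys rest
  | _ => []

/-- membership in a list of numbers -/
def memL (l : List ℕ) (a : ℕ) : Bool := l.any (Nat.beq a)

theorem memL_iff {l : List ℕ} {a : ℕ} : memL l a = true ↔ a ∈ l := by
  unfold memL
  rw [List.any_eq_true]
  constructor
  · rintro ⟨b, hb, hab⟩
    rw [nat_beq_iff] at hab
    rw [hab]; exact hb
  · intro h
    exact ⟨a, h, Nat.beq_refl a⟩

/-- the case `x` reduces to the solved case `e.2.2` by the symmetry `e.2.1` -/
noncomputable def symOk (v : ℕ) (known ks : List ℕ) (s x : ℕ) (e : ℕ × ℕ × ℕ) : Bool :=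
  Nat.beq e.1 x && memL ks e.2.2 && isPermN v e.2.1 &&
    known.all (fun m => memL known (applyN v e.2.1 m)) &&
    Nat.beq (applyN v e.2.1 (Nat.lor s (2 ^ e.2.2))) (Nat.lor s (2 ^ x))

/-- the case `x` is impossible, solved, or reduced to a solved one -/
noncomputable def altOk (v : ℕ) (known ks : List ℕ) (syms : List (ℕ × ℕ × ℕ)) (s x : ℕ) : Bool :=
  s.testBit x || known.any (conflict1 (Nat.lor s (2 ^ x))) || memL ks x ||
    syms.any (symOk v known ks s x)

/-- the checker -/
noncomputable def chk (t v : ℕ) (std : List ℕ) : Cert → Option ℕ → List ℕ → Bool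
  | .leaf σ, none, known => isPermN v σ && std.all (fun m => memL known (applyN v σ m))
  | .branch s subs syms, none, known =>
      Nat.beq (popcN v s) t && Nat.blt s (2 ^ v) && chk t v std subs (some s) known &&
        (List.range v).all (altOk v known (keys subs) syms s)
  | .nil, some _, _ => true
  | .cons y c rest, some s, known =>
      chk t v std c none (Nat.lor s (2 ^ y) :: known) && chk t v std rest (some s) known
  | _, _, _ => false

/-- what a successful check proves -/
def Sound (t v : ℕ) (std : List ℕ) (c : Cert) : Option ℕ → List ℕ → Prop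
  | none, known => Goal t v std known
  | some s, known => ∀ y ∈ keys c, Goal t v std (Nat.lor s (2 ^ y) :: known)

theorem leaf_sound {t v : ℕ} {std : List ℕ} (hcov : Cover t v std) {σ : ℕ} {known : List ℕ}
    (h1 : isPermN v σ = true) (h2 : ∀ m ∈ std, applyN v σ m ∈ known) : Goal t v std known := by
  intro B hB hk
  set e := permN v σ with he
  have hsub : ∀ m ∈ std, (fset v m).image e ∈ B := by
    intro m hm
    rw [he, image_permN h1]
    exact hk _ (h2 m hm)
  have hEq : imgSys e (Std v std) = B := by
    ext b
    constructor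
    · rintro ⟨b0, ⟨m, hm, rfl⟩, rfl⟩
      exact hsub m hm
    · intro hb
      have hc : t ≤ b.card := by rw [hB.1 b hb]; omega
      obtain ⟨s0, hs0, hs0c⟩ := Finset.exists_subset_card_eq hc
      have hs1 : (s0.image e.symm).card = t := by
        rw [Finset.card_image_of_injective _ e.symm.injective, hs0c]
      obtain ⟨m, hm, hsm⟩ := hcov _ hs1
      have hs0' : s0 ⊆ (fset v m).image e := by
        have := Finset.image_subset_image (f := e) hsm
        rwa [image_image_symm] at this
      obtain ⟨b1, -, huniq⟩ := hB.2 s0 hs0c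
      have e1 := huniq b ⟨hb, hs0⟩
      have e2 := huniq _ ⟨hsub m hm, hs0'⟩
      rw [e1, ← e2]
      exact ⟨fset v m, ⟨m, hm, rfl⟩, rfl⟩
  exact iso_symm ⟨e, hEq⟩

theorem sym_sound {t v : ℕ} {std known : List ℕ} {s x y τ : ℕ}
    (hy : Goal t v std (Nat.lor s (2 ^ y) :: known)) (hτ : isPermN v τ = true)
    (hk : ∀ m ∈ known, applyN v τ m ∈ known)
    (hs : applyN v τ (Nat.lor s (2 ^ y)) = Nat.lor s (2 ^ x)) :
    Goal t v std (Nat.lor s (2 ^ x) :: known) := by
  intro B hB hkB
  set π := permN v τ with hπ
  have hB' : IsSteinerSystem t (t + 1) (imgSys π.symm B) := isSteiner_imgSys π.symm hB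
  have hmem : ∀ m, fset v (applyN v τ m) ∈ B → fset v m ∈ imgSys π.symm B := by
    intro m hm
    rw [mem_imgSys, Equiv.symm_symm, hπ, image_permN hτ]
    exact hm
  have hiso : SetSystemIso (imgSys π.symm B) (Std v std) := by
    apply hy _ hB'
    intro m hm
    rw [List.mem_cons] at hm
    rcases hm with rfl | hm
    · apply hmem
      rw [hs]
      exact hkB _ List.mem_cons_self
    · apply hmem
      exact hkB _ (List.mem_cons_of_mem _ (hk m hm))
  exact iso_trans ⟨π.symm, rfl⟩ hiso

theorem branch_sound {t v : ℕ} {std known ks : List ℕ} {s : ℕ} {syms : List (ℕ × ℕ × ℕ)}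
    (hst : popcN v s = t) (hsv : s < 2 ^ v)
    (hks : ∀ y ∈ ks, Goal t v std (Nat.lor s (2 ^ y) :: known))
    (hall : ∀ x, x < v → altOk v known ks syms s x = true) : Goal t v std known := by
  intro B hB hk
  have hsc : (fset v s).card = t := by rw [card_fset, hst]
  obtain ⟨b, ⟨hbB, hsb⟩, -⟩ := hB.2 (fset v s) hsc
  have hbc := hB.1 b hbB
  have h1 : (b \ fset v s).card = 1 := by
    rw [Finset.card_sdiff_of_subset hsb, hbc, hsc]; omega
  obtain ⟨x, hx⟩ := Finset.card_eq_one.mp h1
  have hxm : x ∈ b \ fset v s := by rw [hx]; exact Finset.mem_singleton_self x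
  rw [Finset.mem_sdiff] at hxm
  have hbx : b = fset v (Nat.lor s (2 ^ x.val)) := by
    show b = fset v (s ||| 2 ^ x.val)
    rw [fset_or, fset_two_pow x.isLt]
    ext i
    rw [Finset.mem_union, Finset.mem_singleton]
    constructor
    · intro hi
      by_cases his : i ∈ fset v s
      · exact Or.inl his
      · right
        have : i ∈ b \ fset v s := Finset.mem_sdiff.mpr ⟨hi, his⟩
        rw [hx, Finset.mem_singleton] at this
        rw [this]
    · rintro (hi | hi)
      · exact hsb hi
      · rw [hi]; exact hxm.1
  have hcv : Nat.lor s (2 ^ x.val) < 2 ^ v := by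
    show s ||| 2 ^ x.val < 2 ^ v
    exact Nat.or_lt_two_pow hsv (Nat.pow_lt_pow_right (by norm_num) x.isLt)
  have hkB' : ∀ m ∈ Nat.lor s (2 ^ x.val) :: known, fset v m ∈ B := by
    intro m hm
    rw [List.mem_cons] at hm
    rcases hm with rfl | hm
    · rw [← hbx]; exact hbB
    · exact hk m hm
  have halt := hall x.val x.isLt
  unfold altOk at halt
  simp only [Bool.or_eq_true] at halt
  rcases halt with ((halt | halt) | halt) | halt
  · exact absurd (mem_fset.mpr halt) hxm.2
  · rw [List.any_eq_true] at halt
    obtain ⟨m, hm, hcm⟩ := halt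
    exact (conflict1_sound hB hcv (hbx ▸ hbB) (hk m hm) hcm).elim
  · exact hks _ (memL_iff.mp halt) B hB hkB'
  · rw [List.any_eq_true] at halt
    obtain ⟨e, -, he⟩ := halt
    unfold symOk at he
    simp only [Bool.and_eq_true, nat_beq_iff, memL_iff, List.all_eq_true] at he
    obtain ⟨⟨⟨⟨he1, he2⟩, he3⟩, he4⟩, he5⟩ := he
    exact sym_sound (hks _ he2) he3 he4 he5 B hB hkB'

theorem chk_sound {t v : ℕ} {std : List ℕ} (hcov : Cover t v std) (c : Cert) :
    ∀ (mode : Option ℕ) (known : List ℕ), chk t v std c mode known = true →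
      Sound t v std c mode known := by
  induction c with
  | leaf σ =>
    intro mode known h
    cases mode with
    | none =>
      unfold chk at h
      rw [Bool.and_eq_true, List.all_eq_true] at h
      exact leaf_sound hcov h.1 (fun m hm => memL_iff.mp (h.2 m hm))
    | some s => simp [chk] at h
  | nil =>
    intro mode known h
    cases mode with
    | none => simp [chk] at h
    | some s =>
      intro y hy
      simp [keys] at hy
  | cons y c rest ihc ihr =>
    intro mode known h
    cases mode with
    | none => simp [chk] at h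
    | some s =>
      unfold chk at h
      rw [Bool.and_eq_true] at h
      intro y' hy'
      simp only [keys, List.mem_cons] at hy'
      rcases hy' with rfl | hy'
      · exact ihc none _ h.1
      · exact ihr (some s) known h.2 y' hy'
  | branch s subs syms ihs =>
    intro mode known h
    cases mode with
    | some s' => simp [chk] at h
    | none =>
      unfold chk at h
      simp only [Bool.and_eq_true, nat_beq_iff, List.all_eq_true, List.mem_range] at h
      obtain ⟨⟨⟨h1, h2⟩, h3⟩, h4⟩ := h
      have h2' : s < 2 ^ v := by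
        have := h2
        simp only [Nat.blt, Nat.ble_eq, decide_eq_true_eq] at this
        omega
      exact branch_sound h1 h2' (ihs (some s) known h3) h4

/-- uniqueness on `Fin v` from a checked certificate -/
theorem unique_fin {t v : ℕ} {std : List ℕ} (c : Cert) (hcov : coverOk t v std = true)
    (h : chk t v std c none [] = true) {B : Set (Finset (Fin v))}
    (hB : IsSteinerSystem t (t + 1) B) : SetSystemIso B (Std v std) :=
  chk_sound (cover_of_ok hcov) c none [] h B hB (by simp)

/-- uniqueness on any type with `v` points -/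
theorem unique_gen {t v : ℕ} {std : List ℕ} (c : Cert) (hcov : coverOk t v std = true)
    (h : chk t v std c none [] = true) {α : Type*} [Fintype α] [DecidableEq α]
    (hα : Fintype.card α = v) {B : Set (Finset α)} (hB : IsSteinerSystem t (t + 1) B) :
    SetSystemIso B (Std v std) := by
  let e : α ≃ Fin v := Fintype.equivFinOfCardEq hα
  exact iso_trans ⟨e, rfl⟩ (unique_fin c hcov h (isSteiner_imgSys e hB))

end Cfsg.Agent.Lib.Helper10.StCert
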