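import Cfsg.Agent.Lib.Helper10.StCertA

set_option autoImplicit false

/-! A verified checker of search certificates for the uniqueness of Steiner systems `S(t, k, v)` on `Fin v`
with arbitrary block size `k` (generalising `StCertA`, which treats `k = t + 1`): subsets are bitmasks,
permutations are packed numbers, candidates for the block through a `t`-set are all `k`-masks containing it. -/

namespace Cfsg.Agent.Lib.Helper10.StCertK

open Cfsg Cfsg.Agent.Lib.Helper28.GolayCode Cfsg.Agent.Lib.Helper28.FinMask
  Cfsg.Agent.Lib.Helper28.SteinerDerived Cfsg.Agent.Lib.Helper10.StCert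

/-- every Steiner system `S(t, k, v)` containing the known blocks is isomorphic to the target -/
def GoalK (t k v : ℕ) (std known : List ℕ) : Prop :=
  ∀ B : Set (Finset (Fin v)), IsSteinerSystem t k B → (∀ m ∈ known, fset v m ∈ B) →
    SetSystemIso B (Std v std)

/-- the candidate `c` is not contained in the block `m` but shares at least `t` points with it -/
noncomputable def conflictK (t v c m : ℕ) : Bool :=
  Nat.blt (popcN v (Nat.land c m)) (popcN v c) && Nat.ble t (popcN v (Nat.land c m))

theorem conflictK_sound {t k v : ℕ} {B : Set (Finset (Fin v))} (hB : IsSteinerSystem t k B)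
    {c m : ℕ} (hc : fset v c ∈ B) (hm : fset v m ∈ B)
    (h : conflictK t v c m = true) : False := by
  unfold conflictK at h
  simp only [Bool.and_eq_true, Nat.blt_eq, Nat.ble_eq] at h
  obtain ⟨h1, h2⟩ := h
  have hand : fset v (Nat.land c m) = fset v c ∩ fset v m := fset_and v c m
  have hne : fset v c ≠ fset v m := by
    intro e
    rw [← card_fset, ← card_fset, hand, e, Finset.inter_self] at h1
    exact lt_irrefl _ h1
  have hlt := inter_card_lt hB hc hm hne
  rw [← card_fset, hand] at h2
  omega

/-- search certificates: `leaf σ` closes a branch (the packed map `σ` carries the target onto the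
known blocks); `branch s subs syms` splits on the block through the `t`-set `s`, `subs` is a list
(`nil`/`cons`) of solved candidate blocks and `syms` reduces further candidates to solved ones by
symmetries `(x, τ, y)`: `τ` preserves the known blocks and maps the solved candidate `y` to `x`. -/
inductive CertK : Type
  | leaf (σ : ℕ)
  | nil
  | cons (y : ℕ) (c : CertK) (rest : CertK)
  | branch (s : ℕ) (subs : CertK) (syms : List (ℕ × ℕ × ℕ))

/-- the candidates solved in a list of cases -/
def keysK : CertK → List ℕ
  | .cons y _ rest => y :: keysK rest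
  | _ => []

/-- the candidate `x` reduces to the solved candidate `e.2.2` by the symmetry `e.2.1` -/
noncomputable def symOkK (v : ℕ) (known ks : List ℕ) (x : ℕ) (e : ℕ × ℕ × ℕ) : Bool :=
  Nat.beq e.1 x && memL ks e.2.2 && isPermN v e.2.1 &&
    known.all (fun m => memL known (applyN v e.2.1 m)) &&
    Nat.beq (applyN v e.2.1 e.2.2) x

/-- the candidate `x` is not a candidate, impossible, solved, or reduced to a solved one -/
noncomputable def altOkK (t k v : ℕ) (known ks : List ℕ) (syms : List (ℕ × ℕ × ℕ)) (s x : ℕ) : Bool :=
  !(Nat.beq (popcN v x) k) || !(Nat.beq (Nat.land s x) s) || known.any (conflictK t v x) ||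
    memL ks x || syms.any (symOkK v known ks x)

/-- the checker -/
noncomputable def chkK (t k v : ℕ) (std : List ℕ) : CertK → Bool → List ℕ → Bool
  | .leaf σ, false, known => isPermN v σ && std.all (fun m => memL known (applyN v σ m))
  | .branch s subs syms, false, known =>
      Nat.beq (popcN v s) t && Nat.blt s (2 ^ v) && chkK t k v std subs true known &&
        (List.range (2 ^ v)).all (altOkK t k v known (keysK subs) syms s)
  | .nil, true, _ => true
  | .cons y c rest, true, known =>
      chkK t k v std c false (y :: known) && chkK t k v std rest true known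
  | _, _, _ => false

/-- what a successful check proves -/
def SoundK (t k v : ℕ) (std : List ℕ) (c : CertK) : Bool → List ℕ → Prop
  | false, known => GoalK t k v std known
  | true, known => ∀ y ∈ keysK c, GoalK t k v std (y :: known)

theorem leaf_soundK {t k v : ℕ} {std : List ℕ} (htk : t ≤ k) (hcov : Cover t v std) {σ : ℕ}
    {known : List ℕ} (h1 : isPermN v σ = true) (h2 : ∀ m ∈ std, applyN v σ m ∈ known) :
    GoalK t k v std known := by
  intro B hB hk
  set e := permN v σ with he
  have hsub : ∀ m ∈ std, (fset v m).image e ∈ B := by
    intro m hm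
    rw [he, image_permN h1]
    exact hk _ (h2 m hm)
  have hEq : imgSys e (Std v std) = B := by
    ext b
    constructor
    · rintro ⟨b0, ⟨m, hm, rfl⟩, rfl⟩
      exact hsub m hm
    · intro hb
      have hc : t ≤ b.card := by rw [hB.1 b hb]; exact htk
      obtain ⟨s0, hs0, hs0c⟩ := Finset.exists_subset_card_eq hc
      have hs1 : (s0.image e.symm).card = t := by
        rw [Finset.card_image_of_injective _ e.symm.injective, hs0c]
      obtain ⟨m, hm, hsm⟩ := hcov _ hs1
      have hs0' : s0 ⊆ (fset v m).image e := by
        have := Finset.image_subset_image (f := e) hsm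
        rwa [image_image_symm] at this
      obtain ⟨b1, -, huniq⟩ := hB.2 s0 hs0c
      have e1 := huniq b ⟨hb, hs0⟩
      have e2 := huniq _ ⟨hsub m hm, hs0'⟩
      rw [e1, ← e2]
      exact ⟨fset v m, ⟨m, hm, rfl⟩, rfl⟩
  exact iso_symm ⟨e, hEq⟩

theorem sym_soundK {t k v : ℕ} {std known : List ℕ} {x y τ : ℕ}
    (hy : GoalK t k v std (y :: known)) (hτ : isPermN v τ = true)
    (hk : ∀ m ∈ known, applyN v τ m ∈ known)
    (hs : applyN v τ y = x) :
    GoalK t k v std (x :: known) := by
  intro B hB hkB
  set π := permN v τ with hπ
  have hB' : IsSteinerSystem t k (imgSys π.symm B) := isSteiner_imgSys π.symm hB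
  have hmem : ∀ m, fset v (applyN v τ m) ∈ B → fset v m ∈ imgSys π.symm B := by
    intro m hm
    rw [mem_imgSys, Equiv.symm_symm, hπ, image_permN hτ]
    exact hm
  have hiso : SetSystemIso (imgSys π.symm B) (Std v std) := by
    apply hy _ hB'
    intro m hm
    rw [List.mem_cons] at hm
    rcases hm with rfl | hm
    · apply hmem
      rw [hs]
      exact hkB _ List.mem_cons_self
    · apply hmem
      exact hkB _ (List.mem_cons_of_mem _ (hk m hm))
  exact iso_trans ⟨π.symm, rfl⟩ hiso

theorem branch_soundK {t k v : ℕ} {std known ks : List ℕ} {s : ℕ} {syms : List (ℕ × ℕ × ℕ)}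
    (hst : popcN v s = t) (hsv : s < 2 ^ v)
    (hks : ∀ y ∈ ks, GoalK t k v std (y :: known))
    (hall : ∀ x, x < 2 ^ v → altOkK t k v known ks syms s x = true) : GoalK t k v std known := by
  intro B hB hk
  have hsc : (fset v s).card = t := by rw [card_fset, hst]
  obtain ⟨b, ⟨hbB, hsb⟩, -⟩ := hB.2 (fset v s) hsc
  have hbc := hB.1 b hbB
  set x := fmask b with hx
  have hxb : fset v x = b := fset_fmask b
  have hxv : x < 2 ^ v := fmask_lt b
  have hkB' : ∀ m ∈ x :: known, fset v m ∈ B := by
    intro m hm
    rw [List.mem_cons] at hm
    rcases hm with rfl | hm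
    · rw [hxb]; exact hbB
    · exact hk m hm
  have halt := hall x hxv
  unfold altOkK at halt
  simp only [Bool.or_eq_true, Bool.not_eq_true'] at halt
  rcases halt with (((halt | halt) | halt) | halt) | halt
  · exfalso
    have : popcN v x = k := by rw [← card_fset, hxb, hbc]
    rw [this, Nat.beq_refl] at halt
    exact Bool.noConfusion halt
  · exfalso
    -- `s ⊆ x` as sets gives equality of the `fset`s; compare cards through `popcN`
    have hsub : fset v s ⊆ fset v x := by rw [hxb]; exact hsb
    rw [subset_fset_iff] at hsub
    have hne : Nat.land s x ≠ s := by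
      intro e
      rw [e, Nat.beq_refl] at halt
      exact Bool.noConfusion halt
    -- masks below `2 ^ v` with equal `fset` are equal
    have hlt : s &&& x < 2 ^ v := lt_of_le_of_lt Nat.and_le_left hsv
    exact hne (fset_inj _ _ hlt hsv hsub)
  · rw [List.any_eq_true] at halt
    obtain ⟨m, hm, hcm⟩ := halt
    exact (conflictK_sound hB (hxb ▸ hbB) (hk m hm) hcm).elim
  · exact hks _ (memL_iff.mp halt) B hB hkB'
  · rw [List.any_eq_true] at halt
    obtain ⟨e, -, he⟩ := halt
    unfold symOkK at he
    simp only [Bool.and_eq_true, nat_beq_iff, memL_iff, List.all_eq_true] at he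
    obtain ⟨⟨⟨⟨he1, he2⟩, he3⟩, he4⟩, he5⟩ := he
    exact sym_soundK (hks _ he2) he3 he4 he5 B hB hkB'

theorem chk_soundK {t k v : ℕ} {std : List ℕ} (htk : t ≤ k) (hcov : Cover t v std) (c : CertK) :
    ∀ (mode : Bool) (known : List ℕ), chkK t k v std c mode known = true →
      SoundK t k v std c mode known := by
  induction c with
  | leaf σ =>
    intro mode known h
    cases mode with
    | false =>
      unfold chkK at h
      rw [Bool.and_eq_true, List.all_eq_true] at h
      exact leaf_soundK htk hcov h.1 (fun m hm => memL_iff.mp (h.2 m hm))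
    | true => simp [chkK] at h
  | nil =>
    intro mode known h
    cases mode with
    | false => simp [chkK] at h
    | true =>
      intro y hy
      simp [keysK] at hy
  | cons y c rest ihc ihr =>
    intro mode known h
    cases mode with
    | false => simp [chkK] at h
    | true =>
      unfold chkK at h
      rw [Bool.and_eq_true] at h
      intro y' hy'
      simp only [keysK, List.mem_cons] at hy'
      rcases hy' with rfl | hy'
      · exact ihc false _ h.1
      · exact ihr true known h.2 y' hy'
  | branch s subs syms ihs =>
    intro mode known h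
    cases mode with
    | true => simp [chkK] at h
    | false =>
      unfold chkK at h
      simp only [Bool.and_eq_true, nat_beq_iff, List.all_eq_true, List.mem_range] at h
      obtain ⟨⟨⟨h1, h2⟩, h3⟩, h4⟩ := h
      have h2' : s < 2 ^ v := by
        have := h2
        simp only [Nat.blt, Nat.ble_eq, decide_eq_true_eq] at this
        omega
      exact branch_soundK h1 h2' (ihs true known h3) h4

/-- uniqueness on `Fin v` from a checked certificate -/
theorem unique_finK {t k v : ℕ} {std : List ℕ} (htk : t ≤ k) (c : CertK)
    (hcov : coverOk t v std = true)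
    (h : chkK t k v std c false [] = true) {B : Set (Finset (Fin v))}
    (hB : IsSteinerSystem t k B) : SetSystemIso B (Std v std) :=
  chk_soundK htk (cover_of_ok hcov) c false [] h B hB (by simp)

/-- uniqueness on any type with `v` points -/
theorem unique_genK {t k v : ℕ} {std : List ℕ} (htk : t ≤ k) (c : CertK)
    (hcov : coverOk t v std = true)
    (h : chkK t k v std c false [] = true) {α : Type*} [Fintype α] [DecidableEq α]
    (hα : Fintype.card α = v) {B : Set (Finset α)} (hB : IsSteinerSystem t k B) :
    SetSystemIso B (Std v std) := by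
  let e : α ≃ Fin v := Fintype.equivFinOfCardEq hα
  exact iso_trans ⟨e, rfl⟩ (unique_finK htk c hcov h (isSteiner_imgSys e hB))

end Cfsg.Agent.Lib.Helper10.StCertK
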