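import Cfsg.Agent.Lib.Helper10.StData13

set_option autoImplicit false

/-! The cyclic projective plane of order 3 on `Fin 13` in explicit form, and uniqueness of S(2, 4, 13). -/

namespace Cfsg.Agent.Lib.Helper10.StCertK

open Cfsg Cfsg.Agent.Lib.Helper28.FinMask Cfsg.Agent.Lib.Helper10.StCert

/-- the lines `{i, i + 1, i + 3, i + 9}` of the cyclic plane of order 3 -/
def cyclicPlane13 : Set (Finset (Fin 13)) := {b | ∃ i : Fin 13, b = {i, i + 1, i + 3, i + 9}}

theorem fset_std13 : ∀ i : Fin 13, fset 13 (std13.getD i.val 0) = {i, i + 1, i + 3, i + 9} := by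
  decide +kernel

theorem std13_length : std13.length = 13 := by decide

theorem Std13_eq : Std 13 std13 = cyclicPlane13 := by
  ext b
  constructor
  · rintro ⟨m, hm, rfl⟩
    obtain ⟨j, hj, rfl⟩ := List.mem_iff_getElem.mp hm
    rw [std13_length] at hj
    refine ⟨⟨j, hj⟩, ?_⟩
    rw [← fset_std13 ⟨j, hj⟩]
    simp [List.getD_eq_getElem?_getD, std13_length, hj]
  · rintro ⟨i, rfl⟩
    refine ⟨std13.getD i.val 0, ?_, (fset_std13 i).symm⟩
    have hi : i.val < std13.length := by rw [std13_length]; exact i.isLt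
    rw [List.getD_eq_getElem?_getD, List.getElem?_eq_getElem hi]
    exact List.getElem_mem hi

/-- a Steiner system S(2, 4, 13) on any 13-point type is isomorphic to the cyclic plane
`{i, i + 1, i + 3, i + 9}` on `Fin 13` -/
theorem plane13_unique' {α : Type*} [Fintype α] [DecidableEq α] (hα : Fintype.card α = 13)
    {B : Set (Finset α)} (hB : IsSteinerSystem 2 4 B) : SetSystemIso B cyclicPlane13 := by
  rw [← Std13_eq]
  exact plane13_unique hα hB

end Cfsg.Agent.Lib.Helper10.StCertK
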