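import Cfsg.Agent.Lib.Helper10.StCertA

set_option autoImplicit false

/-! A verified propagation checker: an automorphism of a Steiner system `S(t, t + 1, v)` on
`Fin v` (given by a list of masks) that fixes the first `t` points is the identity. -/

namespace Cfsg.Agent.Lib.Helper10.StCert

open Cfsg Cfsg.Agent.Lib.Helper28.GolayCode Cfsg.Agent.Lib.Helper28.FinMask
  Cfsg.Agent.Lib.Helper28.SteinerDerived
open scoped Pointwise

theorem smul_mem_of_aut {α : Type*} [DecidableEq α] {B : Set (Finset α)} {σ : Equiv.Perm α}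
    (hσ : σ ∈ setSystemAut B) {b : Finset α} (hb : b ∈ B) : b.image σ ∈ B := by
  have h1 : σ • B = B := MulAction.mem_stabilizer_iff.mp hσ
  have h2 : σ • b ∈ σ • B := Set.smul_mem_smul_set hb
  rw [h1] at h2
  have h3 : σ • b = b.image σ := rfl
  rwa [h3] at h2

/-- the block rule: an automorphism mapping all points of a block `b` but `p` into a block `b'`
minus `q` maps `p` to `q` -/
theorem aut_block_rule {α : Type*} [DecidableEq α] {t : ℕ} {B : Set (Finset α)}
    (hB : IsSteinerSystem t (t + 1) B) {σ : Equiv.Perm α} (hσ : σ ∈ setSystemAut B)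
    {b b' : Finset α} (hb : b ∈ B) (hb' : b' ∈ B) {p q : α} (hp : p ∈ b) (hq : q ∈ b')
    (h : ∀ z ∈ b.erase p, σ z ∈ b'.erase q) : σ p = q := by
  have hσb : b.image σ ∈ B := smul_mem_of_aut hσ hb
  have hc1 : ((b.erase p).image σ).card = t := by
    rw [Finset.card_image_of_injective _ σ.injective, Finset.card_erase_of_mem hp, hB.1 b hb]
    rfl
  have hc2 : (b'.erase q).card = t := by
    rw [Finset.card_erase_of_mem hq, hB.1 b' hb']
    rfl
  have hsub1 : (b.erase p).image σ ⊆ b'.erase q := by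
    intro w hw
    obtain ⟨z, hz, rfl⟩ := Finset.mem_image.mp hw
    exact h z hz
  have heq : (b.erase p).image σ = b'.erase q :=
    Finset.eq_of_subset_of_card_le hsub1 (by rw [hc1, hc2])
  have hbb : b.image σ = b' := by
    by_contra hne
    have hlt := inter_card_lt hB hσb hb' hne
    have hsub : (b.erase p).image σ ⊆ b.image σ ∩ b' := by
      intro w hw
      rw [Finset.mem_inter]
      refine ⟨?_, Finset.mem_of_mem_erase (hsub1 hw)⟩
      obtain ⟨z, hz, rfl⟩ := Finset.mem_image.mp hw
      exact Finset.mem_image_of_mem _ (Finset.mem_of_mem_erase hz)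
    have := Finset.card_le_card hsub
    omega
  have hσp : σ p ∈ b' := by
    rw [← hbb]; exact Finset.mem_image_of_mem _ hp
  by_contra hne
  have h1 : σ p ∈ b'.erase q := Finset.mem_erase.mpr ⟨hne, hσp⟩
  rw [← heq] at h1
  obtain ⟨z, hz, hzp⟩ := Finset.mem_image.mp h1
  have := σ.injective hzp
  rw [this] at hz
  exact absurd rfl (Finset.mem_erase.mp hz).1

/-! ### Propagation -/

/-- the facts `σ e.1 = e.2` of a list hold -/
def Holds {v : ℕ} (σ : Equiv.Perm (Fin v)) (st : List (ℕ × ℕ)) : Prop :=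
  ∀ f ∈ st, ∀ h : f.1 < v, (σ ⟨f.1, h⟩).val = f.2

/-- a step `(m, m', p, q)`: blocks `m`, `m'`, all points of `m` except `p` have known images
in `m'` minus `q` -/
def stepOk (v : ℕ) (std : List ℕ) (st : List (ℕ × ℕ)) (e : ℕ × ℕ × ℕ × ℕ) : Bool :=
  memL std e.1 && memL std e.2.1 && Nat.blt e.2.2.1 v && Nat.blt e.2.2.2 v &&
    e.1.testBit e.2.2.1 && e.2.1.testBit e.2.2.2 &&
    (List.range v).all fun z => !(e.1.testBit z) || Nat.beq z e.2.2.1 ||
      st.any fun f => Nat.beq f.1 z && e.2.1.testBit f.2 && !(Nat.beq f.2 e.2.2.2)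

theorem blt_iff {a b : ℕ} : Nat.blt a b = true ↔ a < b := by
  simp only [Nat.blt, Nat.ble_eq]
  omega

theorem step_sound {t v : ℕ} {std : List ℕ} (hstd : IsSteinerSystem t (t + 1) (Std v std))
    {σ : Equiv.Perm (Fin v)} (hσ : σ ∈ setSystemAut (Std v std)) {st : List (ℕ × ℕ)}
    (hst : Holds σ st) {e : ℕ × ℕ × ℕ × ℕ} (he : stepOk v std st e = true) :
    Holds σ ((e.2.2.1, e.2.2.2) :: st) := by
  unfold stepOk at he
  simp only [Bool.and_eq_true, memL_iff, blt_iff, List.all_eq_true, List.mem_range,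
    Bool.or_eq_true, Bool.not_eq_true', nat_beq_iff, List.any_eq_true] at he
  obtain ⟨⟨⟨⟨⟨⟨hm, hm'⟩, hp⟩, hq⟩, hpm⟩, hqm'⟩, hall⟩ := he
  intro f hf
  rw [List.mem_cons] at hf
  rcases hf with rfl | hf
  · intro h
    have key : σ ⟨e.2.2.1, hp⟩ = ⟨e.2.2.2, hq⟩ := by
      apply aut_block_rule hstd hσ (b := fset v e.1) (b' := fset v e.2.1) ⟨e.1, hm, rfl⟩
        ⟨e.2.1, hm', rfl⟩ (mem_fset.mpr hpm) (mem_fset.mpr hqm')
      intro z hz
      rw [Finset.mem_erase, mem_fset] at hz
      rcases hall z.val z.isLt with (h1 | h1) | h1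
      · rw [hz.2] at h1; exact absurd h1 (by simp)
      · exact absurd (Fin.ext h1) hz.1
      · obtain ⟨g, hg, hg'⟩ := h1
        obtain ⟨⟨g1, g2⟩, g3⟩ := hg'
        have hz' : g.1 < v := by rw [g1]; exact z.isLt
        have hval := hst g hg hz'
        have hzz : (⟨g.1, hz'⟩ : Fin v) = z := Fin.ext g1
        rw [hzz] at hval
        rw [Finset.mem_erase, mem_fset, hval]
        refine ⟨?_, g2⟩
        intro e1
        have : (σ z).val = e.2.2.2 := congrArg Fin.val e1
        rw [hval] at this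
        rw [this] at g3
        simp [Nat.beq_refl] at g3
    show (σ ⟨e.2.2.1, h⟩).val = e.2.2.2
    rw [key]
  · exact hst f hf

/-- run a list of steps -/
def run (v : ℕ) (std : List ℕ) : List (ℕ × ℕ) → List (ℕ × ℕ × ℕ × ℕ) → Option (List (ℕ × ℕ))
  | st, [] => some st
  | st, e :: es => if stepOk v std st e then run v std ((e.2.2.1, e.2.2.2) :: st) es else none

theorem run_sound {t v : ℕ} {std : List ℕ} (hstd : IsSteinerSystem t (t + 1) (Std v std))
    {σ : Equiv.Perm (Fin v)} (hσ : σ ∈ setSystemAut (Std v std)) (steps : List (ℕ × ℕ × ℕ × ℕ)) :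
    ∀ (st st' : List (ℕ × ℕ)), Holds σ st → run v std st steps = some st' → Holds σ st' := by
  induction steps with
  | nil =>
    intro st st' hst h
    simp only [run, Option.some.injEq] at h
    rw [← h]; exact hst
  | cons e es ih =>
    intro st st' hst h
    unfold run at h
    by_cases he : stepOk v std st e = true
    · rw [if_pos he] at h
      exact ih _ _ (step_sound hstd hσ hst he) h
    · rw [if_neg he] at h
      exact absurd h (by simp)

/-- two facts contradict each other -/
def clash (v : ℕ) (st : List (ℕ × ℕ)) : Bool :=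
  st.any fun f => st.any fun g =>
    Nat.blt f.1 v && Nat.blt g.1 v &&
      ((Nat.beq f.1 g.1 && !(Nat.beq f.2 g.2)) || (Nat.beq f.2 g.2 && !(Nat.beq f.1 g.1)))

theorem clash_sound {v : ℕ} {σ : Equiv.Perm (Fin v)} {st : List (ℕ × ℕ)} (hst : Holds σ st)
    (h : clash v st = true) : False := by
  unfold clash at h
  simp only [List.any_eq_true, Bool.and_eq_true, blt_iff, Bool.or_eq_true, nat_beq_iff,
    Bool.not_eq_true'] at h
  obtain ⟨f, hf, g, hg, ⟨hfv, hgv⟩, h⟩ := h
  have e1 := hst f hf hfv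
  have e2 := hst g hg hgv
  rcases h with ⟨h1, h2⟩ | ⟨h1, h2⟩
  · have : (⟨f.1, hfv⟩ : Fin v) = ⟨g.1, hgv⟩ := Fin.ext h1
    rw [this, e2] at e1
    rw [e1] at h2
    simp [Nat.beq_refl] at h2
  · have : σ ⟨f.1, hfv⟩ = σ ⟨g.1, hgv⟩ := Fin.ext (by rw [e1, e2, h1])
    have : f.1 = g.1 := congrArg Fin.val (σ.injective this)
    rw [this] at h2
    simp [Nat.beq_refl] at h2

/-- the facts lead to a contradiction -/
def refute (v : ℕ) (std : List ℕ) (st : List (ℕ × ℕ)) (steps : List (ℕ × ℕ × ℕ × ℕ)) : Bool :=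
  match run v std st steps with
  | some st' => clash v st'
  | none => false

theorem refute_sound {t v : ℕ} {std : List ℕ} (hstd : IsSteinerSystem t (t + 1) (Std v std))
    {σ : Equiv.Perm (Fin v)} (hσ : σ ∈ setSystemAut (Std v std)) {st : List (ℕ × ℕ)}
    (hst : Holds σ st) {steps : List (ℕ × ℕ × ℕ × ℕ)} (h : refute v std st steps = true) :
    False := by
  unfold refute at h
  cases hr : run v std st steps with
  | none => rw [hr] at h; exact absurd h (by simp)
  | some st' =>
    rw [hr] at h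
    exact clash_sound (run_sound hstd hσ steps st st' hst hr) h

/-- the facts that the first `t` points are fixed -/
def baseFacts (t : ℕ) : List (ℕ × ℕ) := (List.range t).map fun i => (i, i)

/-- for all `x ≠ y` the assumption `σ x = y` is refuted by the table -/
def sharpOk (t v : ℕ) (std : List ℕ) (tab : List (List (List (ℕ × ℕ × ℕ × ℕ)))) : Bool :=
  (List.range v).all fun x => (List.range v).all fun y =>
    Nat.beq x y || refute v std ((x, y) :: baseFacts t) ((tab.getD x []).getD y [])

theorem sharp_of_ok {t v : ℕ} {std : List ℕ} {tab : List (List (List (ℕ × ℕ × ℕ × ℕ)))}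
    (h : sharpOk t v std tab = true) (hstd : IsSteinerSystem t (t + 1) (Std v std))
    {σ : Equiv.Perm (Fin v)} (hσ : σ ∈ setSystemAut (Std v std))
    (hfix : ∀ i : Fin v, i.val < t → σ i = i) : σ = 1 := by
  refine Equiv.ext fun x => ?_
  show σ x = x
  by_contra hne
  unfold sharpOk at h
  simp only [List.all_eq_true, List.mem_range, Bool.or_eq_true, nat_beq_iff] at h
  rcases h x.val x.isLt (σ x).val (σ x).isLt with h1 | h1
  · exact hne (Fin.ext h1.symm)
  · apply refute_sound hstd hσ (st := (x.val, (σ x).val) :: baseFacts t) ?_ h1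
    intro f hf
    rw [List.mem_cons] at hf
    rcases hf with rfl | hf
    · intro _; rfl
    · unfold baseFacts at hf
      rw [List.mem_map] at hf
      obtain ⟨i, hi, rfl⟩ := hf
      intro hiv
      rw [List.mem_range] at hi
      show (σ ⟨i, hiv⟩).val = i
      rw [hfix ⟨i, hiv⟩ hi]

end Cfsg.Agent.Lib.Helper10.StCert
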