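import Cfsg.Agent.S1694
import Cfsg.Agent.Lib.Helper10.SuzOChk0
import Cfsg.Agent.Lib.Helper10.OutGen

set_option autoImplicit false
set_option maxRecDepth 100000

/-!
The Suzuki group as a group of permutations of 1782 points: words in 43 letters, their evaluation on
points, equality of elements by the images of six base points, the isomorphism with the presented
group.
-/

namespace Cfsg.Agent.Lib.Helper10.SuzO
open Cfsg.Agent.Lib.Helper28.TC2Upper Cfsg.Agent.Lib.Helper28.TC2Lower Cfsg.Agent.Lib.Helper28.TC2Range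
open Cfsg.Agent.Lib.Helper28.TC2Bsgs Cfsg.Agent.Lib.Helper28.TC2Simple Cfsg.Agent.Lib.Helper28.TC2Glue
open Cfsg.Agent.Lib.Helper28

noncomputable section

/-! ### the tables -/

theorem hpermX : ∀ p, p < XT.n → Table.permRow XT p = true := by
  intro p hp
  have hp' : p < 1782 := hp
  exact (Table.permRange_iff XT 0 1782).mp prmX p (by omega) (by omega)

theorem hXT : XT.OK := Table.ok_of_rows XT hinvX hpermX

theorem hpermP : ∀ p, p < PT.n → Table.permRow PT p = true := by
  intro p hp
  have hp' : p < 1782 := hp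
  exact (Table.permRange_iff PT 0 1782).mp prmP p (by omega) (by omega)

theorem hPT : PT.OK := Table.ok_of_rows PT hinvP hpermP

/-- the permutation of a letter -/
def σ (l : ℕ) : Equiv.Perm (Fin XT.n) := Table.sigma hXT l

/-- the Suzuki group on 1782 points -/
def G : Subgroup (Equiv.Perm (Fin XT.n)) := baseGroup hXT 7

theorem hdefX : ∀ e, 7 ≤ e → e < XT.k → ∀ p, p < XT.n → XT.walkT (defsX.look e) p = XT.tau e p := by
  intro e he hk p hp
  have hk' : e < 43 := hk
  have hp' : p < 1782 := hp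
  have h := hdefAll
  unfold defAll at h
  rw [allLoop_eq_true] at h
  have h1 := h (e - 7) (by omega)
  have e7 : Nat.add 7 (e - 7) = e := by simp only [Nat.add_eq]; omega
  rw [e7, defRange_iff] at h1
  exact h1 p (by omega) (by omega)

theorem σ_mem (l : ℕ) (hl : l < 43) : σ l ∈ G :=
  sigma_mem_baseGroup hXT 7 defsX hdefsLt hdefX l hl

/-! ### words -/

/-- letters out of range are read as the first letter -/
def nl (l : ℕ) : ℕ := cond (Nat.blt l 43) l 0

theorem nl_lt (l : ℕ) : nl l < 43 := by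
  unfold nl
  cases h : Nat.blt l 43
  · exact (by norm_num : (0 : ℕ) < 43)
  · simpa [Nat.blt] using h

theorem nl_of_lt {l : ℕ} (h : l < 43) : nl l = l := by
  unfold nl
  have : Nat.blt l 43 = true := by simpa [Nat.blt] using h
  rw [this]
  rfl

/-- the letters of a word, read in range -/
def nw (w : List ℕ) : List ℕ := w.map nl

theorem nw_lt (w : List ℕ) : ∀ l ∈ nw w, l < XT.k := by
  intro l hl
  obtain ⟨l', -, rfl⟩ := List.mem_map.mp hl
  exact nl_lt l'

/-- the permutation of a word: the letters are applied from left to right -/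
def gwp (w : List ℕ) : Equiv.Perm (Fin XT.n) := pathProd σ (nw w)

theorem gwp_mem (w : List ℕ) : gwp w ∈ G :=
  pathProd_mem G σ (nw w) fun l hl => σ_mem l (nw_lt w l hl)

/-- the element of a word -/
def gw (w : List ℕ) : ↥G := ⟨gwp w, gwp_mem w⟩

/-- the image of a point under a word -/
def wk (w : List ℕ) (p : ℕ) : ℕ := XT.walkT (nw w) p

theorem gwp_apply (w : List ℕ) (p : Fin XT.n) : (gwp w p).val = wk w p.val :=
  Table.pathProd_sigma_apply hXT (nw w) (nw_lt w) p

theorem pathProd_append {K : Type*} [Monoid K] (γ : ℕ → K) (w w' : List ℕ) :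
    pathProd γ (w ++ w') = pathProd γ w' * pathProd γ w := by
  rw [pathProd_eq, pathProd_eq, pathProd_eq, List.reverse_append, List.map_append, List.prod_append]

theorem gwp_nil : gwp [] = 1 := rfl

theorem gwp_append (w w' : List ℕ) : gwp (w ++ w') = gwp w' * gwp w := by
  unfold gwp nw
  rw [List.map_append, pathProd_append]

theorem gwp_singleton (l : ℕ) : gwp [l] = σ (nl l) := by
  show 1 * σ (nl l) = σ (nl l)
  rw [one_mul]

theorem gw_nil : gw [] = 1 := rfl

theorem gw_append (w w' : List ℕ) : gw (w ++ w') = gw w' * gw w :=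
  Subtype.ext (gwp_append w w')

/-- the inverse letter -/
def il (l : ℕ) : ℕ := XT.invl (nl l)

theorem il_lt (l : ℕ) : il l < 43 := (hXT.inv (nl l) (nl_lt l)).1

theorem σ_il (l : ℕ) : σ (nl (il l)) = (σ (nl l))⁻¹ := by
  rw [nl_of_lt (il_lt l)]
  exact Table.sigma_inv hXT (nl_lt l)

/-- the inverse word -/
def winv (w : List ℕ) : List ℕ := (w.map il).reverse

theorem gwp_winv (w : List ℕ) : gwp (winv w) = (gwp w)⁻¹ := by
  induction w with
  | nil => exact inv_one.symm
  | cons l w ih =>
    have e1 : winv (l :: w) = winv w ++ [il l] := by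
      unfold winv
      rw [List.map_cons, List.reverse_cons]
    have e2 : l :: w = [l] ++ w := rfl
    rw [e1, gwp_append, ih, gwp_singleton, σ_il, e2, gwp_append, gwp_singleton, mul_inv_rev]

theorem gw_winv (w : List ℕ) : gw (winv w) = (gw w)⁻¹ :=
  Subtype.ext (gwp_winv w)

/-- repetition of a word -/
def rpt : ℕ → List ℕ → List ℕ
  | 0, _ => []
  | m + 1, l => l ++ rpt m l

theorem gw_rpt (m : ℕ) (l : List ℕ) : gw (rpt m l) = gw l ^ m := by
  induction m with
  | zero => rfl
  | succ m ih => rw [rpt, gw_append, ih, pow_succ]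

/-- the conjugate of the element of the word `u` by the element of the word `c` -/
def cj (c u : List ℕ) : List ℕ := winv c ++ (u ++ c)

theorem gw_cj (c u : List ℕ) : gw (cj c u) = gw c * gw u * (gw c)⁻¹ := by
  unfold cj
  rw [gw_append, gw_append, gw_winv]

/-! ### the isomorphism with the presented group -/

theorem pathProd_congr {K : Type*} [Monoid K] (γ γ' : ℕ → K) (w : List ℕ)
    (h : ∀ l ∈ w, γ l = γ' l) : pathProd γ w = pathProd γ' w := by
  induction w with
  | nil => rfl
  | cons l ls ih =>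
    show pathProd γ ls * γ l = pathProd γ' ls * γ' l
    rw [ih fun x hx => h x (List.mem_cons_of_mem _ hx), h l List.mem_cons_self]

theorem map_pathProd {K K' : Type*} [Monoid K] [Monoid K'] (f : K →* K') (γ : ℕ → K) (w : List ℕ) :
    f (pathProd γ w) = pathProd (fun l => f (γ l)) w := by
  induction w with
  | nil => exact map_one f
  | cons l ls ih =>
    show f (pathProd γ ls * γ l) = pathProd (fun l => f (γ l)) ls * f (γ l)
    rw [map_mul, ih]

theorem nw_of_lt (w : List ℕ) (h : ∀ l ∈ w, l < 43) : nw w = w := by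
  unfold nw
  conv_rhs => rw [← List.map_id w]
  exact List.map_congr_left fun l hl => nl_of_lt (h l hl)

/-- the identification of the permutations of the points of the coset table of the presentation
with those of the points of the table of the 43 letters -/
def ΦB : Equiv.Perm (Fin TCSuzW0Table.table.n) ≃* Equiv.Perm (Fin XT.n) :=
  (finCongr (rfl : TCSuzW0Table.table.n = XT.n)).permCongrHom

theorem ΦB_apply_val (π : Equiv.Perm (Fin TCSuzW0Table.table.n)) (p : Fin XT.n) :
    ((ΦB π) p).val = (π ((finCongr (rfl : TCSuzW0Table.table.n = XT.n)).symm p)).val := rfl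

/-- the same for the extended coset table -/
def ΦBS : Equiv.Perm (Fin TCSuzBTable.btable.n) ≃* Equiv.Perm (Fin XT.n) :=
  (finCongr (rfl : TCSuzBTable.btable.n = XT.n)).permCongrHom

theorem ΦBS_apply_val (π : Equiv.Perm (Fin TCSuzBTable.btable.n)) (p : Fin XT.n) :
    ((ΦBS π) p).val = (π ((finCongr (rfl : TCSuzBTable.btable.n = XT.n)).symm p)).val := rfl

theorem hagreeB : ∀ p, p < 1782 → ∀ l, l < 7 → XT.tau l p = TCSuzW0Table.table.tau l p := by
  intro p hp l hl
  exact (agreeRange_iff _ XT 7 0 1782).mp agreeB p (by omega) (by omega) l hl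

theorem hagreeBS : ∀ p, p < 1782 → ∀ l, l < 7 → XT.tau l p = TCSuzBTable.btable.tau l p := by
  intro p hp l hl
  exact (agreeRange_iff _ XT 7 0 1782).mp agreeBS p (by omega) (by omega) l hl

theorem σ_eq_B (l : ℕ) (hl : l < 7) : ΦB (Table.sigma TCSuzW0Main.hT l) = σ l := by
  apply Equiv.ext
  intro p
  apply Fin.ext
  have h1 : (σ l p).val = XT.tau l p.val :=
    Table.sigma_apply hXT (show l < XT.k by show l < 43; omega) p
  rw [ΦB_apply_val, Table.sigma_apply TCSuzW0Main.hT (show l < TCSuzW0Table.table.k by show l < 7; exact hl), h1]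
  exact (hagreeB p.val p.2 l hl).symm

theorem σ_eq_BS (l : ℕ) (hl : l < 7) : ΦBS (Table.sigma TCSuzBMain.hTB l) = σ l := by
  apply Equiv.ext
  intro p
  apply Fin.ext
  have h1 : (σ l p).val = XT.tau l p.val :=
    Table.sigma_apply hXT (show l < XT.k by show l < 43; omega) p
  rw [ΦBS_apply_val, Table.sigma_apply TCSuzBMain.hTB (show l < TCSuzBTable.btable.k by show l < 25; omega), h1]
  exact (hagreeBS p.val p.2 l hl).symm

theorem G_eq_BS : G = (baseGroup TCSuzBMain.hTB 7).map ΦBS.toMonoidHom := by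
  unfold G baseGroup
  rw [MonoidHom.map_closure]
  congr 1
  ext π
  constructor
  · rintro ⟨l, hl, rfl⟩
    exact ⟨_, ⟨l, hl, rfl⟩, σ_eq_BS l hl⟩
  · rintro ⟨_, ⟨l, hl, rfl⟩, rfl⟩
    exact ⟨l, hl, σ_eq_BS l hl⟩

theorem exists_phi : ∃ φ : PresentedGroup TCSuzW0Link.rels →* Equiv.Perm (Fin TCSuzW0Table.table.n),
    (∀ x, φ (PresentedGroup.of x) = Table.sigma TCSuzW0Main.hT (TCSuzW0Link.lw (x, true))) ∧
      Function.Injective φ := by
  obtain ⟨-, φ, hφ, f, hsurj, hequiv, h0⟩ := TCSuzW0Main.main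
  obtain ⟨hfin, hle⟩ := TCSuzTower.card0
  haveI : Finite (PresentedGroup TCSuzW0Link.rels) := hfin
  have hlow : 448345497600 ≤ Nat.card φ.range :=
    le_trans TCSuzBMain.card_base (card_baseGroup_le TCSuzW0Main.hT TCSuzBMain.hTB rfl (by decide)
      TCSuzBMain.hagree φ.range (sigma_mem_range TCSuzW0Link.link TCSuzW0Main.hT φ hφ))
  obtain ⟨hinj, -⟩ := injective_of_card_le φ hle hlow
  exact ⟨φ, hφ, hinj⟩

theorem lw_lt (xb : Cfsg.Spor.Suz.Gen × Bool) : TCSuzW0Link.lw xb < 7 := by
  obtain ⟨x, b⟩ := xb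
  cases x <;> simp [TCSuzW0Link.lw]

theorem pathOf_lt (L : List (Cfsg.Spor.Suz.Gen × Bool)) : ∀ l ∈ pathOf TCSuzW0Link.lw L, l < 7 := by
  intro l hl
  unfold pathOf at hl
  rw [List.mem_reverse] at hl
  obtain ⟨xb, -, rfl⟩ := List.mem_map.mp hl
  exact lw_lt xb

/-- the isomorphism of the presented Suzuki group with the group of permutations -/
theorem exists_iso : ∃ e : PresentedGroup TCSuzW0Link.rels ≃* ↥G,
    ∀ L : List (Cfsg.Spor.Suz.Gen × Bool),
      e (PresentedGroup.mk TCSuzW0Link.rels (FreeGroup.mk L)) = gw (pathOf TCSuzW0Link.lw L) := by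
  obtain ⟨φ, hφ, hinj⟩ := exists_phi
  have hval : ∀ L : List (Cfsg.Spor.Suz.Gen × Bool),
      ΦB (φ (PresentedGroup.mk TCSuzW0Link.rels (FreeGroup.mk L))) = gwp (pathOf TCSuzW0Link.lw L) := by
    intro L
    rw [phi_mk TCSuzW0Link.link TCSuzW0Main.hT φ hφ L]
    unfold gwp
    rw [nw_of_lt _ fun l hl => lt_trans (pathOf_lt L l hl) (by norm_num)]
    have := map_pathProd ΦB.toMonoidHom (Table.sigma TCSuzW0Main.hT) (pathOf TCSuzW0Link.lw L)
    rw [MulEquiv.toMonoidHom_eq_coe, MonoidHom.coe_coe] at this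
    rw [this]
    exact pathProd_congr _ _ _ fun l hl => σ_eq_B l (pathOf_lt L l hl)
  have hmem : ∀ x, ΦB (φ x) ∈ G := by
    intro x
    obtain ⟨w, rfl⟩ := PresentedGroup.mk_surjective TCSuzW0Link.rels x
    obtain ⟨L, rfl⟩ := Quot.exists_rep w
    have := hval L
    rw [show (Quot.mk _ L : FreeGroup Cfsg.Spor.Suz.Gen) = FreeGroup.mk L from rfl, this]
    exact gwp_mem _
  let φ' : PresentedGroup TCSuzW0Link.rels →* Equiv.Perm (Fin XT.n) := ΦB.toMonoidHom.comp φ
  let ψ : PresentedGroup TCSuzW0Link.rels →* ↥G := φ'.codRestrict G hmem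
  have hψinj : Function.Injective ψ := by
    intro a b h
    have h1 : ΦB (φ a) = ΦB (φ b) := congrArg Subtype.val h
    exact hinj (ΦB.injective h1)
  have hle : G ≤ φ'.range := by
    unfold G baseGroup
    rw [Subgroup.closure_le]
    rintro π ⟨l, hl, rfl⟩
    obtain ⟨x, hx⟩ := sigma_mem_range TCSuzW0Link.link TCSuzW0Main.hT φ hφ l hl
    refine ⟨x, ?_⟩
    show ΦB (φ x) = Table.sigma hXT l
    rw [hx]
    exact σ_eq_B l hl
  have hψsurj : Function.Surjective ψ := by
    rintro ⟨g, hg⟩
    obtain ⟨x, hx⟩ := hle hg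
    exact ⟨x, Subtype.ext hx⟩
  exact ⟨MulEquiv.ofBijective ψ ⟨hψinj, hψsurj⟩, fun L => Subtype.ext (hval L)⟩

theorem card_G : Nat.card ↥G = 448345497600 := by
  obtain ⟨e, -⟩ := exists_iso
  rw [← Nat.card_congr e.toEquiv]
  exact Cfsg.Agent.S1694.result.2

instance finite_G : Finite ↥G := Nat.finite_of_card_ne_zero (by rw [card_G]; norm_num)

instance isSimpleGroup_G : IsSimpleGroup ↥G := by
  obtain ⟨e, -⟩ := exists_iso
  have : IsSimpleGroup (PresentedGroup TCSuzW0Link.rels) := Cfsg.Agent.S1694.result.1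
  exact e.isSimpleGroup_congr.mp this

/-! ### equality of elements by the images of the base points -/

/-- the base points -/
def RB : List ℕ := [0, 1, 2, 4, 14, 8]

theorem RB_lt : ∀ b ∈ RB, b < XT.n := by decide

theorem card_pstab_BS : Nat.card (pstab (baseGroup TCSuzBMain.hTB 7)
    (toFin TCSuzBTable.btable.n [8, 14, 4, 2, 1, 0])) ≤ 1 := by
  have h : 1782 * (1365 * (1024 * (15 * (4 * (3 * Nat.card (pstab (baseGroup TCSuzBMain.hTB 7)
      (toFin TCSuzBTable.btable.n [8, 14, 4, 2, 1, 0]))))))) ≤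
      Nat.card (pstab (baseGroup TCSuzBMain.hTB 7) (toFin TCSuzBTable.btable.n [])) :=
    chain_stepN TCSuzBMain.lev0 (chain_stepN TCSuzBMain.lev1 (chain_stepN TCSuzBMain.lev2
      (chain_stepN TCSuzBMain.lev3 (chain_stepN TCSuzBMain.lev4 (chain_stepN TCSuzBMain.lev5 le_rfl)))))
  have h0 : Nat.card (pstab (baseGroup TCSuzBMain.hTB 7) (toFin TCSuzBTable.btable.n [])) =
      448345497600 := by
    show Nat.card ↥(baseGroup TCSuzBMain.hTB 7) = 448345497600
    rw [← card_G, G_eq_BS, Subgroup.card_map_of_injective ΦBS.injective]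
  rw [h0] at h
  omega

/-- an element of the group fixing the base points is trivial -/
theorem rigid (g : Equiv.Perm (Fin XT.n)) (hg : g ∈ G)
    (hfix : ∀ b ∈ RB, ∀ hb : b < XT.n, g ⟨b, hb⟩ = ⟨b, hb⟩) : g = 1 := by
  rw [G_eq_BS] at hg
  obtain ⟨g0, hg0, rfl⟩ := hg
  have hmem : g0 ∈ pstab (baseGroup TCSuzBMain.hTB 7) (toFin TCSuzBTable.btable.n [8, 14, 4, 2, 1, 0]) := by
    rw [mem_pstab]
    refine ⟨hg0, ?_⟩
    intro q hq
    have hv := val_mem_of_mem_toFin hq
    have hq' : q.val ∈ RB := by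
      simp only [List.mem_cons, List.not_mem_nil, or_false] at hv
      unfold RB
      simp only [List.mem_cons, List.not_mem_nil, or_false]
      omega
    have hqn : q.val < XT.n := q.2
    have h1 := hfix q.val hq' hqn
    apply Fin.ext
    have h2 := congrArg Fin.val h1
    rw [show (ΦBS.toMonoidHom g0) = ΦBS g0 from rfl, ΦBS_apply_val] at h2
    exact h2
  have hsub : Subsingleton ↥(pstab (baseGroup TCSuzBMain.hTB 7)
      (toFin TCSuzBTable.btable.n [8, 14, 4, 2, 1, 0])) :=
    (Finite.card_le_one_iff_subsingleton).mp card_pstab_BS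
  have := Subsingleton.elim (⟨g0, hmem⟩ : ↥(pstab (baseGroup TCSuzBMain.hTB 7)
      (toFin TCSuzBTable.btable.n [8, 14, 4, 2, 1, 0]))) 1
  have hg1 : g0 = 1 := congrArg Subtype.val this
  rw [hg1, map_one]

/-- Boolean equality of the elements of two words: the images of the base points -/
def sigEq (w w' : List ℕ) : Bool := RB.all fun b => Nat.beq (wk w b) (wk w' b)

theorem sigEq_iff (w w' : List ℕ) : sigEq w w' = true ↔ gw w = gw w' := by
  unfold sigEq
  rw [List.all_eq_true]
  constructor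
  · intro h
    have h1 : (gwp w')⁻¹ * gwp w = 1 := by
      apply rigid _ (G.mul_mem (G.inv_mem (gwp_mem w')) (gwp_mem w))
      intro b hb hbn
      rw [Equiv.Perm.mul_apply, Equiv.Perm.inv_eq_iff_eq]
      apply Fin.ext
      rw [gwp_apply, gwp_apply]
      exact Nat.eq_of_beq_eq_true (h b hb)
    rw [inv_mul_eq_one] at h1
    exact Subtype.ext h1.symm
  · intro h b hb
    have hbn := RB_lt b hb
    have := congrArg (fun g : ↥G => (g.1 ⟨b, hbn⟩).val) h
    have e1 : ((gw w).1 ⟨b, hbn⟩).val = wk w b := gwp_apply w ⟨b, hbn⟩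
    have e2 : ((gw w').1 ⟨b, hbn⟩).val = wk w' b := gwp_apply w' ⟨b, hbn⟩
    rw [e1, e2] at this
    rw [this]
    exact Nat.beq_refl _

theorem sigEq_eq_false_iff (w w' : List ℕ) : sigEq w w' = false ↔ gw w ≠ gw w' := by
  rw [Ne, ← sigEq_iff, Bool.not_eq_true]

/-- the code of an element: the images of the base points -/
def hcode (g : ↥G) : ℕ :=
  RB.foldl (fun acc b => acc * 2048 + if h : b < XT.n then (g.1 ⟨b, h⟩).val else 0) 0

/-- the code of the element of a word -/
def codeW (w : List ℕ) : ℕ := RB.foldl (fun acc b => acc * 2048 + wk w b) 0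

theorem foldl_congr' (f f' : ℕ → ℕ) (l : List ℕ) (h : ∀ b ∈ l, f b = f' b) (a : ℕ) :
    l.foldl (fun acc b => acc * 2048 + f b) a = l.foldl (fun acc b => acc * 2048 + f' b) a := by
  induction l generalizing a with
  | nil => rfl
  | cons b l ih =>
    rw [List.foldl_cons, List.foldl_cons, h b List.mem_cons_self]
    exact ih (fun x hx => h x (List.mem_cons_of_mem _ hx)) _

theorem codeW_eq (w : List ℕ) : codeW w = hcode (gw w) := by
  unfold codeW hcode
  apply foldl_congr'
  intro b hb
  rw [dif_pos (RB_lt b hb)]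
  exact (gwp_apply w ⟨b, RB_lt b hb⟩).symm

theorem foldl_inj (f f' : ℕ → ℕ) (l : List ℕ) (hf : ∀ b ∈ l, f b < 2048) (hf' : ∀ b ∈ l, f' b < 2048)
    (a a' : ℕ) (h : l.foldl (fun acc b => acc * 2048 + f b) a = l.foldl (fun acc b => acc * 2048 + f' b) a') :
    a = a' ∧ ∀ b ∈ l, f b = f' b := by
  induction l generalizing a a' with
  | nil => exact ⟨h, fun b hb => absurd hb List.not_mem_nil⟩
  | cons b l ih =>
    rw [List.foldl_cons, List.foldl_cons] at h
    obtain ⟨h1, h2⟩ := ih (fun x hx => hf x (List.mem_cons_of_mem _ hx))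
      (fun x hx => hf' x (List.mem_cons_of_mem _ hx)) _ _ h
    have hb := hf b List.mem_cons_self
    have hb' := hf' b List.mem_cons_self
    have e1 : a = a' := by omega
    have e2 : f b = f' b := by omega
    refine ⟨e1, ?_⟩
    intro x hx
    rcases List.mem_cons.mp hx with rfl | hx
    · exact e2
    · exact h2 x hx

theorem hcode_injective : Function.Injective hcode := by
  intro g g' h
  unfold hcode at h
  have hlt : ∀ (k : ↥G), ∀ b ∈ RB, (if h : b < XT.n then (k.1 ⟨b, h⟩).val else 0) < 2048 := by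
    intro k b hb
    rw [dif_pos (RB_lt b hb)]
    have : (k.1 ⟨b, RB_lt b hb⟩).val < 1782 := (k.1 ⟨b, RB_lt b hb⟩).2
    omega
  obtain ⟨-, h2⟩ := foldl_inj _ _ RB (hlt g) (hlt g') 0 0 h
  have h1 : g'.1⁻¹ * g.1 = 1 := by
    apply rigid _ (G.mul_mem (G.inv_mem g'.2) g.2)
    intro b hb hbn
    rw [Equiv.Perm.mul_apply, Equiv.Perm.inv_eq_iff_eq]
    apply Fin.ext
    have := h2 b hb
    rw [dif_pos hbn, dif_pos hbn] at this
    exact this
  rw [inv_mul_eq_one] at h1
  exact Subtype.ext h1.symm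

theorem gw_eq_of_code {w w' : List ℕ} (h : codeW w = codeW w') : gw w = gw w' := by
  apply hcode_injective
  rw [← codeW_eq, ← codeW_eq, h]

end

end Cfsg.Agent.Lib.Helper10.SuzO
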