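import Cfsg.Agent.Lib.Helper10.SuzOCentChk

set_option autoImplicit false
set_option maxRecDepth 100000

/-!
The centraliser of the first generator of the Suzuki group on 1782 points has order at least
3317760: a chain of stabilisers with orbits of 1728, 640 and 3 points.
-/

namespace Cfsg.Agent.Lib.Helper10.SuzO
open Cfsg.Agent.Lib.Helper28.TC2Upper Cfsg.Agent.Lib.Helper28.TC2Lower Cfsg.Agent.Lib.Helper28.TC2Orbit
open Cfsg.Agent.Lib.Helper28.TC2Range Cfsg.Agent.Lib.Helper28.TC2Bsgs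

noncomputable section

/-- the permutations of the group commuting with the first generator -/
def ΓC : Subgroup (Equiv.Perm (Fin XT.n)) :=
  Subgroup.centralizer ({gwp [0]} : Set (Equiv.Perm (Fin XT.n))) ⊓ G

theorem σ_mem_ΓC {l : ℕ} (hl : l ∈ AC0) : σ l ∈ ΓC := by
  have hlt : l < 43 := by
    have := (hAC0 l hl).1
    exact this
  refine Subgroup.mem_inf.mpr ⟨?_, σ_mem l hlt⟩
  rw [Subgroup.mem_centralizer_iff]
  intro y hy
  rw [Set.mem_singleton_iff] at hy
  subst hy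
  have h0 := commC
  rw [List.all_eq_true] at h0
  have h1 := (sigEq_iff _ _).mp (h0 l hl)
  rw [gw_append, gw_append] at h1
  have h2 : gwp [l] * gwp [0] = gwp [0] * gwp [l] := congrArg Subtype.val h1
  rw [gwp_singleton l, nl_of_lt hlt] at h2
  exact h2.symm

theorem mem_AC0_of_AC1 {l : ℕ} (hl : l ∈ AC1) : l ∈ AC0 := by
  have h := subC.1
  rw [List.all_eq_true] at h
  exact of_decide_eq_true (h l hl)

theorem mem_AC0_of_AC2 {l : ℕ} (hl : l ∈ AC2) : l ∈ AC0 := by
  have h := subC.2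
  rw [List.all_eq_true] at h
  exact of_decide_eq_true (h l hl)

/-- one level of the chain -/
theorem level_boundC (bs : List ℕ) (A : List ℕ) (O : OrbData) (b s : ℕ)
    (hb : O.roots.look 1 = b) (hr : b < XT.n) (hcnt : O.count XT.n 1 = s)
    (hA : ∀ l ∈ A, l < XT.k ∧ σ l ∈ ΓC ∧ ∀ q ∈ bs, XT.tau l q = q)
    (hgens : BT.All (fun s => s ∈ A.map fun l => [l]) O.gens)
    (hconn : ∀ p, p < XT.n → O.oid p = 1 →
      (O.depth p = 0 ∧ O.roots.look 1 = p) ∨
      (O.depth p ≠ 0 ∧ O.parent p < XT.n ∧ O.oid (O.parent p) = 1 ∧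
        O.depth (O.parent p) + 1 = O.depth p ∧ XT.walkT (O.gens.look (O.gen p)) (O.parent p) = p)) :
    s * Nat.card (pstab ΓC (toFin XT.n (b :: bs))) ≤ Nat.card (pstab ΓC (toFin XT.n bs)) := by
  subst hb
  subst hcnt
  rw [toFin_cons hr]
  apply level_bound hXT ΓC (toFin XT.n bs) A O 1 hr _ hgens hconn
  intro l hl
  exact ⟨(hA l hl).1, (hA l hl).2.1, fun q hq => (hA l hl).2.2 q.val (val_mem_of_mem_toFin hq)⟩

theorem hconnC0 : ∀ p, p < XT.n → orbC0.oid p = 1 →
    (orbC0.depth p = 0 ∧ orbC0.roots.look 1 = p) ∨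
    (orbC0.depth p ≠ 0 ∧ orbC0.parent p < XT.n ∧ orbC0.oid (orbC0.parent p) = 1 ∧
      orbC0.depth (orbC0.parent p) + 1 = orbC0.depth p ∧
      XT.walkT (orbC0.gens.look (orbC0.gen p)) (orbC0.parent p) = p) := by
  intro p hp
  have hp' : p < 1782 := hp
  exact (OrbData.connOKc_iff orbC0 XT 1 0 1782).mp connC0 p (by omega) (by omega)

theorem hconnC1 : ∀ p, p < XT.n → orbC1.oid p = 1 →
    (orbC1.depth p = 0 ∧ orbC1.roots.look 1 = p) ∨
    (orbC1.depth p ≠ 0 ∧ orbC1.parent p < XT.n ∧ orbC1.oid (orbC1.parent p) = 1 ∧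
      orbC1.depth (orbC1.parent p) + 1 = orbC1.depth p ∧
      XT.walkT (orbC1.gens.look (orbC1.gen p)) (orbC1.parent p) = p) := by
  intro p hp
  have hp' : p < 1782 := hp
  exact (OrbData.connOKc_iff orbC1 XT 1 0 1782).mp connC1 p (by omega) (by omega)

theorem hconnC2 : ∀ p, p < XT.n → orbC2.oid p = 1 →
    (orbC2.depth p = 0 ∧ orbC2.roots.look 1 = p) ∨
    (orbC2.depth p ≠ 0 ∧ orbC2.parent p < XT.n ∧ orbC2.oid (orbC2.parent p) = 1 ∧
      orbC2.depth (orbC2.parent p) + 1 = orbC2.depth p ∧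
      XT.walkT (orbC2.gens.look (orbC2.gen p)) (orbC2.parent p) = p) := by
  intro p hp
  have hp' : p < 1782 := hp
  exact (OrbData.connOKc_iff orbC2 XT 1 0 1782).mp connC2 p (by omega) (by omega)

theorem levC0 : 1728 * Nat.card (pstab ΓC (toFin XT.n [2])) ≤ Nat.card (pstab ΓC (toFin XT.n [])) :=
  level_boundC [] AC0 orbC0 2 1728 rfl (by decide) cntC0
    (fun l hl => ⟨(hAC0 l hl).1, σ_mem_ΓC hl, (hAC0 l hl).2⟩)
    (BT.All_of_all (fun _ h => of_decide_eq_true h) _ hgensC0) hconnC0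

theorem levC1 : 640 * Nat.card (pstab ΓC (toFin XT.n [106, 2])) ≤
    Nat.card (pstab ΓC (toFin XT.n [2])) :=
  level_boundC [2] AC1 orbC1 106 640 rfl (by decide) cntC1
    (fun l hl => ⟨(hAC1 l hl).1, σ_mem_ΓC (mem_AC0_of_AC1 hl), (hAC1 l hl).2⟩)
    (BT.All_of_all (fun _ h => of_decide_eq_true h) _ hgensC1) hconnC1

theorem levC2 : 3 * Nat.card (pstab ΓC (toFin XT.n [14, 106, 2])) ≤
    Nat.card (pstab ΓC (toFin XT.n [106, 2])) :=
  level_boundC [106, 2] AC2 orbC2 14 3 rfl (by decide) cntC2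
    (fun l hl => ⟨(hAC2 l hl).1, σ_mem_ΓC (mem_AC0_of_AC2 hl), (hAC2 l hl).2⟩)
    (BT.All_of_all (fun _ h => of_decide_eq_true h) _ hgensC2) hconnC2

theorem card_ΓC : 3317760 ≤ Nat.card ↥ΓC := by
  have h : 1728 * (640 * (3 * 1)) ≤ Nat.card (pstab ΓC (toFin XT.n [])) :=
    chain_stepN levC0 (chain_stepN levC1 (chain_stepN levC2 (one_le_card _ _)))
  exact h

/-- the order of the centraliser of the first generator -/
theorem card_centralizer_ge : 3317760 ≤ Nat.card ↥(Subgroup.centralizer ({gw [0]} : Set ↥G)) := by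
  have hmap : (Subgroup.centralizer ({gw [0]} : Set ↥G)).map G.subtype = ΓC := by
    ext x
    constructor
    · rintro ⟨g, hg, rfl⟩
      refine Subgroup.mem_inf.mpr ⟨?_, g.2⟩
      rw [Subgroup.mem_centralizer_iff]
      intro y hy
      rw [Set.mem_singleton_iff] at hy
      subst hy
      have := Subgroup.mem_centralizer_iff.mp hg (gw [0]) rfl
      exact congrArg Subtype.val this
    · intro hx
      obtain ⟨hc, hG⟩ := Subgroup.mem_inf.mp hx
      refine ⟨⟨x, hG⟩, ?_, rfl⟩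
      rw [SetLike.mem_coe, Subgroup.mem_centralizer_iff]
      intro y hy
      rw [Set.mem_singleton_iff] at hy
      subst hy
      apply Subtype.ext
      exact Subgroup.mem_centralizer_iff.mp hc (gwp [0]) rfl
  rw [← Subgroup.card_map_of_injective (Subgroup.subtype_injective G), hmap]
  exact card_ΓC

end

end Cfsg.Agent.Lib.Helper10.SuzO
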