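import Cfsg.Agent.Lib.Helper10.SuzOBasic
import Cfsg.Agent.Lib.Helper10.SuzOCentData
set_option autoImplicit false
set_option maxRecDepth 100000
set_option maxHeartbeats 0

/-! Generated checks for the centraliser of the first generator of the Suzuki group on 1782 points. -/

namespace Cfsg.Agent.Lib.Helper10.SuzO
open Cfsg.Agent.Lib.Helper28.TC2Upper Cfsg.Agent.Lib.Helper28.TC2Lower Cfsg.Agent.Lib.Helper28.TC2Orbit
open Cfsg.Agent.Lib.Helper28.TC2Range Cfsg.Agent.Lib.Helper28.TC2Bsgs

theorem connC0 : OrbData.connOKc orbC0 XT 1 0 1782 = true := by decide +kernel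
theorem cntC0 : orbC0.count 1782 1 = 1728 := by decide +kernel
theorem hgensC0 : BT.all (fun s => decide (s ∈ AC0.map fun l => [l])) orbC0.gens = true := by decide +kernel
theorem hAC0 : ∀ l ∈ AC0, l < XT.k ∧ ∀ q ∈ ([] : List ℕ), XT.tau l q = q := by decide +kernel

theorem connC1 : OrbData.connOKc orbC1 XT 1 0 1782 = true := by decide +kernel
theorem cntC1 : orbC1.count 1782 1 = 640 := by decide +kernel
theorem hgensC1 : BT.all (fun s => decide (s ∈ AC1.map fun l => [l])) orbC1.gens = true := by decide +kernel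
theorem hAC1 : ∀ l ∈ AC1, l < XT.k ∧ ∀ q ∈ ([2] : List ℕ), XT.tau l q = q := by decide +kernel

theorem connC2 : OrbData.connOKc orbC2 XT 1 0 1782 = true := by decide +kernel
theorem cntC2 : orbC2.count 1782 1 = 3 := by decide +kernel
theorem hgensC2 : BT.all (fun s => decide (s ∈ AC2.map fun l => [l])) orbC2.gens = true := by decide +kernel
theorem hAC2 : ∀ l ∈ AC2, l < XT.k ∧ ∀ q ∈ ([106, 2] : List ℕ), XT.tau l q = q := by decide +kernel

theorem commC : (AC0.all fun l => sigEq ([0] ++ [l]) ([l] ++ [0])) = true := by decide +kernel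

theorem subC : (AC1.all fun l => decide (l ∈ AC0)) = true ∧ (AC2.all fun l => decide (l ∈ AC0)) = true := by decide +kernel

end Cfsg.Agent.Lib.Helper10.SuzO
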