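import Cfsg.Agent.Lib.Helper10.SuzOClsDef

set_option autoImplicit false
set_option maxRecDepth 100000
set_option maxHeartbeats 0

/-! Generated checks for the conjugates of the first generator of the Suzuki group on 1782 points. -/

namespace Cfsg.Agent.Lib.Helper10.SuzO
open Cfsg.Agent.Lib.Helper28.TC2Upper Cfsg.Agent.Lib.Helper28.TC2Lower

noncomputable section

theorem chkA_0 : rangeOK clsF (0 * 1001) 1001 = true := by
  decide +kernel

theorem chkA_1 : rangeOK clsF (1 * 1001) 1001 = true := by
  decide +kernel

theorem chkA_2 : rangeOK clsF (2 * 1001) 1001 = true := by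
  decide +kernel

theorem chkA_3 : rangeOK clsF (3 * 1001) 1001 = true := by
  decide +kernel

theorem chkA_4 : rangeOK clsF (4 * 1001) 1001 = true := by
  decide +kernel

theorem chkA_5 : rangeOK clsF (5 * 1001) 1001 = true := by
  decide +kernel

theorem chkA_6 : rangeOK clsF (6 * 1001) 1001 = true := by
  decide +kernel

theorem chkA_7 : rangeOK clsF (7 * 1001) 1001 = true := by
  decide +kernel

theorem chkA_8 : rangeOK clsF (8 * 1001) 1001 = true := by
  decide +kernel

theorem chkAIncr : rangeOK clsIncrF 0 135134 = true := by
  decide +kernel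

end

end Cfsg.Agent.Lib.Helper10.SuzO
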