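import Cfsg.Agent.Lib.Helper10.SuzOClsDef
import Cfsg.Agent.Lib.Helper10.SuzOClsChk0

set_option autoImplicit false
set_option maxRecDepth 100000
set_option maxHeartbeats 0

/-! Generated checks for the conjugates of the first generator of the Suzuki group on 1782 points. -/

namespace Cfsg.Agent.Lib.Helper10.SuzO
open Cfsg.Agent.Lib.Helper28.TC2Upper Cfsg.Agent.Lib.Helper28.TC2Lower

noncomputable section

theorem chkA_9 : rangeOK clsF (9 * 1001) 1001 = true := by
  decide +kernel

theorem chkA_10 : rangeOK clsF (10 * 1001) 1001 = true := by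
  decide +kernel

theorem chkA_11 : rangeOK clsF (11 * 1001) 1001 = true := by
  decide +kernel

theorem chkA_12 : rangeOK clsF (12 * 1001) 1001 = true := by
  decide +kernel

theorem chkA_13 : rangeOK clsF (13 * 1001) 1001 = true := by
  decide +kernel

theorem chkA_14 : rangeOK clsF (14 * 1001) 1001 = true := by
  decide +kernel

theorem chkA_15 : rangeOK clsF (15 * 1001) 1001 = true := by
  decide +kernel

theorem chkA_16 : rangeOK clsF (16 * 1001) 1001 = true := by
  decide +kernel

theorem chkA_17 : rangeOK clsF (17 * 1001) 1001 = true := by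
  decide +kernel

end

end Cfsg.Agent.Lib.Helper10.SuzO
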