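import Cfsg.Agent.Lib.Helper10.SuzOClsDef

set_option autoImplicit false
set_option maxRecDepth 100000
set_option maxHeartbeats 0

/-! Generated checks for the conjugates of the first generator of the Suzuki group on 1782 points. -/

namespace Cfsg.Agent.Lib.Helper10.SuzO
open Cfsg.Agent.Lib.Helper28.TC2Upper Cfsg.Agent.Lib.Helper28.TC2Lower

noncomputable section

theorem chkA_90 : rangeOK clsF (90 * 1001) 1001 = true := by
  decide +kernel

theorem chkA_91 : rangeOK clsF (91 * 1001) 1001 = true := by
  decide +kernel

theorem chkA_92 : rangeOK clsF (92 * 1001) 1001 = true := by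
  decide +kernel

theorem chkA_93 : rangeOK clsF (93 * 1001) 1001 = true := by
  decide +kernel

theorem chkA_94 : rangeOK clsF (94 * 1001) 1001 = true := by
  decide +kernel

theorem chkA_95 : rangeOK clsF (95 * 1001) 1001 = true := by
  decide +kernel

theorem chkA_96 : rangeOK clsF (96 * 1001) 1001 = true := by
  decide +kernel

theorem chkA_97 : rangeOK clsF (97 * 1001) 1001 = true := by
  decide +kernel

theorem chkA_98 : rangeOK clsF (98 * 1001) 1001 = true := by
  decide +kernel

end

end Cfsg.Agent.Lib.Helper10.SuzO
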