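import Cfsg.Agent.Lib.Helper10.SuzOClsDef
import Cfsg.Agent.Lib.Helper10.SuzOClsChk10

set_option autoImplicit false
set_option maxRecDepth 100000
set_option maxHeartbeats 0

/-! Generated checks for the conjugates of the first generator of the Suzuki group on 1782 points. -/

namespace Cfsg.Agent.Lib.Helper10.SuzO
open Cfsg.Agent.Lib.Helper28.TC2Upper Cfsg.Agent.Lib.Helper28.TC2Lower

noncomputable section

theorem chkA_99 : rangeOK clsF (99 * 1001) 1001 = true := by
  decide +kernel

theorem chkA_100 : rangeOK clsF (100 * 1001) 1001 = true := by
  decide +kernel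

theorem chkA_101 : rangeOK clsF (101 * 1001) 1001 = true := by
  decide +kernel

theorem chkA_102 : rangeOK clsF (102 * 1001) 1001 = true := by
  decide +kernel

theorem chkA_103 : rangeOK clsF (103 * 1001) 1001 = true := by
  decide +kernel

theorem chkA_104 : rangeOK clsF (104 * 1001) 1001 = true := by
  decide +kernel

theorem chkA_105 : rangeOK clsF (105 * 1001) 1001 = true := by
  decide +kernel

theorem chkA_106 : rangeOK clsF (106 * 1001) 1001 = true := by
  decide +kernel

theorem chkA_107 : rangeOK clsF (107 * 1001) 1001 = true := by
  decide +kernel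

end

end Cfsg.Agent.Lib.Helper10.SuzO
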