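import Cfsg.Agent.Lib.Helper10.SuzOClsDef
import Cfsg.Agent.Lib.Helper10.SuzOClsChk11

set_option autoImplicit false
set_option maxRecDepth 100000
set_option maxHeartbeats 0

/-! Generated checks for the conjugates of the first generator of the Suzuki group on 1782 points. -/

namespace Cfsg.Agent.Lib.Helper10.SuzO
open Cfsg.Agent.Lib.Helper28.TC2Upper Cfsg.Agent.Lib.Helper28.TC2Lower

noncomputable section

theorem chkA_108 : rangeOK clsF (108 * 1001) 1001 = true := by
  decide +kernel

theorem chkA_109 : rangeOK clsF (109 * 1001) 1001 = true := by
  decide +kernel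

theorem chkA_110 : rangeOK clsF (110 * 1001) 1001 = true := by
  decide +kernel

theorem chkA_111 : rangeOK clsF (111 * 1001) 1001 = true := by
  decide +kernel

theorem chkA_112 : rangeOK clsF (112 * 1001) 1001 = true := by
  decide +kernel

theorem chkA_113 : rangeOK clsF (113 * 1001) 1001 = true := by
  decide +kernel

theorem chkA_114 : rangeOK clsF (114 * 1001) 1001 = true := by
  decide +kernel

theorem chkA_115 : rangeOK clsF (115 * 1001) 1001 = true := by
  decide +kernel

theorem chkA_116 : rangeOK clsF (116 * 1001) 1001 = true := by
  decide +kernel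

end

end Cfsg.Agent.Lib.Helper10.SuzO
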