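import Cfsg.Agent.Lib.Helper10.SuzOClsDef
import Cfsg.Agent.Lib.Helper10.SuzOClsChk12

set_option autoImplicit false
set_option maxRecDepth 100000
set_option maxHeartbeats 0

/-! Generated checks for the conjugates of the first generator of the Suzuki group on 1782 points. -/

namespace Cfsg.Agent.Lib.Helper10.SuzO
open Cfsg.Agent.Lib.Helper28.TC2Upper Cfsg.Agent.Lib.Helper28.TC2Lower

noncomputable section

theorem chkA_117 : rangeOK clsF (117 * 1001) 1001 = true := by
  decide +kernel

theorem chkA_118 : rangeOK clsF (118 * 1001) 1001 = true := by
  decide +kernel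

theorem chkA_119 : rangeOK clsF (119 * 1001) 1001 = true := by
  decide +kernel

theorem chkA_120 : rangeOK clsF (120 * 1001) 1001 = true := by
  decide +kernel

theorem chkA_121 : rangeOK clsF (121 * 1001) 1001 = true := by
  decide +kernel

theorem chkA_122 : rangeOK clsF (122 * 1001) 1001 = true := by
  decide +kernel

theorem chkA_123 : rangeOK clsF (123 * 1001) 1001 = true := by
  decide +kernel

theorem chkA_124 : rangeOK clsF (124 * 1001) 1001 = true := by
  decide +kernel

theorem chkA_125 : rangeOK clsF (125 * 1001) 1001 = true := by
  decide +kernel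

end

end Cfsg.Agent.Lib.Helper10.SuzO
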