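import Cfsg.Agent.Lib.Helper10.SuzOClsDef
import Cfsg.Agent.Lib.Helper10.SuzOClsChk13

set_option autoImplicit false
set_option maxRecDepth 100000
set_option maxHeartbeats 0

/-! Generated checks for the conjugates of the first generator of the Suzuki group on 1782 points. -/

namespace Cfsg.Agent.Lib.Helper10.SuzO
open Cfsg.Agent.Lib.Helper28.TC2Upper Cfsg.Agent.Lib.Helper28.TC2Lower

noncomputable section

theorem chkA_126 : rangeOK clsF (126 * 1001) 1001 = true := by
  decide +kernel

theorem chkA_127 : rangeOK clsF (127 * 1001) 1001 = true := by
  decide +kernel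

theorem chkA_128 : rangeOK clsF (128 * 1001) 1001 = true := by
  decide +kernel

theorem chkA_129 : rangeOK clsF (129 * 1001) 1001 = true := by
  decide +kernel

theorem chkA_130 : rangeOK clsF (130 * 1001) 1001 = true := by
  decide +kernel

theorem chkA_131 : rangeOK clsF (131 * 1001) 1001 = true := by
  decide +kernel

theorem chkA_132 : rangeOK clsF (132 * 1001) 1001 = true := by
  decide +kernel

theorem chkA_133 : rangeOK clsF (133 * 1001) 1001 = true := by
  decide +kernel

theorem chkA_134 : rangeOK clsF (134 * 1001) 1001 = true := by
  decide +kernel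

end

end Cfsg.Agent.Lib.Helper10.SuzO
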