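import Cfsg.Agent.Lib.Helper10.SuzOClsDef
import Cfsg.Agent.Lib.Helper10.SuzOClsChk1

set_option autoImplicit false
set_option maxRecDepth 100000
set_option maxHeartbeats 0

/-! Generated checks for the conjugates of the first generator of the Suzuki group on 1782 points. -/

namespace Cfsg.Agent.Lib.Helper10.SuzO
open Cfsg.Agent.Lib.Helper28.TC2Upper Cfsg.Agent.Lib.Helper28.TC2Lower

noncomputable section

theorem chkA_18 : rangeOK clsF (18 * 1001) 1001 = true := by
  decide +kernel

theorem chkA_19 : rangeOK clsF (19 * 1001) 1001 = true := by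
  decide +kernel

theorem chkA_20 : rangeOK clsF (20 * 1001) 1001 = true := by
  decide +kernel

theorem chkA_21 : rangeOK clsF (21 * 1001) 1001 = true := by
  decide +kernel

theorem chkA_22 : rangeOK clsF (22 * 1001) 1001 = true := by
  decide +kernel

theorem chkA_23 : rangeOK clsF (23 * 1001) 1001 = true := by
  decide +kernel

theorem chkA_24 : rangeOK clsF (24 * 1001) 1001 = true := by
  decide +kernel

theorem chkA_25 : rangeOK clsF (25 * 1001) 1001 = true := by
  decide +kernel

theorem chkA_26 : rangeOK clsF (26 * 1001) 1001 = true := by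
  decide +kernel

end

end Cfsg.Agent.Lib.Helper10.SuzO
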