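import Cfsg.Agent.Lib.Helper10.SuzOClsDef
import Cfsg.Agent.Lib.Helper10.SuzOClsChk2

set_option autoImplicit false
set_option maxRecDepth 100000
set_option maxHeartbeats 0

/-! Generated checks for the conjugates of the first generator of the Suzuki group on 1782 points. -/

namespace Cfsg.Agent.Lib.Helper10.SuzO
open Cfsg.Agent.Lib.Helper28.TC2Upper Cfsg.Agent.Lib.Helper28.TC2Lower

noncomputable section

theorem chkA_27 : rangeOK clsF (27 * 1001) 1001 = true := by
  decide +kernel

theorem chkA_28 : rangeOK clsF (28 * 1001) 1001 = true := by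
  decide +kernel

theorem chkA_29 : rangeOK clsF (29 * 1001) 1001 = true := by
  decide +kernel

theorem chkA_30 : rangeOK clsF (30 * 1001) 1001 = true := by
  decide +kernel

theorem chkA_31 : rangeOK clsF (31 * 1001) 1001 = true := by
  decide +kernel

theorem chkA_32 : rangeOK clsF (32 * 1001) 1001 = true := by
  decide +kernel

theorem chkA_33 : rangeOK clsF (33 * 1001) 1001 = true := by
  decide +kernel

theorem chkA_34 : rangeOK clsF (34 * 1001) 1001 = true := by
  decide +kernel

theorem chkA_35 : rangeOK clsF (35 * 1001) 1001 = true := by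
  decide +kernel

end

end Cfsg.Agent.Lib.Helper10.SuzO
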