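import Cfsg.Agent.Lib.Helper10.SuzOClsDef
import Cfsg.Agent.Lib.Helper10.SuzOClsChk3

set_option autoImplicit false
set_option maxRecDepth 100000
set_option maxHeartbeats 0

/-! Generated checks for the conjugates of the first generator of the Suzuki group on 1782 points. -/

namespace Cfsg.Agent.Lib.Helper10.SuzO
open Cfsg.Agent.Lib.Helper28.TC2Upper Cfsg.Agent.Lib.Helper28.TC2Lower

noncomputable section

theorem chkA_36 : rangeOK clsF (36 * 1001) 1001 = true := by
  decide +kernel

theorem chkA_37 : rangeOK clsF (37 * 1001) 1001 = true := by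
  decide +kernel

theorem chkA_38 : rangeOK clsF (38 * 1001) 1001 = true := by
  decide +kernel

theorem chkA_39 : rangeOK clsF (39 * 1001) 1001 = true := by
  decide +kernel

theorem chkA_40 : rangeOK clsF (40 * 1001) 1001 = true := by
  decide +kernel

theorem chkA_41 : rangeOK clsF (41 * 1001) 1001 = true := by
  decide +kernel

theorem chkA_42 : rangeOK clsF (42 * 1001) 1001 = true := by
  decide +kernel

theorem chkA_43 : rangeOK clsF (43 * 1001) 1001 = true := by
  decide +kernel

theorem chkA_44 : rangeOK clsF (44 * 1001) 1001 = true := by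
  decide +kernel

end

end Cfsg.Agent.Lib.Helper10.SuzO
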