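import Cfsg.Agent.Lib.Helper10.SuzOClsDef

set_option autoImplicit false
set_option maxRecDepth 100000
set_option maxHeartbeats 0

/-! Generated checks for the conjugates of the first generator of the Suzuki group on 1782 points. -/

namespace Cfsg.Agent.Lib.Helper10.SuzO
open Cfsg.Agent.Lib.Helper28.TC2Upper Cfsg.Agent.Lib.Helper28.TC2Lower

noncomputable section

theorem chkA_45 : rangeOK clsF (45 * 1001) 1001 = true := by
  decide +kernel

theorem chkA_46 : rangeOK clsF (46 * 1001) 1001 = true := by
  decide +kernel

theorem chkA_47 : rangeOK clsF (47 * 1001) 1001 = true := by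
  decide +kernel

theorem chkA_48 : rangeOK clsF (48 * 1001) 1001 = true := by
  decide +kernel

theorem chkA_49 : rangeOK clsF (49 * 1001) 1001 = true := by
  decide +kernel

theorem chkA_50 : rangeOK clsF (50 * 1001) 1001 = true := by
  decide +kernel

theorem chkA_51 : rangeOK clsF (51 * 1001) 1001 = true := by
  decide +kernel

theorem chkA_52 : rangeOK clsF (52 * 1001) 1001 = true := by
  decide +kernel

theorem chkA_53 : rangeOK clsF (53 * 1001) 1001 = true := by
  decide +kernel

end

end Cfsg.Agent.Lib.Helper10.SuzO
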