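import Cfsg.Agent.Lib.Helper10.SuzOClsDef
import Cfsg.Agent.Lib.Helper10.SuzOClsChk5

set_option autoImplicit false
set_option maxRecDepth 100000
set_option maxHeartbeats 0

/-! Generated checks for the conjugates of the first generator of the Suzuki group on 1782 points. -/

namespace Cfsg.Agent.Lib.Helper10.SuzO
open Cfsg.Agent.Lib.Helper28.TC2Upper Cfsg.Agent.Lib.Helper28.TC2Lower

noncomputable section

theorem chkA_54 : rangeOK clsF (54 * 1001) 1001 = true := by
  decide +kernel

theorem chkA_55 : rangeOK clsF (55 * 1001) 1001 = true := by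
  decide +kernel

theorem chkA_56 : rangeOK clsF (56 * 1001) 1001 = true := by
  decide +kernel

theorem chkA_57 : rangeOK clsF (57 * 1001) 1001 = true := by
  decide +kernel

theorem chkA_58 : rangeOK clsF (58 * 1001) 1001 = true := by
  decide +kernel

theorem chkA_59 : rangeOK clsF (59 * 1001) 1001 = true := by
  decide +kernel

theorem chkA_60 : rangeOK clsF (60 * 1001) 1001 = true := by
  decide +kernel

theorem chkA_61 : rangeOK clsF (61 * 1001) 1001 = true := by
  decide +kernel

theorem chkA_62 : rangeOK clsF (62 * 1001) 1001 = true := by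
  decide +kernel

end

end Cfsg.Agent.Lib.Helper10.SuzO
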