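import Cfsg.Agent.Lib.Helper10.SuzOClsDef
import Cfsg.Agent.Lib.Helper10.SuzOClsChk6

set_option autoImplicit false
set_option maxRecDepth 100000
set_option maxHeartbeats 0

/-! Generated checks for the conjugates of the first generator of the Suzuki group on 1782 points. -/

namespace Cfsg.Agent.Lib.Helper10.SuzO
open Cfsg.Agent.Lib.Helper28.TC2Upper Cfsg.Agent.Lib.Helper28.TC2Lower

noncomputable section

theorem chkA_63 : rangeOK clsF (63 * 1001) 1001 = true := by
  decide +kernel

theorem chkA_64 : rangeOK clsF (64 * 1001) 1001 = true := by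
  decide +kernel

theorem chkA_65 : rangeOK clsF (65 * 1001) 1001 = true := by
  decide +kernel

theorem chkA_66 : rangeOK clsF (66 * 1001) 1001 = true := by
  decide +kernel

theorem chkA_67 : rangeOK clsF (67 * 1001) 1001 = true := by
  decide +kernel

theorem chkA_68 : rangeOK clsF (68 * 1001) 1001 = true := by
  decide +kernel

theorem chkA_69 : rangeOK clsF (69 * 1001) 1001 = true := by
  decide +kernel

theorem chkA_70 : rangeOK clsF (70 * 1001) 1001 = true := by
  decide +kernel

theorem chkA_71 : rangeOK clsF (71 * 1001) 1001 = true := by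
  decide +kernel

end

end Cfsg.Agent.Lib.Helper10.SuzO
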