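import Cfsg.Agent.Lib.Helper10.SuzOClsDef
import Cfsg.Agent.Lib.Helper10.SuzOClsChk7

set_option autoImplicit false
set_option maxRecDepth 100000
set_option maxHeartbeats 0

/-! Generated checks for the conjugates of the first generator of the Suzuki group on 1782 points. -/

namespace Cfsg.Agent.Lib.Helper10.SuzO
open Cfsg.Agent.Lib.Helper28.TC2Upper Cfsg.Agent.Lib.Helper28.TC2Lower

noncomputable section

theorem chkA_72 : rangeOK clsF (72 * 1001) 1001 = true := by
  decide +kernel

theorem chkA_73 : rangeOK clsF (73 * 1001) 1001 = true := by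
  decide +kernel

theorem chkA_74 : rangeOK clsF (74 * 1001) 1001 = true := by
  decide +kernel

theorem chkA_75 : rangeOK clsF (75 * 1001) 1001 = true := by
  decide +kernel

theorem chkA_76 : rangeOK clsF (76 * 1001) 1001 = true := by
  decide +kernel

theorem chkA_77 : rangeOK clsF (77 * 1001) 1001 = true := by
  decide +kernel

theorem chkA_78 : rangeOK clsF (78 * 1001) 1001 = true := by
  decide +kernel

theorem chkA_79 : rangeOK clsF (79 * 1001) 1001 = true := by
  decide +kernel

theorem chkA_80 : rangeOK clsF (80 * 1001) 1001 = true := by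
  decide +kernel

end

end Cfsg.Agent.Lib.Helper10.SuzO
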