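import Cfsg.Agent.Lib.Helper10.SuzOClsDef
import Cfsg.Agent.Lib.Helper10.SuzOClsChk8

set_option autoImplicit false
set_option maxRecDepth 100000
set_option maxHeartbeats 0

/-! Generated checks for the conjugates of the first generator of the Suzuki group on 1782 points. -/

namespace Cfsg.Agent.Lib.Helper10.SuzO
open Cfsg.Agent.Lib.Helper28.TC2Upper Cfsg.Agent.Lib.Helper28.TC2Lower

noncomputable section

theorem chkA_81 : rangeOK clsF (81 * 1001) 1001 = true := by
  decide +kernel

theorem chkA_82 : rangeOK clsF (82 * 1001) 1001 = true := by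
  decide +kernel

theorem chkA_83 : rangeOK clsF (83 * 1001) 1001 = true := by
  decide +kernel

theorem chkA_84 : rangeOK clsF (84 * 1001) 1001 = true := by
  decide +kernel

theorem chkA_85 : rangeOK clsF (85 * 1001) 1001 = true := by
  decide +kernel

theorem chkA_86 : rangeOK clsF (86 * 1001) 1001 = true := by
  decide +kernel

theorem chkA_87 : rangeOK clsF (87 * 1001) 1001 = true := by
  decide +kernel

theorem chkA_88 : rangeOK clsF (88 * 1001) 1001 = true := by
  decide +kernel

theorem chkA_89 : rangeOK clsF (89 * 1001) 1001 = true := by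
  decide +kernel

end

end Cfsg.Agent.Lib.Helper10.SuzO
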