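import Cfsg.Agent.Lib.Helper10.SuzOClsChk0
import Cfsg.Agent.Lib.Helper10.SuzOClsChk1
import Cfsg.Agent.Lib.Helper10.SuzOClsChk2
import Cfsg.Agent.Lib.Helper10.SuzOClsChk3
import Cfsg.Agent.Lib.Helper10.SuzOClsChk4
import Cfsg.Agent.Lib.Helper10.SuzOClsChk5
import Cfsg.Agent.Lib.Helper10.SuzOClsChk6
import Cfsg.Agent.Lib.Helper10.SuzOClsChk7
import Cfsg.Agent.Lib.Helper10.SuzOClsChk8
import Cfsg.Agent.Lib.Helper10.SuzOClsChk9
import Cfsg.Agent.Lib.Helper10.SuzOClsChk10
import Cfsg.Agent.Lib.Helper10.SuzOClsChk11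
import Cfsg.Agent.Lib.Helper10.SuzOClsChk12
import Cfsg.Agent.Lib.Helper10.SuzOClsChk13
import Cfsg.Agent.Lib.Helper10.SuzOClsChk14

set_option autoImplicit false
set_option maxRecDepth 100000

/-!
The checks for the conjugates of the first generator of the Suzuki group on 1782 points, put
together.
-/

namespace Cfsg.Agent.Lib.Helper10.SuzO
open Cfsg.Agent.Lib.Helper28.TC2Upper Cfsg.Agent.Lib.Helper28.TC2Lower

noncomputable section

theorem clsF_all (i : ℕ) (hi : i < 135135) : clsF i = true := by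
  refine all_of_chunks clsF 1001 135 (by norm_num) ?_ i (by norm_num; exact hi)
  intro c hc
  interval_cases c
  exacts [chkA_0, chkA_1, chkA_2, chkA_3, chkA_4, chkA_5, chkA_6, chkA_7, chkA_8, chkA_9, chkA_10,
    chkA_11, chkA_12, chkA_13, chkA_14, chkA_15, chkA_16, chkA_17, chkA_18, chkA_19, chkA_20,
    chkA_21, chkA_22, chkA_23, chkA_24, chkA_25, chkA_26, chkA_27, chkA_28, chkA_29, chkA_30,
    chkA_31, chkA_32, chkA_33, chkA_34, chkA_35, chkA_36, chkA_37, chkA_38, chkA_39, chkA_40,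
    chkA_41, chkA_42, chkA_43, chkA_44, chkA_45, chkA_46, chkA_47, chkA_48, chkA_49, chkA_50,
    chkA_51, chkA_52, chkA_53, chkA_54, chkA_55, chkA_56, chkA_57, chkA_58, chkA_59, chkA_60,
    chkA_61, chkA_62, chkA_63, chkA_64, chkA_65, chkA_66, chkA_67, chkA_68, chkA_69, chkA_70,
    chkA_71, chkA_72, chkA_73, chkA_74, chkA_75, chkA_76, chkA_77, chkA_78, chkA_79, chkA_80,
    chkA_81, chkA_82, chkA_83, chkA_84, chkA_85, chkA_86, chkA_87, chkA_88, chkA_89, chkA_90,
    chkA_91, chkA_92, chkA_93, chkA_94, chkA_95, chkA_96, chkA_97, chkA_98, chkA_99, chkA_100,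
    chkA_101, chkA_102, chkA_103, chkA_104, chkA_105, chkA_106, chkA_107, chkA_108, chkA_109,
    chkA_110, chkA_111, chkA_112, chkA_113, chkA_114, chkA_115, chkA_116, chkA_117, chkA_118,
    chkA_119, chkA_120, chkA_121, chkA_122, chkA_123, chkA_124, chkA_125, chkA_126, chkA_127,
    chkA_128, chkA_129, chkA_130, chkA_131, chkA_132, chkA_133, chkA_134]

theorem clsF_parts {i : ℕ} (hi : i < 135135) :
    codeA (wA i) = CA.get i ∧ (relFailA (cj (wA i) [0]) = true ∨ CA.get i ∈ EXC) := by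
  have h := clsF_all i hi
  unfold clsF at h
  rw [Bool.and_eq_true, Bool.or_eq_true, memB_iff] at h
  exact ⟨Nat.eq_of_beq_eq_true h.1, h.2⟩

theorem CA_step (i : ℕ) (hi : i < 135134) : CA.get i < CA.get (i + 1) := by
  have h := (rangeOK_iff clsIncrF 0 135134).mp chkAIncr i (by omega) (by omega)
  unfold clsIncrF at h
  simpa [Nat.blt] using h

end

end Cfsg.Agent.Lib.Helper10.SuzO
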