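import Cfsg.Agent.Lib.Helper10.SuzOSylDef
import Cfsg.Agent.Lib.Helper10.SuzOClsDataW
import Cfsg.Agent.Lib.Helper10.SuzOClsDataC

set_option autoImplicit false
set_option maxRecDepth 100000

/-!
The conjugates of the first generator of the Suzuki group on 1782 points, given by conjugating
words, with their codes; the relations of the generating pair.
-/

namespace Cfsg.Agent.Lib.Helper10.SuzO
open Cfsg.Agent.Lib.Helper28.TC2Upper Cfsg.Agent.Lib.Helper28.TC2Lower

noncomputable section

/-- the conjugating word with a given index -/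
def wA (i : ℕ) : List ℕ := unpackW 32 7 (WA.get i)

/-- the code of the conjugate of the first generator by the element of a word -/
def codeA (w : List ℕ) : ℕ := codeW (cj w [0])

/-- one of the four relations fails -/
def relFailA (A : List ℕ) : Bool :=
  !(sigEq (rpt 10 (A ++ [33])) []) || (!(sigEq (rpt 11 (A ++ [25])) []) ||
    (!(sigEq (rpt 15 (A ++ [29])) []) || !(sigEq (rpt 20 (A ++ [31])) [])))

/-- the relations of the generating pair -/
def Rel (t y : ↥G) : Prop :=
  (y ^ 5 * t) ^ 10 = 1 ∧ (y * t) ^ 11 = 1 ∧ (y ^ 2 * t) ^ 15 = 1 ∧ (y ^ 3 * t) ^ 20 = 1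

theorem rel_of_not_fail {A : List ℕ} {y : ↥G} (h1 : gw [25] = y) (h2 : gw [29] = y ^ 2)
    (h3 : gw [31] = y ^ 3) (h5 : gw [33] = y ^ 5) (h : relFailA A = false) : Rel (gw A) y := by
  unfold relFailA at h
  simp only [Bool.or_eq_false_iff, Bool.not_eq_false'] at h
  obtain ⟨r5, r1, r2, r3⟩ := h
  rw [sigEq_iff, gw_rpt, gw_append, gw_nil] at r5 r1 r2 r3
  rw [h5] at r5
  rw [h1] at r1
  rw [h2] at r2
  rw [h3] at r3
  exact ⟨r5, r1, r2, r3⟩

theorem not_rel_of_fail {A : List ℕ} {y : ↥G} (h1 : gw [25] = y) (h2 : gw [29] = y ^ 2)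
    (h3 : gw [31] = y ^ 3) (h5 : gw [33] = y ^ 5) (h : relFailA A = true) : ¬ Rel (gw A) y := by
  rintro ⟨r5, r1, r2, r3⟩
  unfold relFailA at h
  have e5 : sigEq (rpt 10 (A ++ [33])) [] = true := by
    rw [sigEq_iff, gw_rpt, gw_append, gw_nil, h5]
    exact r5
  have e1 : sigEq (rpt 11 (A ++ [25])) [] = true := by
    rw [sigEq_iff, gw_rpt, gw_append, gw_nil, h1]
    exact r1
  have e2 : sigEq (rpt 15 (A ++ [29])) [] = true := by
    rw [sigEq_iff, gw_rpt, gw_append, gw_nil, h2]
    exact r2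
  have e3 : sigEq (rpt 20 (A ++ [31])) [] = true := by
    rw [sigEq_iff, gw_rpt, gw_append, gw_nil, h3]
    exact r3
  rw [e5, e1, e2, e3] at h
  simp at h

/-- the relations are preserved by homomorphisms -/
theorem Rel.map {t y : ↥G} (h : Rel t y) (f : ↥G →* ↥G) : Rel (f t) (f y) := by
  obtain ⟨r5, r1, r2, r3⟩ := h
  refine ⟨?_, ?_, ?_, ?_⟩
  · rw [← map_pow f y 5, ← map_mul, ← map_pow, r5, map_one]
  · rw [← map_mul, ← map_pow, r1, map_one]
  · rw [← map_pow f y 2, ← map_mul, ← map_pow, r2, map_one]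
  · rw [← map_pow f y 3, ← map_mul, ← map_pow, r3, map_one]

/-- the checks for an index: the code of the conjugate, and one of the relations fails unless the
code is in the list of the exceptions -/
def clsF (i : ℕ) : Bool :=
  Nat.beq (codeA (wA i)) (CA.get i) && (relFailA (cj (wA i) [0]) || memB (CA.get i) EXC)

/-- the codes increase -/
def clsIncrF (i : ℕ) : Bool := Nat.blt (CA.get i) (CA.get (Nat.succ i))

end

end Cfsg.Agent.Lib.Helper10.SuzO
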