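import Cfsg.Agent.Lib.Helper10.SuzOClsDef
import Cfsg.Agent.Lib.Helper10.SuzOMainData

set_option autoImplicit false
set_option maxRecDepth 100000
set_option maxHeartbeats 0

/-!
Further checks for the Suzuki group on 1782 points: the element of order 11, the element normalising
it, the exceptional conjugates, the generators as words in the generating pair, the involution
inducing the outer automorphism, the action on the points.
-/

namespace Cfsg.Agent.Lib.Helper10.SuzO
open Cfsg.Agent.Lib.Helper28.TC2Upper Cfsg.Agent.Lib.Helper28.TC2Lower

noncomputable section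

/-- equality of lists of numbers -/
def eqL : List ℕ → List ℕ → Bool
  | [], [] => true
  | a :: l, b :: l' => Nat.beq a b && eqL l l'
  | _, _ => false

theorem eq_of_eqL : ∀ {l l' : List ℕ}, eqL l l' = true → l = l'
  | [], [], _ => rfl
  | a :: l, b :: l', h => by
    rw [eqL, Bool.and_eq_true] at h
    rw [Nat.eq_of_beq_eq_true h.1, eq_of_eqL h.2]
  | [], _ :: _, h => by simp [eqL] at h
  | _ :: _, [], h => by simp [eqL] at h

theorem chk_y11 : sigEq (rpt 11 [25]) [] = true := by decide +kernel

theorem chk_y1 : sigEq [25] [] = false := by decide +kernel

theorem chk_yinv : sigEq [25, 26] [] = true := by decide +kernel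

theorem chk_t2 : sigEq [0, 0] [] = true := by decide +kernel

theorem chk_n : sigEq (cj [27] [25]) [25, 25] = true := by decide +kernel

theorem chk_y2 : sigEq [29] (rpt 2 [25]) = true := by decide +kernel

theorem chk_y3 : sigEq [31] (rpt 3 [25]) = true := by decide +kernel

theorem chk_y5 : sigEq [33] (rpt 5 [25]) = true := by decide +kernel

theorem chk_rel : relFailA (cj [] [0]) = false := by decide +kernel

theorem chk_exc : eqL (((List.range 11).map fun i => codeA (rpt i [25])) ++
    ((List.range 11).map fun i => codeA (W2 ++ rpt i [25]))) EXC = true := by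
  decide +kernel

theorem chk_mw : (MWs.all fun p => sigEq [p.1] p.2 && p.2.all fun l => memB l [0, 25, 26]) = true := by
  decide +kernel

theorem chk_mw_letters : MWs.map Prod.fst = [1, 2, 3, 4, 5, 6] := by decide +kernel

/-- the conjugate of the first generator by the outer involution -/
def pTconjA : Bool :=
  allLoop (fun p => Nat.beq (PT.tau 0 (XT.tau 0 (PT.tau 1 p))) (wk (cj W2 [0]) p)) 1782

/-- the conjugate of the element of order 11 by the outer involution -/
def pTconjY : Bool :=
  allLoop (fun p => Nat.beq (PT.tau 0 (XT.tau 25 (PT.tau 1 p))) (XT.tau 25 p)) 1782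

/-- the outer involution is an involution without fixed points -/
def pTinv : Bool :=
  allLoop (fun p => Nat.beq (PT.tau 0 (PT.tau 0 p)) p && !(Nat.beq (PT.tau 0 p) p)) 1782

/-- the word leading from the first point to a point -/
def wT (p : ℕ) : List ℕ := unpackW 32 7 (TW.get p)

/-- the words lead from the first point to the points -/
def trOK : Bool := allLoop (fun p => Nat.beq (wk (wT p) 0) p) 1782

/-- the first point is the only one fixed by the first six generators -/
def fixOK : Bool :=
  allLoop (fun l => Nat.beq (XT.tau l 0) 0) 6 &&
    allLoop (fun p => Nat.beq p 0 || !(allLoop (fun l => Nat.beq (XT.tau l p) p) 6)) 1782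

theorem chk_pTA : pTconjA = true := by decide +kernel

theorem chk_pTY : pTconjY = true := by decide +kernel

theorem chk_pTinv : pTinv = true := by decide +kernel

theorem chk_tr : trOK = true := by decide +kernel

theorem chk_fix : fixOK = true := by decide +kernel

end

end Cfsg.Agent.Lib.Helper10.SuzO
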