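import Cfsg.Agent.Lib.Helper10.SuzOSylDef

set_option autoImplicit false
set_option maxRecDepth 100000
set_option maxHeartbeats 0

/-! Generated checks for a Sylow 2-subgroup of the Suzuki group on 1782 points. -/

namespace Cfsg.Agent.Lib.Helper10.SuzO
open Cfsg.Agent.Lib.Helper28.TC2Upper Cfsg.Agent.Lib.Helper28.TC2Lower

noncomputable section

theorem chkS_8 : rangeOK sylF (8 * 512) 512 = true := by
  decide +kernel

theorem chkS_9 : rangeOK sylF (9 * 512) 512 = true := by
  decide +kernel

theorem chkS_10 : rangeOK sylF (10 * 512) 512 = true := by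
  decide +kernel

theorem chkS_11 : rangeOK sylF (11 * 512) 512 = true := by
  decide +kernel

end

end Cfsg.Agent.Lib.Helper10.SuzO
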