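import Cfsg.Agent.Lib.Helper10.SuzOSylChk0
import Cfsg.Agent.Lib.Helper10.SuzOSylChk1
import Cfsg.Agent.Lib.Helper10.SuzOSylChk2
import Cfsg.Agent.Lib.Helper10.SuzOSylChk3

set_option autoImplicit false
set_option maxRecDepth 100000

/-!
A Sylow 2-subgroup of the Suzuki group on 1782 points: its centre is generated by the first
generator of the presentation, so every automorphism maps the first generator to a conjugate.
-/

namespace Cfsg.Agent.Lib.Helper10.SuzO
open Cfsg.Agent.Lib.Helper28.TC2Upper Cfsg.Agent.Lib.Helper28.TC2Lower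

noncomputable section

theorem sylF_all (i : ℕ) (hi : i < 8192) : sylF i = true := by
  refine all_of_chunks sylF 512 16 (by norm_num) ?_ i (by norm_num; exact hi)
  intro c hc
  interval_cases c
  exacts [chkS_0, chkS_1, chkS_2, chkS_3, chkS_4, chkS_5, chkS_6, chkS_7, chkS_8, chkS_9, chkS_10,
    chkS_11, chkS_12, chkS_13, chkS_14, chkS_15]

theorem sylF_parts {i : ℕ} (hi : i < 8192) :
    sylCodeF i = true ∧ sylLetF i = true ∧ sylTabF i = true ∧ sylCenF i = true := by
  have h := sylF_all i hi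
  unfold sylF at h
  simp only [Bool.and_eq_true] at h
  exact ⟨h.1, h.2.1, h.2.2.1, h.2.2.2⟩

/-! ### the set of the elements of the words -/

theorem code_wdS {i : ℕ} (hi : i < 8192) : codeW (wdS i) = SC.get i :=
  Nat.eq_of_beq_eq_true (sylF_parts hi).1

theorem SC_step (i : ℕ) (hi : i < 8191) : SC.get i < SC.get (i + 1) := by
  have h := (rangeOK_iff sylIncrF 0 8191).mp chkSIncr i (by omega) (by omega)
  unfold sylIncrF at h
  simpa [Nat.blt] using h

theorem wdS_inj {i j : ℕ} (hi : i < 8192) (hj : j < 8192) (h : gw (wdS i) = gw (wdS j)) : i = j := by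
  have hc : SC.get i = SC.get j := by
    rw [← code_wdS hi, ← code_wdS hj, codeW_eq, codeW_eq, h]
  exact inj_of_step SC.get 8191 SC_step i j (by omega) (by omega) hc

/-- the elements of the words -/
def X : Set ↥G := {g | ∃ i, i < 8192 ∧ g = gw (wdS i)}

theorem SOne_lt : SOne < 8192 := by
  have h := chkSOne
  rw [Bool.and_eq_true] at h
  simpa [Nat.blt] using h.1

theorem wdS_one : wdS SOne = [] := by
  have h := chkSOne
  rw [Bool.and_eq_true] at h
  have h2 : SW.get SOne = 0 := Nat.eq_of_beq_eq_true h.2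
  unfold wdS
  rw [h2]
  rfl

theorem one_mem_X : (1 : ↥G) ∈ X := ⟨SOne, SOne_lt, by rw [wdS_one]; rfl⟩

theorem mem_SLs {l : ℕ} (hl : l ∈ SLs) : ∃ k, k < 4 ∧ slS k = l := by
  simp only [SLs, List.mem_cons, List.not_mem_nil, or_false] at hl
  rcases hl with rfl | rfl | rfl | rfl
  exacts [⟨0, by norm_num, rfl⟩, ⟨1, by norm_num, rfl⟩, ⟨2, by norm_num, rfl⟩, ⟨3, by norm_num, rfl⟩]

theorem mul_mem_X {l : ℕ} (hl : l ∈ SLs) {g : ↥G} (hg : g ∈ X) : gw [l] * g ∈ X := by
  obtain ⟨i, hi, rfl⟩ := hg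
  obtain ⟨k, hk, rfl⟩ := mem_SLs hl
  have h := (sylF_parts hi).2.2.1
  unfold sylTabF at h
  rw [allLoop_eq_true] at h
  have h2 := h k hk
  rw [Bool.and_eq_true] at h2
  have hm : mtS i k < 8192 := by simpa [Nat.blt] using h2.1
  refine ⟨mtS i k, hm, ?_⟩
  rw [← gw_append]
  apply gw_eq_of_code
  rw [Nat.eq_of_beq_eq_true h2.2, code_wdS hm]

theorem pow_mul_mem_X {l : ℕ} (hl : l ∈ SLs) {g : ↥G} (hg : g ∈ X) (m : ℕ) : gw [l] ^ m * g ∈ X := by
  induction m with
  | zero => rw [pow_zero, one_mul]; exact hg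
  | succ m ih =>
    rw [pow_succ', mul_assoc]
    exact mul_mem_X hl ih

theorem inv_mul_mem_X {l : ℕ} (hl : l ∈ SLs) {g : ↥G} (hg : g ∈ X) : (gw [l])⁻¹ * g ∈ X := by
  have ho : 0 < orderOf (gw [l]) := orderOf_pos _
  have e : (gw [l])⁻¹ = gw [l] ^ (orderOf (gw [l]) - 1) := by
    rw [inv_eq_iff_mul_eq_one, ← pow_succ']
    have : orderOf (gw [l]) - 1 + 1 = orderOf (gw [l]) := by omega
    rw [this, pow_orderOf_eq_one]
  rw [e]
  exact pow_mul_mem_X hl hg _

/-- the Sylow 2-subgroup -/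
def P : Subgroup ↥G := Subgroup.closure {g | ∃ l ∈ SLs, g = gw [l]}

theorem P_le_X {g : ↥G} (hg : g ∈ P) : g ∈ X := by
  unfold P at hg
  induction hg using Subgroup.closure_induction_left with
  | one => exact one_mem_X
  | mul_left x hx y _ ih =>
    obtain ⟨l, hl, rfl⟩ := hx
    exact mul_mem_X hl ih
  | inv_mul_cancel x hx y _ ih =>
    obtain ⟨l, hl, rfl⟩ := hx
    exact inv_mul_mem_X hl ih

theorem gw_mem_P (w : List ℕ) (hw : ∀ l ∈ w, l ∈ SLs) : gw w ∈ P := by
  induction w with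
  | nil => exact P.one_mem
  | cons l w ih =>
    have e : l :: w = [l] ++ w := rfl
    rw [e, gw_append]
    exact P.mul_mem (ih fun x hx => hw x (List.mem_cons_of_mem _ hx))
      (Subgroup.subset_closure ⟨l, hw l List.mem_cons_self, rfl⟩)

theorem X_le_P {g : ↥G} (hg : g ∈ X) : g ∈ P := by
  obtain ⟨i, hi, rfl⟩ := hg
  apply gw_mem_P
  have h1 := (sylF_parts hi).2.1
  unfold sylLetF at h1
  rw [List.all_eq_true] at h1
  intro l hl
  exact (memB_iff l SLs).mp (h1 l hl)

theorem card_P : Nat.card ↥P = 8192 := by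
  let f : Fin 8192 → ↥P := fun i => ⟨gw (wdS i.val), X_le_P ⟨i.val, i.isLt, rfl⟩⟩
  have hf : Function.Bijective f := by
    constructor
    · intro i j h
      exact Fin.ext (wdS_inj i.isLt j.isLt (congrArg Subtype.val h))
    · rintro ⟨g, hg⟩
      obtain ⟨i, hi, rfl⟩ := P_le_X hg
      exact ⟨⟨i, hi⟩, rfl⟩
  rw [← Nat.card_congr (Equiv.ofBijective f hf), Nat.card_fin]

/-! ### the centre of the Sylow subgroup -/

theorem SA_lt : SA < 8192 := by
  have h := chkSA
  rw [Bool.and_eq_true] at h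
  simpa [Nat.blt] using h.1

theorem gw_wdS_SA : gw (wdS SA) = gw [0] := by
  have h := chkSA
  rw [Bool.and_eq_true] at h
  apply gw_eq_of_code
  rw [code_wdS SA_lt, Nat.eq_of_beq_eq_true h.2]

theorem t_mem_P : gw [0] ∈ P := by
  rw [← gw_wdS_SA]
  exact X_le_P ⟨SA, SA_lt, rfl⟩

theorem t_ne_one : gw [0] ≠ 1 := by
  have := (sigEq_eq_false_iff [0] []).mp chkT1
  rwa [gw_nil] at this

theorem t_comm_P (h : ↥G) (hh : h ∈ P) : h * gw [0] = gw [0] * h := by
  have hle : P ≤ Subgroup.centralizer ({gw [0]} : Set ↥G) := by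
    unfold P
    rw [Subgroup.closure_le]
    rintro x ⟨l, hl, rfl⟩
    rw [SetLike.mem_coe, Subgroup.mem_centralizer_iff]
    intro y hy
    rw [Set.mem_singleton_iff] at hy
    subst hy
    have h0 := chkSComm
    rw [List.all_eq_true] at h0
    have h1 := (sigEq_iff _ _).mp (h0 l hl)
    rw [gw_append, gw_append] at h1
    exact h1.symm
  exact (Subgroup.mem_centralizer_iff.mp (hle hh) (gw [0]) rfl).symm

theorem gw_slS_mem (k : ℕ) : gw [slS k] ∈ P := by
  rcases Nat.lt_or_ge k 4 with hk | hk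
  · apply Subgroup.subset_closure
    refine ⟨slS k, ?_, rfl⟩
    interval_cases k <;> simp [slS, SLs]
  · have : slS k = 0 := by
      unfold slS
      exact List.getD_eq_default _ _ (by simpa [SLs] using hk)
    rw [this]
    exact t_mem_P

/-- the centre of the Sylow subgroup is generated by the first generator -/
theorem center_P (g : ↥G) (hg : g ∈ P) (hc : ∀ h ∈ P, h * g = g * h) : g = 1 ∨ g = gw [0] := by
  obtain ⟨i, hi, rfl⟩ := P_le_X hg
  have h := (sylF_parts hi).2.2.2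
  unfold sylCenF at h
  rw [Bool.or_eq_true, Bool.or_eq_true] at h
  rcases h with h | h | h
  · left
    rw [Nat.eq_of_beq_eq_true h, wdS_one]
    rfl
  · right
    rw [Nat.eq_of_beq_eq_true h]
    exact gw_wdS_SA
  · exfalso
    rw [Bool.not_eq_true', sigEq_eq_false_iff, gw_append, gw_append] at h
    exact h (hc _ (gw_slS_mem _)).symm

/-! ### automorphisms and the first generator -/

theorem exists_sylow_eq (R : Subgroup ↥G) (hR : Nat.card ↥R = 8192) :
    ∃ S : Sylow 2 ↥G, (S : Subgroup ↥G) = R := by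
  haveI : Fact (Nat.Prime 2) := ⟨Nat.prime_two⟩
  have hp : IsPGroup 2 ↥R := IsPGroup.of_card (n := 13) (by rw [hR]; norm_num)
  obtain ⟨S, hS⟩ := hp.exists_le_sylow
  refine ⟨S, ?_⟩
  obtain ⟨m, hm⟩ := IsPGroup.iff_card.mp S.isPGroup'
  have hdvd : 2 ^ m ∣ Nat.card ↥G := by
    rw [← hm]
    exact Subgroup.card_subgroup_dvd_card _
  have hm13 : m ≤ 13 := by
    by_contra hlt
    push Not at hlt
    have h14 : 2 ^ 14 ∣ Nat.card ↥G := (pow_dvd_pow 2 hlt).trans hdvd
    rw [card_G] at h14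
    norm_num at h14
  have hle : Nat.card (S : Subgroup ↥G) ≤ Nat.card ↥R := by
    rw [hm, hR]
    calc 2 ^ m ≤ 2 ^ 13 := Nat.pow_le_pow_right (by norm_num) hm13
      _ = 8192 := by norm_num
  exact (Subgroup.eq_of_le_of_card_ge hS hle).symm

/-- an automorphism maps the first generator to a conjugate -/
theorem aut_t_conj (β : MulAut ↥G) : IsConj (gw [0]) (β (gw [0])) := by
  haveI : Fact (Nat.Prime 2) := ⟨Nat.prime_two⟩
  set Q : Subgroup ↥G := P.map β.toMonoidHom with hQ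
  have hcQ : Nat.card ↥Q = 8192 := by
    rw [hQ, Subgroup.card_map_of_injective β.injective, card_P]
  obtain ⟨S0, hS0⟩ := exists_sylow_eq P card_P
  obtain ⟨S1, hS1⟩ := exists_sylow_eq Q hcQ
  obtain ⟨g, hg⟩ := MulAction.exists_smul_eq ↥G S0 S1
  have hQP : ∀ x, x ∈ Q ↔ ∃ p ∈ P, g * p * g⁻¹ = x := by
    intro x
    rw [← hS1, ← hg, Sylow.coe_subgroup_smul, hS0, Subgroup.mem_smul_pointwise_iff_exists]
    rfl
  have hβQ : ∀ h ∈ P, β h ∈ Q := fun h hh => ⟨h, hh, rfl⟩
  obtain ⟨p, hp, hpt⟩ := (hQP _).mp (hβQ _ t_mem_P)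
  have hcen : ∀ h ∈ P, h * p = p * h := by
    intro h hh
    have hQ' : g * h * g⁻¹ ∈ Q := (hQP _).mpr ⟨h, hh, rfl⟩
    obtain ⟨h', hh', hβh'⟩ := hQ'
    have e1 : β h' * β (gw [0]) = β (gw [0]) * β h' := by
      rw [← map_mul, ← map_mul, t_comm_P h' hh']
    have hβh'' : β h' = g * h * g⁻¹ := hβh'
    rw [hβh'', ← hpt] at e1
    have e2 : g * (h * p) * g⁻¹ = g * (p * h) * g⁻¹ := by
      calc g * (h * p) * g⁻¹ = g * h * g⁻¹ * (g * p * g⁻¹) := by group
        _ = g * p * g⁻¹ * (g * h * g⁻¹) := e1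
        _ = g * (p * h) * g⁻¹ := by group
    exact mul_left_cancel (mul_right_cancel e2)
  rcases center_P p hp hcen with h1 | h1
  · exfalso
    rw [h1, mul_one, mul_inv_cancel] at hpt
    have : β (gw [0]) = β 1 := by rw [map_one]; exact hpt.symm
    exact t_ne_one (β.injective this)
  · rw [isConj_iff]
    rw [h1] at hpt
    exact ⟨g, hpt⟩

end

end Cfsg.Agent.Lib.Helper10.SuzO
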