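import Cfsg.Agent.Lib.Helper10.SuzOClsChk
import Cfsg.Agent.Lib.Helper10.SuzOMainChk
import Cfsg.Agent.Lib.Helper10.SuzOCent
import Cfsg.Agent.Lib.Helper10.SuzOSyl

set_option autoImplicit false
set_option maxRecDepth 100000

/-!
The Suzuki group on 1782 points has two classes of outer automorphisms: every automorphism maps a
generating pair (an involution of the small class, an element of order 11) to a conjugate of one of
two pairs, and conjugation by an explicit odd involution of the points is not inner.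
-/

namespace Cfsg.Agent.Lib.Helper10.SuzO
open Cfsg.Agent.Lib.Helper28.TC2Upper Cfsg.Agent.Lib.Helper28.TC2Lower Cfsg.Agent.Lib.Helper28.TC2Bsgs
open Cfsg.Agent.Lib.Helper10.OutG

attribute [local irreducible] wk gwp codeW hcode sigEq

noncomputable section

/-- the first generator, an involution of the small class -/
def t : ↥G := gw [0]

/-- the element of order 11 -/
def y : ↥G := gw [25]

/-- an element normalising the subgroup of order 11 -/
def nn : ↥G := gw [27]

/-- the image of the first generator under an outer automorphism -/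
def a2 : ↥G := gw (cj W2 [0])

/-! ### the generating pair -/

theorem y_pow : y ^ 11 = 1 := by
  have := (sigEq_iff _ _).mp chk_y11
  rwa [gw_rpt, gw_nil] at this

theorem y_ne : y ≠ 1 := by
  have := (sigEq_eq_false_iff [25] []).mp chk_y1
  rwa [gw_nil] at this

theorem orderOf_y : orderOf y = 11 := by
  haveI : Fact (Nat.Prime 11) := ⟨by norm_num⟩
  exact orderOf_eq_prime y_pow y_ne

theorem t_sq : t ^ 2 = 1 := by
  have := (sigEq_iff _ _).mp chk_t2
  have e : ([0, 0] : List ℕ) = rpt 2 [0] := rfl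
  rwa [e, gw_rpt, gw_nil] at this

theorem orderOf_t : orderOf t = 2 := by
  haveI : Fact (Nat.Prime 2) := ⟨Nat.prime_two⟩
  exact orderOf_eq_prime t_sq t_ne_one

theorem gw_rpt_y (i : ℕ) : gw (rpt i [25]) = y ^ i := gw_rpt i [25]

theorem gw_yinv : gw [26] = y⁻¹ := by
  have := (sigEq_iff _ _).mp chk_yinv
  have e : ([25, 26] : List ℕ) = [25] ++ [26] := rfl
  rw [e, gw_append, gw_nil] at this
  exact eq_inv_of_mul_eq_one_left this

theorem gw_y2 : gw [29] = y ^ 2 := ((sigEq_iff _ _).mp chk_y2).trans (gw_rpt_y 2)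

theorem gw_y3 : gw [31] = y ^ 3 := ((sigEq_iff _ _).mp chk_y3).trans (gw_rpt_y 3)

theorem gw_y5 : gw [33] = y ^ 5 := ((sigEq_iff _ _).mp chk_y5).trans (gw_rpt_y 5)

theorem nn_conj : nn * y * nn⁻¹ = y ^ 2 := by
  have := (sigEq_iff _ _).mp chk_n
  rw [gw_cj] at this
  exact this.trans (gw_rpt_y 2)

theorem nn_pow_conj (i m : ℕ) : nn ^ i * y ^ m * (nn ^ i)⁻¹ = y ^ (m * 2 ^ i) := by
  induction i generalizing m with
  | zero => rw [pow_zero, one_mul, inv_one, mul_one, pow_zero, mul_one]
  | succ i ih =>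
    have e : nn ^ (i + 1) * y ^ m * (nn ^ (i + 1))⁻¹ =
        nn * (nn ^ i * y ^ m * (nn ^ i)⁻¹) * nn⁻¹ := by
      rw [pow_succ']
      group
    rw [e, ih, ← conj_pow, nn_conj, ← pow_mul, pow_succ]
    congr 1
    ring

theorem exists_conj_pow (y' : ↥G) (hy' : orderOf y' = 11) : ∃ g : ↥G, g * y' * g⁻¹ = y := by
  haveI : Fact (Nat.Prime 11) := ⟨by norm_num⟩
  obtain ⟨g0, hg0⟩ := exists_conj_mem_zpowers 11 (by rw [card_G]; norm_num) y y' orderOf_y hy'
  have ho : orderOf (g0 * y' * g0⁻¹) = 11 := by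
    rw [← MulAut.conj_apply, MulEquiv.orderOf_eq]
    exact hy'
  rw [← mem_powers_iff_mem_zpowers, Submonoid.mem_powers_iff] at hg0
  obtain ⟨m, hm⟩ := hg0
  have hm' : y ^ (m % 11) = g0 * y' * g0⁻¹ := by
    rw [← hm, ← orderOf_y, pow_mod_orderOf]
  have hm0 : m % 11 ≠ 0 := by
    intro h0
    rw [h0, pow_zero] at hm'
    rw [← hm', orderOf_one] at ho
    omega
  have hdec : ∀ r < 11, r ≠ 0 → ∃ i < 10, (r * 2 ^ i) % 11 = 1 := by
    decide
  obtain ⟨i, -, hi⟩ := hdec (m % 11) (Nat.mod_lt _ (by norm_num)) hm0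
  refine ⟨nn ^ i * g0, ?_⟩
  have e : nn ^ i * g0 * y' * (nn ^ i * g0)⁻¹ = nn ^ i * (g0 * y' * g0⁻¹) * (nn ^ i)⁻¹ := by
    group
  rw [e, ← hm', nn_pow_conj]
  have hp : y ^ (m % 11 * 2 ^ i) = y ^ ((m % 11 * 2 ^ i) % 11) := by
    rw [← orderOf_y, pow_mod_orderOf]
  rw [hp, hi, pow_one]

theorem rel_ty : Rel t y := rel_of_not_fail (A := cj [] [0]) rfl gw_y2 gw_y3 gw_y5 chk_rel

/-! ### the class of the first generator -/

/-- the involutions of the small class -/
def invsA : List ↥G := (List.range 135135).map fun i => gw (cj (wA i) [0])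

theorem invsA_nodup : invsA.Nodup := by
  unfold invsA
  apply List.Nodup.map_on _ List.nodup_range
  intro i hi j hj h
  rw [List.mem_range] at hi hj
  have hc : CA.get i = CA.get j := by
    rw [← (clsF_parts hi).1, ← (clsF_parts hj).1]
    unfold codeA
    rw [codeW_eq, codeW_eq, h]
  exact inj_of_step CA.get 135134 CA_step i j (by omega) (by omega) hc

theorem invsA_length : invsA.length = 135135 := by
  unfold invsA
  rw [List.length_map, List.length_range]

theorem card_class_t : {x : ↥G | IsConj t x}.ncard ≤ 135135 := by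
  have h := ncard_isConj t
  rw [card_G] at h
  have hc : 3317760 ≤ Nat.card ↥(Subgroup.centralizer ({t} : Set ↥G)) := card_centralizer_ge
  by_contra hlt
  push Not at hlt
  have : 135136 * 3317760 ≤ {x : ↥G | IsConj t x}.ncard *
      Nat.card ↥(Subgroup.centralizer ({t} : Set ↥G)) := Nat.mul_le_mul hlt hc
  omega

theorem mem_invsA_of_conj (x : ↥G) (hx : IsConj t x) : x ∈ invsA := by
  have hsub : (↑invsA.toFinset : Set ↥G) ⊆ {a | IsConj t a} := by
    intro z hz
    rw [Finset.mem_coe, List.mem_toFinset] at hz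
    obtain ⟨w, -, rfl⟩ := List.mem_map.mp hz
    rw [Set.mem_ofPred_eq, gw_cj, isConj_iff]
    exact ⟨gw (wA w), rfl⟩
  have heq : (↑invsA.toFinset : Set ↥G) = {a | IsConj t a} := by
    refine Set.eq_of_subset_of_ncard_le hsub ?_ (Set.toFinite _)
    rw [Set.ncard_coe_finset, List.toFinset_card_of_nodup invsA_nodup, invsA_length]
    exact card_class_t
  have hmem : x ∈ (↑invsA.toFinset : Set ↥G) := by rw [heq]; exact hx
  rwa [Finset.mem_coe, List.mem_toFinset] at hmem

/-! ### the images of the generating pair under automorphisms -/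

theorem exc_spec {c : ℕ} (hc : c ∈ EXC) :
    (∃ i : ℕ, c = codeA (rpt i [25])) ∨ (∃ i : ℕ, c = codeA (W2 ++ rpt i [25])) := by
  rw [← eq_of_eqL chk_exc, List.mem_append, List.mem_map, List.mem_map] at hc
  rcases hc with ⟨i, -, hi⟩ | ⟨i, -, hi⟩
  · exact Or.inl ⟨i, hi.symm⟩
  · exact Or.inr ⟨i, hi.symm⟩

theorem y_pow_comm (i : ℕ) (k : ℕ) : y ^ i * y ^ k * (y ^ i)⁻¹ = y ^ k := by
  rw [← pow_add, add_comm, pow_add, mul_inv_cancel_right]

theorem aut_images (α : MulAut ↥G) :
    ∃ h : ↥G, (α t = h * t * h⁻¹ ∧ α y = h * y * h⁻¹) ∨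
      (α t = h * a2 * h⁻¹ ∧ α y = h * y * h⁻¹) := by
  have hαy : orderOf (α y) = 11 := by
    rw [MulEquiv.orderOf_eq]
    exact orderOf_y
  obtain ⟨g, hg⟩ := exists_conj_pow (α y) hαy
  let β : MulAut ↥G := MulAut.conj g * α
  have hβt : β t = g * α t * g⁻¹ := rfl
  have hβy : β y = g * α y * g⁻¹ := rfl
  have hrel : Rel (β t) (β y) := rel_ty.map β.toMonoidHom
  have hmem := mem_invsA_of_conj (β t) (aut_t_conj β)
  obtain ⟨i, hi, hw⟩ := List.mem_map.mp hmem
  rw [List.mem_range] at hi
  have back : ∀ (h0 u v : ↥G), g * α t * g⁻¹ = h0 * u * h0⁻¹ → g * α y * g⁻¹ = h0 * v * h0⁻¹ →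
      α t = (g⁻¹ * h0) * u * (g⁻¹ * h0)⁻¹ ∧ α y = (g⁻¹ * h0) * v * (g⁻¹ * h0)⁻¹ := by
    intro h0 u v h1 h2
    constructor
    · calc α t = g⁻¹ * (g * α t * g⁻¹) * g := by group
        _ = g⁻¹ * (h0 * u * h0⁻¹) * g := by rw [h1]
        _ = _ := by group
    · calc α y = g⁻¹ * (g * α y * g⁻¹) * g := by group
        _ = g⁻¹ * (h0 * v * h0⁻¹) * g := by rw [h2]
        _ = _ := by group
  have hy1 : ∀ j : ℕ, y = y ^ j * y * (y ^ j)⁻¹ := by
    intro j
    have := y_pow_comm j 1
    rw [pow_one] at this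
    exact this.symm
  rcases (clsF_parts hi).2 with hf | hex
  · exfalso
    apply not_rel_of_fail (y := y) rfl gw_y2 gw_y3 gw_y5 hf
    rw [hw, ← hg, ← hβy]
    exact hrel
  · rcases exc_spec hex with ⟨j, hj⟩ | ⟨j, hj⟩
    · have hvw : gw (cj (wA i) [0]) = gw (cj (rpt j [25]) [0]) := by
        apply gw_eq_of_code
        have := (clsF_parts hi).1
        unfold codeA at this hj
        rw [this, hj]
      rw [hw, gw_cj, gw_rpt_y] at hvw
      refine ⟨g⁻¹ * y ^ j, Or.inl ?_⟩
      apply back (y ^ j) t y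
      · rw [← hβt]; exact hvw
      · rw [hg]
        exact hy1 j
    · have hvw : gw (cj (wA i) [0]) = gw (cj (W2 ++ rpt j [25]) [0]) := by
        apply gw_eq_of_code
        have := (clsF_parts hi).1
        unfold codeA at this hj
        rw [this, hj]
      rw [hw, gw_cj, gw_append, gw_rpt_y] at hvw
      refine ⟨g⁻¹ * y ^ j, Or.inr ?_⟩
      apply back (y ^ j) a2 y
      · rw [← hβt, hvw]
        unfold a2
        rw [gw_cj]
        group
      · rw [hg]
        exact hy1 j

/-- when every automorphism maps a generating pair to a conjugate of one of two pairs, there are at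
most twice as many automorphisms as elements -/
theorem card_mulAut_le2 {J : Type*} [Group J] [Finite J] (t y t2 y2 : J)
    (hgen : Subgroup.closure ({t, y} : Set J) = ⊤)
    (h : ∀ α : MulAut J, ∃ g : J, (α t = g * t * g⁻¹ ∧ α y = g * y * g⁻¹) ∨
      (α t = g * t2 * g⁻¹ ∧ α y = g * y2 * g⁻¹)) :
    Nat.card (MulAut J) ≤ 2 * Nat.card J := by
  let Φ : MulAut J → J × J := fun α => (α t, α y)
  have hΦ : Function.Injective Φ := by
    intro α β hab
    exact mulAut_ext_of_closure t y hgen α β (congrArg Prod.fst hab) (congrArg Prod.snd hab)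
  let Ψ : J × Bool → J × J := fun x =>
    (x.1 * (if x.2 then t2 else t) * x.1⁻¹, x.1 * (if x.2 then y2 else y) * x.1⁻¹)
  have hsub : Set.range Φ ⊆ Set.range Ψ := by
    rintro _ ⟨α, rfl⟩
    obtain ⟨g, ⟨h1, h2⟩ | ⟨h1, h2⟩⟩ := h α
    · exact ⟨(g, false), by simp only [Ψ, Φ, Bool.false_eq_true, if_false, h1, h2]⟩
    · exact ⟨(g, true), by simp only [Ψ, Φ, if_true, h1, h2]⟩
  have hfin : Finite (MulAut J) := Finite.of_injective Φ hΦ
  calc Nat.card (MulAut J) = Nat.card (Set.range Φ) := (Nat.card_range_of_injective hΦ).symm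
    _ ≤ Nat.card (Set.range Ψ) := Nat.card_mono (Set.finite_range Ψ) hsub
    _ ≤ Nat.card (J × Bool) :=
        Nat.card_le_card_of_surjective (Set.rangeFactorization Ψ) Set.rangeFactorization_surjective
    _ = 2 * Nat.card J := by
        rw [Nat.card_prod, Nat.card_eq_fintype_card (α := Bool), Fintype.card_bool, mul_comm]

/-! ### generation -/

theorem gw_mem_closure (w : List ℕ) (hw : ∀ l ∈ w, l ∈ [0, 25, 26]) :
    gw w ∈ Subgroup.closure ({t, y} : Set ↥G) := by
  induction w with
  | nil =>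
    rw [gw_nil]
    exact (Subgroup.closure ({t, y} : Set ↥G)).one_mem
  | cons l w ih =>
    have e : l :: w = [l] ++ w := rfl
    rw [e, gw_append]
    apply Subgroup.mul_mem _ (ih fun x hx => hw x (List.mem_cons_of_mem _ hx))
    have hl := hw l List.mem_cons_self
    simp only [List.mem_cons, List.not_mem_nil, or_false] at hl
    rcases hl with rfl | rfl | rfl
    · exact Subgroup.subset_closure (by simp [t])
    · exact Subgroup.subset_closure (by simp [y])
    · rw [gw_yinv]
      exact Subgroup.inv_mem _ (Subgroup.subset_closure (by simp [y]))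

theorem gw_letter_mem (l : ℕ) (hl : l < 7) : gw [l] ∈ Subgroup.closure ({t, y} : Set ↥G) := by
  rcases Nat.eq_zero_or_pos l with rfl | hpos
  · exact Subgroup.subset_closure (by simp [t])
  · have hmem : l ∈ MWs.map Prod.fst := by
      rw [chk_mw_letters]
      simp only [List.mem_cons, List.not_mem_nil, or_false]
      omega
    obtain ⟨p, hp, rfl⟩ := List.mem_map.mp hmem
    have h := chk_mw
    rw [List.all_eq_true] at h
    have h1 := h p hp
    rw [Bool.and_eq_true, List.all_eq_true] at h1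
    rw [(sigEq_iff _ _).mp h1.1]
    exact gw_mem_closure p.2 fun x hx => (memB_iff x _).mp (h1.2 x hx)

theorem gen_ty : Subgroup.closure ({t, y} : Set ↥G) = ⊤ := by
  rw [eq_top_iff]
  have hle : G ≤ (Subgroup.closure ({t, y} : Set ↥G)).map G.subtype := by
    unfold G baseGroup
    rw [Subgroup.closure_le]
    rintro π ⟨l, hl, rfl⟩
    refine ⟨gw [l], gw_letter_mem l hl, ?_⟩
    show gwp [l] = Table.sigma hXT l
    rw [gwp_singleton, nl_of_lt (by omega)]
    rfl
  intro g _
  obtain ⟨m, hm, hmg⟩ := hle g.2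
  have : m = g := Subtype.ext hmg
  rw [← this]
  exact hm

theorem card_mulAut_G : Nat.card (MulAut ↥G) ≤ 2 * Nat.card ↥G :=
  card_mulAut_le2 t y a2 y gen_ty aut_images

theorem center_G : Subgroup.center ↥G = ⊥ := by
  rcases (Subgroup.center ↥G).normal_of_characteristic.eq_bot_or_eq_top with h | h
  · exact h
  · exfalso
    have hy : y ∈ Subgroup.center ↥G := by rw [h]; exact Subgroup.mem_top y
    have hc := Subgroup.mem_center_iff.mp hy nn
    have h2 : nn * y * nn⁻¹ = y := by rw [hc]; group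
    rw [nn_conj, pow_two] at h2
    exact y_ne (mul_left_cancel (h2.trans (mul_one y).symm))

/-! ### the outer automorphism -/

/-- the identification of the permutations of the points of the two tables -/
def ΦP : Equiv.Perm (Fin PT.n) ≃* Equiv.Perm (Fin XT.n) :=
  (finCongr (rfl : PT.n = XT.n)).permCongrHom

theorem ΦP_apply_val (π : Equiv.Perm (Fin PT.n)) (p : Fin XT.n) :
    ((ΦP π) p).val = (π ((finCongr (rfl : PT.n = XT.n)).symm p)).val := rfl

/-- the involution inducing the outer automorphism -/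
def pT : Equiv.Perm (Fin XT.n) := ΦP (Table.sigma hPT 0)

theorem pT_apply_val (p : Fin XT.n) : (pT p).val = PT.tau 0 p.val := by
  unfold pT
  rw [ΦP_apply_val, Table.sigma_apply hPT (show 0 < PT.k by decide)]
  rfl

theorem pT_inv_apply_val (p : Fin XT.n) : (pT⁻¹ p).val = PT.tau 1 p.val := by
  have e : pT⁻¹ = ΦP (Table.sigma hPT 1) := by
    unfold pT
    rw [← map_inv, ← Table.sigma_inv hPT (show 0 < PT.k by decide)]
    rfl
  rw [e, ΦP_apply_val, Table.sigma_apply hPT (show 1 < PT.k by decide)]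
  rfl

theorem wk_singleton (l : ℕ) (hl : l < 43) (p : ℕ) : wk [l] p = XT.tau l p := by
  unfold wk nw
  rw [List.map_cons, List.map_nil, nl_of_lt hl, Table.walkT_cons, Table.walkT_nil]

theorem pT_conj_t : pT * gwp [0] * pT⁻¹ = gwp (cj W2 [0]) := by
  apply Equiv.ext
  intro p
  apply Fin.ext
  rw [Equiv.Perm.mul_apply, Equiv.Perm.mul_apply, pT_apply_val, gwp_apply, pT_inv_apply_val,
    gwp_apply, wk_singleton 0 (by norm_num)]
  have h := chk_pTA
  unfold pTconjA at h
  rw [allLoop_eq_true] at h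
  exact Nat.eq_of_beq_eq_true (h p.val p.2)

theorem pT_conj_y : pT * gwp [25] * pT⁻¹ = gwp [25] := by
  apply Equiv.ext
  intro p
  apply Fin.ext
  rw [Equiv.Perm.mul_apply, Equiv.Perm.mul_apply, pT_apply_val, gwp_apply, pT_inv_apply_val,
    gwp_apply, wk_singleton 25 (by norm_num), wk_singleton 25 (by norm_num)]
  have h := chk_pTY
  unfold pTconjY at h
  rw [allLoop_eq_true] at h
  exact Nat.eq_of_beq_eq_true (h p.val p.2)

/-- the elements whose conjugates by the outer involution lie in the group -/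
def NT : Subgroup ↥G where
  carrier := {g | pT * g.val * pT⁻¹ ∈ G}
  one_mem' := by
    show pT * (1 : ↥G).val * pT⁻¹ ∈ G
    rw [Subgroup.coe_one, mul_one, mul_inv_cancel]
    exact G.one_mem
  mul_mem' := by
    intro a b ha hb
    show pT * (a * b).val * pT⁻¹ ∈ G
    have e : pT * (a * b).val * pT⁻¹ = (pT * a.val * pT⁻¹) * (pT * b.val * pT⁻¹) := by
      rw [Subgroup.coe_mul]
      group
    rw [e]
    exact G.mul_mem ha hb
  inv_mem' := by
    intro a ha
    show pT * (a⁻¹).val * pT⁻¹ ∈ G
    have e : pT * (a⁻¹).val * pT⁻¹ = (pT * a.val * pT⁻¹)⁻¹ := by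
      rw [Subgroup.coe_inv]
      group
    rw [e]
    exact G.inv_mem ha

theorem NT_top : NT = ⊤ := by
  rw [eq_top_iff, ← gen_ty, Subgroup.closure_le]
  rintro x (rfl | rfl)
  · show pT * gwp [0] * pT⁻¹ ∈ G
    rw [pT_conj_t]
    exact gwp_mem _
  · show pT * gwp [25] * pT⁻¹ ∈ G
    rw [pT_conj_y]
    exact gwp_mem _

theorem conj_mem (g : ↥G) : pT * g.val * pT⁻¹ ∈ G := by
  have : g ∈ NT := by rw [NT_top]; exact Subgroup.mem_top g
  exact this

/-- conjugation by the outer involution, as an endomorphism -/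
def phiH : ↥G →* ↥G where
  toFun g := ⟨pT * g.val * pT⁻¹, conj_mem g⟩
  map_one' := by
    apply Subtype.ext
    show pT * (1 : ↥G).val * pT⁻¹ = 1
    rw [Subgroup.coe_one, mul_one, mul_inv_cancel]
  map_mul' a b := by
    apply Subtype.ext
    show pT * (a * b).val * pT⁻¹ = (pT * a.val * pT⁻¹) * (pT * b.val * pT⁻¹)
    rw [Subgroup.coe_mul]
    group

theorem phiH_injective : Function.Injective phiH := by
  intro a b h
  have h1 : pT * a.val * pT⁻¹ = pT * b.val * pT⁻¹ := congrArg Subtype.val h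
  apply Subtype.ext
  exact mul_left_cancel (mul_right_cancel h1)

/-- conjugation by the outer involution -/
def phiT : MulAut ↥G :=
  MulEquiv.ofBijective phiH ⟨phiH_injective, Finite.injective_iff_surjective.mp phiH_injective⟩

theorem phiT_val (x : ↥G) : (phiT x).val = pT * x.val * pT⁻¹ := rfl

/-! ### the outer involution is odd, the elements of the group are even -/

theorem pT_sq_apply (p : Fin XT.n) : pT (pT p) = p ∧ pT p ≠ p := by
  have h := chk_pTinv
  unfold pTinv at h
  rw [allLoop_eq_true] at h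
  have h1 := h p.val p.2
  rw [Bool.and_eq_true, Bool.not_eq_true', Bool.eq_false_iff] at h1
  constructor
  · apply Fin.ext
    rw [pT_apply_val, pT_apply_val]
    exact Nat.eq_of_beq_eq_true h1.1
  · intro e
    apply h1.2
    have := congrArg Fin.val e
    rw [pT_apply_val] at this
    rw [this]
    exact Nat.beq_refl _

theorem pT_sq : pT ^ 2 = 1 := by
  apply Equiv.ext
  intro p
  rw [pow_two, Equiv.Perm.mul_apply]
  exact (pT_sq_apply p).1

theorem sign_pT : Equiv.Perm.sign pT = -1 := by
  rw [Equiv.Perm.sign_of_pow_two_eq_one pT_sq]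
  have h0 : Fintype.card (Function.fixedPoints pT) = 0 := by
    rw [Fintype.card_eq_zero_iff]
    exact ⟨fun ⟨x, hx⟩ => (pT_sq_apply x).2 hx⟩
  rw [h0, Fintype.card_fin]
  show (-1 : ℤˣ) ^ ((1782 - 0) / 2) = -1
  norm_num

theorem sign_G (g : ↥G) : Equiv.Perm.sign g.val = 1 := by
  let ψ : ↥G →* ℤˣ := Equiv.Perm.sign.comp G.subtype
  rcases (MonoidHom.normal_ker ψ).eq_bot_or_eq_top with h | h
  · exfalso
    have hinj : Function.Injective ψ := (MonoidHom.ker_eq_bot_iff ψ).mp h
    have hle := Nat.card_le_card_of_injective ψ hinj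
    rw [card_G, Nat.card_eq_fintype_card, Fintype.card_units_int] at hle
    omega
  · have : g ∈ MonoidHom.ker ψ := by rw [h]; exact Subgroup.mem_top g
    exact this

/-! ### permutations commuting with the group -/

theorem σ_fix_zero (l : ℕ) (hl : l < 6) : σ l ⟨0, by decide⟩ = ⟨0, by decide⟩ := by
  have h := chk_fix
  unfold fixOK at h
  rw [Bool.and_eq_true, allLoop_eq_true] at h
  apply Fin.ext
  have h1 : (σ l ⟨0, by decide⟩).val = XT.tau l 0 :=
    Table.sigma_apply hXT (show l < XT.k by show l < 43; omega) ⟨0, by decide⟩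
  rw [h1]
  exact Nat.eq_of_beq_eq_true (h.1 l hl)

theorem eq_zero_of_fixed (p : Fin XT.n) (hp : ∀ l, l < 6 → σ l p = p) : p.val = 0 := by
  have h := chk_fix
  unfold fixOK at h
  rw [Bool.and_eq_true, allLoop_eq_true, allLoop_eq_true] at h
  have h1 := h.2 p.val p.2
  rw [Bool.or_eq_true] at h1
  rcases h1 with h1 | h1
  · exact Nat.eq_of_beq_eq_true h1
  · exfalso
    rw [Bool.not_eq_true', Bool.eq_false_iff] at h1
    apply h1
    rw [allLoop_eq_true]
    intro l hl
    have h2 : (σ l p).val = XT.tau l p.val :=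
      Table.sigma_apply hXT (show l < XT.k by show l < 43; omega) p
    rw [hp l hl] at h2
    rw [← h2]
    exact Nat.beq_refl _

/-- a permutation of the points commuting with the elements of the group is trivial -/
theorem eq_one_of_commute (c : Equiv.Perm (Fin XT.n)) (hc : ∀ g ∈ G, c * g = g * c) : c = 1 := by
  have h0 : (c ⟨0, by decide⟩).val = 0 := by
    apply eq_zero_of_fixed
    intro l hl
    have h1 := hc (σ l) (σ_mem l (by omega))
    have h2 := congrArg (fun π : Equiv.Perm (Fin XT.n) => π ⟨0, by decide⟩) h1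
    simp only [Equiv.Perm.mul_apply] at h2
    rw [σ_fix_zero l hl] at h2
    exact h2.symm
  have h0' : c ⟨0, by decide⟩ = ⟨0, by decide⟩ := Fin.ext h0
  apply Equiv.ext
  intro p
  have htr := chk_tr
  unfold trOK at htr
  rw [allLoop_eq_true] at htr
  have hp : (gwp (wT p.val) ⟨0, by decide⟩) = p := by
    apply Fin.ext
    rw [gwp_apply]
    exact Nat.eq_of_beq_eq_true (htr p.val p.2)
  have h1 := hc (gwp (wT p.val)) (gwp_mem _)
  have h2 := congrArg (fun π : Equiv.Perm (Fin XT.n) => π ⟨0, by decide⟩) h1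
  simp only [Equiv.Perm.mul_apply] at h2
  rw [hp, h0', hp] at h2
  exact h2

theorem phiT_not_inner : phiT ∉ Cfsg.Inn ↥G := by
  rintro ⟨g, hg⟩
  have hval : ∀ x : ↥G, g.val * x.val * g.val⁻¹ = pT * x.val * pT⁻¹ := by
    intro x
    have h1 : (MulAut.conj g) x = phiT x := by rw [hg]
    have h2 := congrArg Subtype.val h1
    rw [phiT_val, MulAut.conj_apply] at h2
    exact h2
  have hc : g.val⁻¹ * pT = 1 := by
    apply eq_one_of_commute
    intro x hx
    have h1 := hval ⟨x, hx⟩
    have h2 : pT * x = g.val * x * g.val⁻¹ * pT := by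
      rw [h1]
      group
    calc g.val⁻¹ * pT * x = g.val⁻¹ * (pT * x) := by group
      _ = g.val⁻¹ * (g.val * x * g.val⁻¹ * pT) := by rw [h2]
      _ = x * (g.val⁻¹ * pT) := by group
  have hpT : pT = g.val := by
    have := congrArg (fun π => g.val * π) hc
    simp only [mul_one] at this
    rw [← this]
    group
  have h1 := sign_pT
  rw [hpT, sign_G g] at h1
  exact absurd h1 (by decide)

/-- the Suzuki group on 1782 points has two classes of outer automorphisms -/
theorem card_out_G : Nat.card (Cfsg.Out ↥G) = 2 :=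
  card_out_eq_two center_G card_mulAut_G phiT phiT_not_inner

/-- the presented Suzuki group has two classes of outer automorphisms -/
theorem card_out_Suz : Nat.card (Cfsg.Out Cfsg.Spor.Suz) = 2 := by
  obtain ⟨e, -⟩ := exists_iso
  exact (card_out_congr e).trans card_out_G

end

end Cfsg.Agent.Lib.Helper10.SuzO
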