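import Cfsg.Agent.Lib.Helper28.TC2Bsgs
set_option autoImplicit false
set_option maxRecDepth 100000

/-!
Packed arrays of numbers and of words, for data checked by evaluation, and loops over ranges of
indices that can be checked in parts.
-/

namespace Cfsg.Agent.Lib.Helper10.SuzO
open Cfsg.Agent.Lib.Helper28.TC2Upper Cfsg.Agent.Lib.Helper28.TC2Lower Cfsg.Agent.Lib.Helper28.TC2Range

/-- an array of numbers below `M = 2 ^ W`, packed in numbers holding `CH` entries each -/
structure PArr where
  /-- the number of binary digits of an entry -/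
  W : ℕ
  /-- the bound of the entries -/
  M : ℕ
  /-- the number of entries of a part -/
  CH : ℕ
  /-- the parts -/
  col : BT ℕ

/-- the entry of an array with a given index -/
noncomputable def PArr.get (A : PArr) (i : ℕ) : ℕ :=
  force (Nat.div i A.CH) (fun j => slot A.W A.M (A.col.look j) (Nat.mod i A.CH))

/-- the digits of a number in base `B`, each lowered by one, up to the first digit zero -/
noncomputable def unpackW (B : ℕ) (fuel v : ℕ) : List ℕ :=
  @Nat.rec (fun _ => ℕ → List ℕ) (fun _ => [])
    (fun _ ih v => cond (Nat.beq v 0) [] (Nat.pred (Nat.mod v B) :: ih (Nat.div v B))) fuel v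

/-- a Boolean function holds on the indices `lo, …, lo + cnt - 1` -/
noncomputable def rangeOK (f : ℕ → Bool) (lo cnt : ℕ) : Bool :=
  allLoop (fun j => f (Nat.add lo j)) cnt

theorem rangeOK_iff (f : ℕ → Bool) (lo cnt : ℕ) :
    rangeOK f lo cnt = true ↔ ∀ i, lo ≤ i → i < lo + cnt → f i = true :=
  allLoop_add_iff f lo cnt

/-- a Boolean function that holds on all parts of a range holds on the range -/
theorem all_of_chunks (f : ℕ → Bool) (CNT nch : ℕ) (hC : 0 < CNT)
    (h : ∀ c, c < nch → rangeOK f (c * CNT) CNT = true) (i : ℕ) (hi : i < nch * CNT) :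
    f i = true := by
  have hc : i / CNT < nch := by
    apply Nat.div_lt_of_lt_mul
    rwa [Nat.mul_comm] at hi
  have h1 : i / CNT * CNT ≤ i := Nat.div_mul_le_self i CNT
  have h2 : i < i / CNT * CNT + CNT := by
    have := Nat.div_add_mod i CNT
    have hm := Nat.mod_lt i hC
    rw [Nat.mul_comm] at this
    omega
  exact (rangeOK_iff f _ _).mp (h (i / CNT) hc) i h1 h2

/-- a function on indices that increases at each step increases -/
theorem lt_of_step (g : ℕ → ℕ) (n : ℕ) (h : ∀ i, i < n → g i < g (i + 1)) :
    ∀ i j, i < j → j ≤ n → g i < g j := by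
  intro i j hij hj
  induction j with
  | zero => omega
  | succ j ih =>
    rcases Nat.lt_or_ge i j with h1 | h1
    · exact lt_trans (ih h1 (by omega)) (h j (by omega))
    · have : i = j := by omega
      subst this
      exact h i (by omega)

theorem inj_of_step (g : ℕ → ℕ) (n : ℕ) (h : ∀ i, i < n → g i < g (i + 1)) :
    ∀ i j, i ≤ n → j ≤ n → g i = g j → i = j := by
  intro i j hi hj hg
  rcases Nat.lt_trichotomy i j with h1 | h1 | h1
  · have := lt_of_step g n h i j h1 hj
    omega
  · exact h1
  · have := lt_of_step g n h j i h1 hi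
    omega

end Cfsg.Agent.Lib.Helper10.SuzO
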