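import Cfsg.Agent.Lib.Helper10.SuzOSylDef

set_option autoImplicit false
set_option maxRecDepth 100000
set_option maxHeartbeats 0

/-! Generated checks for a Sylow 2-subgroup of the Suzuki group on 1782 points. -/

namespace Cfsg.Agent.Lib.Helper10.SuzO
open Cfsg.Agent.Lib.Helper28.TC2Upper Cfsg.Agent.Lib.Helper28.TC2Lower

noncomputable section

theorem chkS_0 : rangeOK sylF (0 * 512) 512 = true := by
  decide +kernel

theorem chkS_1 : rangeOK sylF (1 * 512) 512 = true := by
  decide +kernel

theorem chkS_2 : rangeOK sylF (2 * 512) 512 = true := by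
  decide +kernel

theorem chkS_3 : rangeOK sylF (3 * 512) 512 = true := by
  decide +kernel

theorem chkSIncr : rangeOK sylIncrF 0 8191 = true := by
  decide +kernel

theorem chkSOne : (Nat.blt SOne 8192 && Nat.beq (SW.get SOne) 0) = true := by
  decide +kernel

theorem chkSA : (Nat.blt SA 8192 && Nat.beq (codeW [0]) (SC.get SA)) = true := by
  decide +kernel

theorem chkT1 : sigEq [0] [] = false := by
  decide +kernel

theorem chkSComm : (SLs.all fun l => sigEq ([0] ++ [l]) ([l] ++ [0])) = true := by
  decide +kernel

end

end Cfsg.Agent.Lib.Helper10.SuzO
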