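import Cfsg.Agent.Lib.Helper10.SuzOBasic
import Cfsg.Agent.Lib.Helper10.SuzOSylData

set_option autoImplicit false
set_option maxRecDepth 100000

/-!
A Sylow 2-subgroup of the Suzuki group on 1782 points, given by 8192 words: the Boolean checks.
-/

namespace Cfsg.Agent.Lib.Helper10.SuzO
open Cfsg.Agent.Lib.Helper28.TC2Upper Cfsg.Agent.Lib.Helper28.TC2Lower

noncomputable section

/-- membership of a number in a list -/
def memB (a : ℕ) : List ℕ → Bool
  | [] => false
  | b :: l => Nat.beq a b || memB a l

theorem memB_iff (a : ℕ) : ∀ l : List ℕ, memB a l = true ↔ a ∈ l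
  | [] => by simp [memB]
  | b :: l => by
    rw [memB, Bool.or_eq_true, memB_iff a l, List.mem_cons]
    constructor
    · rintro (h | h)
      · exact Or.inl (Nat.eq_of_beq_eq_true h)
      · exact Or.inr h
    · rintro (h | h)
      · exact Or.inl (by rw [h]; exact Nat.beq_refl _)
      · exact Or.inr h

/-- the word of the Sylow subgroup with a given index -/
def wdS (i : ℕ) : List ℕ := unpackW 64 12 (SW.get i)

/-- the index of the product of an element with a generator -/
def mtS (i k : ℕ) : ℕ := SM.get (Nat.add (Nat.mul 4 i) k)

/-- the letter of a generator -/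
def slS (k : ℕ) : ℕ := SLs.getD k 0

/-- the code of the word -/
def sylCodeF (i : ℕ) : Bool := Nat.beq (codeW (wdS i)) (SC.get i)

/-- the letters of the word -/
def sylLetF (i : ℕ) : Bool := (wdS i).all fun l => memB l SLs

/-- the products with the generators -/
def sylTabF (i : ℕ) : Bool :=
  allLoop (fun k => Nat.blt (mtS i k) 8192 &&
    Nat.beq (codeW (wdS i ++ [slS k])) (SC.get (mtS i k))) 4

/-- the element is the identity or the first generator, or does not commute with a generator -/
def sylCenF (i : ℕ) : Bool :=
  Nat.beq i SOne || (Nat.beq i SA ||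
    !(sigEq ([slS (SWit.get i)] ++ wdS i) (wdS i ++ [slS (SWit.get i)])))

/-- all the checks for an index -/
def sylF (i : ℕ) : Bool := sylCodeF i && (sylLetF i && (sylTabF i && sylCenF i))

/-- the codes increase -/
def sylIncrF (i : ℕ) : Bool := Nat.blt (SC.get i) (SC.get (Nat.succ i))

end

end Cfsg.Agent.Lib.Helper10.SuzO
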