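import Mathlib
import Cfsg.Prelude.Def_Characters
import Cfsg.Prelude.Def_Blocks
import Cfsg.Agent.Lib.Lead.CharMain
import Cfsg.Agent.Lib.Lead.CharEquiv
import Cfsg.Agent.Lib.Lead.CharInd
import Cfsg.Agent.Lib.Helper24.IrrFacts
import Cfsg.Agent.Lib.Helper10.TIInd
import Cfsg.Agent.Lib.Helper10.Coherence3

/-! Characters induced from a Sylow subgroup: an irreducible character whose codegree `|G| / χ(1)` is a
power of `p` is induced from an irreducible character of a Sylow `p`-subgroup, and conversely. -/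

namespace Cfsg.Agent.Lib.Helper10
open Cfsg Cfsg.Agent.CharLib
open scoped ComplexConjugate

section sylowind
variable {G : Type*} [Group G] [Fintype G]

/-- A character containing the irreducible character `χ` is `χ` plus a character. -/
theorem char_sub_irr_isCharacter {θ χ : G → ℂ} (hθ : IsCharacter G θ) (hχ : IsIrrCharacter G χ)
    (h : classInner θ χ ≠ 0) : IsCharacter G (θ - χ) := by
  classical
  apply isCharacter_of_classInner_nat
    (IsClassFunction.sub (IsCharacter.isClassFunction hθ)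
      (IsCharacter.isClassFunction (IsIrrCharacter.isCharacter hχ)))
  intro ζ
  rw [Cfsg.Agent.Lib.Helper10.classInner_sub_left]
  obtain ⟨n, hn⟩ := IsCharacter.classInner_nat hθ (IsIrrCharacter.isCharacter ζ.2)
  rw [hn, Cfsg.Agent.CharLib.classInner_irr hχ ζ.2]
  by_cases hc : χ = (ζ : G → ℂ)
  · rw [if_pos hc]
    have hn0 : n ≠ 0 := by
      intro h0
      apply h
      rw [hc, hn, h0]
      simp
    refine ⟨n - 1, ?_⟩
    have : 1 ≤ n := Nat.one_le_iff_ne_zero.mpr hn0
    push_cast [Nat.cast_sub this]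
    ring
  · rw [if_neg hc]
    exact ⟨n, by simp⟩

/-- A character of the same degree as an irreducible constituent equals it. -/
theorem char_eq_irr_of_apply_one_eq {θ χ : G → ℂ} (hθ : IsCharacter G θ) (hχ : IsIrrCharacter G χ)
    (h : classInner θ χ ≠ 0) (h1 : θ 1 = χ 1) : θ = χ := by
  have h2 := char_sub_irr_isCharacter hθ hχ h
  have h3 : (θ - χ) 1 = 0 := by rw [Pi.sub_apply, h1, sub_self]
  have h4 := char_eq_zero_of_apply_one_eq_zero h2 h3
  exact sub_eq_zero.mp h4

/-- The degree of an irreducible constituent is at most the degree. -/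
theorem irr_apply_one_le {θ χ : G → ℂ} (hθ : IsCharacter G θ) (hχ : IsIrrCharacter G χ)
    (h : classInner θ χ ≠ 0) {a b : ℕ} (ha : θ 1 = a) (hb : χ 1 = b) : b ≤ a := by
  have h2 := char_sub_irr_isCharacter hθ hχ h
  obtain ⟨c, hc⟩ := IsCharacter.apply_one h2
  rw [Pi.sub_apply, ha, hb] at hc
  have : (a : ℂ) = (b : ℂ) + (c : ℂ) := by rw [← hc]; ring
  have h3 : a = b + c := by exact_mod_cast this
  omega

open Classical in
/-- The codegree `|G| / χ(1)` of an irreducible character is a power of `p` iff `χ` is induced from a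
character of a Sylow `p`-subgroup. -/
theorem irr_codegree_pow_iff (p : ℕ) [Fact p.Prime] (χ : IrrCharacter G) :
    (∃ k : ℕ, Nat.card G = p ^ k * charDegree (χ : G → ℂ)) ↔
    ∃ (P : Sylow p G) (θ : ↥(P : Subgroup G) → ℂ), IsCharacter ↥(P : Subgroup G) θ ∧
      (χ : G → ℂ) = indFun (P : Subgroup G) θ := by
  have hp := (Fact.out : p.Prime)
  set d := charDegree (χ : G → ℂ) with hd
  have hχ1 : (χ : G → ℂ) 1 = (d : ℂ) := Cfsg.Agent.Lib.Helper24.irr_apply_one χ
  have hχirr : IsIrrCharacter G (χ : G → ℂ) := χ.2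
  have hχchar : IsCharacter G (χ : G → ℂ) := IsIrrCharacter.isCharacter χ.2
  set n := (Nat.card G).factorization p with hn
  have hsetup : ∀ P : Sylow p G, Nat.card (P : Subgroup G) = p ^ n ∧
      Nat.card G = p ^ n * (P : Subgroup G).index ∧ ¬ p ∣ (P : Subgroup G).index ∧
      0 < (P : Subgroup G).index := by
    intro P
    have h1 : Nat.card (P : Subgroup G) = p ^ n := P.card_eq_multiplicity
    refine ⟨h1, ?_, P.not_dvd_index, Nat.pos_of_ne_zero Subgroup.index_ne_zero_of_finite⟩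
    rw [← h1]
    exact (P : Subgroup G).card_mul_index.symm
  constructor
  · rintro ⟨k, hk⟩
    let P : Sylow p G := default
    obtain ⟨hPcard, hGm, hpm, hmpos⟩ := hsetup P
    set m := (P : Subgroup G).index with hm
    let _ : Fintype ↥(P : Subgroup G) := Fintype.ofFinite _
    let _ : Fintype (IrrCharacter ↥(P : Subgroup G)) := fintypeIrr ↥(P : Subgroup G)
    have hkn : k ≤ n := by
      have h1 : p ^ k ∣ p ^ n * m := ⟨d, by rw [← hGm, hk]⟩
      have hcop : Nat.Coprime (p ^ k) m :=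
        Nat.Coprime.pow_left k ((Nat.Prime.coprime_iff_not_dvd hp).mpr hpm)
      have h2 := hcop.dvd_of_dvd_mul_right h1
      exact (Nat.pow_dvd_pow_iff_le_right hp.one_lt).mp h2
    have hdeq : d = p ^ (n - k) * m := by
      have h1 : p ^ k * d = p ^ k * (p ^ (n - k) * m) := by
        rw [← hk, hGm, ← mul_assoc, ← pow_add, Nat.add_sub_cancel' hkn]
      exact Nat.eq_of_mul_eq_mul_left (pow_pos hp.pos k) h1
    set χP : ↥(P : Subgroup G) → ℂ := fun h => (χ : G → ℂ) h with hχP
    have hχPchar : IsCharacter ↥(P : Subgroup G) χP := IsCharacter.restrict hχchar (P : Subgroup G)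
    have ha : ∀ ψ : IrrCharacter ↥(P : Subgroup G), ∃ a : ℕ,
        classInner χP (ψ : ↥(P : Subgroup G) → ℂ) = a :=
      fun ψ => IsCharacter.classInner_nat hχPchar (IsIrrCharacter.isCharacter ψ.2)
    choose a ha using ha
    have hdecomp := classFunction_eq_sum (IsCharacter.isClassFunction hχPchar)
    have hsum : d = ∑ ψ : IrrCharacter ↥(P : Subgroup G),
        a ψ * charDegree (ψ : ↥(P : Subgroup G) → ℂ) := by
      have h1 := congrFun hdecomp 1
      rw [Finset.sum_apply] at h1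
      have h2 : χP 1 = (d : ℂ) := hχ1
      rw [h2] at h1
      have h3 : ∀ ψ : IrrCharacter ↥(P : Subgroup G),
          (classInner χP (ψ : ↥(P : Subgroup G) → ℂ) • (ψ : ↥(P : Subgroup G) → ℂ)) 1 =
          ((a ψ * charDegree (ψ : ↥(P : Subgroup G) → ℂ) : ℕ) : ℂ) := by
        intro ψ
        rw [Pi.smul_apply, ha ψ, Cfsg.Agent.Lib.Helper24.irr_apply_one ψ, smul_eq_mul]
        push_cast
        ring
      rw [Finset.sum_congr rfl (fun ψ _ => h3 ψ), ← Nat.cast_sum] at h1
      exact_mod_cast h1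
    have hψdeg : ∀ ψ : IrrCharacter ↥(P : Subgroup G), ∃ j ≤ n,
        charDegree (ψ : ↥(P : Subgroup G) → ℂ) = p ^ j :=
      fun ψ => (Nat.dvd_prime_pow hp).mp (hPcard ▸ Cfsg.Agent.Lib.Helper24.irr_charDegree_dvd_card ψ)
    choose j hjn hj using hψdeg
    have key : ∀ ψ : IrrCharacter ↥(P : Subgroup G), a ψ ≠ 0 →
        classInner (indFun (P : Subgroup G) (ψ : ↥(P : Subgroup G) → ℂ)) (χ : G → ℂ) ≠ 0 ∧
        indFun (P : Subgroup G) (ψ : ↥(P : Subgroup G) → ℂ) 1 = ((m * p ^ j ψ : ℕ) : ℂ) := by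
      intro ψ haψ
      constructor
      · rw [frobenius_reciprocity (P : Subgroup G) _ (IsCharacter.isClassFunction hχchar),
          Cfsg.Agent.Lib.Helper10.classInner_conj_symm]
        have h1 : classInner (fun h : ↥(P : Subgroup G) => (χ : G → ℂ) h)
            (ψ : ↥(P : Subgroup G) → ℂ) = (a ψ : ℂ) := ha ψ
        rw [h1, Complex.conj_natCast]
        exact_mod_cast haψ
      · rw [indFun_apply_one, Cfsg.Agent.Lib.Helper24.irr_apply_one ψ, hj ψ, hPcard, hGm]
        have hpn : ((p ^ n : ℕ) : ℂ) ≠ 0 := by exact_mod_cast (pow_pos hp.pos n).ne'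
        push_cast
        push_cast at hpn
        field_simp
    have hψle : ∀ ψ : IrrCharacter ↥(P : Subgroup G), a ψ ≠ 0 → n - k ≤ j ψ := by
      intro ψ haψ
      obtain ⟨hinner, h1⟩ := key ψ haψ
      have hθ := IsCharacter.indFun (P : Subgroup G) (IsIrrCharacter.isCharacter ψ.2)
      have h2 := irr_apply_one_le hθ hχirr hinner h1 hχ1
      rw [hdeq, mul_comm m] at h2
      have h3 : p ^ (n - k) ≤ p ^ j ψ := Nat.le_of_mul_le_mul_right h2 hmpos
      exact (Nat.pow_le_pow_iff_right hp.one_lt).mp h3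
    have hex : ∃ ψ : IrrCharacter ↥(P : Subgroup G), a ψ ≠ 0 ∧ j ψ = n - k := by
      by_contra hcon
      have hdvd : p ^ (n - k + 1) ∣ d := by
        rw [hsum]
        apply Finset.dvd_sum
        intro ψ _
        by_cases haψ : a ψ = 0
        · rw [haψ, zero_mul]
          exact dvd_zero _
        · have h1 := hψle ψ haψ
          have h2 : j ψ ≠ n - k := fun h => hcon ⟨ψ, haψ, h⟩
          have h3 : n - k + 1 ≤ j ψ := by omega
          rw [hj ψ]
          exact Dvd.dvd.mul_left (pow_dvd_pow p h3) _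
      rw [hdeq, pow_succ] at hdvd
      exact hpm (Nat.dvd_of_mul_dvd_mul_left (pow_pos hp.pos _) hdvd)
    obtain ⟨ψ, haψ, hjψ⟩ := hex
    obtain ⟨hinner, h1⟩ := key ψ haψ
    have hθ := IsCharacter.indFun (P : Subgroup G) (IsIrrCharacter.isCharacter ψ.2)
    refine ⟨P, (ψ : ↥(P : Subgroup G) → ℂ), IsIrrCharacter.isCharacter ψ.2, ?_⟩
    symm
    apply char_eq_irr_of_apply_one_eq hθ hχirr hinner
    rw [h1, hχ1, hdeq, hjψ]
    push_cast
    ring
  · rintro ⟨P, θ, hθ, hχeq⟩
    obtain ⟨hPcard, hGm, hpm, hmpos⟩ := hsetup P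
    set m := (P : Subgroup G).index with hm
    obtain ⟨c, hc⟩ := IsCharacter.apply_one hθ
    have h1 : (d : ℂ) = ((m * c : ℕ) : ℂ) := by
      rw [← hχ1, hχeq, indFun_apply_one, hc, hPcard, hGm]
      have hpn : ((p ^ n : ℕ) : ℂ) ≠ 0 := by exact_mod_cast (pow_pos hp.pos n).ne'
      push_cast
      push_cast at hpn
      field_simp
    have hdmc : d = m * c := by exact_mod_cast h1
    have hdvd : d ∣ Nat.card G := Cfsg.Agent.Lib.Helper24.irr_charDegree_dvd_card χ
    rw [hdmc, hGm, mul_comm (p ^ n) m] at hdvd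
    have hc_dvd : c ∣ p ^ n := Nat.dvd_of_mul_dvd_mul_left hmpos hdvd
    obtain ⟨j, hjn, hcj⟩ := (Nat.dvd_prime_pow hp).mp hc_dvd
    refine ⟨n - j, ?_⟩
    rw [hGm, hdmc, hcj]
    calc p ^ n * m = p ^ (n - j + j) * m := by rw [Nat.sub_add_cancel hjn]
      _ = p ^ (n - j) * (m * p ^ j) := by rw [pow_add]; ring

end sylowind

end Cfsg.Agent.Lib.Helper10
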