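import Mathlib
import Cfsg.Agent.Lib.Helper11.Gen2A

/-!
# The module lemma for the Siegel unipotent radical (helper10, for S2281)

`M` an additive subgroup of `Matrix ι ι F` (`F` a finite field, any characteristic, `3 ≤ card ι`), invariant under
`S ↦ t S tᵀ` for the elementary transvections `t = 1 + c E_ij`.  If `M` contains a symmetric matrix with a nonzero
diagonal entry, then `M` contains every symmetric matrix.
-/

set_option autoImplicit false

namespace Cfsg.Agent.Lib.Helper10.SymMod
open Matrix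

variable {ι : Type*} [Fintype ι] [DecidableEq ι] {F : Type*} [Field F]

/-- basis vector -/
def e (i : ι) : ι → F := Pi.single i 1

theorem e_apply (i a : ι) : (e i : ι → F) a = if a = i then 1 else 0 := by
  unfold e; rw [Pi.single_apply]

theorem e_self (i : ι) : (e i : ι → F) i = 1 := by rw [e_apply, if_pos rfl]

theorem e_ne {i a : ι} (h : a ≠ i) : (e i : ι → F) a = 0 := by rw [e_apply, if_neg h]

/-- `v wᵀ + w vᵀ` -/
def sy (v w : ι → F) : Matrix ι ι F := vecMulVec v w + vecMulVec w v

/-- `v vᵀ` -/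
def sq (v : ι → F) : Matrix ι ι F := vecMulVec v v

theorem sy_apply (v w : ι → F) (a b : ι) : sy v w a b = v a * w b + w a * v b := by
  simp [sy, vecMulVec_apply]

theorem sq_apply (v : ι → F) (a b : ι) : sq v a b = v a * v b := by
  simp [sq, vecMulVec_apply]

theorem sy_comm (v w : ι → F) : sy v w = sy w v := add_comm _ _

theorem sy_add_right (v w w' : ι → F) : sy v (w + w') = sy v w + sy v w' := by
  unfold sy; rw [vecMulVec_add, add_vecMulVec]; abel

theorem sy_add_left (v v' w : ι → F) : sy (v + v') w = sy v w + sy v' w := by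
  rw [sy_comm, sy_add_right, sy_comm w v, sy_comm w v']

theorem sy_smul_right (v : ι → F) (c : F) (w : ι → F) : sy v (c • w) = c • sy v w := by
  unfold sy; rw [vecMulVec_smul, smul_vecMulVec, smul_add]

theorem sy_smul_left (c : F) (v w : ι → F) : sy (c • v) w = c • sy v w := by
  rw [sy_comm, sy_smul_right, sy_comm]

theorem sy_zero_right (v : ι → F) : sy v 0 = 0 := by
  ext a b; simp [sy_apply]

theorem sy_sum_right (v : ι → F) {κ : Type*} (T : Finset κ) (f : κ → ι → F) :
    sy v (∑ k ∈ T, f k) = ∑ k ∈ T, sy v (f k) := by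
  classical
  induction T using Finset.induction_on with
  | empty => simp [sy_zero_right]
  | insert a T ha ih => rw [Finset.sum_insert ha, Finset.sum_insert ha, sy_add_right, ih]

theorem sq_add (v w : ι → F) : sq (v + w) = sq v + sy v w + sq w := by
  unfold sq sy; rw [vecMulVec_add, add_vecMulVec, add_vecMulVec]; abel

theorem sq_smul (c : F) (v : ι → F) : sq (c • v) = (c * c) • sq v := by
  unfold sq; rw [vecMulVec_smul, smul_vecMulVec, smul_smul]

theorem sq_zero : sq (0 : ι → F) = 0 := by
  ext a b; simp [sq_apply]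

theorem sy_isSymm (v w : ι → F) : (sy v w).IsSymm := by
  ext a b; simp [sy_apply]; ring

theorem sq_isSymm (v : ι → F) : (sq v).IsSymm := by
  ext a b; simp [sq_apply]; ring

/-- congruence -/
def cg (t S : Matrix ι ι F) : Matrix ι ι F := t * S * tᵀ

theorem cg_vecMulVec (t : Matrix ι ι F) (v w : ι → F) :
    cg t (vecMulVec v w) = vecMulVec (t *ᵥ v) (t *ᵥ w) := by
  unfold cg; rw [mul_vecMulVec, vecMulVec_mul, vecMul_transpose]

theorem cg_add (t S S' : Matrix ι ι F) : cg t (S + S') = cg t S + cg t S' := by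
  unfold cg; rw [Matrix.mul_add, Matrix.add_mul]

theorem cg_sub (t S S' : Matrix ι ι F) : cg t (S - S') = cg t S - cg t S' := by
  unfold cg; rw [Matrix.mul_sub, Matrix.sub_mul]

theorem cg_smul (t : Matrix ι ι F) (c : F) (S : Matrix ι ι F) : cg t (c • S) = c • cg t S := by
  unfold cg; rw [Matrix.mul_smul, Matrix.smul_mul]

theorem cg_sy (t : Matrix ι ι F) (v w : ι → F) : cg t (sy v w) = sy (t *ᵥ v) (t *ᵥ w) := by
  unfold sy; rw [cg_add, cg_vecMulVec, cg_vecMulVec]

theorem cg_sq (t : Matrix ι ι F) (v : ι → F) : cg t (sq v) = sq (t *ᵥ v) := by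
  unfold sq; rw [cg_vecMulVec]

theorem cg_isSymm (t S : Matrix ι ι F) (hS : S.IsSymm) : (cg t S).IsSymm := by
  unfold cg Matrix.IsSymm
  rw [transpose_mul, transpose_mul, transpose_transpose, hS.eq, Matrix.mul_assoc]

theorem tv_mulVec (i j : ι) (c : F) (v : ι → F) :
    transvection i j c *ᵥ v = v + (c * v j) • e i := by
  unfold transvection e
  rw [add_mulVec, one_mulVec, single_mulVec_eq]

theorem single_eq_vmv (i j : ι) (c : F) : Matrix.single i j c = vecMulVec (c • (e i : ι → F)) (e j) := by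
  ext a b
  simp only [Matrix.single_apply, vecMulVec_apply, e_apply, Pi.smul_apply, smul_eq_mul]
  by_cases ha : a = i <;> by_cases hb : b = j
  · subst ha; subst hb; simp
  · subst ha
    have : ¬ j = b := fun h => hb h.symm
    simp [hb, this]
  · subst hb
    have : ¬ i = a := fun h => ha h.symm
    simp [ha, this]
  · have : ¬ i = a := fun h => ha h.symm
    simp [ha, hb, this]

theorem e_vecMul (j : ι) (S : Matrix ι ι F) : (e j : ι → F) ᵥ* S = S j := by
  ext b
  simp [vecMul, dotProduct, e_apply]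

theorem mulVec_e (j : ι) (S : Matrix ι ι F) (hS : S.IsSymm) : S *ᵥ (e j : ι → F) = S j := by
  ext a
  simp [mulVec, dotProduct, e_apply, hS.apply j a]

theorem dot_e (v : ι → F) (j : ι) : v ⬝ᵥ (e j : ι → F) = v j := by
  simp [dotProduct, e_apply]

/-- the basic difference formula -/
theorem cg_tv (i j : ι) (c : F) (S : Matrix ι ι F) (hS : S.IsSymm) :
    cg (transvection i j c) S = S + c • sy (e i) (S j) + (c * c * S j j) • sq (e i) := by
  unfold cg transvection
  rw [single_eq_vmv, transpose_add, transpose_one, transpose_vecMulVec, Matrix.add_mul, Matrix.one_mul,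
    Matrix.mul_add, Matrix.mul_one, Matrix.add_mul, vecMulVec_mul, e_vecMul,
    vecMulVec_mul_vecMulVec, mul_vecMulVec, mulVec_e j S hS, dot_e]
  unfold sy sq
  simp only [smul_vecMulVec, vecMulVec_smul, smul_add, smul_smul]
  rw [show c * c * S j j = S j j * c * c by ring]
  abel

theorem vec_eq_sum (c : ι → F) : c = ∑ b, c b • (e b : ι → F) := by
  ext a
  simp [Finset.sum_apply, e_apply]

theorem exists_third (h3 : 3 ≤ Fintype.card ι) (a b : ι) : ∃ c, c ≠ a ∧ c ≠ b := by
  by_contra hcon
  have hcon' : ∀ c, c ≠ a → c = b := fun c hca => by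
    by_contra hcb
    exact hcon ⟨c, hca, hcb⟩
  have hsub : (Finset.univ : Finset ι) ⊆ {a, b} := by
    intro c _
    by_cases hca : c = a
    · simp [hca]
    · simp [hcon' c hca]
  have h1 := Finset.card_le_card hsub
  rw [Finset.card_univ] at h1
  have h2 : ({a, b} : Finset ι).card ≤ 2 := Finset.card_le_two
  omega

section main
variable (M : AddSubgroup (Matrix ι ι F))

/-- invariance under the elementary transvections -/
def Inv : Prop := ∀ i j : ι, i ≠ j → ∀ c : F, ∀ S ∈ M, cg (transvection i j c) S ∈ M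

variable {M}

theorem sq_move (hM : Inv M) (a : F) {v : ι → F} (hv : a • sq v ∈ M) (i j : ι) (hij : i ≠ j) (c : F) :
    a • sq (v + (c * v j) • e i) ∈ M := by
  have := hM i j hij c _ hv
  rwa [cg_smul, cg_sq, tv_mulVec] at this

theorem sy_move (hM : Inv M) (a : F) {v w : ι → F} (hv : a • sy v w ∈ M) (i j : ι) (hij : i ≠ j) (c : F) :
    a • sy (v + (c * v j) • e i) (w + (c * w j) • e i) ∈ M := by
  have := hM i j hij c _ hv
  rwa [cg_smul, cg_sy, tv_mulVec, tv_mulVec] at this

theorem sy_step (hM : Inv M) (s : F) (hs0 : s ≠ 0) {a k a' : ι} (h : s • sy (e a) (e k) ∈ M)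
    (h1 : a' ≠ a) (h2 : k ≠ a) (x : F) : x • sy (e a') (e k) ∈ M := by
  have hm := sy_move hM s h a' a h1 (x / s)
  rw [e_self, e_ne (Ne.symm h2), mul_one, mul_zero, zero_smul, add_zero, sy_add_left, sy_smul_left, smul_add] at hm
  have := M.sub_mem hm h
  rw [add_sub_cancel_left, smul_smul, mul_div_cancel₀ x hs0] at this
  exact this

theorem all_sy (hM : Inv M) (h3 : 3 ≤ Fintype.card ι) (s : F) (hs0 : s ≠ 0) (i k : ι) (hik : i ≠ k)
    (h : s • sy (e i) (e k) ∈ M) : ∀ a b : ι, a ≠ b → ∀ x : F, x • sy (e a) (e b) ∈ M := by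
  have step1 : ∀ a, a ≠ i → ∀ x : F, x • sy (e a) (e k) ∈ M := fun a ha x =>
    sy_step hM s hs0 h ha hik.symm x
  obtain ⟨t, hti, htk⟩ := exists_third h3 i k
  have step2 : ∀ a, ∀ x : F, x • sy (e a) (e k) ∈ M := by
    intro a x
    by_cases hai : a = i
    · subst hai
      exact sy_step hM 1 one_ne_zero (step1 t hti 1) hti.symm htk.symm x
    · exact step1 a hai x
  have step3 : ∀ a b, a ≠ k → b ≠ k → ∀ x : F, x • sy (e a) (e b) ∈ M := by
    intro a b hak hbk x
    have h1 : (1 : F) • sy (e k) (e b) ∈ M := by rw [sy_comm]; exact step2 b 1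
    exact sy_step hM 1 one_ne_zero h1 hak hbk x
  intro a b hab x
  by_cases hbk : b = k
  · subst hbk; exact step2 a x
  · by_cases hak : a = k
    · subst hak; rw [sy_comm]; exact step2 b x
    · exact step3 a b hak hbk x

theorem sy_e_mem (hall : ∀ a b : ι, a ≠ b → ∀ x : F, x • sy (e a) (e b) ∈ M) (t : ι) (c : ι → F)
    (hc : c t = 0) : sy (e t) c ∈ M := by
  rw [vec_eq_sum c, sy_sum_right]
  refine M.sum_mem ?_
  intro b _
  rw [sy_smul_right]
  by_cases hbt : b = t
  · subst hbt; rw [hc, zero_smul]; exact M.zero_mem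
  · exact hall t b (fun h => hbt h.symm) (c b)

/-- all multiples of the diagonal units -/
theorem all_sq [Fintype F] (hM : Inv M) (h3 : 3 ≤ Fintype.card ι) (s : F) (hs0 : s ≠ 0) (i : ι)
    (h : s • sq (e i) ∈ M) : ∀ k : ι, ∀ x : F, x • sq (e k) ∈ M := by
  -- `z • e k` for `k ≠ i`
  have hne : ∀ k, k ≠ i → ∀ z : F, s • sq (z • (e k : ι → F)) ∈ M := by
    intro k hki z
    by_cases hz : z = 0
    · subst hz; rw [zero_smul, sq_zero, smul_zero]; exact M.zero_mem
    have h1 := sq_move hM s h k i hki z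
    rw [e_self, mul_one] at h1
    have h2 := sq_move hM s h1 i k hki.symm (-z⁻¹)
    have hv : (((e i : ι → F) + z • (e k : ι → F)) : ι → F) k = z := by
      simp [e_ne hki, e_self]
    rw [hv, neg_mul, inv_mul_cancel₀ hz, neg_one_smul] at h2
    have hv2 : (e i : ι → F) + z • e k + -e i = z • e k := by abel
    rwa [hv2] at h2
  have hall : ∀ k, ∀ z : F, s • sq (z • (e k : ι → F)) ∈ M := by
    intro k z
    by_cases hki : k = i
    · subst hki
      obtain ⟨k', hk', -⟩ := exists_third h3 k k
      have h0 := hne k' hk' z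
      have h1 := sq_move hM s h0 k k' hk'.symm 1
      have hv : (z • (e k' : ι → F)) k' = z := by simp [e_self]
      rw [hv, one_mul] at h1
      have h2 := sq_move hM s h1 k' k hk' (-1)
      have hv2 : ((z • (e k' : ι → F) + z • (e k : ι → F)) : ι → F) k = z := by
        simp [e_ne hk'.symm, e_self]
      rw [hv2, neg_one_mul, neg_smul] at h2
      have hv3 : z • (e k' : ι → F) + z • e k + -(z • e k') = z • e k := by abel
      rwa [hv3] at h2
    · exact hne k hki z
  intro k x
  let A : AddSubgroup F :=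
    { carrier := {y | (s * y) • sq (e k : ι → F) ∈ M}
      zero_mem' := by
        show (s * 0) • sq (e k : ι → F) ∈ M
        rw [mul_zero, zero_smul]; exact M.zero_mem
      add_mem' := by
        intro y y' hy hy'
        show (s * (y + y')) • sq (e k : ι → F) ∈ M
        rw [mul_add, add_smul]; exact M.add_mem hy hy'
      neg_mem' := by
        intro y hy
        show (s * -y) • sq (e k : ι → F) ∈ M
        rw [mul_neg, neg_smul]; exact M.neg_mem hy }
  have hA : A = ⊤ := by
    apply Cfsg.Agent.Lib.Helper11.Gen2.addSubgroup_eq_top_of_sq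
    intro z
    show (s * (z * z)) • sq (e k : ι → F) ∈ M
    have := hall k z
    rwa [sq_smul, smul_smul] at this
  have hx : x / s ∈ A := by rw [hA]; trivial
  have hx' : (s * (x / s)) • sq (e k : ι → F) ∈ M := hx
  rwa [mul_div_cancel₀ x hs0] at hx'

/-- every symmetric matrix, from the units -/
theorem all_symm (hsy : ∀ a b : ι, a ≠ b → ∀ x : F, x • sy (e a) (e b) ∈ M)
    (hsq : ∀ k : ι, ∀ x : F, x • sq (e k) ∈ M) : ∀ S : Matrix ι ι F, S.IsSymm → S ∈ M := by
  have key : ∀ T : Finset ι, ∀ S : Matrix ι ι F, S.IsSymm → (∀ a b, S a b ≠ 0 → a ∈ T ∧ b ∈ T) → S ∈ M := by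
    intro T
    induction T using Finset.induction_on with
    | empty =>
      intro S _ hsupp
      have : S = 0 := by
        ext a b
        by_contra hne
        exact absurd (hsupp a b hne).1 (Finset.notMem_empty a)
      rw [this]; exact M.zero_mem
    | insert t T ht ih =>
      intro S hS hsupp
      let c : ι → F := fun b => if b = t then 0 else S t b
      have hct : c t = 0 := if_pos rfl
      have hcne : ∀ b, b ≠ t → c b = S t b := fun b hb => if_neg hb
      let S' : Matrix ι ι F := S - sy (e t) c - (S t t) • sq (e t)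
      have hS' : S'.IsSymm := by
        have h1 : (S - sy (e t) c).IsSymm := Matrix.IsSymm.sub hS (sy_isSymm _ _)
        exact Matrix.IsSymm.sub h1 (Matrix.IsSymm.smul (sq_isSymm _) _)
      have hentry : ∀ a b, S' a b = if a = t ∨ b = t then 0 else S a b := by
        intro a b
        show (S - sy (e t) c - (S t t) • sq (e t) : Matrix ι ι F) a b = _
        simp only [Matrix.sub_apply, Matrix.smul_apply, sy_apply, sq_apply, smul_eq_mul]
        by_cases ha : a = t <;> by_cases hb : b = t
        · subst ha; subst hb; simp [e_self, hct]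
        · subst ha; simp [e_self, e_ne hb, hb, hcne b hb]
        · subst hb; simp [e_self, e_ne ha, ha, hcne a ha, hS.apply a b]
        · simp [e_ne ha, e_ne hb, ha, hb]
      have hsupp' : ∀ a b, S' a b ≠ 0 → a ∈ T ∧ b ∈ T := by
        intro a b hne
        rw [hentry] at hne
        by_cases hab : a = t ∨ b = t
        · rw [if_pos hab] at hne; exact absurd rfl hne
        · rw [if_neg hab] at hne
          obtain ⟨hab1, hab2⟩ := not_or.1 hab
          obtain ⟨h1, h2⟩ := hsupp a b hne
          exact ⟨(Finset.mem_insert.1 h1).resolve_left hab1, (Finset.mem_insert.1 h2).resolve_left hab2⟩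
      have hmem' := ih S' hS' hsupp'
      have h1 : sy (e t) c ∈ M := sy_e_mem hsy t c hct
      have h2 : (S t t) • sq (e t : ι → F) ∈ M := hsq t _
      have hS_eq : S = S' + sy (e t) c + (S t t) • sq (e t) := by
        show S = S - sy (e t) c - (S t t) • sq (e t) + sy (e t) c + (S t t) • sq (e t)
        abel
      rw [hS_eq]
      exact M.add_mem (M.add_mem hmem' h1) h2
  intro S hS
  exact key Finset.univ S hS (fun a b _ => ⟨Finset.mem_univ a, Finset.mem_univ b⟩)

/-- **THE MODULE LEMMA.** -/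
theorem symm_mem_of_invariant [Fintype F] (h3 : 3 ≤ Fintype.card ι) (hM : Inv M)
    (S₀ : Matrix ι ι F) (hS₀ : S₀ ∈ M) (hsym : S₀.IsSymm) (j : ι) (hj : S₀ j j ≠ 0) :
    ∀ S : Matrix ι ι F, S.IsSymm → S ∈ M := by
  obtain ⟨i, hij, -⟩ := exists_third h3 j j
  obtain ⟨k, hki, hkj⟩ := exists_third h3 i j
  -- normalise: `S j i = 0`
  set s := S₀ j j with hs
  set c₀ := -(S₀ j i) / s with hc₀
  set S := cg (transvection i j c₀) S₀ with hSdef
  have hSM : S ∈ M := hM i j hij c₀ S₀ hS₀
  have hSsym : S.IsSymm := cg_isSymm _ _ hsym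
  have hSj : ∀ b, S j b = S₀ j b + c₀ * s * (e i : ι → F) b := by
    intro b
    rw [hSdef, cg_tv i j c₀ S₀ hsym]
    simp only [Matrix.add_apply, Matrix.smul_apply, sy_apply, sq_apply, smul_eq_mul,
      e_ne (Ne.symm hij)]
    ring
  have hSjj : S j j = s := by rw [hSj, e_ne (Ne.symm hij), mul_zero, add_zero]
  have hSji : S j i = 0 := by
    rw [hSj, e_self, mul_one, hc₀]
    field_simp
    ring
  -- the three elements
  have hD1 : sy (e i) (S j) + s • sq (e i : ι → F) ∈ M := by
    have h1 := M.sub_mem (hM i j hij 1 S hSM) hSM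
    rw [cg_tv i j 1 S hSsym, hSjj] at h1
    have : S + (1 : F) • sy (e i) (S j) + (1 * 1 * s) • sq (e i : ι → F) - S
        = sy (e i) (S j) + s • sq (e i : ι → F) := by
      rw [one_smul, one_mul, one_mul]; abel
    rwa [this] at h1
  have hDk : sy (e k) (S j) + s • sq (e k : ι → F) ∈ M := by
    have h1 := M.sub_mem (hM k j hkj 1 S hSM) hSM
    rw [cg_tv k j 1 S hSsym, hSjj] at h1
    have : S + (1 : F) • sy (e k) (S j) + (1 * 1 * s) • sq (e k : ι → F) - S
        = sy (e k) (S j) + s • sq (e k : ι → F) := by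
      rw [one_smul, one_mul, one_mul]; abel
    rwa [this] at h1
  have hD2 := hM k i hki 1 _ hD1
  rw [cg_add, cg_smul, cg_sy, cg_sq, tv_mulVec, tv_mulVec, e_self, hSji, mul_one, mul_zero, zero_smul,
    add_zero, one_smul] at hD2
  -- `hD2 : sy (e i + e k) (S j) + s • sq (e i + e k) ∈ M`
  have hsik : s • sy (e i) (e k : ι → F) ∈ M := by
    have h1 := M.sub_mem (M.sub_mem hD2 hD1) hDk
    have : sy ((e i : ι → F) + e k) (S j) + s • sq ((e i : ι → F) + e k)
        - (sy (e i) (S j) + s • sq (e i : ι → F)) - (sy (e k) (S j) + s • sq (e k : ι → F))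
        = s • sy (e i) (e k : ι → F) := by
      rw [sy_add_left, sq_add, smul_add, smul_add]; abel
    rwa [this] at h1
  have hsy := all_sy hM h3 s hj i k (Ne.symm hki) hsik
  have hsqi : s • sq (e i : ι → F) ∈ M := by
    have h1 := sy_e_mem hsy i (S j) hSji
    have := M.sub_mem hD1 h1
    rwa [add_sub_cancel_left] at this
  have hsq := all_sq hM h3 s hj i hsqi
  exact all_symm hsy hsq

/-- invariance under `SL` gives `Inv` -/
theorem inv_of_SL
    (hSL : ∀ B : Matrix.SpecialLinearGroup ι F, ∀ S ∈ M, (B : Matrix ι ι F) * S * (B : Matrix ι ι F)ᵀ ∈ M) :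
    Inv M := by
  intro i j hij c S hS
  exact hSL ⟨transvection i j c, det_transvection_of_ne i j hij c⟩ S hS

/-- the module lemma for an `SL`-invariant additive subgroup -/
theorem symm_mem_of_SL_invariant [Fintype F] (h3 : 3 ≤ Fintype.card ι)
    (hSL : ∀ B : Matrix.SpecialLinearGroup ι F, ∀ S ∈ M, (B : Matrix ι ι F) * S * (B : Matrix ι ι F)ᵀ ∈ M)
    (S₀ : Matrix ι ι F) (hS₀ : S₀ ∈ M) (hsym : S₀.IsSymm) (j : ι) (hj : S₀ j j ≠ 0) :
    ∀ S : Matrix ι ι F, S.IsSymm → S ∈ M :=
  symm_mem_of_invariant h3 (inv_of_SL hSL) S₀ hS₀ hsym j hj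

/-- odd characteristic: any nonzero symmetric element suffices -/
theorem symm_mem_of_invariant_of_ne_zero [Fintype F] (h2 : (2 : F) ≠ 0) (h3 : 3 ≤ Fintype.card ι)
    (hM : Inv M) (S₀ : Matrix ι ι F) (hS₀ : S₀ ∈ M) (hsym : S₀.IsSymm) (hne : S₀ ≠ 0) :
    ∀ S : Matrix ι ι F, S.IsSymm → S ∈ M := by
  by_cases hd : ∃ j, S₀ j j ≠ 0
  · obtain ⟨j, hj⟩ := hd
    exact symm_mem_of_invariant h3 hM S₀ hS₀ hsym j hj
  · have hd0 : ∀ j, S₀ j j = 0 := fun j => by
      by_contra h
      exact hd ⟨j, h⟩
    obtain ⟨a, b, hab⟩ : ∃ a b, S₀ a b ≠ 0 := by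
      by_contra hcon
      apply hne
      ext a b
      by_contra h
      exact hcon ⟨a, b, h⟩
    have hane : a ≠ b := by
      rintro rfl
      exact hab (hd0 a)
    have hSM : cg (transvection a b 1) S₀ ∈ M := hM a b hane 1 S₀ hS₀
    have hSsym : (cg (transvection a b 1) S₀).IsSymm := cg_isSymm _ _ hsym
    refine symm_mem_of_invariant h3 hM _ hSM hSsym a ?_
    rw [cg_tv a b 1 S₀ hsym]
    simp only [Matrix.add_apply, Matrix.smul_apply, sy_apply, sq_apply, smul_eq_mul, e_self, hd0]
    have hba : S₀ b a = S₀ a b := hsym.apply a b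
    rw [hba]
    intro h
    apply hab
    have h' : (2 : F) * S₀ a b = 0 := by linear_combination h
    rcases mul_eq_zero.1 h' with h'' | h''
    · exact absurd h'' h2
    · exact h''

end main

end Cfsg.Agent.Lib.Helper10.SymMod
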