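import Cfsg.Agent.Lib.Helper10.TGSharpB

set_option autoImplicit false

namespace Cfsg.Agent.Lib.Helper10.TG

open Cfsg Cfsg.Agent.Lib.Helper10
open scoped Pointwise

/-- a map of the twelve points given by a table of indices -/
def tabFun (l : List ℕ) (p : Cfsg.ArrayPt) : Cfsg.ArrayPt := pt (l.getD (idx p) 0)

/-- a permutation from a table and the table of its inverse -/
def mkPerm (l li : List ℕ) (h1 : ∀ p, tabFun li (tabFun l p) = p)
    (h2 : ∀ p, tabFun l (tabFun li p) = p) : Equiv.Perm Cfsg.ArrayPt :=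
  ⟨tabFun l, tabFun li, h1, h2⟩

/-- signs from a bit mask -/
def sgn (m : ℕ) (p : Cfsg.ArrayPt) : (ZMod 3)ˣ := if m.testBit (idx p) then -1 else 1

/-- decidable membership test for the code -/
def isCodeP (y : Cfsg.ArrayPt → ZMod 3) : Prop :=
  y = tgParam (y (0, 0)) (y (1, 0)) (y (2, 0)) (y (3, 0)) (y (1, 2) - y (1, 1)) (y (0, 2) - y (0, 1))

instance (y : Cfsg.ArrayPt → ZMod 3) : Decidable (isCodeP y) := by
  unfold isCodeP
  infer_instance

theorem mem_of_isCodeP {y : Cfsg.ArrayPt → ZMod 3} (h : isCodeP y) :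
    y ∈ Cfsg.ternaryGolayCode := by
  rw [h]
  exact tgParam_mem _ _ _ _ _ _

theorem Mon_of_check (σ : Equiv.Perm Cfsg.ArrayPt) (c : Cfsg.ArrayPt → (ZMod 3)ˣ)
    (h : ∀ p : P6, isCodeP (Cfsg.monomialMap σ c (tgP p))) : Mon σ c := by
  intro x hx
  obtain ⟨p, rfl⟩ := exists_tgP_of_mem x hx
  exact mem_of_isCodeP (h p)

/-- a generator -/
def g0 : Equiv.Perm Cfsg.ArrayPt :=
  mkPerm [0,1,10,5,2,6,4,11,3,8,9,7] [0,1,4,8,6,3,5,11,9,10,2,7] (by decide) (by decide)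

/-- its signs -/
def m0 : ℕ := 246

/-- a generator -/
def g2 : Equiv.Perm Cfsg.ArrayPt :=
  mkPerm [11,10,4,9,3,5,7,6,1,0,8,2] [9,8,11,4,2,5,7,6,10,3,1,0] (by decide) (by decide)

/-- its signs -/
def m2 : ℕ := 725

/-- a generator -/
def g4 : Equiv.Perm Cfsg.ArrayPt :=
  mkPerm [9,0,11,2,6,5,7,10,4,8,3,1] [1,11,3,10,8,5,4,6,9,0,7,2] (by decide) (by decide)

/-- its signs -/
def m4 : ℕ := 150

/-- the transversal words -/
def trTabs : List (List (List ℕ)) :=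
  [[[],[5],[2,2],[3,3],[1,2,2],[0,3,3],[2,0,2],[0,2],[0,3],[3],[1,3],[2]],[[],[],[4,4,2],[0,0,5,3],[1,4,4,2],[4,0,4,2],[0,4,0,4,2],[0,2,4],[0,5,3],[5,3],[1,5,3],[2,4]],[[],[],[],[0,0,0,0],[1],[1,1,1],[1,1],[4,0,0,5],[0,0,0],[0,0],[0],[0,4,0,0,5]],[[],[],[],[],[1,2,5,2,2,5],[1,4,0,0,5,0],[4,2,0,4,1],[0,5,1,3,5],[2,4,0,4,1,5],[0,3,3,4,3,4],[2,0,2,4,2],[1,4,2,2,1,3]],[[],[],[],[],[],[0,0,2,2,5,5,5,5],[1,4,2,0,4,1,1,1],[0,5,5,1,4,3,3,5],[4,1,1,2,0,4],[0,0,0,5,1,3,5,0],[5,1,3,0,0,5],[0,0,0,4,2,0,4,0]]]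


set_option maxRecDepth 100000 in
theorem g0_mon : Mon g0 (sgn m0) := by
  apply Mon_of_check
  decide +kernel

set_option maxRecDepth 100000 in
theorem g2_mon : Mon g2 (sgn m2) := by
  apply Mon_of_check
  decide +kernel

set_option maxRecDepth 100000 in
theorem g4_mon : Mon g4 (sgn m4) := by
  apply Mon_of_check
  decide +kernel

theorem PSub_inv_mem {σ : Equiv.Perm Cfsg.ArrayPt} (h : σ ∈ PSub) : σ⁻¹ ∈ PSub := by
  have h1 : Submonoid.powers σ ≤ PSub := Submonoid.powers_le.2 h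
  apply h1
  rw [mem_powers_iff_mem_zpowers]
  exact Subgroup.inv_mem _ (Subgroup.mem_zpowers σ)

/-- the six generators -/
def gen (i : ℕ) : Equiv.Perm Cfsg.ArrayPt :=
  match i with
  | 0 => g0
  | 1 => g0⁻¹
  | 2 => g2
  | 3 => g2⁻¹
  | 4 => g4
  | 5 => g4⁻¹
  | _ => 1

theorem gen_mem (i : ℕ) : gen i ∈ PSub := by
  have h0 : g0 ∈ PSub := ⟨_, g0_mon⟩
  have h2 : g2 ∈ PSub := ⟨_, g2_mon⟩
  have h4 : g4 ∈ PSub := ⟨_, g4_mon⟩
  unfold gen
  split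
  · exact h0
  · exact PSub_inv_mem h0
  · exact h2
  · exact PSub_inv_mem h2
  · exact h4
  · exact PSub_inv_mem h4
  · exact PSub.one_mem

/-- evaluation of a word in the generators -/
def evalW (l : List ℕ) : Equiv.Perm Cfsg.ArrayPt := (l.map gen).prod

theorem evalW_mem (l : List ℕ) : evalW l ∈ PSub := by
  apply Submonoid.list_prod_mem
  intro x hx
  rw [List.mem_map] at hx
  obtain ⟨i, _, rfl⟩ := hx
  exact gen_mem i

/-- the transversal element of level `k` mapping the `k`-th base point to `q` -/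
def tw (k : ℕ) (q : Cfsg.ArrayPt) : Equiv.Perm Cfsg.ArrayPt :=
  evalW ((trTabs.getD k []).getD (idx q) [])

set_option maxRecDepth 100000 in
theorem tw_spec : ∀ k : Fin 5, ∀ q : Cfsg.ArrayPt, k.val ≤ idx q →
    (∀ j : Fin 5, j < k → tw k (q) (pt j) = pt j) ∧ tw k q (pt k) = q := by
  decide +kernel

end Cfsg.Agent.Lib.Helper10.TG
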