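import Cfsg.Agent.Lib.Helper10.TGGenA

set_option autoImplicit false

namespace Cfsg.Agent.Lib.Helper10.TG

open Cfsg Cfsg.Agent.Lib.Helper10
open scoped Pointwise

theorem le_idx_of_ne (k : ℕ) (r : Cfsg.ArrayPt) (h : ∀ j < k, r ≠ pt j) : k ≤ idx r := by
  by_contra hlt
  push Not at hlt
  exact h (idx r) hlt (pt_idx r).symm

/-- the permutation parts are transitive on injective 5-tuples -/
theorem exists_map_tuple (Q : ℕ → Cfsg.ArrayPt)
    (hQ : ∀ i < 5, ∀ j < 5, Q i = Q j → i = j) :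
    ∀ k ≤ 5, ∃ G ∈ PSub, ∀ j < k, G (pt j) = Q j := by
  intro k
  induction k with
  | zero =>
    intro _
    exact ⟨1, PSub.one_mem, fun j hj => absurd hj (Nat.not_lt_zero j)⟩
  | succ k ih =>
    intro hk
    obtain ⟨G, hG, hGQ⟩ := ih (by omega)
    set r := G⁻¹ (Q k) with hr
    have hGr : G r = Q k := by
      rw [hr]
      simp
    have hrne : ∀ j < k, r ≠ pt j := by
      intro j hj h
      have : Q k = Q j := by rw [← hGr, h, hGQ j hj]
      have := hQ k (by omega) j (by omega) this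
      omega
    have hidx : k ≤ idx r := le_idx_of_ne k r hrne
    obtain ⟨hfix, hmap⟩ := tw_spec ⟨k, by omega⟩ r hidx
    refine ⟨G * tw k r, PSub.mul_mem hG (evalW_mem _), ?_⟩
    intro j hj
    rw [Equiv.Perm.mul_apply]
    rcases Nat.lt_succ_iff_lt_or_eq.1 hj with hlt | rfl
    · have := hfix ⟨j, by omega⟩ (by simpa using hlt)
      simp only at this
      rw [this, hGQ j hlt]
    · simp only at hmap
      rw [hmap, hGr]

/-- the base tuple -/
def e0 : Fin 5 ↪ Cfsg.ArrayPt := ⟨fun i => pt i, by decide⟩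

theorem exists_map_embedding (e : Fin 5 ↪ Cfsg.ArrayPt) :
    ∃ G ∈ PSub, ∀ i : Fin 5, G (pt i) = e i := by
  obtain ⟨G, hG, h⟩ := exists_map_tuple (fun n => if h : n < 5 then e ⟨n, h⟩ else pt 0)
    (by
      intro i hi j hj hij
      simp only [hi, hj, dif_pos] at hij
      have := e.injective hij
      simpa using this) 5 le_rfl
  refine ⟨G, hG, fun i => ?_⟩
  have := h i i.2
  simp only [i.2, dif_pos] at this
  exact this

theorem card_embeddings : Fintype.card (Fin 5 ↪ Cfsg.ArrayPt) = 95040 := by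
  rw [Fintype.card_embedding_eq]
  simp [Fintype.card_prod, ZMod.card]

theorem card_PSub_ge : 95040 ≤ Nat.card PSub := by
  classical
  choose f hf1 hf2 using exists_map_embedding
  have hinj : Function.Injective (fun e => (⟨f e, hf1 e⟩ : PSub)) := by
    intro e e' h
    have h1 : f e = f e' := congrArg Subtype.val h
    apply DFunLike.ext
    intro i
    rw [← hf2 e i, ← hf2 e' i, h1]
  have := Nat.card_le_card_of_injective _ hinj
  rwa [Nat.card_eq_fintype_card (α := Fin 5 ↪ Cfsg.ArrayPt), card_embeddings] at this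

theorem card_aut_le : Nat.card (Cfsg.setSystemAut hexSet) ≤ 95040 := by
  classical
  have hinj : Function.Injective
      (fun σ : Cfsg.setSystemAut hexSet => e0.trans (σ.1 : Equiv.Perm Cfsg.ArrayPt).toEmbedding) := by
    intro σ τ h
    have h1 : ∀ i : Fin 5, σ.1 (pt i) = τ.1 (pt i) := by
      intro i
      have := congrArg (fun e : Fin 5 ↪ Cfsg.ArrayPt => e i) h
      exact this
    have hmem : τ.1⁻¹ * σ.1 ∈ Cfsg.setSystemAut hexSet :=
      Subgroup.mul_mem _ (Subgroup.inv_mem _ τ.2) σ.2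
    have hfix : ∀ i : Fin 5, (τ.1⁻¹ * σ.1) (pt i) = pt i := by
      intro i
      rw [Equiv.Perm.mul_apply, h1 i]
      simp
    have h2 : τ.1⁻¹ * σ.1 = 1 :=
      sharp hmem (hfix 0) (hfix 1) (hfix 2) (hfix 3) (hfix 4)
    apply Subtype.ext
    have : σ.1 = τ.1 := by
      rw [inv_mul_eq_one] at h2
      exact h2.symm
    exact this
  have := Nat.card_le_card_of_injective _ hinj
  rwa [Nat.card_eq_fintype_card (α := Fin 5 ↪ Cfsg.ArrayPt), card_embeddings] at this

theorem PSub_eq_aut : (PSub : Set (Equiv.Perm Cfsg.ArrayPt)) =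
    (Cfsg.setSystemAut hexSet : Set (Equiv.Perm Cfsg.ArrayPt)) := by
  apply Set.eq_of_subset_of_ncard_le (fun σ h => PSub_le_aut h) ?_ (Set.toFinite _)
  have h1 : ((Cfsg.setSystemAut hexSet : Subgroup _) : Set (Equiv.Perm Cfsg.ArrayPt)).ncard
      = Nat.card (Cfsg.setSystemAut hexSet) := rfl
  have h2 : (PSub : Set (Equiv.Perm Cfsg.ArrayPt)).ncard = Nat.card PSub := rfl
  rw [h1, h2]
  exact le_trans card_aut_le card_PSub_ge

theorem card_PSub : Nat.card PSub = 95040 := by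
  apply le_antisymm _ card_PSub_ge
  have h2 : (PSub : Set (Equiv.Perm Cfsg.ArrayPt)).ncard = Nat.card PSub := rfl
  rw [← h2, PSub_eq_aut]
  exact card_aut_le

theorem units_neg_ne : ∀ u : (ZMod 3)ˣ, -u ≠ u := by decide

theorem card_units3 : Nat.card (ZMod 3)ˣ = 2 := by
  rw [Nat.card_eq_fintype_card]
  rfl

/-- the monomial group has twice the order of its group of permutation parts -/
theorem card_Mon :
    Nat.card {f : Equiv.Perm Cfsg.ArrayPt × (Cfsg.ArrayPt → (ZMod 3)ˣ) // Mon f.1 f.2} = 190080 := by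
  let Φ : {f : Equiv.Perm Cfsg.ArrayPt × (Cfsg.ArrayPt → (ZMod 3)ˣ) // Mon f.1 f.2} →
      PSub × (ZMod 3)ˣ := fun f => (⟨f.1.1, ⟨f.1.2, f.2⟩⟩, f.1.2 (0, 0))
  have hinj : Function.Injective Φ := by
    rintro ⟨⟨σ, c⟩, hc⟩ ⟨⟨τ, d⟩, hd⟩ h
    have h1 : σ = τ := congrArg (fun z : PSub × (ZMod 3)ˣ => (z.1 : Equiv.Perm Cfsg.ArrayPt)) h
    have h2 : c (0, 0) = d (0, 0) := congrArg (fun z : PSub × (ZMod 3)ˣ => z.2) h
    subst h1
    have hcd : c = d := by
      rcases Mon_fiber hc hd with h3 | h3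
      · funext p
        exact (h3 p).symm
      · exfalso
        have h4 : d (0, 0) = -c (0, 0) := h3 (0, 0)
        rw [← h2] at h4
        exact units_neg_ne _ h4.symm
    subst hcd
    rfl
  have hsurj : Function.Surjective Φ := by
    rintro ⟨⟨σ, c, hc⟩, u⟩
    refine ⟨⟨(σ, fun i => (u * (c (0, 0))⁻¹) * c i), Mon_const_mul hc _⟩, ?_⟩
    show ((⟨σ, _⟩ : PSub), (u * (c (0, 0))⁻¹) * c (0, 0)) = (⟨σ, _⟩, u)
    rw [inv_mul_cancel_right]
  rw [Nat.card_congr (Equiv.ofBijective Φ ⟨hinj, hsurj⟩), Nat.card_prod, card_PSub, card_units3]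

/-- the statement S1594 -/
theorem ternary_golay_automorphism_group :
    Nat.card {f : Equiv.Perm Cfsg.ArrayPt × (Cfsg.ArrayPt → (ZMod 3)ˣ) //
      (∀ x ∈ Cfsg.ternaryGolayCode, Cfsg.monomialMap f.1 f.2 x ∈ Cfsg.ternaryGolayCode)} = 190080 ∧
    {σ : Equiv.Perm Cfsg.ArrayPt | ∃ c : Cfsg.ArrayPt → (ZMod 3)ˣ,
      (∀ x ∈ Cfsg.ternaryGolayCode, Cfsg.monomialMap σ c x ∈ Cfsg.ternaryGolayCode)} =
    (Cfsg.setSystemAut {h : Finset Cfsg.ArrayPt | ∃ x ∈ Cfsg.ternaryGolayCode,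
      Cfsg.ternarySupport x = h ∧ h.card = 6} : Set (Equiv.Perm Cfsg.ArrayPt)) :=
  ⟨card_Mon, PSub_eq_aut⟩

end Cfsg.Agent.Lib.Helper10.TG
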