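import Cfsg.Agent.Lib.Helper10.TernaryGolay3

set_option autoImplicit false

namespace Cfsg.Agent.Lib.Helper10.TG

open Cfsg Cfsg.Agent.Lib.Helper10
open scoped Pointwise

/-- `(σ, c)` is a monomial automorphism of the ternary code -/
def Mon (σ : Equiv.Perm Cfsg.ArrayPt) (c : Cfsg.ArrayPt → (ZMod 3)ˣ) : Prop :=
  ∀ x ∈ Cfsg.ternaryGolayCode, Cfsg.monomialMap σ c x ∈ Cfsg.ternaryGolayCode

theorem monomialMap_comp (σ τ : Equiv.Perm Cfsg.ArrayPt) (c d : Cfsg.ArrayPt → (ZMod 3)ˣ)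
    (x : Cfsg.ArrayPt → ZMod 3) :
    Cfsg.monomialMap σ c (Cfsg.monomialMap τ d x) =
      Cfsg.monomialMap (σ * τ) (fun i => c i * d (σ.symm i)) x := by
  funext i
  unfold Cfsg.monomialMap
  simp only [Units.val_mul, mul_assoc]
  rfl

theorem monomialMap_one (x : Cfsg.ArrayPt → ZMod 3) :
    Cfsg.monomialMap (1 : Equiv.Perm Cfsg.ArrayPt) (fun _ => 1) x = x := by
  funext i
  unfold Cfsg.monomialMap
  show ((1 : (ZMod 3)ˣ) : ZMod 3) * x i = x i
  simp

theorem Mon_one : Mon 1 (fun _ => 1) := by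
  intro x hx
  rw [monomialMap_one]
  exact hx

theorem Mon_mul {σ τ : Equiv.Perm Cfsg.ArrayPt} {c d : Cfsg.ArrayPt → (ZMod 3)ˣ}
    (h1 : Mon σ c) (h2 : Mon τ d) : Mon (σ * τ) (fun i => c i * d (σ.symm i)) := by
  intro x hx
  rw [← monomialMap_comp]
  exact h1 _ (h2 _ hx)

theorem monomialMap_const_mul (σ : Equiv.Perm Cfsg.ArrayPt) (c : Cfsg.ArrayPt → (ZMod 3)ˣ)
    (u : (ZMod 3)ˣ) (x : Cfsg.ArrayPt → ZMod 3) :
    Cfsg.monomialMap σ (fun i => u * c i) x = (u : ZMod 3) • Cfsg.monomialMap σ c x := by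
  funext i
  unfold Cfsg.monomialMap
  simp only [Units.val_mul, mul_assoc, Pi.smul_apply, smul_eq_mul]

theorem Mon_const_mul {σ : Equiv.Perm Cfsg.ArrayPt} {c : Cfsg.ArrayPt → (ZMod 3)ˣ}
    (h : Mon σ c) (u : (ZMod 3)ˣ) : Mon σ (fun i => u * c i) := by
  intro x hx
  rw [monomialMap_const_mul]
  exact Submodule.smul_mem _ _ (h x hx)

/-- the permutation parts of the monomial automorphisms, as a submonoid -/
def PSub : Submonoid (Equiv.Perm Cfsg.ArrayPt) where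
  carrier := {σ | ∃ c, Mon σ c}
  one_mem' := ⟨_, Mon_one⟩
  mul_mem' := by
    rintro σ τ ⟨c, hc⟩ ⟨d, hd⟩
    exact ⟨_, Mon_mul hc hd⟩

theorem mem_PSub {σ : Equiv.Perm Cfsg.ArrayPt} : σ ∈ PSub ↔ ∃ c, Mon σ c := Iff.rfl

theorem support_monomialMap (σ : Equiv.Perm Cfsg.ArrayPt) (c : Cfsg.ArrayPt → (ZMod 3)ˣ)
    (x : Cfsg.ArrayPt → ZMod 3) :
    Cfsg.ternarySupport (Cfsg.monomialMap σ c x) = σ • Cfsg.ternarySupport x := by
  ext a
  rw [mem_ternarySupport, Finset.mem_smul_finset]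
  unfold Cfsg.monomialMap
  constructor
  · intro h
    refine ⟨σ.symm a, ?_, by simp⟩
    rw [mem_ternarySupport]
    intro h0
    apply h
    rw [h0, mul_zero]
  · rintro ⟨b, hb, rfl⟩
    rw [mem_ternarySupport] at hb
    simp only [Equiv.Perm.smul_def, Equiv.symm_apply_apply]
    exact mul_ne_zero (Units.ne_zero _) hb

/-- the hexad system -/
abbrev hexSet : Set (Finset Cfsg.ArrayPt) :=
  {h : Finset Cfsg.ArrayPt | ∃ x ∈ Cfsg.ternaryGolayCode, Cfsg.ternarySupport x = h ∧ h.card = 6}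

theorem hexSet_eq : hexSet = (↑hexF : Set (Finset Cfsg.ArrayPt)) := by
  ext h
  rw [Finset.mem_coe, mem_hexF]
  rfl

theorem PSub_le_aut {σ : Equiv.Perm Cfsg.ArrayPt} (h : σ ∈ PSub) :
    σ ∈ Cfsg.setSystemAut hexSet := by
  obtain ⟨c, hc⟩ := h
  show σ ∈ MulAction.stabilizer (Equiv.Perm Cfsg.ArrayPt) hexSet
  have hfin : hexSet.Finite := by
    rw [hexSet_eq]
    exact Finset.finite_toSet _
  rw [MulAction.mem_stabilizer_set_iff_smul_set_subset hfin]
  rintro _ ⟨b, ⟨x, hx, rfl, hcard⟩, rfl⟩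
  refine ⟨Cfsg.monomialMap σ c x, hc x hx, support_monomialMap σ c x, ?_⟩
  show (σ • Cfsg.ternarySupport x).card = 6
  rw [Finset.card_smul_finset]
  exact hcard

theorem smul_mem_hexF {σ : Equiv.Perm Cfsg.ArrayPt} (h : σ ∈ Cfsg.setSystemAut hexSet)
    {b : Finset Cfsg.ArrayPt} (hb : b ∈ hexF) : σ • b ∈ hexF := by
  have h1 : σ • hexSet = hexSet := h
  have h2 : b ∈ hexSet := by
    rw [hexSet_eq]
    exact Finset.mem_coe.2 hb
  have h3 : σ • b ∈ σ • hexSet := Set.smul_mem_smul_set h2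
  rw [h1, hexSet_eq] at h3
  exact Finset.mem_coe.1 h3

theorem monomialMap_injective (σ : Equiv.Perm Cfsg.ArrayPt) (c : Cfsg.ArrayPt → (ZMod 3)ˣ) :
    Function.Injective (Cfsg.monomialMap σ c) := by
  intro x y h
  funext i
  have h1 := congrFun h (σ i)
  unfold Cfsg.monomialMap at h1
  simp only [Equiv.symm_apply_apply] at h1
  exact (Units.mul_right_inj _).1 h1

theorem Mon_surj {σ : Equiv.Perm Cfsg.ArrayPt} {c : Cfsg.ArrayPt → (ZMod 3)ˣ} (h : Mon σ c)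
    (y : Cfsg.ArrayPt → ZMod 3) (hy : y ∈ Cfsg.ternaryGolayCode) :
    ∃ x ∈ Cfsg.ternaryGolayCode, Cfsg.monomialMap σ c x = y := by
  let f : Cfsg.ternaryGolayCode → Cfsg.ternaryGolayCode :=
    fun x => ⟨Cfsg.monomialMap σ c x.1, h x.1 x.2⟩
  have hinj : Function.Injective f := by
    intro x y hxy
    apply Subtype.ext
    exact monomialMap_injective σ c (congrArg Subtype.val hxy)
  have hsurj : Function.Surjective f := Finite.injective_iff_surjective.1 hinj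
  obtain ⟨x, hx⟩ := hsurj ⟨y, hy⟩
  exact ⟨x.1, x.2, congrArg Subtype.val hx⟩

theorem Mon_fiber {σ : Equiv.Perm Cfsg.ArrayPt} {c c' : Cfsg.ArrayPt → (ZMod 3)ˣ}
    (h : Mon σ c) (h' : Mon σ c') :
    (∀ p, c' p = c p) ∨ (∀ p, c' p = -c p) := by
  have hk : ∀ y ∈ Cfsg.ternaryGolayCode,
      Cfsg.monomialMap 1 (fun i => c' i * (c i)⁻¹) y ∈ Cfsg.ternaryGolayCode := by
    intro y hy
    obtain ⟨x, hx, rfl⟩ := Mon_surj h y hy
    rw [monomialMap_comp]
    have : (fun i => c' i * (c i)⁻¹ * c ((1 : Equiv.Perm Cfsg.ArrayPt).symm i)) = c' := by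
      funext i
      show c' i * (c i)⁻¹ * c i = c' i
      rw [inv_mul_cancel_right]
    rw [this, one_mul]
    exact h' x hx
  rcases sign_change_kernel _ hk with h1 | h1
  · left
    intro p
    have := h1 p
    rwa [mul_inv_eq_one] at this
  · right
    intro p
    have := h1 p
    rw [mul_inv_eq_iff_eq_mul] at this
    rw [this]
    simp

end Cfsg.Agent.Lib.Helper10.TG
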