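import Cfsg.Agent.Lib.Helper10.TGMon

set_option autoImplicit false

namespace Cfsg.Agent.Lib.Helper10.TG

open Cfsg Cfsg.Agent.Lib.Helper10
open scoped Pointwise

/-- the point with index `n = 3 i + r` -/
def pt (n : ℕ) : Cfsg.ArrayPt := (⟨n / 3 % 4, Nat.mod_lt _ (by norm_num)⟩, ((n % 3 : ℕ) : ZMod 3))

/-- the index of a point -/
def idx (p : Cfsg.ArrayPt) : ℕ := 3 * p.1.val + p.2.val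

theorem pt_idx : ∀ p : Cfsg.ArrayPt, pt (idx p) = p := by decide

/-- the base hexad: the first two columns -/
def H0 : Finset Cfsg.ArrayPt := Finset.univ.filter (fun p => p.1.val < 2)

/-- the base hexad minus two points -/
def tet (a b : ℕ) : Finset Cfsg.ArrayPt :=
  Finset.univ.filter (fun p => p.1.val < 2 ∧ idx p ≠ a ∧ idx p ≠ b)

theorem tet_subset (a b : ℕ) : tet a b ⊆ H0 := by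
  intro p hp
  unfold tet at hp
  unfold H0
  rw [Finset.mem_filter] at hp ⊢
  exact ⟨hp.1, hp.2.1⟩

def mateTab : List ℕ :=
  [0,0,0,0,0,0,11,9,10,7,8,6,10,11,9,8,6,7,9,8,7,6,11,10,8,10,6,11,7,9,7,6,11,10,9,8,0,0,0,0,0,0,0,0,0,0,0,0,9,10,11,6,7,8,8,11,6,10,9,7,7,6,9,8,11,10,10,8,7,11,6,9,0,0,0,0,0,0,0,0,0,0,0,0,0,0,0,0,0,0,7,6,10,11,8,9,11,8,7,10,9,6,8,9,6,7,11,10,0,0,0,0,0,0,0,0,0,0,0,0,0,0,0,0,0,0,0,0,0,0,0,0,10,9,11,7,6,8,11,10,9,8,7,6,0,0,0,0,0,0,0,0,0,0,0,0,0,0,0,0,0,0,0,0,0,0,0,0,0,0,0,0,0,0,9,11,10,6,8,7,0,0,0,0,0,0,0,0,0,0,0,0,0,0,0,0,0,0,0,0,0,0,0,0,0,0,0,0,0,0,0,0,0,0,0,0]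
def witTab : List (List ℕ) :=
  [[0,0,0,0,0,0],[0,0,0,0,0,0],[0,0,0,0,0,0],[0,0,0,0,0,0],[0,0,0,0,0,0],[0,0,0,0,0,0],[0,1,1,0,2,1],[0,1,0,1,1,1],[0,1,0,0,0,2],[0,1,0,1,1,1],[0,1,0,0,0,2],[0,1,1,0,2,1],[0,1,1,0,1,2],[0,1,0,0,0,1],[0,1,0,1,2,2],[0,1,0,1,2,2],[0,1,1,0,1,2],[0,1,0,0,0,1],[0,0,1,1,0,0],[0,0,0,0,1,1],[0,0,0,0,1,1],[0,0,1,1,0,0],[0,0,0,0,1,2],[0,0,0,0,1,2],[0,1,2,0,2,2],[0,1,0,0,1,0],[0,1,2,0,2,2],[0,1,0,2,2,1],[0,1,0,0,1,0],[0,1,0,2,2,1],[0,1,2,0,1,1],[0,1,2,0,1,1],[0,1,0,0,2,0],[0,1,0,2,1,2],[0,1,0,2,1,2],[0,1,0,0,2,0],[0,0,0,0,0,0],[0,0,0,0,0,0],[0,0,0,0,0,0],[0,0,0,0,0,0],[0,0,0,0,0,0],[0,0,0,0,0,0],[0,0,0,0,0,0],[0,0,0,0,0,0],[0,0,0,0,0,0],[0,0,0,0,0,0],[0,0,0,0,0,0],[0,0,0,0,0,0],[1,2,1,1,0,0],[1,1,0,0,2,0],[1,1,0,0,1,0],[1,2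,1,1,0,0],[1,1,0,0,2,0],[1,1,0,0,1,0],[1,0,2,0,2,2],[1,0,0,0,0,1],[1,0,2,0,2,2],[1,0,0,2,1,2],[1,0,0,2,1,2],[1,0,0,0,0,1],[1,1,1,0,2,2],[1,1,1,0,2,2],[1,1,0,2,1,1],[1,1,0,2,1,1],[1,2,0,0,1,2],[1,2,0,0,1,2],[1,1,2,0,2,1],[1,2,0,0,2,2],[1,2,0,0,2,2],[1,1,0,1,1,2],[1,1,2,0,2,1],[1,1,0,1,1,2],[0,0,0,0,0,0],[0,0,0,0,0,0],[0,0,0,0,0,0],[0,0,0,0,0,0],[0,0,0,0,0,0],[0,0,0,0,0,0],[0,0,0,0,0,0],[0,0,0,0,0,0],[0,0,0,0,0,0],[0,0,0,0,0,0],[0,0,0,0,0,0],[0,0,0,0,0,0],[0,0,0,0,0,0],[0,0,0,0,0,0],[0,0,0,0,0,0],[0,0,0,0,0,0],[0,0,0,0,0,0],[0,0,0,0,0,0],[1,0,2,0,1,1],[1,0,2,0,1,1],[1,0,0,0,0,2],[1,0,0,2,2,1],[1,0,0,0,0,2],[1,0,0,2,2,1],[1,1,2,0,1,2],[1,2,0,0,1,1],[1,2,0,0,1,1],[1,1,0,1,2,1],[1,1,0,1,2,1],[1,1,2,0,1,2],[1,1,1,0,1,1],[1,1,0,2,2,2],[1,1,1,0,1,1],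[1,1,0,2,2,2],[1,2,0,0,2,1],[1,2,0,0,2,1],[0,0,0,0,0,0],[0,0,0,0,0,0],[0,0,0,0,0,0],[0,0,0,0,0,0],[0,0,0,0,0,0],[0,0,0,0,0,0],[0,0,0,0,0,0],[0,0,0,0,0,0],[0,0,0,0,0,0],[0,0,0,0,0,0],[0,0,0,0,0,0],[0,0,0,0,0,0],[0,0,0,0,0,0],[0,0,0,0,0,0],[0,0,0,0,0,0],[0,0,0,0,0,0],[0,0,0,0,0,0],[0,0,0,0,0,0],[0,0,0,0,0,0],[0,0,0,0,0,0],[0,0,0,0,0,0],[0,0,0,0,0,0],[0,0,0,0,0,0],[0,0,0,0,0,0],[1,0,1,0,1,2],[1,0,0,1,1,1],[1,0,0,0,2,0],[1,0,0,1,1,1],[1,0,1,0,1,2],[1,0,0,0,2,0],[1,0,1,0,2,1],[1,0,0,0,1,0],[1,0,0,1,2,2],[1,0,0,1,2,2],[1,0,0,0,1,0],[1,0,1,0,2,1],[0,0,0,0,0,0],[0,0,0,0,0,0],[0,0,0,0,0,0],[0,0,0,0,0,0],[0,0,0,0,0,0],[0,0,0,0,0,0],[0,0,0,0,0,0],[0,0,0,0,0,0],[0,0,0,0,0,0],[0,0,0,0,0,0],[0,0,0,0,0,0],[0,0,0,0,0,0],[0,0,0,0,0,0],[0,0,0,0,0,0],[0,0,0,0,0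,0],[0,0,0,0,0,0],[0,0,0,0,0,0],[0,0,0,0,0,0],[0,0,0,0,0,0],[0,0,0,0,0,0],[0,0,0,0,0,0],[0,0,0,0,0,0],[0,0,0,0,0,0],[0,0,0,0,0,0],[0,0,0,0,0,0],[0,0,0,0,0,0],[0,0,0,0,0,0],[0,0,0,0,0,0],[0,0,0,0,0,0],[0,0,0,0,0,0],[1,2,2,2,0,0],[1,1,0,0,0,2],[1,1,0,0,0,1],[1,2,2,2,0,0],[1,1,0,0,0,1],[1,1,0,0,0,2],[0,0,0,0,0,0],[0,0,0,0,0,0],[0,0,0,0,0,0],[0,0,0,0,0,0],[0,0,0,0,0,0],[0,0,0,0,0,0],[0,0,0,0,0,0],[0,0,0,0,0,0],[0,0,0,0,0,0],[0,0,0,0,0,0],[0,0,0,0,0,0],[0,0,0,0,0,0],[0,0,0,0,0,0],[0,0,0,0,0,0],[0,0,0,0,0,0],[0,0,0,0,0,0],[0,0,0,0,0,0],[0,0,0,0,0,0],[0,0,0,0,0,0],[0,0,0,0,0,0],[0,0,0,0,0,0],[0,0,0,0,0,0],[0,0,0,0,0,0],[0,0,0,0,0,0],[0,0,0,0,0,0],[0,0,0,0,0,0],[0,0,0,0,0,0],[0,0,0,0,0,0],[0,0,0,0,0,0],[0,0,0,0,0,0],[0,0,0,0,0,0],[0,0,0,0,0,0],[0,0,0,0,0,0],[0,0,0,0,0,0],[0,0,0,0,0,0],[0,0,0,0,0,0]]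

/-- partner of `x` in the hexad through `tet a b` and `x` -/
def mateP (a b : ℕ) (x : Cfsg.ArrayPt) : Cfsg.ArrayPt :=
  pt (mateTab.getD ((a * 6 + b) * 6 + (idx x - 6)) 0)

/-- parameters from a list -/
def toP6 (l : List ℕ) : P6 :=
  ((l.getD 0 0 : ℕ), (l.getD 1 0 : ℕ), (l.getD 2 0 : ℕ), (l.getD 3 0 : ℕ), (l.getD 4 0 : ℕ),
    (l.getD 5 0 : ℕ))

/-- a code word supported on the hexad through `tet a b` and `x` -/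
def witP (a b : ℕ) (x : Cfsg.ArrayPt) : P6 :=
  toP6 (witTab.getD ((a * 6 + b) * 6 + (idx x - 6)) [])

/-- the validity of a table entry -/
def validEntry (a b : ℕ) (x : Cfsg.ArrayPt) : Prop :=
  tgWt (witP a b x) = 6 ∧ tet a b ⊆ Cfsg.ternarySupport (tgP (witP a b x)) ∧
    x ∈ Cfsg.ternarySupport (tgP (witP a b x)) ∧
    mateP a b x ∈ Cfsg.ternarySupport (tgP (witP a b x)) ∧ mateP a b x ∉ H0 ∧ x ≠ mateP a b x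

instance (a b : ℕ) (x : Cfsg.ArrayPt) : Decidable (validEntry a b x) := by
  unfold validEntry
  infer_instance

set_option maxRecDepth 100000 in
theorem valid_all : ∀ a b : Fin 6, a < b → ∀ x : Cfsg.ArrayPt, x ∉ H0 → validEntry a b x := by
  decide

set_option maxRecDepth 100000 in
theorem tet_card : ∀ a b : Fin 6, a < b → (tet a b).card = 4 := by
  decide

/-- a certificate that no automorphism fixing `H0` pointwise maps `x` to `y` -/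
def certP (x y : Cfsg.ArrayPt) : Prop :=
  ∃ a b a' b' : Fin 6, a < b ∧ a' < b' ∧ mateP a b x = mateP a' b' x ∧
      mateP a b y ≠ mateP a' b' y

instance (x y : Cfsg.ArrayPt) : Decidable (certP x y) := by
  unfold certP
  infer_instance

set_option maxRecDepth 100000 in
theorem cert_all : ∀ x y : Cfsg.ArrayPt, x ∉ H0 → y ∉ H0 → x ≠ y → certP x y := by
  decide

theorem H0_mem_hexF : H0 ∈ hexF := by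
  rw [mem_hexF]
  refine ⟨tgP (1, 2, 0, 0, 0, 0), tgP_mem _, ?_, ?_⟩ <;> decide

end Cfsg.Agent.Lib.Helper10.TG
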