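import Cfsg.Agent.Lib.Helper10.TGSharpA

set_option autoImplicit false

namespace Cfsg.Agent.Lib.Helper10.TG

open Cfsg Cfsg.Agent.Lib.Helper10
open scoped Pointwise

theorem mem_smul_of_fixed {σ : Equiv.Perm Cfsg.ArrayPt} {b : Finset Cfsg.ArrayPt}
    {a : Cfsg.ArrayPt} (ha : a ∈ b) (hfix : σ a = a) : a ∈ σ • b := by
  rw [Finset.mem_smul_finset]
  exact ⟨a, ha, hfix⟩

theorem smul_apply_mem {σ : Equiv.Perm Cfsg.ArrayPt} {b : Finset Cfsg.ArrayPt}
    {a : Cfsg.ArrayPt} (ha : a ∈ b) : σ a ∈ σ • b := by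
  rw [Finset.mem_smul_finset]
  exact ⟨a, ha, rfl⟩

/-- an automorphism fixing five points of a hexad fixes the sixth -/
theorem fix_of_five {σ : Equiv.Perm Cfsg.ArrayPt} (hσ : σ ∈ Cfsg.setSystemAut hexSet)
    {b s : Finset Cfsg.ArrayPt} (hb : b ∈ hexF) (hsb : s ⊆ b) (hs : s.card = 5)
    (hfix : ∀ a ∈ s, σ a = a) : ∀ a ∈ b, σ a = a := by
  have hb' : σ • b ∈ hexF := smul_mem_hexF hσ hb
  have hsb' : s ⊆ σ • b := fun a ha => mem_smul_of_fixed (hsb ha) (hfix a ha)
  have heq : σ • b = b := hexF_unique hb' hb hs hsb' hsb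
  have hb6 : b.card = 6 := by
    obtain ⟨x, _, _, hc⟩ := mem_hexF.1 hb
    exact hc
  intro a ha
  by_cases has : a ∈ s
  · exact hfix a has
  · have h1 : σ a ∈ b := by
      rw [← heq]
      exact smul_apply_mem ha
    have h2 : σ a ∉ s := by
      intro h
      have h3 : σ (σ a) = σ a := hfix _ h
      exact has (σ.injective h3 ▸ h)
    have hcard : (b \ s).card = 1 := by
      rw [Finset.card_sdiff_of_subset hsb, hb6, hs]
    obtain ⟨c, hc⟩ := Finset.card_eq_one.1 hcard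
    have ha' : a ∈ b \ s := Finset.mem_sdiff.2 ⟨ha, has⟩
    have hsa' : σ a ∈ b \ s := Finset.mem_sdiff.2 ⟨h1, h2⟩
    rw [hc, Finset.mem_singleton] at ha' hsa'
    exact hsa'.trans ha'.symm

/-- an automorphism fixing four points `T` of two hexads `T ∪ {x, z}`, `T ∪ {y, w}`
and mapping `x` to `y` maps `z` to `w` -/
theorem mate_step {σ : Equiv.Perm Cfsg.ArrayPt} (hσ : σ ∈ Cfsg.setSystemAut hexSet)
    {T b b' : Finset Cfsg.ArrayPt} {x z y w : Cfsg.ArrayPt}
    (hT : T.card = 4) (hfix : ∀ t ∈ T, σ t = t)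
    (hb : b ∈ hexF) (hb' : b' ∈ hexF) (hTb : T ⊆ b) (hTb' : T ⊆ b')
    (hx : x ∈ b) (hz : z ∈ b) (hy : y ∈ b') (hw : w ∈ b')
    (hzT : z ∉ T) (hyT : y ∉ T) (hwT : w ∉ T) (hxz : x ≠ z) (hyw : y ≠ w)
    (hxy : σ x = y) : σ z = w := by
  have hsb : σ • b ∈ hexF := smul_mem_hexF hσ hb
  set s := insert y T with hs
  have hscard : s.card = 5 := by
    rw [hs, Finset.card_insert_of_notMem hyT, hT]
  have hs1 : s ⊆ σ • b := by
    intro a ha
    rw [hs, Finset.mem_insert] at ha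
    rcases ha with rfl | ha
    · rw [← hxy]
      exact smul_apply_mem hx
    · exact mem_smul_of_fixed (hTb ha) (hfix a ha)
  have hs2 : s ⊆ b' := by
    intro a ha
    rw [hs, Finset.mem_insert] at ha
    rcases ha with rfl | ha
    · exact hy
    · exact hTb' ha
  have heq : σ • b = b' := hexF_unique hsb hb' hscard hs1 hs2
  have hb6 : b'.card = 6 := by
    obtain ⟨x, _, _, hc⟩ := mem_hexF.1 hb'
    exact hc
  have h1 : σ z ∈ b' := by
    rw [← heq]
    exact smul_apply_mem hz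
  have h2 : σ z ∉ s := by
    intro h
    rw [hs, Finset.mem_insert] at h
    rcases h with h | h
    · rw [← hxy] at h
      exact hxz (σ.injective h).symm
    · have h3 : σ (σ z) = σ z := hfix _ h
      exact hzT (σ.injective h3 ▸ h)
  have hw2 : w ∉ s := by
    intro h
    rw [hs, Finset.mem_insert] at h
    rcases h with h | h
    · exact hyw h.symm
    · exact hwT h
  have hcard : (b' \ s).card = 1 := by
    rw [Finset.card_sdiff_of_subset hs2, hb6, hscard]
  obtain ⟨c, hc⟩ := Finset.card_eq_one.1 hcard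
  have ha' : w ∈ b' \ s := Finset.mem_sdiff.2 ⟨hw, hw2⟩
  have hsa' : σ z ∈ b' \ s := Finset.mem_sdiff.2 ⟨h1, h2⟩
  rw [hc, Finset.mem_singleton] at ha' hsa'
  exact hsa'.trans ha'.symm

theorem mem_hexF_wit (p : P6) (h : tgWt p = 6) : Cfsg.ternarySupport (tgP p) ∈ hexF :=
  mem_hexF.2 ⟨tgP p, tgP_mem p, rfl, h⟩

/-- for an automorphism fixing `H0` pointwise: `x ↦ y` forces `mate x ↦ mate y` -/
theorem mate_map {σ : Equiv.Perm Cfsg.ArrayPt} (hσ : σ ∈ Cfsg.setSystemAut hexSet)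
    (hfix : ∀ t ∈ H0, σ t = t) (a b : Fin 6) (hab : a < b) {x y : Cfsg.ArrayPt}
    (hx : x ∉ H0) (hy : y ∉ H0) (hxy : σ x = y) : σ (mateP a b x) = mateP a b y := by
  obtain ⟨hx1, hx2, hx3, hx4, hx5, hx6⟩ := valid_all a b hab x hx
  obtain ⟨hy1, hy2, hy3, hy4, hy5, hy6⟩ := valid_all a b hab y hy
  exact mate_step hσ (tet_card a b hab) (fun t ht => hfix t (tet_subset _ _ ht))
    (mem_hexF_wit _ hx1) (mem_hexF_wit _ hy1) hx2 hy2 hx3 hx4 hy3 hy4
    (fun h => hx5 (tet_subset _ _ h)) (fun h => hy (tet_subset _ _ h))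
    (fun h => hy5 (tet_subset _ _ h)) hx6 hy6 hxy

theorem base_subset : ({pt 0, pt 1, pt 2, pt 3, pt 4} : Finset Cfsg.ArrayPt) ⊆ H0 := by decide

theorem base_card : ({pt 0, pt 1, pt 2, pt 3, pt 4} : Finset Cfsg.ArrayPt).card = 5 := by decide

/-- sharpness: an automorphism of the hexad system fixing the five base points is trivial -/
theorem sharp {σ : Equiv.Perm Cfsg.ArrayPt} (hσ : σ ∈ Cfsg.setSystemAut hexSet)
    (h0 : σ (pt 0) = pt 0) (h1 : σ (pt 1) = pt 1) (h2 : σ (pt 2) = pt 2) (h3 : σ (pt 3) = pt 3)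
    (h4 : σ (pt 4) = pt 4) : σ = 1 := by
  have hfix : ∀ t ∈ H0, σ t = t := by
    apply fix_of_five hσ H0_mem_hexF base_subset base_card
    intro a ha
    simp only [Finset.mem_insert, Finset.mem_singleton] at ha
    rcases ha with rfl | rfl | rfl | rfl | rfl
    exacts [h0, h1, h2, h3, h4]
  apply Equiv.ext
  intro x
  show σ x = x
  by_cases hx : x ∈ H0
  · exact hfix x hx
  · by_contra hne
    have hy : σ x ∉ H0 := by
      intro h
      have : σ (σ x) = σ x := hfix _ h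
      exact hx (σ.injective this ▸ h)
    obtain ⟨a, b, a', b', hab, hab', hm1, hm2⟩ := cert_all x (σ x) hx hy (Ne.symm hne)
    have e1 := mate_map hσ hfix a b hab hx hy rfl
    have e2 := mate_map hσ hfix a' b' hab' hx hy rfl
    rw [hm1, e2] at e1
    exact hm2 e1.symm

end Cfsg.Agent.Lib.Helper10.TG
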