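/-
helper10: S3797 leaves CARDLE `card_iSup_le` and CARDIND `card_iSup_of_indep`
(`notes/S3797_leaves.lean`, exact names + binders).
-/
import Mathlib
import Cfsg.Prelude.Def_Local
import Cfsg.Agent.Lib.Helper25.TSDefs

set_option autoImplicit false

namespace Cfsg.Agent.Lib.Helper10.TSCARD

open Cfsg.Agent.Lib.Helper25.TS
open scoped commutatorElement

section stageLeaves

variable {V E : Type*} [AddCommGroup V] [AddCommGroup E] [Finite V] [Finite E]
variable {Γ : Type*} [Group Γ] [Finite Γ] [DistribMulAction Γ V]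
variable {q : V → E} {F U B : Subgroup Γ}

/-- the sum map `Π i, A i → V` -/
def sumHom {V : Type*} [AddCommGroup V] {ι : Type*} [Fintype ι] (A : ι → AddSubgroup V) :
    (∀ i, A i) →+ V where
  toFun a := ∑ i, (a i : V)
  map_zero' := by simp
  map_add' a b := by simp [Finset.sum_add_distrib]

theorem range_sumHom {V : Type*} [AddCommGroup V] {ι : Type*} [Fintype ι]
    (A : ι → AddSubgroup V) : (sumHom A).range = ⨆ i, A i := by
  classical
  apply le_antisymm
  · rintro _ ⟨a, rfl⟩
    show ∑ i, (a i : V) ∈ ⨆ i, A i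
    exact AddSubgroup.sum_mem _ fun i _ => (le_iSup A i) (a i).2
  · apply iSup_le
    intro j x hx
    refine ⟨Pi.single j ⟨x, hx⟩, ?_⟩
    show ∑ i, ((Pi.single j (⟨x, hx⟩ : A j) : ∀ i, A i) i : V) = x
    rw [Finset.sum_eq_single j]
    · rw [Pi.single_eq_same]
    · intro i _ hij
      rw [Pi.single_eq_of_ne hij]
      rfl
    · intro h; exact absurd (Finset.mem_univ j) h

/-- **S6a `card_iSup_le`** -/
theorem card_iSup_le {ι : Type*} [Fintype ι] (A : ι → AddSubgroup V) :
    Nat.card ↥(⨆ i, A i) ≤ ∏ i, Nat.card (A i) := by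
  classical
  rw [← range_sumHom A, ← Nat.card_pi]
  exact Nat.card_le_card_of_surjective (sumHom A).rangeRestrict (sumHom A).rangeRestrict_surjective

/-- **S6b `card_iSup_of_indep`** -/
theorem card_iSup_of_indep {ι : Type*} [Fintype ι] (A : ι → AddSubgroup V) (h : iSupIndep A) :
    Nat.card ↥(⨆ i, A i) = ∏ i, Nat.card (A i) := by
  classical
  rw [← range_sumHom A, ← Nat.card_pi]
  have hinj : Function.Injective (sumHom A) := by
    rw [injective_iff_map_eq_zero]
    intro a ha
    funext j
    have hsum : ∑ i, (a i : V) = 0 := ha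
    have h1 : (a j : V) = - ∑ i ∈ Finset.univ.erase j, (a i : V) := by
      rw [← Finset.add_sum_erase _ _ (Finset.mem_univ j)] at hsum
      exact eq_neg_of_add_eq_zero_left hsum
    have h2 : (a j : V) ∈ ⨆ i, ⨆ (_ : i ≠ j), A i := by
      rw [h1]
      apply AddSubgroup.neg_mem
      apply AddSubgroup.sum_mem
      intro i hi
      have hij : i ≠ j := Finset.ne_of_mem_erase hi
      exact (le_iSup₂ (f := fun i (_ : i ≠ j) => A i) i hij) (a i).2
    have h3 := (h j).le_bot ⟨(a j).2, h2⟩
    apply Subtype.ext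
    exact (AddSubgroup.mem_bot).mp h3
  exact (Nat.card_congr (Equiv.ofInjective _ hinj)).symm

end stageLeaves

end Cfsg.Agent.Lib.Helper10.TSCARD
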