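/-
helper10: S3797 leaf END `act_end` (`notes/S3797_leaves.lean`, exact name + binders): the endgame count.
-/
import Mathlib
import Cfsg.Prelude.Def_Local
import Cfsg.Agent.Lib.Helper25.TSDefs
import Cfsg.Agent.Lib.Helper10.TSCARD

set_option autoImplicit false

namespace Cfsg.Agent.Lib.Helper10.TSEND

open Cfsg.Agent.Lib.Helper25.TS
open scoped commutatorElement

section prelim

variable {Γ : Type*} [Group Γ]

/-- `|H| * |K : H| = |K|` -/
theorem card_mul_relIndex' {H K : Subgroup Γ} (h : H ≤ K) :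
    Nat.card H * H.relIndex K = Nat.card K := by
  have := Subgroup.relIndex_mul_relIndex ⊥ H K bot_le h
  rwa [Subgroup.relIndex_bot_left, Subgroup.relIndex_bot_left] at this

/-- the conjugate subgroup `b h b⁻¹` -/
def cj (b : Γ) (h : Subgroup Γ) : Subgroup Γ := h.map (MulAut.conj b).toMonoidHom

theorem mem_cj_of_mem {b x : Γ} {h : Subgroup Γ} (hx : x ∈ h) : b * x * b⁻¹ ∈ cj b h :=
  Subgroup.mem_map.mpr ⟨x, hx, rfl⟩

theorem exists_of_mem_cj {b y : Γ} {h : Subgroup Γ} (hy : y ∈ cj b h) :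
    ∃ x ∈ h, b * x * b⁻¹ = y := by
  obtain ⟨x, hx, hxy⟩ := Subgroup.mem_map.mp hy
  exact ⟨x, hx, hxy⟩

theorem card_cj [Finite Γ] (b : Γ) (h : Subgroup Γ) : Nat.card (cj b h) = Nat.card h :=
  Subgroup.card_map_of_injective (MulAut.conj b).injective

theorem isHyp_cj [Finite Γ] {U B : Subgroup Γ} (hBU : ∀ b ∈ B, ∀ u ∈ U, b * u * b⁻¹ ∈ U)
    {b : Γ} (hb : b ∈ B) {h : Subgroup Γ} (hh : IsHyp h U) : IsHyp (cj b h) U := by
  have hle : cj b h ≤ U := by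
    intro y hy
    obtain ⟨x, hx, rfl⟩ := exists_of_mem_cj hy
    exact hBU b hb x (hh.1 hx)
  refine ⟨hle, ?_⟩
  have h1 := card_mul_relIndex' hh.1
  have h2 := card_mul_relIndex' hle
  rw [card_cj, ← h1, hh.2] at h2
  have hpos : 0 < Nat.card h := Nat.card_pos
  exact Nat.eq_of_mul_eq_mul_left hpos h2

end prelim

section stageLeaves

variable {V E : Type*} [AddCommGroup V] [AddCommGroup E] [Finite V] [Finite E]
variable {Γ : Type*} [Group Γ] [Finite Γ] [DistribMulAction Γ V]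
variable {q : V → E} {F U B : Subgroup Γ}

/-- `A_h = [V, C_F(h)] ∩ C_V(U)` -/
def AA (V : Type*) [AddCommGroup V] {Γ : Type*} [Group Γ] [DistribMulAction Γ V]
    (F U h : Subgroup Γ) : AddSubgroup V :=
  commSub (V := V) (cen F h) ⊓ fixedPts (V := V) U

omit [Finite V] [Finite Γ] in
/-- `b • [V, C_F(h)] ≤ [V, C_F(b h b⁻¹)]` -/
theorem smul_mem_commSub_cj (hBF : ∀ b ∈ B, ∀ f ∈ F, b * f * b⁻¹ ∈ F) {b : Γ} (hb : b ∈ B)
    (h : Subgroup Γ) {v : V} (hv : v ∈ commSub (V := V) (cen F h)) :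
    b • v ∈ commSub (V := V) (cen F (cj b h)) := by
  unfold commSub at hv
  induction hv using AddSubgroup.closure_induction with
  | mem w hw =>
    obtain ⟨y, hy, x, rfl⟩ := hw
    have hy' : b * y * b⁻¹ ∈ cen F (cj b h) := by
      rw [mem_cen] at hy ⊢
      refine ⟨hBF b hb y hy.1, ?_⟩
      intro z hz
      obtain ⟨x', hx', rfl⟩ := exists_of_mem_cj hz
      have := hy.2 x' hx'
      calc b * x' * b⁻¹ * (b * y * b⁻¹) = b * (x' * y) * b⁻¹ := by group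
        _ = b * (y * x') * b⁻¹ := by rw [this]
        _ = b * y * b⁻¹ * (b * x' * b⁻¹) := by group
    have := smul_sub_mem_commSub (V := V) (cen F (cj b h)) hy' (b • x)
    have e : (b * y * b⁻¹) • b • x - b • x = b • (y • x - x) := by
      rw [smul_sub, ← mul_smul, ← mul_smul]
      congr 2
      group
    rwa [e] at this
  | zero => rw [smul_zero]; exact AddSubgroup.zero_mem _
  | add x y _ _ hx hy => rw [smul_add]; exact AddSubgroup.add_mem _ hx hy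
  | neg x _ hx => rw [smul_neg]; exact AddSubgroup.neg_mem _ hx

omit [Finite V] [Finite Γ] in
/-- `b • C_V(U) ≤ C_V(U)` -/
theorem smul_mem_fixedPts (hBU : ∀ b ∈ B, ∀ u ∈ U, b * u * b⁻¹ ∈ U) {b : Γ} (hb : b ∈ B)
    {v : V} (hv : v ∈ fixedPts (V := V) U) : b • v ∈ fixedPts (V := V) U := by
  intro u hu
  have h1 : b⁻¹ * u * b⁻¹⁻¹ ∈ U := hBU b⁻¹ (B.inv_mem hb) u hu
  have h2 := hv _ h1
  calc u • b • v = b • (b⁻¹ * u * b⁻¹⁻¹) • v := by
        rw [← mul_smul, ← mul_smul]; congr 1; group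
    _ = b • v := by rw [h2]

omit [Finite V] [Finite Γ] in
theorem smul_mem_AA (hBF : ∀ b ∈ B, ∀ f ∈ F, b * f * b⁻¹ ∈ F)
    (hBU : ∀ b ∈ B, ∀ u ∈ U, b * u * b⁻¹ ∈ U) {b : Γ} (hb : b ∈ B)
    (h : Subgroup Γ) {v : V} (hv : v ∈ AA V F U h) : b • v ∈ AA V F U (cj b h) :=
  ⟨smul_mem_commSub_cj hBF hb h hv.1, smul_mem_fixedPts hBU hb hv.2⟩

/-- **S7 `act_end`** : the endgame. -/
theorem act_end (a : ActCtx q F U B)
    (hW : Nat.card (commSub (V := V) U) = Nat.card E) (hV : Nat.card V = Nat.card E ^ 2)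
    (hfixU : fixedPts (V := V) U = commSub (V := V) U)
    (hadd : ∀ x ∈ commSub (V := V) U, ∀ y ∈ commSub (V := V) U, q (x + y) = q x + q y)
    (hcomm : commSub (V := V) F = ⊤)
    (hsq : ∀ U₀ : Subgroup Γ, IsHyp U₀ U → Nat.card (commSub (V := V) (cen F U₀)) =
      Nat.card ↥(commSub (V := V) (cen F U₀) ⊓ fixedPts (V := V) U) ^ 2)
    (hfix : ∀ U₀ : Subgroup Γ, IsHyp U₀ U → ∀ U₁ : Subgroup Γ, IsHyp U₁ U → U₁ ≠ U₀ → ∀ f ∈ cen F U₁,
      ∀ v ∈ commSub (V := V) (cen F U₀) ⊓ fixedPts (V := V) U, f • v = v)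
    (hdisj : ∀ U₀ : Subgroup Γ, IsHyp U₀ U →
      commSub (V := V) (cen F U₀) ⊓ fixedPts (V := V) (cen F U₀) = ⊥)
    (hgen : (⨆ U₀ : {U₀ : Subgroup Γ // IsHyp U₀ U}, cen F (U₀ : Subgroup Γ)) = F)
    (hsup : commSub (V := V) (⨆ U₀ : {U₀ : Subgroup Γ // IsHyp U₀ U}, cen F (U₀ : Subgroup Γ)) =
      ⨆ U₀ : {U₀ : Subgroup Γ // IsHyp U₀ U}, commSub (V := V) (cen F (U₀ : Subgroup Γ))) :
    False := by
  classical
  haveI : Fintype {U₀ : Subgroup Γ // IsHyp U₀ U} := Fintype.ofFinite _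
  -- independence of the `A_h`
  have hind : iSupIndep (fun h : {U₀ : Subgroup Γ // IsHyp U₀ U} => AA V F U h.1) := by
    intro h
    rw [disjoint_iff_inf_le]
    rintro x ⟨hx1, hx2⟩
    have hle : (⨆ j, ⨆ (_ : j ≠ h), AA V F U j.1) ≤ fixedPts (V := V) (cen F h.1) := by
      apply iSup₂_le
      intro j hj v hv f hf
      exact hfix j.1 j.2 h.1 h.2 (fun e => hj (Subtype.ext e.symm)) f hf v hv
    have hx3 : x ∈ commSub (V := V) (cen F h.1) ⊓ fixedPts (V := V) (cen F h.1) :=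
      ⟨hx1.1, hle hx2⟩
    rw [hdisj h.1 h.2] at hx3
    exact hx3
  -- `V = ⨆ V_h`
  have htop : (⨆ h : {U₀ : Subgroup Γ // IsHyp U₀ U}, commSub (V := V) (cen F h.1)) = ⊤ := by
    rw [← hsup, hgen, hcomm]
  -- the count
  have hAle : (⨆ h : {U₀ : Subgroup Γ // IsHyp U₀ U}, AA V F U h.1) ≤ fixedPts (V := V) U :=
    iSup_le fun h => inf_le_right
  have hc1 : Nat.card V ≤ ∏ h : {U₀ : Subgroup Γ // IsHyp U₀ U},
      Nat.card (commSub (V := V) (cen F h.1)) := by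
    have := Cfsg.Agent.Lib.Helper10.TSCARD.card_iSup_le
      (fun h : {U₀ : Subgroup Γ // IsHyp U₀ U} => commSub (V := V) (cen F h.1))
    rw [htop] at this
    rwa [AddSubgroup.card_top] at this
  have hc2 : (∏ h : {U₀ : Subgroup Γ // IsHyp U₀ U}, Nat.card (commSub (V := V) (cen F h.1))) =
      (Nat.card ↥(⨆ h : {U₀ : Subgroup Γ // IsHyp U₀ U}, AA V F U h.1)) ^ 2 := by
    rw [Cfsg.Agent.Lib.Helper10.TSCARD.card_iSup_of_indep _ hind, ← Finset.prod_pow]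
    apply Finset.prod_congr rfl
    intro h _
    exact hsq h.1 h.2
  have hc3 : Nat.card ↥(⨆ h : {U₀ : Subgroup Γ // IsHyp U₀ U}, AA V F U h.1) ≤ Nat.card E := by
    rw [← hW, ← hfixU]
    exact AddSubgroup.card_le_of_le hAle
  have hc4 : Nat.card E ≤ Nat.card ↥(⨆ h : {U₀ : Subgroup Γ // IsHyp U₀ U}, AA V F U h.1) := by
    rw [hV, hc2] at hc1
    exact (Nat.pow_le_pow_iff_left (by norm_num)).mp hc1
  have hAeq : (⨆ h : {U₀ : Subgroup Γ // IsHyp U₀ U}, AA V F U h.1) = commSub (V := V) U := by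
    rw [← hfixU]
    apply AddSubgroup.eq_of_le_of_card_ge hAle
    rw [hfixU, hW]
    exact hc4
  -- `q` is injective on `W`
  have hqinj : ∀ x ∈ commSub (V := V) U, ∀ y ∈ commSub (V := V) U, q x = q y → x = y := by
    intro x hx y hy hxy
    have h1 : q (x + y) = 0 := by rw [hadd x hx y hy, hxy, a.hq.two_E]
    have h2 : x + y = 0 := a.hq.aniso _ h1
    have h3 : y + y = 0 := a.hq.two_V y
    have : x + y = y + y := by rw [h2, h3]
    exact add_right_cancel this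
  -- `W ≠ 0`
  obtain ⟨u₀, hu₀U, hu₀1⟩ : ∃ u ∈ U, u ≠ 1 := by
    by_contra hcon
    push Not at hcon
    exact a.U_ne ((Subgroup.eq_bot_iff_forall U).mpr hcon)
  obtain ⟨w₀, hw₀W, hw₀0⟩ : ∃ w ∈ commSub (V := V) U, w ≠ 0 := by
    by_contra hcon
    push Not at hcon
    apply hu₀1
    apply a.faithful
    intro v
    have := hcon _ (smul_sub_mem_commSub (V := V) U hu₀U v)
    exact sub_eq_zero.mp this
  -- some `A_h` is nonzero
  obtain ⟨h₀, a₀, ha₀, ha₀0⟩ : ∃ h : {U₀ : Subgroup Γ // IsHyp U₀ U}, ∃ x ∈ AA V F U h.1, x ≠ 0 := by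
    by_contra hcon
    push Not at hcon
    apply hw₀0
    have : (⨆ h : {U₀ : Subgroup Γ // IsHyp U₀ U}, AA V F U h.1) ≤ ⊥ := by
      apply iSup_le
      intro h x hx
      rw [AddSubgroup.mem_bot]
      exact hcon h x hx
    rw [hAeq] at this
    exact (AddSubgroup.mem_bot).mp (this hw₀W)
  have hAW : ∀ h : {U₀ : Subgroup Γ // IsHyp U₀ U}, AA V F U h.1 ≤ commSub (V := V) U := by
    intro h
    rw [← hAeq]
    exact le_iSup (fun h : {U₀ : Subgroup Γ // IsHyp U₀ U} => AA V F U h.1) h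
  -- every nonzero element of `W` lies in some `A_h`
  have hcover : ∀ w ∈ commSub (V := V) U, w ≠ 0 →
      ∃ h : {U₀ : Subgroup Γ // IsHyp U₀ U}, w ∈ AA V F U h.1 := by
    intro w hw hw0
    have he : q a₀ ≠ 0 := fun h => ha₀0 (a.hq.aniso _ h)
    have he' : q w ≠ 0 := fun h => hw0 (a.hq.aniso _ h)
    obtain ⟨b, hb, s, hs, hbs⟩ := a.trans (q a₀) (q w) he he'
    have hmem := smul_mem_AA a.B_normF a.B_normU hb h₀.1 ha₀
    refine ⟨⟨cj b h₀.1, isHyp_cj a.B_normU hb h₀.2⟩, ?_⟩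
    have hq : q (b • a₀) = q w := by rw [hbs, hs]
    have := hqinj (b • a₀) (hAW ⟨cj b h₀.1, isHyp_cj a.B_normU hb h₀.2⟩ hmem) w hw hq
    rw [← this]
    exact hmem
  -- two nonzero summands are impossible
  have hdisjAA : ∀ h₁ h₂ : {U₀ : Subgroup Γ // IsHyp U₀ U}, h₁ ≠ h₂ →
      ∀ x, x ∈ AA V F U h₁.1 → x ∈ AA V F U h₂.1 → x = 0 := by
    intro h₁ h₂ hne x hx1 hx2
    have hd := hind h₁
    rw [disjoint_iff_inf_le] at hd
    have : x ∈ AA V F U h₁.1 ⊓ ⨆ j, ⨆ (_ : j ≠ h₁), AA V F U j.1 :=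
      ⟨hx1, (le_iSup₂ (f := fun j (_ : j ≠ h₁) => AA V F U j.1) h₂ (Ne.symm hne)) hx2⟩
    exact (AddSubgroup.mem_bot).mp (hd this)
  have huniq : ∀ h₁ h₂ : {U₀ : Subgroup Γ // IsHyp U₀ U},
      (∃ x ∈ AA V F U h₁.1, x ≠ 0) → (∃ x ∈ AA V F U h₂.1, x ≠ 0) → h₁ = h₂ := by
    intro h₁ h₂ ⟨x₁, hx₁, hx₁0⟩ ⟨x₂, hx₂, hx₂0⟩
    by_contra hne
    have hsum0 : x₁ + x₂ ≠ 0 := by
      intro h0
      have : x₁ = -x₂ := eq_neg_of_add_eq_zero_left h0
      have hx₁' : x₁ ∈ AA V F U h₂.1 := by rw [this]; exact AddSubgroup.neg_mem _ hx₂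
      exact hx₁0 (hdisjAA h₁ h₂ hne x₁ hx₁ hx₁')
    have hsumW : x₁ + x₂ ∈ commSub (V := V) U :=
      AddSubgroup.add_mem _ (hAW h₁ hx₁) (hAW h₂ hx₂)
    obtain ⟨h, hh⟩ := hcover _ hsumW hsum0
    -- `x₁ ∈ A_{h₁} ⊓ ⨆_{j ≠ h₁} A_j` unless `h = h₁`
    have key : ∀ (i j : {U₀ : Subgroup Γ // IsHyp U₀ U}) (y z : V), i ≠ j →
        y ∈ AA V F U i.1 → z ∈ AA V F U j.1 → y + z ∈ AA V F U h.1 → y ≠ 0 → h = i := by
      intro i j y z hij hy hz hyz hy0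
      by_contra hhi
      have hd := hind i
      rw [disjoint_iff_inf_le] at hd
      have h1 : y + z ∈ ⨆ k, ⨆ (_ : k ≠ i), AA V F U k.1 :=
        (le_iSup₂ (f := fun k (_ : k ≠ i) => AA V F U k.1) h hhi) hyz
      have h2 : z ∈ ⨆ k, ⨆ (_ : k ≠ i), AA V F U k.1 :=
        (le_iSup₂ (f := fun k (_ : k ≠ i) => AA V F U k.1) j (Ne.symm hij)) hz
      have h3 : y ∈ ⨆ k, ⨆ (_ : k ≠ i), AA V F U k.1 := by
        have := AddSubgroup.sub_mem _ h1 h2
        rwa [add_sub_cancel_right] at this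
      exact hy0 ((AddSubgroup.mem_bot).mp (hd ⟨hy, h3⟩))
    have e1 : h = h₁ := key h₁ h₂ x₁ x₂ hne hx₁ hx₂ hh hx₁0
    have e2 : h = h₂ := by
      apply key h₂ h₁ x₂ x₁ (Ne.symm hne) hx₂ hx₁ _ hx₂0
      rwa [add_comm]
    exact hne (e1.symm.trans e2)
  -- so `A_h = 0` for `h ≠ h₀`
  have hzero : ∀ h : {U₀ : Subgroup Γ // IsHyp U₀ U}, h ≠ h₀ → AA V F U h.1 = ⊥ := by
    intro h hne
    rw [eq_bot_iff]
    intro x hx
    rw [AddSubgroup.mem_bot]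
    by_contra hx0
    exact hne (huniq h h₀ ⟨x, hx, hx0⟩ ⟨a₀, ha₀, ha₀0⟩)
  -- hence `F_h = 1` for `h ≠ h₀`
  have hFbot : ∀ h : {U₀ : Subgroup Γ // IsHyp U₀ U}, h ≠ h₀ → cen F h.1 = ⊥ := by
    intro h hne
    have hcard : Nat.card (commSub (V := V) (cen F h.1)) = 1 := by
      rw [hsq h.1 h.2]
      have : AA V F U h.1 = ⊥ := hzero h hne
      unfold AA at this
      rw [this, AddSubgroup.card_bot, one_pow]
    have hVbot : commSub (V := V) (cen F h.1) = ⊥ := AddSubgroup.card_eq_one.mp hcard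
    rw [Subgroup.eq_bot_iff_forall]
    intro f hf
    apply a.faithful
    intro v
    have := smul_sub_mem_commSub (V := V) (cen F h.1) hf v
    rw [hVbot, AddSubgroup.mem_bot] at this
    exact sub_eq_zero.mp this
  -- `F = F_{h₀}`
  have hFeq : F ≤ cen F h₀.1 := by
    conv_lhs => rw [← hgen]
    apply iSup_le
    intro h
    by_cases hh : h = h₀
    · rw [hh]
    · rw [hFbot h hh]; exact bot_le
  -- `h₀ = 1`
  have hh₀bot : h₀.1 = ⊥ := by
    rw [Subgroup.eq_bot_iff_forall]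
    intro u hu
    apply a.U_faithful u (h₀.2.1 hu)
    intro f hf
    exact ((mem_cen F h₀.1 f).mp (hFeq hf)).2 u hu
  have hcardU : Nat.card U = 2 := by
    have := h₀.2.2
    rwa [hh₀bot, Subgroup.relIndex_bot_left] at this
  -- `B` centralizes `U`
  apply hu₀1
  apply a.B_fix u₀ hu₀U
  intro b hb
  have h1 : b * u₀ * b⁻¹ ∈ U := a.B_normU b hb u₀ hu₀U
  have h2 : b * u₀ * b⁻¹ ≠ 1 := by
    intro h
    apply hu₀1
    have := congrArg (fun z => b⁻¹ * z * b) h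
    simpa [mul_assoc] using this
  obtain ⟨y, -, hy⟩ := (Nat.card_eq_two_iff' (1 : U)).mp hcardU
  have h3 : ∀ z₁ z₂ : U, z₁ ≠ 1 → z₂ ≠ 1 → z₁ = z₂ := by
    intro z₁ z₂ hz₁ hz₂
    rw [hy z₁ hz₁, hy z₂ hz₂]
  have h4 := h3 ⟨b * u₀ * b⁻¹, h1⟩ ⟨u₀, hu₀U⟩
    (fun h => h2 (congrArg Subtype.val h)) (fun h => hu₀1 (congrArg Subtype.val h))
  have h5 : b * u₀ * b⁻¹ = u₀ := congrArg Subtype.val h4
  calc b * u₀ = b * u₀ * b⁻¹ * b := by group
    _ = u₀ * b := by rw [h5]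

end stageLeaves

end Cfsg.Agent.Lib.Helper10.TSEND
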