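/-
helper10: S3797 leaf ST3 `stage_three` (`notes/S3797_leaves.lean`) in `_of` form over COPR:
`C_V(F) = 0` and `[V,F] = V`.  Uses helper29's landed DIV and QCOMM.  Exact wrapper: `Helper10.TSST3`.
-/
import Mathlib
import Cfsg.Prelude.Def_Local
import Cfsg.Agent.Lib.Helper25.TSDefs
import Cfsg.Agent.Lib.Helper29.TSDIV
import Cfsg.Agent.Lib.Helper29.TSQCOMM

set_option autoImplicit false

namespace Cfsg.Agent.Lib.Helper10.TSST3of

open Cfsg.Agent.Lib.Helper25.TS
open scoped commutatorElement

section prelim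

variable {V : Type*} [AddCommGroup V] {Γ : Type*} [Group Γ] [DistribMulAction Γ V]

/-- `[V,Y]` is invariant under every `g` normalizing `Y` -/
theorem smul_mem_commSub_of_norm {Y : Subgroup Γ} {g : Γ} (hg : ∀ y ∈ Y, g * y * g⁻¹ ∈ Y)
    {v : V} (hv : v ∈ commSub (V := V) Y) : g • v ∈ commSub (V := V) Y := by
  unfold commSub at hv
  induction hv using AddSubgroup.closure_induction with
  | mem w hw =>
    obtain ⟨y, hy, x, rfl⟩ := hw
    have := smul_sub_mem_commSub (V := V) Y (hg y hy) (g • x)
    have e : (g * y * g⁻¹) • g • x - g • x = g • (y • x - x) := by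
      rw [smul_sub, ← mul_smul, ← mul_smul]
      congr 2
      group
    rwa [e] at this
  | zero => rw [smul_zero]; exact AddSubgroup.zero_mem _
  | add x y _ _ hx hy => rw [smul_add]; exact AddSubgroup.add_mem _ hx hy
  | neg x _ hx => rw [smul_neg]; exact AddSubgroup.neg_mem _ hx

/-- `C_V(Y)` is invariant under every `g` with `g⁻¹` normalizing `Y` -/
theorem smul_mem_fixedPts_of_norm {Y : Subgroup Γ} {g : Γ} (hg : ∀ y ∈ Y, g⁻¹ * y * g ∈ Y)
    {v : V} (hv : v ∈ fixedPts (V := V) Y) : g • v ∈ fixedPts (V := V) Y := by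
  intro y hy
  have h2 := hv _ (hg y hy)
  calc y • g • v = g • (g⁻¹ * y * g) • v := by
        rw [← mul_smul, ← mul_smul]; congr 1; group
    _ = g • v := by rw [h2]

end prelim

section stageLeaves

variable {V E : Type*} [AddCommGroup V] [AddCommGroup E] [Finite V] [Finite E]
variable {Γ : Type*} [Group Γ] [Finite Γ] [DistribMulAction Γ V]
variable {q : V → E} {F U B : Subgroup Γ}

/-- **S3 `stage_three`** in `_of` form over COPR (`coprime_decomp` for `F`) -/
theorem stage_three_of (a : ActCtx q F U B) (hV : Nat.card V = Nat.card E ^ 2)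
    (hE : 2 ≤ Nat.card E)
    (hcopr : commSub (V := V) F ⊓ fixedPts (V := V) F = ⊥ ∧
      commSub (V := V) F ⊔ fixedPts (V := V) F = ⊤ ∧
      Nat.card V = Nat.card (commSub (V := V) F) * Nat.card (fixedPts (V := V) F)) :
    fixedPts (V := V) F = ⊥ ∧ commSub (V := V) F = ⊤ := by
  classical
  have hinvB : ∀ b ∈ B, ∀ f ∈ F, b⁻¹ * f * b ∈ F := by
    intro b hb f hf
    have := a.B_normF b⁻¹ (B.inv_mem hb) f hf
    rwa [inv_inv] at this
  have hinvU : ∀ u ∈ U, ∀ f ∈ F, u⁻¹ * f * u ∈ F := by
    intro u hu f hf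
    have := a.U_norm u⁻¹ (U.inv_mem hu) f hf
    rwa [inv_inv] at this
  -- `C_V(F)` is `B`-invariant
  have hCB : ∀ b ∈ B, ∀ w ∈ fixedPts (V := V) F, b • w ∈ fixedPts (V := V) F :=
    fun b hb w hw => smul_mem_fixedPts_of_norm (hinvB b hb) hw
  obtain ⟨k, hk⟩ := Cfsg.Agent.Lib.Helper29.TSDIV.card_invariant a.hq B a.trans
    (fixedPts (V := V) F) hCB
  obtain ⟨hA9a, hA9b, hA9c⟩ := hcopr
  set n := Nat.card E with hn
  have hn0 : 0 < n := by omega
  rw [hV, hk] at hA9c
  -- hA9c : n ^ 2 = |[V,F]| * n ^ k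
  have hk2 : k ≤ 2 := by
    by_contra hcon
    push Not at hcon
    have h1 : n ^ 2 < n ^ k := Nat.pow_lt_pow_right (by omega) hcon
    have h2 : 0 < Nat.card (commSub (V := V) F) := Nat.card_pos
    have h3 : n ^ k ≤ Nat.card (commSub (V := V) F) * n ^ k := Nat.le_mul_of_pos_left _ h2
    omega
  interval_cases k
  · -- `|C_V(F)| = 1`
    rw [pow_zero] at hk
    rw [pow_zero, mul_one] at hA9c
    refine ⟨AddSubgroup.card_eq_one.mp hk, ?_⟩
    apply AddSubgroup.eq_top_of_card_eq
    rw [← hA9c, hV]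
  · -- `|C_V(F)| = |E|`: the hard case
    exfalso
    rw [pow_one] at hk hA9c
    have hW'card : Nat.card (commSub (V := V) F) = n := by
      have : n * n = Nat.card (commSub (V := V) F) * n := by rw [← hA9c]; ring
      exact (Nat.eq_of_mul_eq_mul_right hn0 this).symm
    -- `U` acts faithfully on `W' = [V,F]`
    have hfaith : ∀ u ∈ U, (∀ w ∈ commSub (V := V) F, u • w = w) → u = 1 := by
      intro u hu htriv
      apply a.U_faithful u hu
      intro f hf
      -- `[u,f]` is trivial on `V`
      have hc : u * f * u⁻¹ * f⁻¹ = 1 := by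
        apply a.faithful
        intro v
        have hv : v ∈ commSub (V := V) F ⊔ fixedPts (V := V) F := by rw [hA9b]; trivial
        obtain ⟨w, hw, c, hc, rfl⟩ := AddSubgroup.mem_sup.mp hv
        have h1 : (u * f * u⁻¹ * f⁻¹) • w = w := by
          have e1 : f⁻¹ • w ∈ commSub (V := V) F :=
            smul_mem_commSub_of_norm (fun y hy => F.mul_mem (F.mul_mem (F.inv_mem hf) hy)
              (F.inv_mem (F.inv_mem hf))) hw
          have e2 : u⁻¹ • f⁻¹ • w = f⁻¹ • w := by
            have := htriv _ e1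
            calc u⁻¹ • f⁻¹ • w = u⁻¹ • u • f⁻¹ • w := by rw [this]
              _ = f⁻¹ • w := inv_smul_smul _ _
          rw [mul_smul, mul_smul, mul_smul, e2, smul_inv_smul, htriv w hw]
        have h2 : (u * f * u⁻¹ * f⁻¹) • c = c := by
          have e1 : f⁻¹ • c = c := hc _ (F.inv_mem hf)
          have e2 : u⁻¹ • c ∈ fixedPts (V := V) F := by
            apply smul_mem_fixedPts_of_norm _ hc
            intro y hy
            rw [inv_inv]
            exact a.U_norm u hu y hy
          rw [mul_smul, mul_smul, mul_smul, e1, e2 f hf, smul_inv_smul]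
        rw [smul_add, h1, h2]
      calc u * f = (u * f * u⁻¹ * f⁻¹) * f * u := by group
        _ = f * u := by rw [hc, one_mul]
    -- `W'' = [W', U]`
    set W'' : AddSubgroup V := AddSubgroup.closure
      {x : V | ∃ u ∈ U, ∃ w ∈ commSub (V := V) F, x = u • w - w} with hW''
    have hW''le : W'' ≤ commSub (V := V) F := by
      rw [hW'', AddSubgroup.closure_le]
      rintro x ⟨u, hu, w, hw, rfl⟩
      exact AddSubgroup.sub_mem _ (smul_mem_commSub_of_norm (a.U_norm u hu) hw) hw
    have hW''U : W'' ≤ commSub (V := V) U := by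
      rw [hW'', AddSubgroup.closure_le]
      rintro x ⟨u, hu, w, hw, rfl⟩
      exact smul_sub_mem_commSub U hu w
    have hW''B : ∀ b ∈ B, ∀ w ∈ W'', b • w ∈ W'' := by
      intro b hb w hw
      rw [hW''] at hw
      induction hw using AddSubgroup.closure_induction with
      | mem x hx =>
        obtain ⟨u, hu, w, hw, rfl⟩ := hx
        apply AddSubgroup.subset_closure
        refine ⟨b * u * b⁻¹, a.B_normU b hb u hu, b • w,
          smul_mem_commSub_of_norm (a.B_normF b hb) hw, ?_⟩
        rw [smul_sub, ← mul_smul, ← mul_smul]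
        congr 2
        group
      | zero => rw [smul_zero]; exact AddSubgroup.zero_mem _
      | add x y _ _ hx hy => rw [smul_add]; exact AddSubgroup.add_mem _ hx hy
      | neg x _ hx => rw [smul_neg]; exact AddSubgroup.neg_mem _ hx
    obtain ⟨j, hj⟩ := Cfsg.Agent.Lib.Helper29.TSDIV.card_invariant a.hq B a.trans W'' hW''B
    -- `W'' ≠ 0`
    obtain ⟨u₀, hu₀U, hu₀1⟩ : ∃ u ∈ U, u ≠ 1 := by
      by_contra hcon
      push Not at hcon
      exact a.U_ne ((Subgroup.eq_bot_iff_forall U).mpr hcon)
    have hne : W'' ≠ ⊥ := by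
      intro hbot
      apply hu₀1
      apply hfaith u₀ hu₀U
      intro w hw
      have : u₀ • w - w ∈ W'' := AddSubgroup.subset_closure ⟨u₀, hu₀U, w, hw, rfl⟩
      rw [hbot, AddSubgroup.mem_bot] at this
      exact sub_eq_zero.mp this
    have hj0 : j ≠ 0 := by
      intro h0
      rw [h0, pow_zero] at hj
      exact hne (AddSubgroup.card_eq_one.mp hj)
    -- so `W'' = W'`
    have hWeq : W'' = commSub (V := V) F := by
      apply AddSubgroup.eq_of_le_of_card_ge hW''le
      rw [hW'card, hj]
      calc n = n ^ 1 := (pow_one n).symm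
        _ ≤ n ^ j := Nat.pow_le_pow_right hn0 (Nat.one_le_iff_ne_zero.mpr hj0)
    -- then `U` is trivial on `W'`
    have hA3 := (Cfsg.Agent.Lib.Helper29.TSQCOMM.commSub_facts a.hq U a.U_isom a.U_two).2.1
    apply hu₀1
    apply hfaith u₀ hu₀U
    intro w hw
    apply hA3 u₀ hu₀U w
    apply hW''U
    rw [hWeq]
    exact hw
  · -- `|C_V(F)| = |E|²`
    exfalso
    have htop : fixedPts (V := V) F = ⊤ := by
      apply AddSubgroup.eq_top_of_card_eq
      rw [hk, hV]
    have hF1 : ∀ f ∈ F, f = 1 := by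
      intro f hf
      apply a.faithful
      intro v
      have : v ∈ fixedPts (V := V) F := by rw [htop]; trivial
      exact this f hf
    apply a.U_ne
    rw [Subgroup.eq_bot_iff_forall]
    intro u hu
    apply a.U_faithful u hu
    intro f hf
    rw [hF1 f hf, mul_one, one_mul]

end stageLeaves

end Cfsg.Agent.Lib.Helper10.TSST3of
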