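/-
helper10: S3797 leaf ST3 `stage_three` (`notes/S3797_leaves.lean`, exact name + binders):
wrapper of `Helper10.TSST3of.stage_three_of` over COPR.
-/
import Mathlib
import Cfsg.Prelude.Def_Local
import Cfsg.Agent.Lib.Helper25.TSDefs
import Cfsg.Agent.Lib.Helper10.TSST3of
import Cfsg.Agent.Lib.Helper12.TSCOPR

set_option autoImplicit false

namespace Cfsg.Agent.Lib.Helper10.TSST3

open Cfsg.Agent.Lib.Helper25.TS
open scoped commutatorElement

section stageLeaves

variable {V E : Type*} [AddCommGroup V] [AddCommGroup E] [Finite V] [Finite E]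
variable {Γ : Type*} [Group Γ] [Finite Γ] [DistribMulAction Γ V]
variable {q : V → E} {F U B : Subgroup Γ}

/-- **S3 `stage_three`** -/
theorem stage_three (a : ActCtx q F U B) (hV : Nat.card V = Nat.card E ^ 2) (hE : 2 ≤ Nat.card E) :
    fixedPts (V := V) F = ⊥ ∧ commSub (V := V) F = ⊤ :=
  Cfsg.Agent.Lib.Helper10.TSST3of.stage_three_of a hV hE
    (Cfsg.Agent.Lib.Helper12.TSCOPR.coprime_decomp (V := V) a.hq.two_V F a.F_odd)

end stageLeaves

end Cfsg.Agent.Lib.Helper10.TSST3
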