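/-
helper10: S3797 leaf ST4 `hyperplane_facts` (`notes/S3797_leaves.lean`) in `_of` form over FREE
(`free_of_inverted` for `A = C_F(U₀)`).  Uses helper29's landed QODD and QFIX.
Exact wrapper: `Helper10.TSST4`.
-/
import Mathlib
import Cfsg.Prelude.Def_Local
import Cfsg.Agent.Lib.Helper25.TSDefs
import Cfsg.Agent.Lib.Helper29.TSQODD
import Cfsg.Agent.Lib.Helper29.TSQFIX

set_option autoImplicit false

namespace Cfsg.Agent.Lib.Helper10.TSST4of

open Cfsg.Agent.Lib.Helper25.TS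
open scoped commutatorElement

section stageLeaves

variable {V E : Type*} [AddCommGroup V] [AddCommGroup E] [Finite V] [Finite E]
variable {Γ : Type*} [Group Γ] [Finite Γ] [DistribMulAction Γ V]
variable {q : V → E} {F U B : Subgroup Γ}

omit [Finite V] [Finite E] [Finite Γ] in
/-- `U` is abelian -/
theorem U_comm (a : ActCtx q F U B) {x y : Γ} (hx : x ∈ U) (hy : y ∈ U) : x * y = y * x := by
  have h1 := a.U_two x hx
  have h2 := a.U_two y hy
  have h3 := a.U_two (x * y) (U.mul_mem hx hy)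
  calc x * y = x * (x * y * (x * y)) * y := by rw [h3, mul_one]
    _ = (x * x) * y * x * (y * y) := by group
    _ = y * x := by rw [h1, h2, one_mul, mul_one]

omit [Finite V] [Finite E] [Finite Γ] in
theorem U_inv (a : ActCtx q F U B) {x : Γ} (hx : x ∈ U) : x⁻¹ = x :=
  inv_eq_of_mul_eq_one_left (a.U_two x hx)

omit [Finite V] [Finite E] [Finite Γ] in
/-- an element of `U` outside the hyperplane `U₀` generates `U` over `U₀` -/
theorem mem_or_mul_mem {U₀ : Subgroup Γ} (hU₀ : IsHyp U₀ U) {u₁ : Γ} (hu₁ : u₁ ∈ U)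
    (hu₁' : u₁ ∉ U₀) {u : Γ} (hu : u ∈ U) : u ∈ U₀ ∨ u₁ * u ∈ U₀ := by
  by_cases h : u ∈ U₀
  · exact Or.inl h
  · right
    have hidx : (U₀.subgroupOf U).index = 2 := hU₀.2
    have := Subgroup.mul_mem_iff_of_index_two hidx (a := (⟨u₁, hu₁⟩ : U)) (b := (⟨u, hu⟩ : U))
    rw [Subgroup.mem_subgroupOf, Subgroup.mem_subgroupOf, Subgroup.mem_subgroupOf] at this
    exact this.mpr ⟨fun h' => absurd h' hu₁', fun h' => absurd h' h⟩

omit [Finite V] [Finite E] [DistribMulAction Γ V] in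
/-- `|U₀| * 2 = |U|` for a hyperplane -/
theorem card_mul_two {U₀ : Subgroup Γ} (hU₀ : IsHyp U₀ U) : Nat.card U₀ * 2 = Nat.card U := by
  have := Subgroup.relIndex_mul_relIndex ⊥ U₀ U bot_le hU₀.1
  rwa [Subgroup.relIndex_bot_left, Subgroup.relIndex_bot_left, hU₀.2] at this

omit [Finite V] [Finite E] in
/-- an element of `U` outside the hyperplane `U₀` inverts `C_F(U₀)` -/
theorem inverts (a : ActCtx q F U B)
    (h2 : ∀ f ∈ F, (∀ u ∈ U, u * f = f * u) → f = 1) {U₀ : Subgroup Γ} (hU₀ : IsHyp U₀ U)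
    {u₁ : Γ} (hu₁ : u₁ ∈ U) (hu₁' : u₁ ∉ U₀) :
    ∀ f ∈ cen F U₀, u₁ * f * u₁⁻¹ = f⁻¹ := by
  -- `u₁` normalizes `C_F(U₀)`
  have hnorm : ∀ f ∈ cen F U₀, u₁ * f * u₁⁻¹ ∈ cen F U₀ := by
    intro f hf
    rw [mem_cen] at hf ⊢
    refine ⟨a.U_norm u₁ hu₁ f hf.1, ?_⟩
    intro x hx
    have hx1 : x * u₁ = u₁ * x := U_comm a (hU₀.1 hx) hu₁
    have hx2 : x * u₁⁻¹ = u₁⁻¹ * x := by
      rw [U_inv a hu₁]; exact hx1
    have hx3 := hf.2 x hx
    calc x * (u₁ * f * u₁⁻¹) = (x * u₁) * f * u₁⁻¹ := by group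
      _ = u₁ * (x * f) * u₁⁻¹ := by rw [hx1]; group
      _ = u₁ * f * (x * u₁⁻¹) := by rw [hx3]; group
      _ = u₁ * f * u₁⁻¹ * x := by rw [hx2]; group
  -- fixed points are trivial
  have hfpf : ∀ f ∈ cen F U₀, u₁ * f * u₁⁻¹ = f → f = 1 := by
    intro f hf hfix
    have hf' := (mem_cen F U₀ f).mp hf
    apply h2 f hf'.1
    have hc1 : u₁ * f = f * u₁ := by
      calc u₁ * f = (u₁ * f * u₁⁻¹) * u₁ := by group
        _ = f * u₁ := by rw [hfix]
    intro u hu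
    rcases mem_or_mul_mem hU₀ hu₁ hu₁' hu with h | h
    · exact hf'.2 u h
    · have h3 := hf'.2 _ h
      have e : u = u₁⁻¹ * (u₁ * u) := by group
      have hc2 : u₁⁻¹ * f = f * u₁⁻¹ := by
        rw [U_inv a hu₁]; exact hc1
      calc u * f = u₁⁻¹ * ((u₁ * u) * f) := by group
        _ = u₁⁻¹ * (f * (u₁ * u)) := by rw [h3]
        _ = (u₁⁻¹ * f) * (u₁ * u) := by group
        _ = f * u₁⁻¹ * (u₁ * u) := by rw [hc2]
        _ = f * u := by group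
  -- the automorphism of `C_F(U₀)`
  let φ : ↥(cen F U₀) →* ↥(cen F U₀) :=
    { toFun := fun f => ⟨u₁ * f.1 * u₁⁻¹, hnorm f.1 f.2⟩
      map_one' := by
        apply Subtype.ext
        show u₁ * (1 : Γ) * u₁⁻¹ = 1
        group
      map_mul' := by
        intro x y
        apply Subtype.ext
        show u₁ * (x.1 * y.1) * u₁⁻¹ = (u₁ * x.1 * u₁⁻¹) * (u₁ * y.1 * u₁⁻¹)
        group }
  have hφ1 : MonoidHom.FixedPointFree φ := by
    intro f hf
    apply Subtype.ext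
    exact hfpf f.1 f.2 (congrArg Subtype.val hf)
  have hφ2 : Function.Involutive φ := by
    intro f
    apply Subtype.ext
    show u₁ * (u₁ * f.1 * u₁⁻¹) * u₁⁻¹ = f.1
    have := a.U_two u₁ hu₁
    calc u₁ * (u₁ * f.1 * u₁⁻¹) * u₁⁻¹ = (u₁ * u₁) * f.1 * (u₁ * u₁)⁻¹ := by group
      _ = f.1 := by rw [this]; group
  have hinv := MonoidHom.FixedPointFree.coe_eq_inv_of_involutive hφ1 hφ2
  intro f hf
  have := congrFun hinv ⟨f, hf⟩
  exact congrArg Subtype.val this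

/-- **S4 `hyperplane_facts`** in `_of` form over FREE -/
theorem hyperplane_facts_of (a : ActCtx q F U B)
    (h2 : ∀ f ∈ F, (∀ u ∈ U, u * f = f * u) → f = 1) (U₀ : Subgroup Γ) (hU₀ : IsHyp U₀ U)
    (hfree : ∀ u : Γ, u * u = 1 → (∀ x ∈ cen F U₀, u * x * u⁻¹ = x⁻¹) →
      (∀ v ∈ commSub (V := V) (cen F U₀), u • v = v →
        ∃ w ∈ commSub (V := V) (cen F U₀), v = w + u • w) ∧
      Nat.card (commSub (V := V) (cen F U₀)) =
        Nat.card ↥(commSub (V := V) (cen F U₀) ⊓ fixedPts (V := V) (Subgroup.zpowers u)) ^ 2) :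
    (∀ u ∈ U₀, ∀ w ∈ commSub (V := V) (cen F U₀), u • w = w) ∧
    Nat.card (commSub (V := V) (cen F U₀)) =
      Nat.card ↥(commSub (V := V) (cen F U₀) ⊓ fixedPts (V := V) U) ^ 2 ∧
    (∀ U₁ : Subgroup Γ, IsHyp U₁ U → U₁ ≠ U₀ → ∀ f ∈ cen F U₁,
      ∀ v ∈ commSub (V := V) (cen F U₀) ⊓ fixedPts (V := V) U, f • v = v) ∧
    commSub (V := V) (cen F U₀) ⊓ fixedPts (V := V) (cen F U₀) = ⊥ := by
  classical
  have hF₀F : cen F U₀ ≤ F := inf_le_left
  have hF₀odd : Odd (Nat.card (cen F U₀)) := a.F_odd.of_dvd_nat (Subgroup.card_dvd_of_le hF₀F)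
  have hF₀isom : cen F U₀ ≤ isom Γ q := hF₀F.trans a.F_isom
  -- (i)
  have hi : ∀ u ∈ U₀, ∀ w ∈ commSub (V := V) (cen F U₀), u • w = w := by
    intro u hu
    apply Cfsg.Agent.Lib.Helper29.TSQODD.smul_eq_of_mem_commSub a.hq (cen F U₀) hF₀isom hF₀odd
      (a.U_isom (hU₀.1 hu)) (a.U_two u (hU₀.1 hu))
    intro y hy
    exact ((mem_cen F U₀ y).mp hy).2 u hu
  -- for `u₁ ∈ U ∖ U₀`: `V₀ ⊓ C_V(u₁) = V₀ ⊓ C_V(U)`
  have hAeq : ∀ u₁ ∈ U, u₁ ∉ U₀ →
      commSub (V := V) (cen F U₀) ⊓ fixedPts (V := V) (Subgroup.zpowers u₁) =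
        commSub (V := V) (cen F U₀) ⊓ fixedPts (V := V) U := by
    intro u₁ hu₁ hu₁'
    apply le_antisymm
    · rintro v ⟨hv1, hv2⟩
      refine ⟨hv1, ?_⟩
      intro u hu
      have hfix1 : u₁ • v = v := hv2 u₁ (Subgroup.mem_zpowers u₁)
      rcases mem_or_mul_mem hU₀ hu₁ hu₁' hu with h | h
      · exact hi u h v hv1
      · have h3 := hi _ h v hv1
        rw [mul_smul] at h3
        calc u • v = u₁⁻¹ • u₁ • u • v := (inv_smul_smul _ _).symm
          _ = u₁⁻¹ • v := by rw [h3]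
          _ = u₁⁻¹ • u₁ • v := by rw [hfix1]
          _ = v := inv_smul_smul _ _
    · rintro v ⟨hv1, hv2⟩
      refine ⟨hv1, ?_⟩
      intro y hy
      exact hv2 y ((Subgroup.zpowers_le.mpr hu₁) hy)
  -- existence of `u₁ ∈ U ∖ U₀`
  obtain ⟨u₁, hu₁, hu₁'⟩ : ∃ u ∈ U, u ∉ U₀ := by
    by_contra hcon
    push Not at hcon
    have : U₀.relIndex U = 1 := Subgroup.relIndex_eq_one.mpr hcon
    rw [hU₀.2] at this
    omega
  refine ⟨hi, ?_, ?_, ?_⟩
  · -- (ii)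
    have := (hfree u₁ (a.U_two u₁ hu₁) (inverts a h2 hU₀ hu₁ hu₁')).2
    rw [hAeq u₁ hu₁ hu₁'] at this
    exact this
  · -- (iii)
    intro U₁ hU₁ hne f hf v hv
    obtain ⟨u, huU₁, hu'⟩ : ∃ u ∈ U₁, u ∉ U₀ := by
      by_contra hcon
      push Not at hcon
      apply hne
      have hle : U₁ ≤ U₀ := hcon
      apply Subgroup.eq_of_le_of_card_ge hle
      have e1 := Cfsg.Agent.Lib.Helper10.TSST4of.card_mul_two hU₀
      have e2 := Cfsg.Agent.Lib.Helper10.TSST4of.card_mul_two hU₁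
      omega
    have hu : u ∈ U := hU₁.1 huU₁
    have hfixu : u • v = v := hv.2 u hu
    obtain ⟨w, -, hw⟩ := (hfree u (a.U_two u hu) (inverts a h2 hU₀ hu hu')).1 v hv.1 hfixu
    have hf' := (mem_cen F U₁ f).mp hf
    rw [hw]
    exact Cfsg.Agent.Lib.Helper29.TSQFIX.smul_comm_eq a.hq (a.U_isom hu) (a.U_two u hu)
      (a.F_isom hf'.1) (hf'.2 u huU₁).symm w
  · -- (iv)
    rw [eq_bot_iff]
    rintro v ⟨hv1, hv2⟩
    rw [AddSubgroup.mem_bot]
    exact Cfsg.Agent.Lib.Helper29.TSQODD.eq_zero_of_mem_commSub_of_fixed a.hq.two_V (cen F U₀)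
      hF₀odd v hv1 hv2

end stageLeaves

end Cfsg.Agent.Lib.Helper10.TSST4of
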