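/-
helper10: S3797 leaf ST4 `hyperplane_facts` (`notes/S3797_leaves.lean`, exact name + binders):
wrapper of `Helper10.TSST4of.hyperplane_facts_of` over FREE.
-/
import Mathlib
import Cfsg.Prelude.Def_Local
import Cfsg.Agent.Lib.Helper25.TSDefs
import Cfsg.Agent.Lib.Helper10.TSST4of
import Cfsg.Agent.Lib.Helper12.TSFREE

set_option autoImplicit false

namespace Cfsg.Agent.Lib.Helper10.TSST4

open Cfsg.Agent.Lib.Helper25.TS
open scoped commutatorElement

section stageLeaves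

variable {V E : Type*} [AddCommGroup V] [AddCommGroup E] [Finite V] [Finite E]
variable {Γ : Type*} [Group Γ] [Finite Γ] [DistribMulAction Γ V]
variable {q : V → E} {F U B : Subgroup Γ}

/-- **S4 `hyperplane_facts`** -/
theorem hyperplane_facts (a : ActCtx q F U B)
    (h2 : ∀ f ∈ F, (∀ u ∈ U, u * f = f * u) → f = 1) (U₀ : Subgroup Γ) (hU₀ : IsHyp U₀ U) :
    (∀ u ∈ U₀, ∀ w ∈ commSub (V := V) (cen F U₀), u • w = w) ∧
    Nat.card (commSub (V := V) (cen F U₀)) =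
      Nat.card ↥(commSub (V := V) (cen F U₀) ⊓ fixedPts (V := V) U) ^ 2 ∧
    (∀ U₁ : Subgroup Γ, IsHyp U₁ U → U₁ ≠ U₀ → ∀ f ∈ cen F U₁,
      ∀ v ∈ commSub (V := V) (cen F U₀) ⊓ fixedPts (V := V) U, f • v = v) ∧
    commSub (V := V) (cen F U₀) ⊓ fixedPts (V := V) (cen F U₀) = ⊥ :=
  Cfsg.Agent.Lib.Helper10.TSST4of.hyperplane_facts_of a h2 U₀ hU₀
    (fun _ hu2 hinv =>
      Cfsg.Agent.Lib.Helper12.TSFREE.free_of_inverted (V := V) a.hq.two_V (cen F U₀)
        (a.F_odd.of_dvd_nat (Subgroup.card_dvd_of_le inf_le_left)) hu2 hinv)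

end stageLeaves

end Cfsg.Agent.Lib.Helper10.TSST4
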