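import Mathlib
import Cfsg.Agent.Lib.Helper5.TWS.Defs

/-!
# S5668-I leaf K2-2 `C_eq_W_two` (helper10): for `k = 2` the fibres of admissible root data are Lagrangian, `C = W`.
-/

set_option autoImplicit false
set_option linter.unusedSectionVars false
set_option linter.unusedVariables false

namespace Cfsg.Agent.Lib.Helper10.TWSLeaf
open Matrix Cfsg.Geo Cfsg.Agent.Lib.Helper18.AschA89 Cfsg.Agent.Lib.Helper8.TW Cfsg.Agent.Lib.Helper5.TWS
open Cfsg.Agent.Lib.Helper25.SpT (sf Jm sfv)

variable {F : Type*} [Field F] [Fintype F] {t k : ℕ}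

/-- the symplectic form on `F²` -/
theorem sf_two (a y : Fin 2 → F) : sf a y = a 0 * y 1 - a 1 * y 0 := by
  rw [Cfsg.Agent.Lib.Helper25.SpT.sf_eq_sum]
  simp [Fin.sum_univ_two, Cfsg.Agent.Lib.Helper25.SpT.Jm_apply]
  ring

/-- for `k = 2` the kernel of `sf · y` is the line `F y` -/
theorem kerF_sfv_two (y : Fin 2 → F) (hy : y ≠ 0) : kerF (sfv y) = F ∙ y := by
  ext a
  rw [mem_kerF, Cfsg.Agent.Lib.Helper25.SpT.sfv_dot, Submodule.mem_span_singleton, sf_two]
  constructor
  · intro h
    have h' : a 0 * y 1 = a 1 * y 0 := sub_eq_zero.1 h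
    by_cases h0 : y 0 = 0
    · have h1 : y 1 ≠ 0 := by
        intro h1
        apply hy
        funext j
        fin_cases j
        · exact h0
        · exact h1
      refine ⟨a 1 / y 1, ?_⟩
      funext j
      fin_cases j
      · show a 1 / y 1 * y 0 = a 0
        rw [h0, mul_zero] at h'
        have : a 0 = 0 := by
          rcases mul_eq_zero.1 h' with h2 | h2
          · exact h2
          · exact absurd h2 h1
        rw [this, h0, mul_zero]
      · show a 1 / y 1 * y 1 = a 1
        field_simp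
    · refine ⟨a 0 / y 0, ?_⟩
      funext j
      fin_cases j
      · show a 0 / y 0 * y 0 = a 0
        field_simp
      · show a 0 / y 0 * y 1 = a 1
        field_simp
        rw [h', mul_comm]
  · rintro ⟨c, rfl⟩
    simp only [Pi.smul_apply, smul_eq_mul]
    ring

/-- K2-2 (S) `k = 2`: fibres are Lagrangian, `C = W` -/
theorem C_eq_W_two (hk : k = 2) (r : RD t k F) (hr : RS r) : r.C = r.W := by
  subst hk
  show Cf r.i r.η = Wf r.i r.y
  unfold Cf Wf
  rw [hr, kerF_sfv_two r.y r.hy]

end Cfsg.Agent.Lib.Helper10.TWSLeaf
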