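import Mathlib

/-!
# S5668-I leaf K2-6a `isPGroup_of_flag` (helper10)

A group generated by elements `1 + c N`, `1 + c N''` with `N`, `N''` nilpotent with respect to a common
chain `V → F₃ → F₂ → F₁ → 0` is a `p`-group.  No inclusions between the `Fᵢ` are assumed: we pass to the
upper series `upS` of the pair `(N, N'')`, which is a genuine flag.
-/

set_option autoImplicit false
set_option linter.unusedSectionVars false
set_option linter.unusedVariables false

namespace Cfsg.Agent.Lib.Helper10.TWSLeaf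
open Matrix

variable {F : Type*} [Field F] [Fintype F] {t k : ℕ}

section flag
variable {ι : Type} [Fintype ι] [DecidableEq ι]

/-- upper series of the pair `N, N''` -/
def upS (N N'' : Matrix ι ι F) : ℕ → Submodule F (ι → F)
  | 0 => ⊥
  | (n + 1) => (upS N N'' n).comap N.mulVecLin ⊓ (upS N N'' n).comap N''.mulVecLin

theorem mem_upS_succ (N N'' : Matrix ι ι F) (n : ℕ) (v : ι → F) :
    v ∈ upS N N'' (n + 1) ↔ N *ᵥ v ∈ upS N N'' n ∧ N'' *ᵥ v ∈ upS N N'' n := by
  simp [upS]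

theorem upS_mono (N N'' : Matrix ι ι F) (n : ℕ) : upS N N'' n ≤ upS N N'' (n + 1) := by
  induction n with
  | zero => exact bot_le
  | succ n ih =>
    intro v hv
    rw [mem_upS_succ] at hv ⊢
    exact ⟨ih hv.1, ih hv.2⟩

/-- `D` lowers the upper series by one step -/
def FlagInv (N N'' D : Matrix ι ι F) : Prop := ∀ n, ∀ v ∈ upS N N'' (n + 1), D *ᵥ v ∈ upS N N'' n

theorem FlagInv.left (N N'' : Matrix ι ι F) : FlagInv N N'' N := fun n v hv =>
  ((mem_upS_succ N N'' n v).1 hv).1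

theorem FlagInv.right (N N'' : Matrix ι ι F) : FlagInv N N'' N'' := fun n v hv =>
  ((mem_upS_succ N N'' n v).1 hv).2

theorem FlagInv.zero (N N'' : Matrix ι ι F) : FlagInv N N'' 0 := fun n v hv => by
  rw [Matrix.zero_mulVec]; exact Submodule.zero_mem _

theorem FlagInv.add {N N'' D E : Matrix ι ι F} (hD : FlagInv N N'' D) (hE : FlagInv N N'' E) :
    FlagInv N N'' (D + E) := fun n v hv => by
  rw [Matrix.add_mulVec]; exact Submodule.add_mem _ (hD n v hv) (hE n v hv)

theorem FlagInv.smul {N N'' D : Matrix ι ι F} (c : F) (hD : FlagInv N N'' D) :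
    FlagInv N N'' (c • D) := fun n v hv => by
  rw [Matrix.smul_mulVec]; exact Submodule.smul_mem _ _ (hD n v hv)

theorem FlagInv.mul {N N'' D E : Matrix ι ι F} (hD : FlagInv N N'' D) (hE : FlagInv N N'' E) :
    FlagInv N N'' (D * E) := fun n v hv => by
  rw [← Matrix.mulVec_mulVec]
  exact hD n _ (upS_mono N N'' n (hE n v hv))

theorem FlagInv.pow_mulVec_mem {N N'' D : Matrix ι ι F} (hD : FlagInv N N'' D) (m n : ℕ) (v : ι → F)
    (hv : v ∈ upS N N'' (n + m)) : (D ^ m) *ᵥ v ∈ upS N N'' n := by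
  induction m generalizing v with
  | zero => simpa using hv
  | succ m ih =>
    rw [pow_succ, ← Matrix.mulVec_mulVec]
    exact ih _ (hD (n + m) v (by simpa [add_assoc] using hv))

theorem flagInv_sub_one_of_mem_closure (N N'' : Matrix ι ι F) (S : Set (GL ι F))
    (hS : ∀ g ∈ S, FlagInv N N'' ((g : Matrix ι ι F) - 1)) (l : GL ι F) (hl : l ∈ Subgroup.closure S) :
    FlagInv N N'' ((l : Matrix ι ι F) - 1) := by
  have hmul : ∀ a b : GL ι F, FlagInv N N'' ((a : Matrix ι ι F) - 1) → FlagInv N N'' ((b : Matrix ι ι F) - 1) →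
      FlagInv N N'' (((a * b : GL ι F) : Matrix ι ι F) - 1) := by
    intro a b ha hb
    have e : ((a * b : GL ι F) : Matrix ι ι F) - 1
        = ((a : Matrix ι ι F) - 1) * ((b : Matrix ι ι F) - 1) + (((a : Matrix ι ι F) - 1) + ((b : Matrix ι ι F) - 1)) := by
      rw [Units.val_mul]; noncomm_ring
    rw [e]; exact (ha.mul hb).add (ha.add hb)
  have hone : FlagInv N N'' (((1 : GL ι F) : Matrix ι ι F) - 1) := by
    rw [Units.val_one, sub_self]; exact FlagInv.zero N N''
  have hpow : ∀ (a : GL ι F), FlagInv N N'' ((a : Matrix ι ι F) - 1) → ∀ m : ℕ,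
      FlagInv N N'' (((a ^ m : GL ι F) : Matrix ι ι F) - 1) := by
    intro a ha m
    induction m with
    | zero => rw [pow_zero]; exact hone
    | succ m ih => rw [pow_succ]; exact hmul _ _ ih ha
  induction hl using Subgroup.closure_induction with
  | mem x hx => exact hS x hx
  | one => exact hone
  | mul x y _ _ hx hy => exact hmul x y hx hy
  | inv x _ hx =>
    have hfin : IsOfFinOrder x := isOfFinOrder_of_finite x
    have hpos : 0 < orderOf x := hfin.orderOf_pos
    have e : x⁻¹ = x ^ (orderOf x - 1) := by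
      apply inv_eq_of_mul_eq_one_right
      rw [← pow_succ', Nat.sub_add_cancel hpos, pow_orderOf_eq_one]
    rw [e]; exact hpow x hx _

end flag

/-- K2-6a (M) a group generated by elements `1 + c N`, `1 + c N''` with `N`, `N''` nilpotent w.r.t. a common flag `0 ≤ F₁ ≤ F₂ ≤ F₃ ≤ V` is a `p`-group -/
theorem isPGroup_of_flag {ι : Type} [Fintype ι] [DecidableEq ι] (p : ℕ) [Fact p.Prime] [CharP F p] (N N'' : Matrix ι ι F)
    (F₁ F₂ F₃ : Submodule F (ι → F))
    (hN4 : ∀ v, N *ᵥ v ∈ F₃) (hN3 : ∀ v ∈ F₃, N *ᵥ v ∈ F₂) (hN2 : ∀ v ∈ F₂, N *ᵥ v ∈ F₁) (hN1 : ∀ v ∈ F₁, N *ᵥ v = 0)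
    (hN4' : ∀ v, N'' *ᵥ v ∈ F₃) (hN3' : ∀ v ∈ F₃, N'' *ᵥ v ∈ F₂) (hN2' : ∀ v ∈ F₂, N'' *ᵥ v ∈ F₁) (hN1' : ∀ v ∈ F₁, N'' *ᵥ v = 0)
    (uN uN'' : F → GL ι F) (huN : ∀ c, ((uN c : GL ι F) : Matrix ι ι F) = 1 + c • N)
    (huN'' : ∀ c, ((uN'' c : GL ι F) : Matrix ι ι F) = 1 + c • N'') :
    IsPGroup p (Subgroup.closure ({g | ∃ c : F, g = uN c} ∪ {g | ∃ c : F, g = uN'' c})) := by
  classical
  -- the given chain sits below the upper series
  have h1 : F₁ ≤ upS N N'' 1 := by
    intro v hv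
    rw [mem_upS_succ]
    simp only [upS, Submodule.mem_bot]
    exact ⟨hN1 v hv, hN1' v hv⟩
  have h2 : F₂ ≤ upS N N'' 2 := by
    intro v hv
    rw [mem_upS_succ]
    exact ⟨h1 (hN2 v hv), h1 (hN2' v hv)⟩
  have h3 : F₃ ≤ upS N N'' 3 := by
    intro v hv
    rw [mem_upS_succ]
    exact ⟨h2 (hN3 v hv), h2 (hN3' v hv)⟩
  have h4 : ∀ v : ι → F, v ∈ upS N N'' 4 := by
    intro v
    rw [mem_upS_succ]
    exact ⟨h3 (hN4 v), h3 (hN4' v)⟩
  intro g
  refine ⟨2, ?_⟩
  have hD : FlagInv N N'' (((g : GL ι F) : Matrix ι ι F) - 1) := by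
    apply flagInv_sub_one_of_mem_closure N N'' _ _ g g.2
    rintro x (⟨c, rfl⟩ | ⟨c, rfl⟩)
    · rw [huN, add_sub_cancel_left]; exact (FlagInv.left N N'').smul c
    · rw [huN'', add_sub_cancel_left]; exact (FlagInv.right N N'').smul c
  have hD4 : (((g : GL ι F) : Matrix ι ι F) - 1) ^ 4 = 0 := by
    rw [Matrix.ext_iff_mulVec]
    intro v
    have := hD.pow_mulVec_mem 4 0 v (by simpa using h4 v)
    simp only [upS, Submodule.mem_bot] at this
    rw [this, Matrix.zero_mulVec]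
  rcases isEmpty_or_nonempty ι with hι | hι
  · apply Subtype.ext
    apply Units.ext
    exact Subsingleton.elim _ _
  · apply Subtype.ext
    apply Units.ext
    rw [Subgroup.coe_pow, Units.val_pow_eq_pow_val, Subgroup.coe_one, Units.val_one]
    have hp2 : 2 ≤ p := (Fact.out : p.Prime).two_le
    have hp4 : 4 ≤ p ^ 2 := by nlinarith
    have e : ((g : GL ι F) : Matrix ι ι F) = (((g : GL ι F) : Matrix ι ι F) - 1) + 1 := by
      rw [sub_add_cancel]
    rw [e, add_pow_char_pow_of_commute p 2 (Commute.one_right _), one_pow]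
    have : (((g : GL ι F) : Matrix ι ι F) - 1) ^ p ^ 2 = 0 := by
      rw [← Nat.sub_add_cancel hp4, pow_add, hD4, mul_zero]
    rw [this, zero_add]

end Cfsg.Agent.Lib.Helper10.TWSLeaf
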