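import Mathlib
import Cfsg.Agent.Lib.Helper5.TWS.Defs
import Cfsg.Agent.Lib.Helper8.TW.Defs
import Cfsg.Agent.Lib.Helper22.TWExtBasic
import Cfsg.Agent.Lib.Helper22.TWExtMore
import Cfsg.Agent.Lib.Helper23.TWG1
import Cfsg.Agent.Lib.Helper12.TWIIBZ
import Cfsg.Agent.Lib.Helper28.TWIIBE
import Cfsg.Agent.Lib.Helper14.TWIIDefs
import Cfsg.Agent.Lib.Helper14.TWUIIThetaG
import Cfsg.Agent.Lib.Helper14.TWSIIDefs
import Cfsg.Agent.Lib.Helper9.TWST
import Cfsg.Agent.Lib.Helper1.TWSIIT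

/-!
# S5668-II leaf R3 `R1S_T` (helper10): `T` is scalar, remove it (plan §2 (3) of `notes/S5668_II_plan.md`)

`u₂ = 1 + σ ⊗ (v ∧ y) + T ⊗ y y†`.  Conjugating by `slot i ν_±`, `ν_± = 1 ± (v y'† + y' v†)` (Heisenberg elements of `y'`), gives
`u₂⁻¹ (a u₂ a⁻¹) = 1 + T ⊗ (z z† - y y†)`, `z = y ± v`; the product of the two is `1 + 2T ⊗ v v†`, an element of `Z_{(i,v)} ∩ X ≤ G`, so `T` is scalar
(`theta_scalar_of_G`), and the root element `1 - τ y y†` removes it.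
-/

set_option autoImplicit false
set_option linter.unusedSectionVars false
set_option linter.unusedVariables false
set_option linter.unusedSimpArgs false

namespace Cfsg.Agent.Lib.Helper10.TWSIILeaf
open Matrix Cfsg.Geo Cfsg.Agent.Lib.Helper18.AschA89 Cfsg.Agent.Lib.Helper8.TW Cfsg.Agent.Lib.Helper5.TWS
  Cfsg.Agent.Lib.Helper14.TWII Cfsg.Agent.Lib.Helper14.TWSII
open Cfsg.Agent.Lib.Helper25.SpT (sf Jm sfv)

variable {F : Type*} [Field F] [Fintype F] {t k : ℕ}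

/-! ### rank one calculus on `A = F^k` -/

theorem vv_mul (p q r s : Fin k → F) :
    Matrix.vecMulVec p (sfv q) * Matrix.vecMulVec r (sfv s) = sf r q • Matrix.vecMulVec p (sfv s) := by
  rw [Matrix.vecMulVec_mul_vecMulVec, Cfsg.Agent.Lib.Helper25.SpT.sfv_dot, Matrix.vecMulVec_smul]

theorem sfv_neg10 (v : Fin k → F) : sfv (-v) = - sfv v := by
  unfold Cfsg.Agent.Lib.Helper25.SpT.sfv
  rw [Matrix.mulVec_neg]

theorem vv_mulVec (p q a : Fin k → F) : Matrix.vecMulVec p (sfv q) *ᵥ a = sf a q • p := by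
  rw [Matrix.vecMulVec_mulVec, Cfsg.Agent.Lib.Helper25.SpT.sfv_dot, op_smul_eq_smul]

/-- the nilpotent part of the Heisenberg element `ν = etaS y' v 0` -/
def hN (y' v : Fin k → F) : Matrix (Fin k) (Fin k) F :=
  Matrix.vecMulVec v (sfv y') + Matrix.vecMulVec y' (sfv v)

/-- `M v = z z† - y y†`, `z = y + v` -/
def hM (y v : Fin k → F) : Matrix (Fin k) (Fin k) F :=
  Matrix.vecMulVec y (sfv v) + Matrix.vecMulVec v (sfv y) + Matrix.vecMulVec v (sfv v)

section A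
variable (y y' v : Fin k → F) (hyy' : sf y y' = 1) (hvy : sf v y = 0) (hvy' : sf v y' = 0)
include hyy' hvy hvy'

theorem hN_sq : hN y' v * hN y' v = 0 := by
  have h1 : sf y' v = 0 := by rw [Cfsg.Agent.Lib.Helper25.SpT.sf_skew, hvy', neg_zero]
  unfold hN
  simp only [mul_add, add_mul, vv_mul, Cfsg.Agent.Lib.Helper25.SpT.sf_self, hvy', h1, zero_smul, add_zero]

theorem hS_mul_hM : wedS v y * hM y v = 0 := by
  have h2 : sf y v = 0 := by rw [Cfsg.Agent.Lib.Helper25.SpT.sf_skew, hvy, neg_zero]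
  unfold wedS hM
  simp only [mul_add, add_mul, sub_mul, mul_sub, vv_mul, Cfsg.Agent.Lib.Helper25.SpT.sf_self, hvy, h2, zero_smul,
    add_zero, sub_zero]

theorem hY_mul_hM : Matrix.vecMulVec y (sfv y) * hM y v = 0 := by
  have h2 : sf y v = 0 := by rw [Cfsg.Agent.Lib.Helper25.SpT.sf_skew, hvy, neg_zero]
  unfold hM
  simp only [mul_add, vv_mul, Cfsg.Agent.Lib.Helper25.SpT.sf_self, hvy, h2, zero_smul, add_zero]

theorem hS_mul_hY : wedS v y * Matrix.vecMulVec y (sfv y) = 0 := by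
  have h2 : sf y v = 0 := by rw [Cfsg.Agent.Lib.Helper25.SpT.sf_skew, hvy, neg_zero]
  unfold wedS
  simp only [sub_mul, vv_mul, Cfsg.Agent.Lib.Helper25.SpT.sf_self, hvy, h2, zero_smul, sub_zero]

theorem hν_mul_hS : (1 + hN y' v) * wedS v y = wedS v y * (1 + hN y' v) := by
  have h1 : sf y' v = 0 := by rw [Cfsg.Agent.Lib.Helper25.SpT.sf_skew, hvy', neg_zero]
  have h2 : sf y v = 0 := by rw [Cfsg.Agent.Lib.Helper25.SpT.sf_skew, hvy, neg_zero]
  have h3 : sf y' y = -1 := by rw [Cfsg.Agent.Lib.Helper25.SpT.sf_skew, hyy']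
  unfold hN wedS
  simp only [mul_add, add_mul, sub_mul, mul_sub, one_mul, mul_one, vv_mul, Cfsg.Agent.Lib.Helper25.SpT.sf_self,
    hvy, hvy', hyy', h1, h2, h3, zero_smul, one_smul, neg_smul, add_zero, sub_zero, zero_add, zero_sub, sub_neg_eq_add]
  abel

theorem hν_mul_hY : (1 + hN y' v) * Matrix.vecMulVec y (sfv y) =
    Matrix.vecMulVec y (sfv y) * (1 + hN y' v) + hM y v * (1 + hN y' v) := by
  have h1 : sf y' v = 0 := by rw [Cfsg.Agent.Lib.Helper25.SpT.sf_skew, hvy', neg_zero]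
  have h2 : sf y v = 0 := by rw [Cfsg.Agent.Lib.Helper25.SpT.sf_skew, hvy, neg_zero]
  have h3 : sf y' y = -1 := by rw [Cfsg.Agent.Lib.Helper25.SpT.sf_skew, hyy']
  unfold hN hM
  simp only [mul_add, add_mul, one_mul, mul_one, vv_mul, Cfsg.Agent.Lib.Helper25.SpT.sf_self,
    hvy, hvy', hyy', h1, h2, h3, zero_smul, one_smul, neg_smul, add_zero, zero_add]
  abel

/-- `ν = 1 + hN` is an isometry of `sf` -/
theorem hν_isom (a b : Fin k → F) :
    sf ((1 + hN y' v) *ᵥ a) ((1 + hN y' v) *ᵥ b) = sf a b := by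
  have h1 : sf y' v = 0 := by rw [Cfsg.Agent.Lib.Helper25.SpT.sf_skew, hvy', neg_zero]
  have e : ∀ a : Fin k → F, (1 + hN y' v) *ᵥ a = a + (sf a y' • v + sf a v • y') := by
    intro a
    unfold hN
    rw [Matrix.add_mulVec, Matrix.one_mulVec, Matrix.add_mulVec, vv_mulVec, vv_mulVec]
  rw [e, e]
  simp only [Cfsg.Agent.Lib.Helper25.SpT.sf_add_left, Cfsg.Agent.Lib.Helper25.SpT.sf_add_right,
    Cfsg.Agent.Lib.Helper25.SpT.sf_smul_left, Cfsg.Agent.Lib.Helper25.SpT.sf_smul_right,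
    Cfsg.Agent.Lib.Helper25.SpT.sf_self, hvy', h1, mul_zero, add_zero, zero_add]
  rw [Cfsg.Agent.Lib.Helper25.SpT.sf_skew v b, Cfsg.Agent.Lib.Helper25.SpT.sf_skew y' b]
  ring

end A


/-! ### the calculus of `γ ⊗ α = ext i γ * slot i α` -/

/-- `γ ⊗ α` at position `i` -/
def tp (i : Fin (t + 1)) (γ : Matrix (Idx t k) (Idx t k) F) (α : Matrix (Fin k) (Fin k) F) :
    Matrix (Idx (t + 1) k) (Idx (t + 1) k) F := ext i γ * slot k (t + 1) i α

theorem tp_mul (i : Fin (t + 1)) (γ γ' : Matrix (Idx t k) (Idx t k) F) (α α' : Matrix (Fin k) (Fin k) F) :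
    tp i γ α * tp i γ' α' = tp i (γ * γ') (α * α') := by
  unfold tp
  rw [mul_assoc, ← mul_assoc (slot k (t + 1) i α), ← Cfsg.Agent.Lib.Helper22.TWLeaf.ext_comm_slot i γ' α,
    mul_assoc, ← mul_assoc, ext_mul, slot_mul]

theorem tp_one_one (i : Fin (t + 1)) : tp i (1 : Matrix (Idx t k) (Idx t k) F) (1 : Matrix (Fin k) (Fin k) F) = 1 := by
  unfold tp
  rw [ext_one, slot_one, one_mul]

theorem tp_one_left (i : Fin (t + 1)) (α : Matrix (Fin k) (Fin k) F) :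
    tp i (1 : Matrix (Idx t k) (Idx t k) F) α = slot k (t + 1) i α := by
  unfold tp
  rw [ext_one, one_mul]

theorem tp_add_right (i : Fin (t + 1)) (γ : Matrix (Idx t k) (Idx t k) F) (α α' : Matrix (Fin k) (Fin k) F) :
    tp i γ (α + α') = tp i γ α + tp i γ α' := by
  unfold tp
  rw [slot_add, mul_add]

theorem tp_zero_right (i : Fin (t + 1)) (γ : Matrix (Idx t k) (Idx t k) F) :
    tp i γ (0 : Matrix (Fin k) (Fin k) F) = 0 := by
  unfold tp
  rw [slot_zero, mul_zero]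

theorem tp_smul_right (i : Fin (t + 1)) (γ : Matrix (Idx t k) (Idx t k) F) (c : F) (α : Matrix (Fin k) (Fin k) F) :
    tp i γ (c • α) = c • tp i γ α := by
  unfold tp
  rw [slot_smul, Matrix.mul_smul]

theorem tp_smul_left (i : Fin (t + 1)) (γ : Matrix (Idx t k) (Idx t k) F) (c : F) (α : Matrix (Fin k) (Fin k) F) :
    tp i (c • γ) α = c • tp i γ α := by
  unfold tp
  rw [Cfsg.Agent.Lib.Helper28.TWIIBLeaf.ext_smul28, Matrix.smul_mul]

theorem tp_neg_neg (i : Fin (t + 1)) (γ : Matrix (Idx t k) (Idx t k) F) (α : Matrix (Fin k) (Fin k) F) :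
    tp i (-γ) (-α) = tp i γ α := by
  have h1 : (-γ) = (-1 : F) • γ := by rw [neg_smul, one_smul]
  have h2 : (-α) = (-1 : F) • α := by rw [neg_smul, one_smul]
  rw [h1, h2, tp_smul_left, tp_smul_right, smul_smul]
  norm_num

/-- the basic conjugation identity: `slot ν * U = U * X₊ * slot ν` -/
theorem conj_identity (i : Fin (t + 1)) (y y' v : Fin k → F) (hyy' : sf y y' = 1) (hvy : sf v y = 0) (hvy' : sf v y' = 0)
    (σ T : Matrix (Idx t k) (Idx t k) F) :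
    tp i 1 (1 + hN y' v) * (1 + tp i σ (wedS v y) + tp i T (Matrix.vecMulVec y (sfv y))) =
      (1 + tp i σ (wedS v y) + tp i T (Matrix.vecMulVec y (sfv y))) * (1 + tp i T (hM y v)) * tp i 1 (1 + hN y' v) := by
  have e1 := hS_mul_hM y y' v hyy' hvy hvy'
  have e2 := hY_mul_hM y y' v hyy' hvy hvy'
  have e3 := hν_mul_hS y y' v hyy' hvy hvy'
  have e4 := hν_mul_hY y y' v hyy' hvy hvy'
  have e3' : wedS v y + hN y' v * wedS v y = wedS v y + wedS v y * hN y' v := by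
    simpa only [add_mul, mul_add, one_mul, mul_one] using e3
  have e4' : Matrix.vecMulVec y (sfv y) + hN y' v * Matrix.vecMulVec y (sfv y) =
      Matrix.vecMulVec y (sfv y) + Matrix.vecMulVec y (sfv y) * hN y' v + (hM y v + hM y v * hN y' v) := by
    simpa only [add_mul, mul_add, one_mul, mul_one] using e4
  rw [← tp_one_one i]
  simp only [mul_add, add_mul, tp_mul, one_mul, mul_one]
  rw [e1, e2, e3', e4']
  simp only [zero_mul, tp_zero_right, add_zero, tp_add_right]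
  abel


theorem hM_neg (y v : Fin k → F) :
    hM y (-v) = - Matrix.vecMulVec y (sfv v) - Matrix.vecMulVec v (sfv y) + Matrix.vecMulVec v (sfv v) := by
  unfold hM
  simp only [sfv_neg10, Matrix.vecMulVec_neg, Matrix.neg_vecMulVec, neg_neg]
  abel

theorem hM_add_neg (y v : Fin k → F) : hM y v + hM y (-v) = (2 : F) • Matrix.vecMulVec v (sfv v) := by
  rw [hM_neg, two_smul]
  unfold hM
  abel

theorem hM_mul_neg (y v : Fin k → F) (hvy : sf v y = 0) : hM y v * hM y (-v) = 0 := by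
  have h2 : sf y v = 0 := by rw [Cfsg.Agent.Lib.Helper25.SpT.sf_skew, hvy, neg_zero]
  rw [hM_neg]
  unfold hM
  simp only [mul_add, add_mul, mul_sub, sub_mul, mul_neg, neg_mul, vv_mul, Cfsg.Agent.Lib.Helper25.SpT.sf_self, hvy, h2,
    zero_smul, add_zero, sub_zero, neg_zero]

theorem wedS_neg (y v : Fin k → F) : wedS (-v) y = - wedS v y := by
  unfold wedS
  simp only [sfv_neg10, Matrix.vecMulVec_neg, Matrix.neg_vecMulVec]
  abel

/-- the commutator element `u₂⁻¹ (a u₂ a⁻¹) = 1 + T ⊗ (z z† - y y†)` lies in `X` -/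
theorem exists_xplus (X : Subgroup (GL (Idx (t + 1) k) F)) (hHX : HS (t + 1) k F ≤ X)
    (i : Fin (t + 1)) (y y' v : Fin k → F) (hyy' : sf y y' = 1) (hvy : sf v y = 0) (hvy' : sf v y' = 0)
    (σ T : Matrix (Idx t k) (Idx t k) F) (u₂ : GL (Idx (t + 1) k) F) (hu₂X : u₂ ∈ X)
    (hu₂ : (u₂ : Matrix (Idx (t + 1) k) (Idx (t + 1) k) F) =
      1 + tp i σ (wedS v y) + tp i T (Matrix.vecMulVec y (sfv y))) :
    ∃ x ∈ X, (x : Matrix (Idx (t + 1) k) (Idx (t + 1) k) F) = 1 + tp i T (hM y v) := by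
  classical
  let η : GL (Fin k) F := unip (hN y' v) (hN_sq y y' v hyy' hvy hvy')
  have hη : η ∈ GSA k F := by
    rw [mem_GSA]
    intro a b
    exact hν_isom y y' v hyy' hvy hvy' a b
  have haX : slotGL i η ∈ X :=
    hHX (Subgroup.mem_inf.2 ⟨Cfsg.Agent.Lib.Helper23.TWLeaf.slotGL_mem_G i η,
      Cfsg.Agent.Lib.Helper1.TWSIILeaf.slotGL_mem_GSV i hη⟩)
  refine ⟨u₂⁻¹ * slotGL i η * u₂ * (slotGL i η)⁻¹,
    X.mul_mem (X.mul_mem (X.mul_mem (X.inv_mem hu₂X) haX) hu₂X) (X.inv_mem haX), ?_⟩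
  have ha : ((slotGL i η : GL (Idx (t + 1) k) F) : Matrix (Idx (t + 1) k) (Idx (t + 1) k) F) =
      tp i 1 (1 + hN y' v) := by
    rw [tp_one_left]; rfl
  have hkey : ((slotGL i η : GL (Idx (t + 1) k) F) : Matrix (Idx (t + 1) k) (Idx (t + 1) k) F) *
        (u₂ : Matrix (Idx (t + 1) k) (Idx (t + 1) k) F) =
      (u₂ : Matrix (Idx (t + 1) k) (Idx (t + 1) k) F) * (1 + tp i T (hM y v)) *
        ((slotGL i η : GL (Idx (t + 1) k) F) : Matrix (Idx (t + 1) k) (Idx (t + 1) k) F) := by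
    rw [ha, hu₂]
    exact conj_identity i y y' v hyy' hvy hvy' σ T
  calc ((u₂⁻¹ * slotGL i η * u₂ * (slotGL i η)⁻¹ : GL (Idx (t + 1) k) F) : Matrix (Idx (t + 1) k) (Idx (t + 1) k) F)
      = ((u₂⁻¹ : GL (Idx (t + 1) k) F) : Matrix (Idx (t + 1) k) (Idx (t + 1) k) F) *
          (((slotGL i η : GL (Idx (t + 1) k) F) : Matrix (Idx (t + 1) k) (Idx (t + 1) k) F) *
            (u₂ : Matrix (Idx (t + 1) k) (Idx (t + 1) k) F)) *
          (((slotGL i η)⁻¹ : GL (Idx (t + 1) k) F) : Matrix (Idx (t + 1) k) (Idx (t + 1) k) F) := by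
        rw [Units.val_mul, Units.val_mul, Units.val_mul, mul_assoc (u₂⁻¹ : GL (Idx (t + 1) k) F).val]
    _ = (((u₂⁻¹ : GL (Idx (t + 1) k) F) : Matrix (Idx (t + 1) k) (Idx (t + 1) k) F) *
          (u₂ : Matrix (Idx (t + 1) k) (Idx (t + 1) k) F)) * (1 + tp i T (hM y v)) *
          (((slotGL i η : GL (Idx (t + 1) k) F) : Matrix (Idx (t + 1) k) (Idx (t + 1) k) F) *
          (((slotGL i η)⁻¹ : GL (Idx (t + 1) k) F) : Matrix (Idx (t + 1) k) (Idx (t + 1) k) F)) := by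
        rw [hkey]; simp only [mul_assoc]
    _ = 1 + tp i T (hM y v) := by
        rw [Units.inv_mul, Units.mul_inv, one_mul, mul_one]

/-- an element `1 + θ ⊗ z ηᵀ` (`η z = 0`) lies in `Z_{(i,z)}` (form-free; as `Helper12.TWUIILeaf.q2_InZ`) -/
theorem InZ_of_val (i : Fin (t + 1)) (z η : Fin k → F) (hηz : η ⬝ᵥ z = 0) (θ : Matrix (Idx t k) (Idx t k) F)
    (u : GL (Idx (t + 1) k) F)
    (hval : (u : Matrix (Idx (t + 1) k) (Idx (t + 1) k) F) = 1 + ext i θ * rootN i z η) : InZ i z u := by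
  have hR := Cfsg.Agent.Lib.Helper12.TWIIBLeaf.InZ_rootU i z η hηz
  have hmvR : ∀ v, mv (rootU i z η hηz) v = v + rootN i z η *ᵥ v := by
    intro v
    unfold mv
    rw [rootU_val, Matrix.add_mulVec, Matrix.one_mulVec]
  have hcomm : ext i θ * rootN i z η = rootN i z η * ext i θ :=
    Cfsg.Agent.Lib.Helper22.TWLeaf.ext_comm_slot i θ _
  have hmv : ∀ v, mv u v = v + (ext i θ * rootN i z η) *ᵥ v := by
    intro v
    unfold mv
    rw [hval, Matrix.add_mulVec, Matrix.one_mulVec]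
  constructor
  · intro v
    rw [hmv, add_sub_cancel_left, hcomm, ← Matrix.mulVec_mulVec]
    have := hR.1 (ext i θ *ᵥ v)
    rwa [hmvR, add_sub_cancel_left] at this
  · intro v hv
    have h0 : rootN i z η *ᵥ v = 0 := by
      have := hR.2 v hv
      rw [hmvR] at this
      exact left_eq_add.mp this.symm
    rw [hmv, ← Matrix.mulVec_mulVec, h0, Matrix.mulVec_zero, add_zero]

theorem two_ne_zero_10 (hodd : Odd (Fintype.card F)) : (2 : F) ≠ 0 := by
  intro h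
  have h2 : ringChar F = 2 := by
    have hdvd : ringChar F ∣ 2 := by
      rw [← ringChar.spec F 2]
      exact_mod_cast h
    have hp := CharP.char_is_prime F (ringChar F)
    rcases (Nat.dvd_prime Nat.prime_two).1 hdvd with h1 | h1
    · exact absurd h1 hp.ne_one
    · exact h1
  have := FiniteField.even_card_iff_char_two.1 h2
  rcases hodd with ⟨m, hm⟩
  omega

/-- the product `x₊ x₋ = 1 + 2T ⊗ v v†` lies in `X` -/
theorem exists_x2 (X : Subgroup (GL (Idx (t + 1) k) F)) (hHX : HS (t + 1) k F ≤ X)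
    (i : Fin (t + 1)) (y y' v : Fin k → F) (hyy' : sf y y' = 1) (hvy : sf v y = 0) (hvy' : sf v y' = 0)
    (σ T : Matrix (Idx t k) (Idx t k) F) (u₂ : GL (Idx (t + 1) k) F) (hu₂X : u₂ ∈ X)
    (hu₂ : (u₂ : Matrix (Idx (t + 1) k) (Idx (t + 1) k) F) =
      1 + tp i σ (wedS v y) + tp i T (Matrix.vecMulVec y (sfv y))) :
    ∃ x ∈ X, (x : Matrix (Idx (t + 1) k) (Idx (t + 1) k) F) = 1 + ext i ((2 : F) • T) * rootN i v (sfv v) := by
  obtain ⟨x₁, hx₁X, hx₁⟩ := exists_xplus X hHX i y y' v hyy' hvy hvy' σ T u₂ hu₂X hu₂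
  have hu₂'' : (u₂ : Matrix (Idx (t + 1) k) (Idx (t + 1) k) F) =
      1 + tp i (-σ) (wedS (-v) y) + tp i T (Matrix.vecMulVec y (sfv y)) := by
    rw [hu₂, wedS_neg, tp_neg_neg]
  obtain ⟨x₂, hx₂X, hx₂⟩ := exists_xplus X hHX i y y' (-v) hyy'
    (by rw [Cfsg.Agent.Lib.Helper25.SpT.sf_neg_left, hvy, neg_zero])
    (by rw [Cfsg.Agent.Lib.Helper25.SpT.sf_neg_left, hvy', neg_zero]) (-σ) T u₂ hu₂X hu₂''
  refine ⟨x₁ * x₂, X.mul_mem hx₁X hx₂X, ?_⟩
  rw [Units.val_mul, hx₁, hx₂]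
  have e : (1 + tp i T (hM y v)) * (1 + tp i T (hM y (-v))) =
      1 + tp i T (hM y v + hM y (-v)) + tp i (T * T) (hM y v * hM y (-v)) := by
    rw [tp_add_right, mul_add, add_mul, add_mul, tp_mul, one_mul, one_mul, mul_one]
    abel
  rw [e, hM_mul_neg y v hvy, tp_zero_right, add_zero, hM_add_neg, tp_smul_right, ← tp_smul_left]
  rfl


/-- R3 (M-L) `T` is scalar, remove it -/
theorem R1S_T (hodd : Odd (Fintype.card F)) (hk : Even k) (X : Subgroup (GL (Idx (t + 1) k) F)) (hHX : HS (t + 1) k F ≤ X)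
    (i : Fin (t + 1)) (y y' v : Fin k → F) (hyy' : sf y y' = 1) (hv0 : v ≠ 0) (hvy : sf v y = 0) (hvy' : sf v y' = 0)
    (hB : ∀ u ∈ X, InZ i v u → u ∈ Gstd (t + 1) k F) (σ T : Matrix (Idx t k) (Idx t k) F) (u₂ : GL (Idx (t + 1) k) F)
    (hu₂X : u₂ ∈ X)
    (hu₂ : (u₂ : Matrix (Idx (t + 1) k) (Idx (t + 1) k) F) =
      1 + ext i σ * slot k (t + 1) i (wedS v y) + ext i T * rootN i y (sfv y)) :
    ∃ u₃ ∈ X, (u₃ : Matrix (Idx (t + 1) k) (Idx (t + 1) k) F) = 1 + ext i σ * slot k (t + 1) i (wedS v y) := by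
  classical
  have hy0 : y ≠ 0 := by
    rintro rfl
    rw [Cfsg.Agent.Lib.Helper25.SpT.sf_zero_left] at hyy'
    exact zero_ne_one hyy'
  have hk2 : 2 ≤ k := by
    obtain ⟨m, hm⟩ := hk
    rcases Nat.eq_zero_or_pos k with h0 | h0
    · exfalso
      subst h0
      exact hy0 (Subsingleton.elim _ _)
    · omega
  have h2 : (2 : F) ≠ 0 := two_ne_zero_10 hodd
  have hu₂' : (u₂ : Matrix (Idx (t + 1) k) (Idx (t + 1) k) F) =
      1 + tp i σ (wedS v y) + tp i T (Matrix.vecMulVec y (sfv y)) := hu₂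
  obtain ⟨x, hxX, hx⟩ := exists_x2 X hHX i y y' v hyy' hvy hvy' σ T u₂ hu₂X hu₂'
  have hvv : sfv v ⬝ᵥ v = 0 := by
    rw [Cfsg.Agent.Lib.Helper25.SpT.sfv_dot]; exact Cfsg.Agent.Lib.Helper25.SpT.sf_self v
  have hInZ : InZ i v x := InZ_of_val i v (sfv v) hvv _ x hx
  have hxG := hB x hxX hInZ
  obtain ⟨c, hc⟩ := Cfsg.Agent.Lib.Helper14.TWUIILeaf.theta_scalar_of_G hk2 i v (sfv v) hv0 (sfv_ne_zero hk hv0) hvv
    ((2 : F) • T) x hxG hx
  have hT : T = (c / 2) • (1 : Matrix (Idx t k) (Idx t k) F) := by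
    have : T = (2 : F)⁻¹ • ((2 : F) • T) := by rw [smul_smul, inv_mul_cancel₀ h2, one_smul]
    rw [this, hc, smul_smul, div_eq_inv_mul]
  -- remove the scalar part by the root element
  have hrX : (srd hk i y hy0 : RD (t + 1) k F).elt (-(c / 2)) ∈ X :=
    hHX (Cfsg.Agent.Lib.Helper9.TWST.elt_mem_HS hk (srd_RS hk i y hy0) _)
  refine ⟨u₂ * (srd hk i y hy0 : RD (t + 1) k F).elt (-(c / 2)), X.mul_mem hu₂X hrX, ?_⟩
  have hel : (((srd hk i y hy0 : RD (t + 1) k F).elt (-(c / 2)) : GL (Idx (t + 1) k) F) :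
      Matrix (Idx (t + 1) k) (Idx (t + 1) k) F) = 1 + (-(c / 2)) • tp i 1 (Matrix.vecMulVec y (sfv y)) := by
    rw [tp_one_left]; rfl
  rw [Units.val_mul, hel, hu₂', hT, tp_smul_left]
  have e1 := hS_mul_hY y y' v hyy' hvy hvy'
  have e2 : Matrix.vecMulVec y (sfv y) * Matrix.vecMulVec y (sfv y) = 0 := by
    rw [vv_mul, Cfsg.Agent.Lib.Helper25.SpT.sf_self, zero_smul]
  show _ = 1 + tp i σ (wedS v y)
  rw [mul_add, mul_one, Matrix.mul_smul, add_mul, add_mul, one_mul, Matrix.smul_mul, tp_mul, tp_mul, e1, e2]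
  simp only [tp_zero_right, smul_zero, add_zero, neg_smul]
  abel

end Cfsg.Agent.Lib.Helper10.TWSIILeaf
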