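import Mathlib
import Cfsg.Prelude.Def_SporadicCombinatorics
import Cfsg.Agent.S1591

set_option autoImplicit false

namespace Cfsg.Agent.Lib.Helper10

open Cfsg

/-- explicit parametrization of the length-12 ternary code:
column `i` is `c_i + b_i r + s r^2` with `b` in the tetracode and `s = Σ c_i`. -/
def tgParam (c0 c1 c2 c3 u v : ZMod 3) : Cfsg.ArrayPt → ZMod 3 := fun p =>
  (![c0, c1, c2, c3] p.1) + (![v, u, u + v, u + 2 * v] p.1) * p.2 + (c0 + c1 + c2 + c3) * p.2 ^ 2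

theorem tgParam_col : ∀ c0 c1 c2 c3 u v : ZMod 3, ∀ i : Fin 4,
    tgParam c0 c1 c2 c3 u v (i, 0) + tgParam c0 c1 c2 c3 u v (i, 1) + tgParam c0 c1 c2 c3 u v (i, 2)
      = -(c0 + c1 + c2 + c3) := by
  decide

theorem tgParam_tet : ∀ c0 c1 c2 c3 u v a b : ZMod 3,
    tgParam c0 c1 c2 c3 u v (0, b) + tgParam c0 c1 c2 c3 u v (1, a)
      + tgParam c0 c1 c2 c3 u v (2, a + b) + tgParam c0 c1 c2 c3 u v (3, a + 2 * b)
      = c0 + c1 + c2 + c3 := by
  decide

theorem mem_tetracode_iff (t : Fin 4 → ZMod 3) :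
    t ∈ Cfsg.tetracode ↔ ∃ a b : ZMod 3, t = ![b, a, a + b, a + 2 * b] := by
  unfold Cfsg.tetracode
  rw [Submodule.mem_span_pair]
  constructor
  · rintro ⟨a, b, rfl⟩
    refine ⟨a, b, ?_⟩
    funext i
    fin_cases i <;> simp [mul_comm]
  · rintro ⟨a, b, rfl⟩
    refine ⟨a, b, ?_⟩
    funext i
    fin_cases i <;> simp [mul_comm]

theorem tgParam_mem (c0 c1 c2 c3 u v : ZMod 3) :
    tgParam c0 c1 c2 c3 u v ∈ Cfsg.ternaryGolayCode := by
  refine ⟨c0 + c1 + c2 + c3, fun i => ?_, fun t ht => ?_⟩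
  · rw [Cfsg.Agent.S1591.sum_zmod3]
    exact tgParam_col c0 c1 c2 c3 u v i
  · obtain ⟨a, b, rfl⟩ := (mem_tetracode_iff t).1 ht
    rw [Fin.sum_univ_four]
    exact tgParam_tet c0 c1 c2 c3 u v a b

theorem tet_solve : ∀ b0 b1 b2 b3 : ZMod 3, b1 + b2 + b3 = 0 → b0 + b2 + 2 * b3 = 0 →
    b2 = b1 + b0 ∧ b3 = b1 + 2 * b0 := by
  decide

theorem zmod3_cases (P : ZMod 3 → Prop) (h0 : P 0) (h1 : P 1) (h2 : P 2) : ∀ r, P r := by
  intro r
  fin_cases r
  exacts [h0, h1, h2]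

theorem col_solve : ∀ a0 a1 a2 s : ZMod 3, a0 + a1 + a2 = -s →
    a0 = a0 + (a2 - a1) * 0 + s * 0 ^ 2 ∧
    a1 = a0 + (a2 - a1) * 1 + s * 1 ^ 2 ∧ a2 = a0 + (a2 - a1) * 2 + s * 2 ^ 2 := by
  decide

theorem exists_tgParam_of_mem (x : Cfsg.ArrayPt → ZMod 3) (hx : x ∈ Cfsg.ternaryGolayCode) :
    ∃ c0 c1 c2 c3 u v : ZMod 3, x = tgParam c0 c1 c2 c3 u v := by
  obtain ⟨s, hcol, htet⟩ := hx
  obtain ⟨e0, hB1, hB2⟩ := Cfsg.Agent.S1591.lin_constraints x s hcol htet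
  obtain ⟨hb2, hb3⟩ := tet_solve _ _ _ _ hB1 hB2
  have key : ∀ i r, x (i, r) = x (i, 0) + (x (i, 2) - x (i, 1)) * r + s * r ^ 2 := by
    intro i
    have c := hcol i
    rw [Cfsg.Agent.S1591.sum_zmod3] at c
    obtain ⟨h0, h1, h2⟩ := col_solve _ _ _ _ c
    exact zmod3_cases _ h0 h1 h2
  refine ⟨x (0, 0), x (1, 0), x (2, 0), x (3, 0), x (1, 2) - x (1, 1), x (0, 2) - x (0, 1), ?_⟩
  have hc : ∀ i, ![x (0, 0), x (1, 0), x (2, 0), x (3, 0)] i = x (i, 0) := by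
    intro i
    fin_cases i <;> rfl
  have hb : ∀ i, ![x (0, 2) - x (0, 1), x (1, 2) - x (1, 1),
      x (1, 2) - x (1, 1) + (x (0, 2) - x (0, 1)),
      x (1, 2) - x (1, 1) + 2 * (x (0, 2) - x (0, 1))] i = x (i, 2) - x (i, 1) := by
    intro i
    fin_cases i
    exacts [rfl, rfl, hb2.symm, hb3.symm]
  funext ⟨i, r⟩
  show x (i, r) = ![x (0, 0), x (1, 0), x (2, 0), x (3, 0)] i + ![x (0, 2) - x (0, 1), x (1, 2) - x (1, 1),
      x (1, 2) - x (1, 1) + (x (0, 2) - x (0, 1)),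
      x (1, 2) - x (1, 1) + 2 * (x (0, 2) - x (0, 1))] i * r
      + (x (0, 0) + x (1, 0) + x (2, 0) + x (3, 0)) * r ^ 2
  rw [hc, hb, e0]
  exact key i r

theorem mem_ternaryGolayCode_iff (x : Cfsg.ArrayPt → ZMod 3) :
    x ∈ Cfsg.ternaryGolayCode ↔ ∃ c0 c1 c2 c3 u v : ZMod 3, x = tgParam c0 c1 c2 c3 u v := by
  constructor
  · exact exists_tgParam_of_mem x
  · rintro ⟨c0, c1, c2, c3, u, v, rfl⟩
    exact tgParam_mem _ _ _ _ _ _

/-- the parameter space -/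
abbrev P6 : Type := ZMod 3 × ZMod 3 × ZMod 3 × ZMod 3 × ZMod 3 × ZMod 3

/-- parametrization on the product type -/
def tgP (p : P6) : Cfsg.ArrayPt → ZMod 3 :=
  tgParam p.1 p.2.1 p.2.2.1 p.2.2.2.1 p.2.2.2.2.1 p.2.2.2.2.2

/-- weight of a parametrized word -/
def tgWt (p : P6) : ℕ := (Cfsg.ternarySupport (tgP p)).card

theorem tgP_mem (p : P6) : tgP p ∈ Cfsg.ternaryGolayCode := tgParam_mem _ _ _ _ _ _

theorem exists_tgP_of_mem (x : Cfsg.ArrayPt → ZMod 3) (hx : x ∈ Cfsg.ternaryGolayCode) :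
    ∃ p : P6, tgP p = x := by
  obtain ⟨c0, c1, c2, c3, u, v, rfl⟩ := exists_tgParam_of_mem x hx
  exact ⟨(c0, c1, c2, c3, u, v), rfl⟩

theorem tgP_injective : Function.Injective tgP := by
  rintro ⟨c0, c1, c2, c3, u, v⟩ ⟨c0', c1', c2', c3', u', v'⟩ h
  have h00 := congrFun h (0, 0)
  have h10 := congrFun h (1, 0)
  have h20 := congrFun h (2, 0)
  have h30 := congrFun h (3, 0)
  have h01 := congrFun h (0, 1)
  have h11 := congrFun h (1, 1)
  simp [tgP, tgParam] at h00 h10 h20 h30 h01 h11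
  subst h00 h10 h20 h30
  simp at h01 h11
  subst h01 h11
  rfl

/-- the code as the range of the parametrization -/
noncomputable def tgEquiv : P6 ≃ Cfsg.ternaryGolayCode :=
  Equiv.ofBijective (fun p => ⟨tgP p, tgP_mem p⟩)
    ⟨fun p q h => tgP_injective (congrArg Subtype.val h),
     fun x => by
      obtain ⟨p, hp⟩ := exists_tgP_of_mem x.1 x.2
      exact ⟨p, Subtype.ext hp⟩⟩

theorem card_ternaryGolayCode : Nat.card Cfsg.ternaryGolayCode = 729 := by
  rw [← Nat.card_congr tgEquiv, Nat.card_eq_fintype_card]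
  simp [Fintype.card_prod, ZMod.card]

set_option maxRecDepth 100000 in
theorem tgWt_values : ∀ p : P6, tgWt p = 0 ∨ tgWt p = 6 ∨ tgWt p = 9 ∨ tgWt p = 12 := by
  decide

set_option maxRecDepth 100000 in
theorem tgWt_count6 : (Finset.univ.filter (fun p : P6 => tgWt p = 6)).card = 264 := by
  decide

set_option maxRecDepth 100000 in
theorem tgWt_count9 : (Finset.univ.filter (fun p : P6 => tgWt p = 9)).card = 440 := by
  decide

set_option maxRecDepth 100000 in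
theorem tgWt_count12 : (Finset.univ.filter (fun p : P6 => tgWt p = 12)).card = 24 := by
  decide

theorem eq_zero_of_support_card_eq_zero (x : Cfsg.ArrayPt → ZMod 3)
    (h : (Cfsg.ternarySupport x).card = 0) : x = 0 := by
  rw [Finset.card_eq_zero] at h
  funext a
  by_contra ha
  have : a ∈ Cfsg.ternarySupport x := by
    unfold Cfsg.ternarySupport
    simp only [Finset.mem_filter, Finset.mem_univ, true_and]
    exact ha
  rw [h] at this
  exact absurd this (Finset.notMem_empty a)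

theorem weight_of_mem (x : Cfsg.ArrayPt → ZMod 3) (hx : x ∈ Cfsg.ternaryGolayCode) (h0 : x ≠ 0) :
    (Cfsg.ternarySupport x).card = 6 ∨ (Cfsg.ternarySupport x).card = 9 ∨
      (Cfsg.ternarySupport x).card = 12 := by
  obtain ⟨p, rfl⟩ := exists_tgP_of_mem x hx
  rcases tgWt_values p with h | h
  · exact absurd (eq_zero_of_support_card_eq_zero _ h) h0
  · exact h

theorem ncard_weight (w n : ℕ) (h : (Finset.univ.filter (fun p : P6 => tgWt p = w)).card = n) :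
    {x : Cfsg.ArrayPt → ZMod 3 | x ∈ Cfsg.ternaryGolayCode ∧
      (Cfsg.ternarySupport x).card = w}.ncard = n := by
  have hset : {x : Cfsg.ArrayPt → ZMod 3 | x ∈ Cfsg.ternaryGolayCode ∧
      (Cfsg.ternarySupport x).card = w} =
      tgP '' (↑(Finset.univ.filter (fun p : P6 => tgWt p = w)) : Set P6) := by
    ext x
    simp only [Set.mem_ofPred_eq, Set.mem_image, Finset.coe_filter, Finset.mem_univ, true_and]
    constructor
    · rintro ⟨hx, hw⟩
      obtain ⟨p, rfl⟩ := exists_tgP_of_mem x hx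
      exact ⟨p, hw, rfl⟩
    · rintro ⟨p, hw, rfl⟩
      exact ⟨tgP_mem p, hw⟩
  rw [hset, Set.ncard_image_of_injective _ tgP_injective, Set.ncard_coe_finset, h]

end Cfsg.Agent.Lib.Helper10
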