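import Cfsg.Agent.Lib.Helper10.TernaryGolay

set_option autoImplicit false

namespace Cfsg.Agent.Lib.Helper10

open Cfsg

theorem mem_ternarySupport {x : Cfsg.ArrayPt → ZMod 3} {a : Cfsg.ArrayPt} :
    a ∈ Cfsg.ternarySupport x ↔ x a ≠ 0 := by
  unfold Cfsg.ternarySupport
  simp

theorem zmod3_add_eq_zero : ∀ a b : ZMod 3, a ≠ 0 → b ≠ 0 → a ≠ b → a + b = 0 := by
  decide

/-- a code word of weight at most 5 is zero -/
theorem eq_zero_of_weight_le {z : Cfsg.ArrayPt → ZMod 3} (hz : z ∈ Cfsg.ternaryGolayCode)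
    (h : (Cfsg.ternarySupport z).card ≤ 5) : z = 0 := by
  by_contra h0
  rcases weight_of_mem z hz h0 with h6 | h9 | h12 <;> omega

/-- auxiliary: if `z` is a code word supported in `(X ∪ Y) \ A` with `|X| = |Y| = 6`,
`|X ∩ Y| ≥ 5`, `A ⊆ X ∪ Y`, `|A| ≥ 3`, then `z = 0` -/
theorem eq_zero_of_support_subset {z : Cfsg.ArrayPt → ZMod 3} (hz : z ∈ Cfsg.ternaryGolayCode)
    (X Y A s : Finset Cfsg.ArrayPt) (hX : X.card = 6) (hY : Y.card = 6) (hs : s.card = 5)
    (hsX : s ⊆ X) (hsY : s ⊆ Y) (hA : A ⊆ s) (hA3 : 3 ≤ A.card)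
    (hsup : Cfsg.ternarySupport z ⊆ (X ∪ Y) \ A) : z = 0 := by
  apply eq_zero_of_weight_le hz
  have h1 : (Cfsg.ternarySupport z).card ≤ ((X ∪ Y) \ A).card := Finset.card_le_card hsup
  have hAXY : A ⊆ X ∪ Y := fun a ha => Finset.mem_union_left _ (hsX (hA ha))
  have h2 : ((X ∪ Y) \ A).card = (X ∪ Y).card - A.card := Finset.card_sdiff_of_subset hAXY
  have h3 : (X ∪ Y).card + (X ∩ Y).card = X.card + Y.card := Finset.card_union_add_card_inter X Y
  have h4 : s.card ≤ (X ∩ Y).card :=
    Finset.card_le_card (fun a ha => Finset.mem_inter.2 ⟨hsX ha, hsY ha⟩)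
  omega

theorem support_eq_of_five {x y : Cfsg.ArrayPt → ZMod 3} (hx : x ∈ Cfsg.ternaryGolayCode)
    (hy : y ∈ Cfsg.ternaryGolayCode) (hwx : (Cfsg.ternarySupport x).card = 6)
    (hwy : (Cfsg.ternarySupport y).card = 6) (s : Finset Cfsg.ArrayPt) (hs : s.card = 5)
    (hsx : s ⊆ Cfsg.ternarySupport x) (hsy : s ⊆ Cfsg.ternarySupport y) :
    Cfsg.ternarySupport x = Cfsg.ternarySupport y := by
  classical
  set A := s.filter (fun a => x a = y a) with hA
  set A' := s.filter (fun a => ¬ x a = y a) with hA'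
  have hcard : A.card + A'.card = s.card := Finset.card_filter_add_card_filter_not _
  have hcases : 3 ≤ A.card ∨ 3 ≤ A'.card := by omega
  rcases hcases with h3 | h3
  · have hz : x - y ∈ Cfsg.ternaryGolayCode := Submodule.sub_mem _ hx hy
    have : x - y = 0 := by
      apply eq_zero_of_support_subset hz _ _ A s hwx hwy hs hsx hsy (Finset.filter_subset _ _) h3
      intro a ha
      rw [mem_ternarySupport] at ha
      rw [Finset.mem_sdiff, Finset.mem_union, mem_ternarySupport, mem_ternarySupport]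
      constructor
      · by_contra hcon
        push Not at hcon
        apply ha
        simp [hcon.1, hcon.2]
      · intro haA
        rw [hA, Finset.mem_filter] at haA
        apply ha
        simp [haA.2]
    rw [sub_eq_zero] at this
    rw [this]
  · have hz : x + y ∈ Cfsg.ternaryGolayCode := Submodule.add_mem _ hx hy
    have : x + y = 0 := by
      apply eq_zero_of_support_subset hz _ _ A' s hwx hwy hs hsx hsy (Finset.filter_subset _ _) h3
      intro a ha
      rw [mem_ternarySupport] at ha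
      rw [Finset.mem_sdiff, Finset.mem_union, mem_ternarySupport, mem_ternarySupport]
      constructor
      · by_contra hcon
        push Not at hcon
        apply ha
        simp [hcon.1, hcon.2]
      · intro haA
        rw [hA', Finset.mem_filter] at haA
        apply ha
        have hxa : x a ≠ 0 := mem_ternarySupport.1 (hsx haA.1)
        have hya : y a ≠ 0 := mem_ternarySupport.1 (hsy haA.1)
        exact zmod3_add_eq_zero _ _ hxa hya haA.2
    have hyx : y = -x := by
      rw [eq_neg_iff_add_eq_zero, add_comm]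
      exact this
    rw [hyx]
    ext a
    rw [mem_ternarySupport, mem_ternarySupport]
    simp

/-- the hexads: supports of the weight-6 words, as a finset -/
def hexF : Finset (Finset Cfsg.ArrayPt) :=
  (Finset.univ.filter (fun p : P6 => tgWt p = 6)).image (fun p => Cfsg.ternarySupport (tgP p))

set_option maxRecDepth 1000000 in
theorem hexF_card : hexF.card = 132 := by
  decide

theorem mem_hexF {h : Finset Cfsg.ArrayPt} :
    h ∈ hexF ↔ ∃ x ∈ Cfsg.ternaryGolayCode, Cfsg.ternarySupport x = h ∧ h.card = 6 := by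
  unfold hexF
  simp only [Finset.mem_image, Finset.mem_filter, Finset.mem_univ, true_and]
  constructor
  · rintro ⟨p, hp, rfl⟩
    exact ⟨tgP p, tgP_mem p, rfl, hp⟩
  · rintro ⟨x, hx, rfl, hc⟩
    obtain ⟨p, rfl⟩ := exists_tgP_of_mem x hx
    exact ⟨p, hc, rfl⟩

theorem hexF_unique {b1 b2 s : Finset Cfsg.ArrayPt} (h1 : b1 ∈ hexF) (h2 : b2 ∈ hexF)
    (hs : s.card = 5) (hs1 : s ⊆ b1) (hs2 : s ⊆ b2) : b1 = b2 := by
  obtain ⟨x, hx, rfl, hcx⟩ := mem_hexF.1 h1
  obtain ⟨y, hy, rfl, hcy⟩ := mem_hexF.1 h2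
  exact support_eq_of_five hx hy hcx hcy s hs hs1 hs2

set_option maxRecDepth 100000 in
theorem hexF_exists (s : Finset Cfsg.ArrayPt) (hs : s.card = 5) : ∃ b ∈ hexF, s ⊆ b := by
  classical
  set U := hexF.biUnion (fun b => b.powersetCard 5) with hU
  have hUsub : U ⊆ (Finset.univ : Finset Cfsg.ArrayPt).powersetCard 5 := by
    intro t ht
    rw [hU, Finset.mem_biUnion] at ht
    obtain ⟨b, _, htb⟩ := ht
    rw [Finset.mem_powersetCard] at htb ⊢
    exact ⟨Finset.subset_univ _, htb.2⟩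
  have hUcard : U.card = 792 := by
    rw [hU, Finset.card_biUnion]
    · have : ∀ b ∈ hexF, (b.powersetCard 5).card = 6 := by
        intro b hb
        obtain ⟨x, _, _, hc⟩ := mem_hexF.1 hb
        rw [Finset.card_powersetCard, hc]
        rfl
      rw [Finset.sum_congr rfl this, Finset.sum_const, hexF_card]
      rfl
    · intro b1 h1 b2 h2 hne
      show Disjoint (b1.powersetCard 5) (b2.powersetCard 5)
      rw [Finset.disjoint_left]
      intro t ht1 ht2
      rw [Finset.mem_powersetCard] at ht1 ht2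
      exact hne (hexF_unique h1 h2 ht1.2 ht1.1 ht2.1)
  have htot : ((Finset.univ : Finset Cfsg.ArrayPt).powersetCard 5).card = 792 := by
    rw [Finset.card_powersetCard, Finset.card_univ]
    simp [Fintype.card_prod, ZMod.card]
    rfl
  have hUeq : U = (Finset.univ : Finset Cfsg.ArrayPt).powersetCard 5 :=
    Finset.eq_of_subset_of_card_le hUsub (by rw [htot, hUcard])
  have hsU : s ∈ U := by
    rw [hUeq, Finset.mem_powersetCard]
    exact ⟨Finset.subset_univ _, hs⟩
  rw [hU, Finset.mem_biUnion] at hsU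
  obtain ⟨b, hb, hsb⟩ := hsU
  exact ⟨b, hb, (Finset.mem_powersetCard.1 hsb).1⟩

theorem hexads_steiner :
    Cfsg.IsSteinerSystem 5 6 {h : Finset Cfsg.ArrayPt | ∃ x ∈ Cfsg.ternaryGolayCode,
      Cfsg.ternarySupport x = h ∧ h.card = 6} ∧
    {h : Finset Cfsg.ArrayPt | ∃ x ∈ Cfsg.ternaryGolayCode,
      Cfsg.ternarySupport x = h ∧ h.card = 6}.ncard = 132 := by
  have hB : {h : Finset Cfsg.ArrayPt | ∃ x ∈ Cfsg.ternaryGolayCode,
      Cfsg.ternarySupport x = h ∧ h.card = 6} = (↑hexF : Set (Finset Cfsg.ArrayPt)) := by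
    ext h
    rw [Finset.mem_coe, mem_hexF]
    rfl
  rw [hB]
  refine ⟨⟨?_, ?_⟩, ?_⟩
  · intro b hb
    obtain ⟨x, _, _, hc⟩ := mem_hexF.1 (Finset.mem_coe.1 hb)
    exact hc
  · intro s hs
    obtain ⟨b, hb, hsb⟩ := hexF_exists s hs
    refine ⟨b, ⟨Finset.mem_coe.2 hb, hsb⟩, ?_⟩
    rintro b' ⟨hb', hsb'⟩
    exact hexF_unique (Finset.mem_coe.1 hb') hb hs hsb' hsb
  · rw [Set.ncard_coe_finset, hexF_card]

end Cfsg.Agent.Lib.Helper10
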