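import Cfsg.Agent.Lib.Helper10.TernaryGolay2

set_option autoImplicit false

namespace Cfsg.Agent.Lib.Helper10

open Cfsg

/-- two weight-6 code words whose supports share five points are equal or opposite -/
theorem eq_or_eq_neg_of_five {x y : Cfsg.ArrayPt → ZMod 3} (hx : x ∈ Cfsg.ternaryGolayCode)
    (hy : y ∈ Cfsg.ternaryGolayCode) (hwx : (Cfsg.ternarySupport x).card = 6)
    (hwy : (Cfsg.ternarySupport y).card = 6) (s : Finset Cfsg.ArrayPt) (hs : s.card = 5)
    (hsx : s ⊆ Cfsg.ternarySupport x) (hsy : s ⊆ Cfsg.ternarySupport y) :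
    y = x ∨ y = -x := by
  classical
  set A := s.filter (fun a => x a = y a) with hA
  set A' := s.filter (fun a => ¬ x a = y a) with hA'
  have hcard : A.card + A'.card = s.card := Finset.card_filter_add_card_filter_not _
  have hcases : 3 ≤ A.card ∨ 3 ≤ A'.card := by omega
  rcases hcases with h3 | h3
  · have hz : x - y ∈ Cfsg.ternaryGolayCode := Submodule.sub_mem _ hx hy
    have : x - y = 0 := by
      apply eq_zero_of_support_subset hz _ _ A s hwx hwy hs hsx hsy (Finset.filter_subset _ _) h3
      intro a ha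
      rw [mem_ternarySupport] at ha
      rw [Finset.mem_sdiff, Finset.mem_union, mem_ternarySupport, mem_ternarySupport]
      constructor
      · by_contra hcon
        push Not at hcon
        apply ha
        simp [hcon.1, hcon.2]
      · intro haA
        rw [hA, Finset.mem_filter] at haA
        apply ha
        simp [haA.2]
    rw [sub_eq_zero] at this
    exact Or.inl this.symm
  · have hz : x + y ∈ Cfsg.ternaryGolayCode := Submodule.add_mem _ hx hy
    have : x + y = 0 := by
      apply eq_zero_of_support_subset hz _ _ A' s hwx hwy hs hsx hsy (Finset.filter_subset _ _) h3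
      intro a ha
      rw [mem_ternarySupport] at ha
      rw [Finset.mem_sdiff, Finset.mem_union, mem_ternarySupport, mem_ternarySupport]
      constructor
      · by_contra hcon
        push Not at hcon
        apply ha
        simp [hcon.1, hcon.2]
      · intro haA
        rw [hA', Finset.mem_filter] at haA
        apply ha
        have hxa : x a ≠ 0 := mem_ternarySupport.1 (hsx haA.1)
        have hya : y a ≠ 0 := mem_ternarySupport.1 (hsy haA.1)
        exact zmod3_add_eq_zero _ _ hxa hya haA.2
    right
    rw [eq_neg_iff_add_eq_zero, add_comm]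
    exact this

theorem zmod3_units : ∀ u : (ZMod 3)ˣ, u = 1 ∨ u = -1 := by
  decide

theorem sign_change_const (c : Cfsg.ArrayPt → (ZMod 3)ˣ)
    (h : ∀ x ∈ Cfsg.ternaryGolayCode, Cfsg.monomialMap 1 c x ∈ Cfsg.ternaryGolayCode)
    (p q : Cfsg.ArrayPt) : c p = c q := by
  classical
  -- a 5-set through p and q
  have hpq : ({p, q} : Finset Cfsg.ArrayPt).card ≤ 5 := by
    refine le_trans (Finset.card_insert_le _ _) ?_
    simp
  have h12 : 5 ≤ (Finset.univ : Finset Cfsg.ArrayPt).card := by
    rw [Finset.card_univ]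
    simp [Fintype.card_prod, ZMod.card]
  obtain ⟨s, hpqs, _, hs⟩ := Finset.exists_subsuperset_card_eq (Finset.subset_univ _) hpq h12
  have hps : p ∈ s := hpqs (by simp)
  have hqs : q ∈ s := hpqs (by simp)
  obtain ⟨b, hb, hsb⟩ := hexF_exists s hs
  obtain ⟨x, hx, rfl, hcx⟩ := mem_hexF.1 hb
  set y := Cfsg.monomialMap 1 c x with hy
  have hyv : ∀ a, y a = (c a : ZMod 3) * x a := fun a => rfl
  have hymem : y ∈ Cfsg.ternaryGolayCode := h x hx
  have hsupp : Cfsg.ternarySupport y = Cfsg.ternarySupport x := by
    ext a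
    rw [mem_ternarySupport, mem_ternarySupport, hyv]
    simp
  have hxp : x p ≠ 0 := mem_ternarySupport.1 (hsb hps)
  have hxq : x q ≠ 0 := mem_ternarySupport.1 (hsb hqs)
  rcases eq_or_eq_neg_of_five hx hymem hcx (hsupp ▸ hcx) s hs hsb (hsupp ▸ hsb) with h1 | h1
  · have hp1 := congrFun h1 p
    have hq1 := congrFun h1 q
    rw [hyv] at hp1 hq1
    have hcp : (c p : ZMod 3) = 1 := by
      have : ((c p : ZMod 3) - 1) * x p = 0 := by rw [sub_mul, hp1]; ring
      rcases mul_eq_zero.1 this with h0 | h0
      · exact sub_eq_zero.1 h0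
      · exact absurd h0 hxp
    have hcq : (c q : ZMod 3) = 1 := by
      have : ((c q : ZMod 3) - 1) * x q = 0 := by rw [sub_mul, hq1]; ring
      rcases mul_eq_zero.1 this with h0 | h0
      · exact sub_eq_zero.1 h0
      · exact absurd h0 hxq
    exact Units.ext (hcp.trans hcq.symm)
  · have hp1 := congrFun h1 p
    have hq1 := congrFun h1 q
    rw [hyv, Pi.neg_apply] at hp1 hq1
    have hcp : (c p : ZMod 3) = -1 := by
      have : ((c p : ZMod 3) + 1) * x p = 0 := by rw [add_mul, hp1]; ring
      rcases mul_eq_zero.1 this with h0 | h0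
      · exact eq_neg_of_add_eq_zero_left h0
      · exact absurd h0 hxp
    have hcq : (c q : ZMod 3) = -1 := by
      have : ((c q : ZMod 3) + 1) * x q = 0 := by rw [add_mul, hq1]; ring
      rcases mul_eq_zero.1 this with h0 | h0
      · exact eq_neg_of_add_eq_zero_left h0
      · exact absurd h0 hxq
    exact Units.ext (hcp.trans hcq.symm)

theorem sign_change_kernel (c : Cfsg.ArrayPt → (ZMod 3)ˣ)
    (h : ∀ x ∈ Cfsg.ternaryGolayCode, Cfsg.monomialMap 1 c x ∈ Cfsg.ternaryGolayCode) :
    (∀ p, c p = 1) ∨ (∀ p, c p = -1) := by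
  rcases zmod3_units (c (0, 0)) with h1 | h1
  · left
    intro p
    rw [sign_change_const c h p (0, 0), h1]
  · right
    intro p
    rw [sign_change_const c h p (0, 0), h1]

end Cfsg.Agent.Lib.Helper10
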