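import Mathlib

/-!
# Transitive groups of prime degree with a self-centralizing Sylow subgroup (helper10)

Tools for the corner case `d = 13` of S4150 (request of helper18).

* `card_eq_prime_of_normalizer_le`: a finite group acting faithfully and transitively on `p`
  points, `p² ∤ |L|`, in which every element normalizing `⟨x⟩` (`x` of order `p`) commutes with
  `x`, has order `p` (Burnside transfer + a normal subgroup of a primitive group is trivial or
  transitive).
-/

set_option autoImplicit false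

namespace Cfsg.Agent.Lib.Helper10.Thirteen

open MulAction

theorem card_eq_prime_of_normalizer_le
    {L Ω : Type*} [Group L] [Finite L] [MulAction L Ω] [Finite Ω]
    {p : ℕ} (hp : p.Prime) (hΩ : Nat.card Ω = p) [hT : IsPretransitive L Ω]
    (hfaith : ∀ g : L, (∀ a : Ω, g • a = a) → g = 1)
    (x : L) (hx : orderOf x = p)
    (hN : ∀ n : L, n * x * n⁻¹ ∈ Subgroup.zpowers x → Commute n x)
    (hpp : ¬ p ^ 2 ∣ Nat.card L) : Nat.card L = p := by
  have : Fact p.Prime := ⟨hp⟩
  have hcardP : Nat.card (Subgroup.zpowers x) = p := by rw [Nat.card_zpowers, hx]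
  have hLpos : Nat.card L ≠ 0 := Nat.card_pos.ne'
  have hpdvd : p ∣ Nat.card L := by
    rw [← hcardP]; exact Subgroup.card_subgroup_dvd_card _
  have hfac : (Nat.card L).factorization p = 1 := by
    have h1 : 1 ≤ (Nat.card L).factorization p :=
      (hp.dvd_iff_one_le_factorization hLpos).mp hpdvd
    have h2 : ¬ 2 ≤ (Nat.card L).factorization p := by
      intro h
      exact hpp ((hp.pow_dvd_iff_le_factorization hLpos).mpr h)
    omega
  let P : Sylow p L := Sylow.ofCard (Subgroup.zpowers x) (by rw [hcardP, hfac, pow_one])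
  have hPcoe : (P : Subgroup L) = Subgroup.zpowers x := Sylow.coe_ofCard _ _
  have hNC : Subgroup.normalizer ((P : Subgroup L) : Set L) ≤ Subgroup.centralizer (P : Set L) := by
    intro n hn
    have hxP : x ∈ (P : Subgroup L) := by rw [hPcoe]; exact Subgroup.mem_zpowers x
    have h1 : n * x * n⁻¹ ∈ (P : Subgroup L) := (Subgroup.mem_normalizer_iff.mp hn x).mp hxP
    rw [hPcoe] at h1
    have hc : Commute n x := hN n h1
    rw [Subgroup.mem_centralizer_iff]
    intro y hy
    have hy' : y ∈ Subgroup.zpowers x := by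
      have : y ∈ (P : Subgroup L) := hy
      rwa [hPcoe] at this
    obtain ⟨k, rfl⟩ := Subgroup.mem_zpowers_iff.mp hy'
    exact ((hc.zpow_right k).eq).symm
  have hcompl := MonoidHom.ker_transferSylow_isComplement' P hNC
  have hnd := MonoidHom.not_dvd_card_ker_transferSylow P hNC
  set O := (MonoidHom.transferSylow P hNC).ker with hO
  have hprim : IsPreprimitive L Ω := IsPreprimitive.of_prime_card (hΩ ▸ hp)
  have hOtriv : MulAction.fixedPoints O Ω = Set.univ := by
    by_contra hne
    have hOT : IsPretransitive O Ω := IsQuasiPreprimitive.isPretransitive_of_normal hne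
    apply hnd
    rw [← hΩ]
    have : Nonempty Ω := by
      rw [← Finite.card_pos_iff, hΩ]; exact hp.pos
    obtain ⟨a⟩ := this
    rw [← MulAction.index_stabilizer_of_transitive O a]
    exact Subgroup.index_dvd_card _
  have hObot : O = ⊥ := by
    rw [Subgroup.eq_bot_iff_forall]
    intro g hg
    apply hfaith
    intro a
    have ha : a ∈ fixedPoints O Ω := by rw [hOtriv]; trivial
    exact ha ⟨g, hg⟩
  have h3 := hcompl.card_mul_card
  rw [hObot, Subgroup.card_bot, one_mul] at h3
  rw [← h3]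
  show Nat.card (P : Subgroup L) = p
  rw [hPcoe, hcardP]


section PermLemmas

open Equiv Equiv.Perm

variable {β : Type*} [Fintype β] [DecidableEq β]

/-- a permutation commuting with a cycle `X` and fixing all points outside its support is a
power of `X`. -/
theorem mem_zpowers_of_commute_of_fix {X n : Perm β} (hX : X.IsCycle)
    (hfix : ∀ a, a ∉ X.support → n a = a) (hc : Commute n X) : n ∈ Subgroup.zpowers X := by
  obtain ⟨a, ha⟩ := hX.nonempty_support
  have hna : n a ∈ X.support := (mem_support_iff_of_commute hc a).mpr ha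
  obtain ⟨i, hi⟩ := hX.sameCycle (mem_support.mp ha) (mem_support.mp hna)
  refine Subgroup.mem_zpowers_iff.mpr ⟨i, ?_⟩
  ext x
  by_cases hx : x ∈ X.support
  · obtain ⟨j, rfl⟩ := hX.sameCycle (mem_support.mp ha) (mem_support.mp hx)
    have h1 : n ((X ^ j) a) = (X ^ j) (n a) := by
      have := (hc.zpow_right j).eq
      exact congrArg (fun f : Perm β => f a) this
    rw [h1, ← hi, ← mul_apply, ← mul_apply, ← zpow_add, ← zpow_add, add_comm]
  · rw [hfix x hx]
    have : x ∉ (X ^ i).support := fun h => hx (support_zpow_le X i h)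
    exact notMem_support.mp this

/-- an element inverting an `11`-cycle and fixing all points outside its support is odd. -/
theorem sign_of_inverts {X n : Perm β} (hX : X.IsCycle)
    (hX11 : X.support.card = 11) (hfix : ∀ a, a ∉ X.support → n a = a)
    (h2 : Commute (n ^ 2) X) (hinv : n * X * n⁻¹ = X⁻¹) : Perm.sign n = -1 := by
  have hord : orderOf X = 11 := by rw [hX.orderOf, hX11]
  have hX11' : X ^ 11 = 1 := by rw [← hord]; exact pow_orderOf_eq_one X
  -- `n ^ 2 = 1`
  have hfix2 : ∀ a, a ∉ X.support → (n ^ 2) a = a := by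
    intro a ha
    rw [pow_two, mul_apply, hfix a ha, hfix a ha]
  obtain ⟨i, hi⟩ := Subgroup.mem_zpowers_iff.mp (mem_zpowers_of_commute_of_fix hX hfix2 h2)
  have hconj : n * X ^ i * n⁻¹ = (X ^ i)⁻¹ := by
    rw [← conj_zpow, hinv, inv_zpow]
  have hsq : (X ^ i) ^ 2 = 1 := by
    have h3 : n * X ^ i * n⁻¹ = X ^ i := by
      rw [hi]; group
    rw [h3] at hconj
    rw [pow_two]
    nth_rewrite 1 [hconj]
    exact inv_mul_cancel _
  have h11 : (X ^ i) ^ 11 = 1 := by
    rw [← zpow_natCast, ← zpow_mul, mul_comm, zpow_mul, zpow_natCast, hX11', one_zpow]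
  have hXi : X ^ i = 1 := by
    have h10 : (X ^ i) ^ 10 = 1 := by
      rw [show 10 = 2 * 5 by norm_num, pow_mul, hsq, one_pow]
    have : (X ^ i) ^ 11 = (X ^ i) ^ 10 * X ^ i := pow_succ _ 10
    rw [h11, h10, one_mul] at this
    exact this.symm
  have hn2 : n ^ 2 = 1 := by rw [← hi, hXi]
  have hn1 : n ≠ 1 := by
    rintro rfl
    have hXX : X = X⁻¹ := by simpa using hinv
    have h2' : X ^ 2 = 1 := by
      rw [pow_two]; nth_rewrite 1 [hXX]; exact inv_mul_cancel X
    have h3 := orderOf_dvd_of_pow_eq_one h2'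
    rw [hord] at h3
    omega
  have : Fact (Nat.Prime 2) := ⟨Nat.prime_two⟩
  have hordn : orderOf n = 2 := orderOf_eq_prime hn2 hn1
  obtain ⟨t, ht⟩ := cycleType_prime_order (σ := n) (by rw [hordn]; exact Nat.prime_two)
  rw [hordn] at ht
  have hsupp : n.support.card = 2 * (t + 1) := by
    rw [← sum_cycleType, ht, Multiset.sum_replicate, smul_eq_mul, mul_comm]
  -- at most one fixed point on the support of `X`
  have hle1 : (X.support \ n.support).card ≤ 1 := by
    rw [Finset.card_le_one]
    intro u hu v hv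
    rw [Finset.mem_sdiff] at hu hv
    have hnu : n u = u := notMem_support.mp hu.2
    have hnv : n v = v := notMem_support.mp hv.2
    obtain ⟨k, hk⟩ := hX.exists_pow_eq (mem_support.mp hu.1) (mem_support.mp hv.1)
    have hcj : n * X ^ k = (X⁻¹) ^ k * n := by
      rw [← hinv, conj_pow]; group
    have h4 : (X⁻¹ ^ k) u = (X ^ k) u := by
      have h := congrArg (fun f : Perm β => f u) hcj
      simp only [mul_apply] at h
      rw [hnu, hk, hnv] at h
      rw [← h, hk]
    have h5 : (X ^ (2 * k)) u = u := by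
      rw [two_mul, pow_add, mul_apply, ← h4, inv_pow, ← mul_apply, mul_inv_cancel, one_apply]
    have h6 : X ^ (2 * k) = 1 := (hX.pow_eq_one_iff' (mem_support.mp hu.1)).mpr h5
    have h7 : 11 ∣ 2 * k := by rw [← hord]; exact orderOf_dvd_of_pow_eq_one h6
    have h8 : 11 ∣ k := by omega
    have h9 : X ^ k = 1 := by
      obtain ⟨m, rfl⟩ := h8
      rw [pow_mul, hX11', one_pow]
    rw [← hk, h9]; rfl
  have hsub : n.support ⊆ X.support := by
    intro a ha
    by_contra hne
    exact (mem_support.mp ha) (hfix a hne)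
  have hcnt := Finset.card_sdiff_add_card_eq_card hsub
  have ht4 : t = 4 := by omega
  subst ht4
  rw [sign_of_cycleType, ht, Multiset.sum_replicate, Multiset.card_replicate]
  decide

/-- an even permutation `n` normalizing `⟨X⟩` (`X` an `11`-cycle), fixing the points outside the
support of `X`, whose square commutes with `X`, commutes with `X`. -/
theorem commute_of_conj_mem_zpowers {X n : Perm β} (hX : X.IsCycle)
    (hX11 : X.support.card = 11) (hfix : ∀ a, a ∉ X.support → n a = a)
    (hsign : Perm.sign n = 1) (h2 : Commute (n ^ 2) X)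
    (hconj : n * X * n⁻¹ ∈ Subgroup.zpowers X) : Commute n X := by
  have hord : orderOf X = 11 := by rw [hX.orderOf, hX11]
  obtain ⟨j, hj⟩ := Subgroup.mem_zpowers_iff.mp hconj
  have h3 : n ^ 2 * X * (n ^ 2)⁻¹ = X ^ (j * j) := by
    have e1 : n ^ 2 * X * (n ^ 2)⁻¹ = n * (n * X * n⁻¹) * n⁻¹ := by
      rw [pow_two, mul_inv_rev]; simp only [mul_assoc]
    rw [e1, ← hj, ← conj_zpow, ← hj, ← zpow_mul]
  have h4 : n ^ 2 * X * (n ^ 2)⁻¹ = X := by
    rw [h2.eq, mul_inv_cancel_right]
  rw [h4] at h3
  have h5 : (1 : ℤ) ≡ j * j [ZMOD (11 : ℕ)] := by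
    rw [← hord, ← zpow_eq_zpow_iff_modEq, zpow_one]
    exact h3
  have h6 : (11 : ℤ) ∣ (j - 1) * (j + 1) := by
    have := h5.dvd
    have e : (j - 1) * (j + 1) = j * j - 1 := by ring
    rw [e]
    exact_mod_cast this
  have hp : Prime (11 : ℤ) := by
    rw [Int.prime_iff_natAbs_prime]; norm_num
  rcases hp.dvd_or_dvd h6 with h | h
  · -- `j ≡ 1`
    have h7 : X ^ j = X := by
      have : X ^ j = X ^ (1 : ℤ) := by
        rw [zpow_eq_zpow_iff_modEq, hord]
        exact (Int.modEq_iff_dvd.mpr (by simpa using h)).symm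
      rw [this, zpow_one]
    rw [h7] at hj
    show n * X = X * n
    rw [← mul_inv_eq_iff_eq_mul]
    exact hj.symm
  · -- `j ≡ -1`: impossible
    exfalso
    have h7 : X ^ j = X⁻¹ := by
      have : X ^ j = X ^ (-1 : ℤ) := by
        rw [zpow_eq_zpow_iff_modEq, hord]
        apply Int.ModEq.symm
        apply Int.modEq_iff_dvd.mpr
        have e : j - (-1) = j + 1 := by ring
        rw [e]; exact_mod_cast h
      rw [this, zpow_neg_one]
    rw [h7] at hj
    have := sign_of_inverts hX hX11 hfix h2 hj.symm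
    rw [hsign] at this
    exact absurd this (by decide)

/-- if `n` normalizes `⟨X⟩` (`X` an `11`-cycle) and `5 ∤ o(n)` then `n²` commutes with `X`. -/
theorem commute_sq_of_conj_mem_zpowers {X n : Perm β} (hX : X.IsCycle)
    (hX11 : X.support.card = 11) (h5 : ¬ 5 ∣ orderOf n)
    (hconj : n * X * n⁻¹ ∈ Subgroup.zpowers X) : Commute (n ^ 2) X := by
  have hord : orderOf X = 11 := by rw [hX.orderOf, hX11]
  obtain ⟨j, hj⟩ := Subgroup.mem_zpowers_iff.mp hconj
  have hpow : ∀ k : ℕ, n ^ k * X * (n ^ k)⁻¹ = X ^ (j ^ k) := by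
    intro k
    induction k with
    | zero => simp
    | succ k ih =>
      have e1 : n ^ (k + 1) * X * (n ^ (k + 1))⁻¹ = n * (n ^ k * X * (n ^ k)⁻¹) * n⁻¹ := by
        rw [pow_succ']; group
      rw [e1, ih, ← conj_zpow, ← hj, ← zpow_mul, pow_succ']
  -- `11 ∤ j`
  have hX1 : X ≠ 1 := hX.ne_one
  have hj11 : ¬ (11 : ℤ) ∣ j := by
    intro hd
    have : X ^ j = 1 := by
      apply orderOf_dvd_iff_zpow_eq_one.mp
      rw [hord]; exact_mod_cast hd
    rw [this] at hj
    apply hX1
    have e : X = n⁻¹ * (n * X * n⁻¹) * n := by group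
    rw [e, ← hj]; group
  have hcop : IsCoprime j ((11 : ℕ) : ℤ) := by
    rw [isCoprime_comm]
    exact (Nat.prime_iff_prime_int.mp (by norm_num : Nat.Prime 11)).coprime_iff_not_dvd.mpr
      (by exact_mod_cast hj11)
  have hfermat : j ^ 10 ≡ 1 [ZMOD ((11 : ℕ) : ℤ)] :=
    Int.ModEq.pow_card_sub_one_eq_one (by norm_num : Nat.Prime 11) hcop
  have h10 : n ^ 10 * X * (n ^ 10)⁻¹ = X := by
    rw [hpow 10]
    have : X ^ (j ^ 10) = X ^ (1 : ℤ) := by
      rw [zpow_eq_zpow_iff_modEq, hord]
      exact hfermat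
    rw [this, zpow_one]
  have hc10 : Commute ((n ^ 2) ^ 5) X := by
    show (n ^ 2) ^ 5 * X = X * (n ^ 2) ^ 5
    rw [← pow_mul, ← mul_inv_eq_iff_eq_mul]
    exact h10
  have h5' : Nat.Coprime 5 (orderOf (n ^ 2)) := by
    rw [Nat.Prime.coprime_iff_not_dvd Nat.prime_five]
    intro hd
    exact h5 (hd.trans (orderOf_pow_dvd 2))
  obtain ⟨m, hm⟩ := exists_pow_eq_self_of_coprime h5'
  rw [← hm]
  exact hc10.pow_left m

/-- variant of `commute_of_conj_mem_zpowers` where `5 ∤ o(n)` replaces the hypothesis on `n²`. -/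
theorem commute_of_conj_mem_zpowers' {X n : Perm β} (hX : X.IsCycle)
    (hX11 : X.support.card = 11) (hfix : ∀ a, a ∉ X.support → n a = a)
    (hsign : Perm.sign n = 1) (h5 : ¬ 5 ∣ orderOf n)
    (hconj : n * X * n⁻¹ ∈ Subgroup.zpowers X) : Commute n X :=
  commute_of_conj_mem_zpowers hX hX11 hfix hsign
    (commute_sq_of_conj_mem_zpowers hX hX11 h5 hconj) hconj

end PermLemmas

end Cfsg.Agent.Lib.Helper10.Thirteen
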