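import Mathlib
import Cfsg.Agent.Lib.Helper10.ThirteenA
import Cfsg.Agent.Lib.Helper18.AGenC
import Cfsg.Agent.Lib.Helper20.MillerH
import Cfsg.Agent.Lib.Helper9.Sharp3

/-!
# The corner case `d = 13`, case (B), of S4150 (helper10, request of helper18)

`thirteen_caseB`: there is no primitive group of even permutations of degree `13` containing an
`11`-cycle and of order prime to `5`.  (Such a group is `3`-transitive; the stabilizer `L` of the
two fixed points of the `11`-cycle `X` has `N_L(⟨X⟩) = ⟨X⟩`, so by Burnside's transfer theorem and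
primitivity of `L` on `11` points `|L| = 11`: the group would be sharply `3`-transitive.)
-/

set_option autoImplicit false

namespace Cfsg.Agent.Lib.Helper10.Thirteen

open Equiv Equiv.Perm MulAction
open Cfsg.Agent.Lib.Helper9

/-- version with the hypothesis on squares of normalizing elements. -/
theorem thirteen_caseB' {β : Type*} [Fintype β] [DecidableEq β] {K : Subgroup (Equiv.Perm β)}
    (hcard : Fintype.card β = 13) (hKalt : K ≤ alternatingGroup β)
    (hprim : MulAction.IsPreprimitive K β) {X : Equiv.Perm β} (hX : X.IsCycle)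
    (hX11 : X.support.card = 11) (hXK : X ∈ K)
    (hB : ∀ n ∈ K, n * X * n⁻¹ ∈ Subgroup.zpowers X → Commute (n ^ 2) X) : False := by
  classical
  have hncard : Nat.card β = 13 := by rw [Nat.card_eq_fintype_card, hcard]
  have h3 : IsMultiplyPretransitive K β 3 :=
    Cfsg.Agent.Lib.Helper18.AGen.multTrans_of_prime_cycle hprim (p := 11) (r := 2)
      (by norm_num) (by norm_num) (by rw [hcard]) hX hX11 hXK
  have hT : IsPretransitive (fixingSubgroup K (X.support : Set β)ᶜ)
      (SubMulAction.ofFixingSubgroup K (X.support : Set β)ᶜ) :=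
    isPretransitive_of_isCycle_mem hX hXK
  have hΩ : Nat.card (SubMulAction.ofFixingSubgroup K (X.support : Set β)ᶜ) = 11 := by
    rw [Nat.card_eq_fintype_card, Fintype.card_subtype, ← hX11]
    apply congr_arg
    ext x
    simp [SubMulAction.mem_ofFixingSubgroup_iff]
  have hXL : (⟨X, hXK⟩ : K) ∈ fixingSubgroup K (X.support : Set β)ᶜ := by
    simp_rw [mem_fixingSubgroup_iff K]
    intro y hy
    simpa only [Set.mem_compl_iff, Finset.mem_coe, notMem_support] using! hy
  set x : fixingSubgroup K (X.support : Set β)ᶜ := ⟨⟨X, hXK⟩, hXL⟩ with hxdef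
  have hx : orderOf x = 11 := by
    rw [hxdef, Subgroup.orderOf_mk, Subgroup.orderOf_mk, hX.orderOf, hX11]
  -- elements of `L` fix the points outside the support of `X`
  have hLfix : ∀ g : fixingSubgroup K (X.support : Set β)ᶜ, ∀ a, a ∉ X.support →
      ((g : K) : Perm β) a = a := by
    intro g a ha
    have := (mem_fixingSubgroup_iff K).mp g.2 a (by simpa using ha)
    exact this
  have hfaith : ∀ g : fixingSubgroup K (X.support : Set β)ᶜ,
      (∀ a : SubMulAction.ofFixingSubgroup K (X.support : Set β)ᶜ, g • a = a) → g = 1 := by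
    intro g hg
    apply Subtype.ext
    apply Subtype.ext
    ext b
    by_cases hb : b ∈ X.support
    · have hb' : b ∈ SubMulAction.ofFixingSubgroup K (X.support : Set β)ᶜ := by
        rw [SubMulAction.mem_ofFixingSubgroup_iff]; simpa using hb
      have := hg ⟨b, hb'⟩
      exact congrArg Subtype.val this
    · exact hLfix g b hb
  have hN : ∀ n : fixingSubgroup K (X.support : Set β)ᶜ,
      n * x * n⁻¹ ∈ Subgroup.zpowers x → Commute n x := by
    intro n hn
    obtain ⟨k, hk⟩ := Subgroup.mem_zpowers_iff.mp hn
    have hk' : ((n : K) : Perm β) * X * ((n : K) : Perm β)⁻¹ = X ^ k := by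
      have := congrArg (fun g : fixingSubgroup K (X.support : Set β)ᶜ => ((g : K) : Perm β)) hk
      simpa [hxdef] using this.symm
    have hconj : ((n : K) : Perm β) * X * ((n : K) : Perm β)⁻¹ ∈ Subgroup.zpowers X :=
      Subgroup.mem_zpowers_iff.mpr ⟨k, hk'.symm⟩
    have hsign : Perm.sign ((n : K) : Perm β) = 1 := mem_alternatingGroup.mp (hKalt (n : K).2)
    have hc := commute_of_conj_mem_zpowers hX hX11 (hLfix n) hsign
      (hB _ (n : K).2 hconj) hconj
    apply Subtype.ext
    apply Subtype.ext
    exact hc.eq
  have hLdvd : Nat.card (fixingSubgroup K (X.support : Set β)ᶜ) ∣ Nat.factorial 13 := by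
    have h1 : Nat.card (fixingSubgroup K (X.support : Set β)ᶜ) ∣ Nat.card K :=
      Subgroup.card_subgroup_dvd_card _
    have h2 : Nat.card K ∣ Nat.card (Perm β) := Subgroup.card_subgroup_dvd_card _
    rw [Nat.card_perm, hncard] at h2
    exact h1.trans h2
  have hpp : ¬ 11 ^ 2 ∣ Nat.card (fixingSubgroup K (X.support : Set β)ᶜ) := by
    intro h
    have := h.trans hLdvd
    revert this
    decide
  have hLcard := card_eq_prime_of_normalizer_le (p := 11) (by norm_num) hΩ hfaith x hx hN hpp
  -- the order of `K`
  have h2 : IsMultiplyPretransitive K β 2 :=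
    isMultiplyPretransitive_of_le (n := 3) (by norm_num) (by rw [hncard]; norm_num)
  have hsn : ((X.support : Set β)ᶜ).ncard = 2 := by
    apply Nat.add_left_cancel (n := (X.support : Set β).ncard)
    rw [Set.ncard_add_ncard_compl, Set.ncard_coe_finset, hX11, hncard]
  have hidx := h2.index_of_fixingSubgroup_mul hsn
  rw [hncard] at hidx
  have hKcard : Nat.card K = 1716 := by
    rw [← Subgroup.index_mul_card (fixingSubgroup K (X.support : Set β)ᶜ), hLcard]
    have e1 : Nat.factorial (13 - 2) = 39916800 := by decide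
    have e2 : Nat.factorial 13 = 6227020800 := by decide
    rw [e1, e2] at hidx
    omega
  have hne : Fintype.card (Fin 3) ≤ Fintype.card β := by rw [Fintype.card_fin, hcard]; norm_num
  obtain ⟨e⟩ := Function.Embedding.nonempty_of_card_le hne
  have hc := Cfsg.Agent.Lib.Helper20.Miller.card_stab_mul h3 e
  rw [hncard, hKcard] at hc
  have hc1 : Nat.card (stabilizer ↥K e) = 1 := by
    have e1 : Nat.factorial (13 - 3) = 3628800 := by decide
    have e2 : Nat.factorial 13 = 6227020800 := by decide
    rw [e1, e2] at hc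
    have e3 : 1716 * 3628800 = 1 * 6227020800 := by norm_num
    rw [e3] at hc
    exact Nat.eq_of_mul_eq_mul_right (by norm_num) hc
  have hsharp : ∀ e' : Fin 3 ↪ β, stabilizer ↥K e' = ⊥ := by
    intro e'
    have := Cfsg.Agent.Lib.Helper20.Miller.card_stab_eq h3 e' e
    exact Subgroup.card_eq_one.mp (this.trans hc1)
  have hS : Sharp3 K β := sharp3_of_isMultiplyPretransitive h3 hsharp
  exact Cfsg.Agent.Lib.Helper18.AGen.not_sharp3 hS (Or.inr hncard)

/-- **Case (B)** of degree `13`: a primitive group of even permutations of degree `13` that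
contains an `11`-cycle has order divisible by `5`. -/
theorem thirteen_caseB {β : Type*} [Fintype β] [DecidableEq β] {K : Subgroup (Equiv.Perm β)}
    (hcard : Fintype.card β = 13) (hKalt : K ≤ alternatingGroup β)
    (hprim : MulAction.IsPreprimitive K β) {X : Equiv.Perm β} (hX : X.IsCycle)
    (hX11 : X.support.card = 11) (hXK : X ∈ K) (h5 : ¬ 5 ∣ Nat.card K) : False := by
  classical
  apply thirteen_caseB' hcard hKalt hprim hX hX11 hXK
  intro n hn hconj
  apply commute_sq_of_conj_mem_zpowers hX hX11 _ hconj
  intro hd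
  apply h5
  have h1 : orderOf (⟨n, hn⟩ : K) ∣ Nat.card K := orderOf_dvd_natCard _
  rw [Subgroup.orderOf_mk] at h1
  exact hd.trans h1

end Cfsg.Agent.Lib.Helper10.Thirteen
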