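import Mathlib
import Cfsg.Prelude.Def_SporadicCombinatorics
import Cfsg.Agent.Lib.Helper10.SextetA
import Cfsg.Agent.Lib.Helper28.M24Trio
import Cfsg.Agent.S1557
set_option autoImplicit false

/-!
The stabiliser of a trio in `M24`: it induces the full symmetric group on the three octads, its
order, and transport of the structure statement along an element of `M24`.
-/

namespace Cfsg.Agent.Lib.Helper10.Trio
open Cfsg Cfsg.Agent.Lib.Helper28.GolayCode Cfsg.Agent.Lib.Helper28.StabLib
  Cfsg.Agent.Lib.Helper28.M24Pairs Cfsg.Agent.Lib.Helper28.M24Fam Cfsg.Agent.Lib.Helper10.Sextet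
open scoped Pointwise

/-- two disjoint octads are exchanged by an element of `M24`. -/
theorem exists_swap_octads {o o' : Finset GolayPt} (ho : o ∈ octads) (ho' : o' ∈ octads)
    (hd : Disjoint o o') : ∃ σ ∈ M24, σ • o = o' ∧ σ • o' = o := by
  have h0 : (o ∩ o').card = 0 := by
    rw [Finset.card_eq_zero, ← Finset.disjoint_iff_inter_eq_empty]; exact hd
  have h0' : (o' ∩ o).card = 0 := by rw [Finset.inter_comm]; exact h0
  obtain ⟨g1, h1, h2⟩ := exists_map_pair0 o o' ho ho' h0
  obtain ⟨g2, h3, h4⟩ := exists_map_pair0 o' o ho' ho h0'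
  refine ⟨((g2 * g1⁻¹ : M24) : Equiv.Perm GolayPt), (g2 * g1⁻¹ : M24).2, ?_, ?_⟩
  · show (g2 * g1⁻¹ : M24) • o = o'
    rw [mul_smul, inv_smul_eq_iff.mpr h1.symm, h3]
  · show (g2 * g1⁻¹ : M24) • o' = o
    rw [mul_smul, inv_smul_eq_iff.mpr h2.symm, h4]

/-- the third octad of a trio is the complement of the other two. -/
theorem third_eq {T : Finset (Finset GolayPt)} (hT : T ∈ trios) {a b c : Finset GolayPt}
    (ha : a ∈ T) (hb : b ∈ T) (hc : c ∈ T) (hab : a ≠ b) (hca : c ≠ a) (hcb : c ≠ b) :
    c = Finset.univ \ (a ∪ b) := by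
  obtain ⟨_, hoct, hdisj⟩ := hT
  have dab := hdisj a ha b hb hab
  have dca := hdisj c hc a ha hca
  have dcb := hdisj c hc b hb hcb
  apply Finset.eq_of_subset_of_card_le
  · intro p hp
    rw [Finset.mem_sdiff, Finset.mem_union]
    refine ⟨Finset.mem_univ _, ?_⟩
    rintro (h | h)
    · exact Finset.disjoint_left.mp dca hp h
    · exact Finset.disjoint_left.mp dcb hp h
  · rw [Finset.card_sdiff_of_subset (Finset.subset_univ _), Finset.card_union_of_disjoint dab,
      (hoct a ha).2, (hoct b hb).2, (hoct c hc).2, Finset.card_univ]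
    simp

/-- the stabiliser of a trio induces every permutation of its three octads. -/
theorem trioHom_surjective {T : Finset (Finset GolayPt)} (hT : T ∈ trios) :
    Function.Surjective (tetHom T) := by
  classical
  rw [← MonoidHom.range_eq_top, eq_top_iff, ← Equiv.Perm.closure_isSwap, Subgroup.closure_le]
  rintro e ⟨a, b, hab, rfl⟩
  have hab' : (a : Finset GolayPt) ≠ b := fun h => hab (Subtype.ext h)
  obtain ⟨σ, hσ, h1, h2⟩ := exists_swap_octads (hT.2.1 a a.2) (hT.2.1 b b.2)
    (hT.2.2 a a.2 b b.2 hab')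
  have hfix : ∀ c ∈ T, c ≠ a → c ≠ b → σ • c = c := by
    intro c hc hca hcb
    rw [third_eq hT a.2 b.2 hc hab' hca hcb, Finset.smul_finset_sdiff, Finset.smul_finset_univ,
      Finset.smul_finset_union, h1, h2, Finset.union_comm]
  have hσT : σ • T = T := by
    apply Finset.eq_of_subset_of_card_le
    · intro x hx
      obtain ⟨c, hc, rfl⟩ := Finset.mem_smul_finset.mp hx
      by_cases hca : c = a
      · rw [hca, h1]; exact b.2
      · by_cases hcb : c = b
        · rw [hcb, h2]; exact a.2
        · rw [hfix c hc hca hcb]; exact hc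
    · rw [Finset.card_smul_finset]
  refine ⟨mkStab hσ hσT, ?_⟩
  apply Equiv.ext
  intro v
  apply Subtype.ext
  rw [tetHom_apply, mkStab_coe]
  by_cases h1' : v = a
  · subst h1'; rw [Equiv.swap_apply_left]; exact h1
  · by_cases h2' : v = b
    · subst h2'; rw [Equiv.swap_apply_right]; exact h2
    · rw [Equiv.swap_apply_of_ne_of_ne h1' h2']
      exact hfix v.1 v.2 (fun h => h1' (Subtype.ext h)) (fun h => h2' (Subtype.ext h))

theorem orbit_trio {T : Finset (Finset GolayPt)} (hT : T ∈ trios) :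
    MulAction.orbit M24 T = trios := by
  ext T'
  constructor
  · rintro ⟨g, rfl⟩
    exact smul_mem_trios g.2 hT
  · intro hT'
    obtain ⟨g1, h1⟩ := trio_trans T hT
    obtain ⟨g2, h2⟩ := trio_trans T' hT'
    refine ⟨g2 * g1⁻¹, ?_⟩
    show (g2 * g1⁻¹) • T = T'
    rw [mul_smul, inv_smul_eq_iff.mpr h1.symm, h2]

theorem card_stabilizer_trio {T : Finset (Finset GolayPt)} (hT : T ∈ trios) :
    Nat.card ↥(MulAction.stabilizer M24 T) = 64512 := by
  have h := card_orbit_mul_card_stabilizer (G := M24) T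
  rw [orbit_trio hT, facts.card, Nat.card_coe_set_eq, Cfsg.Agent.S1557.result.2] at h
  omega

/-- the statement about a normal subgroup of the trio stabiliser. -/
def HasStructure (T : Finset (Finset GolayPt)) : Prop :=
  ∃ (N : Subgroup ↥(MulAction.stabilizer Cfsg.M24 T)) (_ : N.Normal), Nat.card N = 64 ∧
    (∀ x ∈ N, x * x = 1) ∧
    Nonempty (↥(MulAction.stabilizer Cfsg.M24 T) ⧸ N ≃* GL (Fin 3) (ZMod 2) × Equiv.Perm (Fin 3))

theorem hasStructure_smul {T : Finset (Finset GolayPt)} (g : M24) (h : HasStructure T) :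
    HasStructure (g • T) := by
  obtain ⟨N, hN, hcard, hexp, ⟨iso⟩⟩ := h
  let e : ↥(MulAction.stabilizer M24 T) ≃* ↥(MulAction.stabilizer M24 (g • T)) :=
    MulAction.stabilizerEquivStabilizer (rfl : g • T = g • T)
  have hN' : (N.map e.toMonoidHom).Normal := hN.map e.toMonoidHom e.surjective
  refine ⟨N.map e.toMonoidHom, hN', ?_, ?_, ?_⟩
  · rw [Subgroup.card_map_of_injective e.injective, hcard]
  · rintro _ ⟨n, hn, rfl⟩
    show e n * e n = 1
    rw [← map_mul, hexp n hn, map_one]
  · exact ⟨(QuotientGroup.congr N (N.map e.toMonoidHom) e rfl).symm.trans iso⟩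

theorem hasStructure_of_base (h : HasStructure (fam T0list)) {T : Finset (Finset GolayPt)}
    (hT : T ∈ trios) : HasStructure T := by
  obtain ⟨g, rfl⟩ := trio_trans T hT
  exact hasStructure_smul g h

end Cfsg.Agent.Lib.Helper10.Trio
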