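import Mathlib
import Cfsg.Prelude.Def_SporadicCombinatorics
import Cfsg.Agent.Lib.Helper10.SextetB
import Cfsg.Agent.Lib.Helper10.TrioA
import Cfsg.Agent.Lib.Helper28.M24Count
import Cfsg.Agent.Lib.Helper28.M24OctadFix
set_option autoImplicit false

/-!
The base trio: its seven refining sextets, the collinearity table, and the 64 elements of `M24`
fixing the three octads and the seven sextets, as packed permutations.
-/

namespace Cfsg.Agent.Lib.Helper10.Trio
open Cfsg Cfsg.Agent.Lib.Helper28.GolayCode Cfsg.Agent.Lib.Helper28.M24Fam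
  Cfsg.Agent.Lib.Helper28.M24Pairs Cfsg.Agent.Lib.Helper10.Sextet
open scoped Pointwise

/-! ### a Boolean sextet test -/

/-- kernel-checkable test that a list of six masks is a sextet. -/
noncomputable def isSextetL (l : List ℕ) : Bool :=
  Nat.beq l.length 6 && (nodupB l && (l.all (fun m => Nat.blt m (2 ^ 24) && Nat.beq (popc m) 4) &&
    l.all fun m => l.all fun n => Nat.beq m n ||
      (inCode (Nat.lor m n) && Nat.beq (popc (Nat.lor m n)) 8)))

theorem lor_lt {m n : ℕ} (hm : m < 2 ^ 24) (hn : n < 2 ^ 24) : Nat.lor m n < 2 ^ 24 :=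
  Nat.or_lt_two_pow hm hn

theorem isSextetL_sound {l : List ℕ} (h : isSextetL l = true) :
    fam l ∈ sextets ∧ ∀ m ∈ l, m < 2 ^ 24 := by
  unfold isSextetL at h
  simp only [Bool.and_eq_true, List.all_eq_true, nat_beq_iff, Bool.or_eq_true] at h
  obtain ⟨hlen, hnd, hlt, hun⟩ := h
  have hlt' : ∀ m ∈ l, m < 2 ^ 24 := fun m hm => by simpa using (hlt m hm).1
  refine ⟨⟨?_, ?_, ?_⟩, hlt'⟩
  · unfold fam
    rw [List.toFinset_card_of_nodup, List.length_map, hlen]
    apply List.Nodup.map_on
    · intro m hm n hn h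
      exact bset_inj m n (hlt' m hm) (hlt' n hn) h
    · exact nodup_of_nodupB l hnd
  · intro t ht
    obtain ⟨m, hm, rfl⟩ := mem_fam.mp ht
    rw [card_bset]
    exact (hlt m hm).2
  · intro t ht u hu hne
    obtain ⟨m, hm, rfl⟩ := mem_fam.mp ht
    obtain ⟨n, hn, rfl⟩ := mem_fam.mp hu
    have hmn : m ≠ n := fun h => hne (by rw [h])
    rcases hun m hm n hn with h1 | h1
    · exact absurd h1 hmn
    · rw [← bset_lor, bset_mem_octads_iff _ (lor_lt (hlt' m hm) (hlt' n hn))]
      exact h1

/-! ### refinement and collinearity -/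

/-- every member of `S` lies in a member of `T`. -/
def Refines (S T : Finset (Finset GolayPt)) : Prop := ∀ t ∈ S, ∃ o ∈ T, t ⊆ o

theorem refines_smul (σ : Equiv.Perm GolayPt) {S T : Finset (Finset GolayPt)} (h : Refines S T) :
    Refines (σ • S) (σ • T) := by
  intro t ht
  obtain ⟨u, hu, rfl⟩ := Finset.mem_smul_finset.mp ht
  obtain ⟨o, ho, huo⟩ := h u hu
  exact ⟨σ • o, Finset.smul_mem_smul_finset ho, Finset.smul_finset_subset_smul_finset huo⟩

/-- mask version of refinement. -/
def refinesM (l lt : List ℕ) : Bool := l.all fun m => lt.any fun o => Nat.beq (Nat.land m o) m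

theorem bset_subset_iff {m o : ℕ} (hm : m < 2 ^ 24) : bset m ⊆ bset o ↔ Nat.land m o = m := by
  constructor
  · intro h
    have hlt : Nat.land m o < 2 ^ 24 := lt_of_le_of_lt Nat.and_le_left hm
    apply bset_inj _ _ hlt hm
    rw [bset_land]
    exact Finset.inter_eq_left.mpr h
  · intro h
    rw [← h, bset_land]
    exact Finset.inter_subset_right

theorem refinesM_iff {l lt : List ℕ} (hl : ∀ m ∈ l, m < 2 ^ 24) :
    refinesM l lt = true ↔ Refines (fam l) (fam lt) := by
  unfold refinesM Refines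
  simp only [List.all_eq_true, List.any_eq_true, nat_beq_iff]
  constructor
  · intro h t ht
    obtain ⟨m, hm, rfl⟩ := mem_fam.mp ht
    obtain ⟨o, ho, hmo⟩ := h m hm
    exact ⟨bset o, mem_fam.mpr ⟨o, ho, rfl⟩, (bset_subset_iff (hl m hm)).mpr hmo⟩
  · intro h m hm
    obtain ⟨s, hs, hms⟩ := h (bset m) (mem_fam.mpr ⟨m, hm, rfl⟩)
    obtain ⟨o, ho, rfl⟩ := mem_fam.mp hs
    exact ⟨o, ho, (bset_subset_iff (hl m hm)).mp hms⟩

/-- collinearity of three families: a member of the first and a member of the second have their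
symmetric difference in the third. -/
def Col (A B C : Finset (Finset GolayPt)) : Prop := ∃ t ∈ A, ∃ u ∈ B, symmDiff t u ∈ C

theorem col_smul (σ : Equiv.Perm GolayPt) {A B C : Finset (Finset GolayPt)} (h : Col A B C) :
    Col (σ • A) (σ • B) (σ • C) := by
  obtain ⟨t, ht, u, hu, htu⟩ := h
  refine ⟨σ • t, Finset.smul_mem_smul_finset ht, σ • u, Finset.smul_mem_smul_finset hu, ?_⟩
  rw [← Finset.smul_finset_symmDiff]
  exact Finset.smul_mem_smul_finset htu

/-- mask version of collinearity. -/
def colM (la lb lc : List ℕ) : Bool :=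
  la.any fun t => lb.any fun u => lc.any fun w => Nat.beq (Nat.xor t u) w

theorem colM_iff {la lb lc : List ℕ} (ha : ∀ m ∈ la, m < 2 ^ 24) (hb : ∀ m ∈ lb, m < 2 ^ 24)
    (hc : ∀ m ∈ lc, m < 2 ^ 24) : colM la lb lc = true ↔ Col (fam la) (fam lb) (fam lc) := by
  unfold colM Col
  simp only [List.any_eq_true, nat_beq_iff]
  constructor
  · rintro ⟨t, ht, u, hu, w, hw, h⟩
    refine ⟨bset t, mem_fam.mpr ⟨t, ht, rfl⟩, bset u, mem_fam.mpr ⟨u, hu, rfl⟩, ?_⟩
    rw [← bset_xor]
    exact mem_fam.mpr ⟨w, hw, by rw [← h]; rfl⟩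
  · rintro ⟨s, hs, s', hs', h⟩
    obtain ⟨t, ht, rfl⟩ := mem_fam.mp hs
    obtain ⟨u, hu, rfl⟩ := mem_fam.mp hs'
    rw [← bset_xor] at h
    obtain ⟨w, hw, hwe⟩ := mem_fam.mp h
    refine ⟨t, ht, u, hu, w, hw, ?_⟩
    have hlt : t ^^^ u < 2 ^ 24 := Nat.xor_lt_two_pow (ha t ht) (hb u hu)
    exact (bset_inj w (t ^^^ u) (hc w hw) hlt hwe).symm

/-! ### the data -/

/-- the seven sextets refining the base trio, indexed by `1..7` so that collinear triples are the
triples with zero XOR. -/
def R : ℕ → List ℕ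
  | 1 => [0x2d, 0x12600, 0x401c0, 0x281800, 0x508010, 0x824002]
  | 2 => [0x6c0, 0x4023, 0x52100, 0x388000, 0x401810, 0x82000c]
  | 3 => [0x400e, 0x120c0, 0x40700, 0x109800, 0x680010, 0x820021]
  | 4 => [0x2380, 0x20007, 0x50440, 0x208810, 0x581000, 0x804028]
  | 5 => [0x10580, 0x2002a, 0x42240, 0x89010, 0x700800, 0x804005]
  | 6 => [0x2540, 0x24024, 0x50280, 0x180810, 0x609000, 0x80000b]
  | 7 => [0x10340, 0x24009, 0x42480, 0x301010, 0x488800, 0x800026]
  | _ => []

/-- the tetrads of these sextets through the point `0`. -/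
def tets7 : List ℕ := [0x2d, 0x4023, 0x820021, 0x20007, 0x804005, 0x80000b, 0x24009]

set_option maxRecDepth 100000 in
/-- the 64 elements fixing the three octads and the seven sextets. -/
def N64 : List ℕ := [
  0x126faa8a6a08eb649096c2360b877, 0x2e95798aa98924b41a744a2c0b877, 0x31f3a1ca9a8956236069222b0b877, 0x3d845c0b2b0915998ed4aa340b877,
  0x4c8cb20ad58a147a55231e350b877, 0x5176634a820a53a9cd05262f0b877, 0x56cb248b0609afa292839a330b877, 0x5ab49a4a7788cc5a24a836240b877,
  0x926fa99caa452b641a744856016e3, 0xae957a9c69c4e4b49096c04c016e3, 0xb1f3a25c7ac4d62224a8344b016e3, 0xbd845c9d0b45b59a92839854016e3,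
  0xcc8cb35c85c65479cd052455016e3, 0xd176621cd24613aa55231c4f016e3, 0xd6cb241d26450fa18ed4a853016e3, 0xdab499dc97c54c5b60692044016e3,
  0x1126fac072a010b618ed4a8368dcae, 0x12e957c870981a4b29283982c8dcae, 0x131f3a206da82162255231c2b8dcae, 0x13d845a866b00f59c9096c0348dcae,
  0x14c8cb1c69581547b606920358dcae, 0x1517662467200d3aa24a8342f8dcae, 0x156cb2186a6012fa41a7448338dcae, 0x15ab49b4687824c59cd0524248dcae,
  0x1926fab448a164b61cd0525d6bc401, 0x1ae957a04d99604b255231dccbc401, 0x1b1f3a4850a95b622928399cbbc401, 0x1bd845a447b14d59a24a835d4bc401,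
  0x1cc8cb184a595347c1a7449d5bc401, 0x1d17662846214f3ac9096c1cfbc401, 0x1d6cb21c496154fa3606921d3bc401, 0x1dab49c0527950c598ed4a9c4bc401,
  0x2926faa407a0ccb6224a836f670451, 0x2ae9579c0998d44b3606922ec70451, 0x2b1f3a180aa8d36241a744aeb70451, 0x2bd845b408b0e5599cd0526f470451,
  0x2cc8cb481058db47a92839af570451, 0x2d1766401220d13a98ed4aaef70451, 0x2d6cb2200d60e0fa255231ef370451, 0x2dab49a80678cec5c9096c2e470451,
  0x7126fa9c29a5d4b636069207628222, 0x72e957a4279dcc4b224a8346c28222, 0x731f3a2826adcf6249096c06b28222, 0x73d845a02db5e159a55231c7428222,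
  0x74c8cb40325dd14798ed4a87528222, 0x751766483025db3aa9283986f28222, 0x756cb2342865e4fa1cd05247328222, 0x75ab49982a7dd2c5c1a74486428222,
  0x8926facaf0a05ab629283981610dc5, 0x8ae957c2f298504b18ed4a80c10dc5, 0x8b1f3a36e8a865621cd05240b10dc5, 0x8bd8459aeab05359c1a74481410dc5,
  0x8cc8cb26e7584d47a24a8341510dc5, 0x8d17661ee920553ab6069200f10dc5, 0x8d6cb22ae6604efa49096c01310dc5, 0x8dab49a2ed7860c5a55231c0410dc5,
  0xb926faa22da3a0b6255231cb618820, 0xbae957b6289ba44b1cd0524ac18820, 0xbb1f3a4232ab916218ed4a8ab18820, 0xbbd8459e29b39559b606920b418820,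
  0xbcc8cb2a265b8f47c9096c0b518820, 0xbd17661a2a23933ac1a7448af18820, 0xbd6cb22627638cfa224a834b318820, 0xbdab49ca307b9ac5a928398a418820]

/-- the indices of the seven sextets. -/
def I7 : List ℕ := [1, 2, 3, 4, 5, 6, 7]

theorem R_sextet : ∀ k ∈ I7, isSextetL (R k) = true := by decide +kernel

theorem R_refines : ∀ k ∈ I7, refinesM (R k) T0list = true := by decide +kernel

set_option maxRecDepth 100000 in
theorem R_complete : ∀ l ∈ sextetData, refinesM l T0list = true →
    ∃ k ∈ I7, famEq l (R k) = true := by decide +kernel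

theorem R_inj : ∀ k ∈ I7, ∀ k' ∈ I7, famEq (R k) (R k') = true → k = k' := by decide +kernel

theorem R_col : ∀ a ∈ I7, ∀ b ∈ I7, ∀ c ∈ I7, a ≠ b →
    (colM (R a) (R b) (R c) = true ↔ c = Nat.xor a b) := by decide +kernel

theorem tets7_mem : ∀ t ∈ tets7, t.testBit 0 = true ∧ ∃ k ∈ I7, t ∈ R k := by decide +kernel

/-- for every point `q ≠ 0` of the first octad and every `r` other than `0` and `q` some listed
tetrad contains `q` but not `r`. -/
def interOK : Bool :=
  (List.range 24).all fun q => !(O0.testBit q) || (Nat.beq q 0 ||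
    (List.range 24).all fun r => Nat.beq r 0 || (Nat.beq r q ||
      tets7.any fun t => t.testBit q && !(t.testBit r)))

theorem interOK_eq : interOK = true := by decide +kernel

theorem tets7_inter (q : ℕ) (hq : q < 24) (hq1 : O0.testBit q = true) (hq0 : q ≠ 0) (r : ℕ)
    (hr : r < 24) (h : ∀ t ∈ tets7, t.testBit q = true → t.testBit r = true) : r = 0 ∨ r = q := by
  have h1 := interOK_eq
  unfold interOK at h1
  rw [List.all_eq_true] at h1
  have h2 := h1 q (List.mem_range.mpr hq)
  rw [hq1] at h2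
  simp only [Bool.not_true, Bool.false_or, Bool.or_eq_true, nat_beq_iff, List.all_eq_true] at h2
  rcases h2 with h2 | h2
  · exact absurd h2 hq0
  · rcases h2 r (List.mem_range.mpr hr) with h3 | h3 | h3
    · exact Or.inl h3
    · exact Or.inr h3
    · exfalso
      rw [List.any_eq_true] at h3
      obtain ⟨t, ht, htq⟩ := h3
      rw [Bool.and_eq_true] at htq
      have := h t ht htq.1
      rw [this] at htq
      exact absurd htq.2 (by decide)

/-- an entry is in `M24`, is a proper packed number, fixes each octad mask, maps each of the seven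
sextets to itself and squares to the identity. -/
noncomputable def entryOK64 (P : ℕ) : Bool :=
  inM24 P && (Nat.blt P (2 ^ 120) && ((T0list.all fun m => Nat.beq (applyMask P m) m) &&
    ((I7.all fun k => famEq ((R k).map (applyMask P)) (R k)) && isInv P)))

set_option maxRecDepth 100000 in
theorem N64_ok : N64.all entryOK64 = true := by decide +kernel

set_option maxRecDepth 100000 in
theorem N64_nodupB : nodupB N64 = true := by decide +kernel

set_option maxRecDepth 100000 in
theorem N64_length : N64.length = 64 := by decide +kernel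

/-- the listed elements act regularly on pairs (point of the first octad, point of the third). -/
def regOK : Bool :=
  (List.range 24).all fun i => !(O0.testBit i) ||
    (List.range 24).all fun j => !((0x789810 : ℕ).testBit j) ||
      N64.any fun P => Nat.beq (img P 0) i && Nat.beq (img P 4) j

set_option maxRecDepth 100000 in
theorem regOK_eq : regOK = true := by decide +kernel

theorem N64_regular (i : ℕ) (hi : i < 24) (hi1 : O0.testBit i = true) (j : ℕ) (hj : j < 24)
    (hj1 : (0x789810 : ℕ).testBit j = true) : ∃ P ∈ N64, img P 0 = i ∧ img P 4 = j := by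
  have h1 := regOK_eq
  unfold regOK at h1
  rw [List.all_eq_true] at h1
  have h2 := h1 i (List.mem_range.mpr hi)
  rw [hi1] at h2
  simp only [Bool.not_true, Bool.false_or, List.all_eq_true] at h2
  have h3 := h2 j (List.mem_range.mpr hj)
  rw [hj1] at h3
  simp only [Bool.not_true, Bool.false_or, List.any_eq_true, Bool.and_eq_true, nat_beq_iff] at h3
  exact h3

end Cfsg.Agent.Lib.Helper10.Trio
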