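import Mathlib
import Cfsg.Prelude.Def_SporadicCombinatorics
import Cfsg.Agent.Lib.Helper10.TrioB
import Cfsg.Agent.Lib.Helper10.SextetC
set_option autoImplicit false

/-!
The stabiliser of the base trio: the action on the seven refining sextets is linear over the field
of two elements, giving a homomorphism onto `GL (Fin 3) (ZMod 2) × Perm (Fin 3)` whose kernel is
the listed elementary abelian group of order 64.
-/

namespace Cfsg.Agent.Lib.Helper10.Trio
open Cfsg Cfsg.Agent.Lib.Helper28.GolayCode Cfsg.Agent.Lib.Helper28.M24Fam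
  Cfsg.Agent.Lib.Helper28.M24Pairs Cfsg.Agent.Lib.Helper28.M24OctadFix
  Cfsg.Agent.Lib.Helper10.Sextet
open scoped Pointwise

/-- the three-dimensional space over the field of two elements. -/
abbrev V3 : Type := Fin 3 → ZMod 2

/-- the number `0..7` of a vector. -/
def code (x : V3) : ℕ := (x 0).val + 2 * (x 1).val + 4 * (x 2).val

theorem code_mem : ∀ x : V3, x ≠ 0 → code x ∈ I7 := by decide

theorem code_inj : ∀ x y : V3, code x = code y → x = y := by decide

theorem code_add : ∀ x y : V3, code (x + y) = Nat.xor (code x) (code y) := by decide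

theorem exists_code : ∀ k ∈ I7, ∃ x : V3, x ≠ 0 ∧ code x = k := by decide

theorem add_self_V3 : ∀ x : V3, x + x = 0 := by decide

theorem eq_of_add_eq_zero : ∀ x y : V3, x + y = 0 → x = y := by decide

/-- the refining sextet attached to a nonzero vector. -/
def sx (x : V3) : Finset (Finset GolayPt) := fam (R (code x))

theorem R_lt {k : ℕ} (hk : k ∈ I7) : ∀ m ∈ R k, m < 2 ^ 24 :=
  (isSextetL_sound (R_sextet k hk)).2

theorem sx_mem_sextets {x : V3} (hx : x ≠ 0) : sx x ∈ sextets :=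
  (isSextetL_sound (R_sextet _ (code_mem x hx))).1

theorem sx_refines {x : V3} (hx : x ≠ 0) : Refines (sx x) (fam T0list) :=
  (refinesM_iff (R_lt (code_mem x hx))).mp (R_refines _ (code_mem x hx))

theorem sx_injective {x y : V3} (hx : x ≠ 0) (hy : y ≠ 0) (h : sx x = sx y) : x = y := by
  apply code_inj
  exact R_inj _ (code_mem x hx) _ (code_mem y hy)
    ((famEq_iff (R_lt (code_mem x hx)) (R_lt (code_mem y hy))).mpr h)

theorem exists_sx_of_refines {S : Finset (Finset GolayPt)} (hS : S ∈ sextets)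
    (hr : Refines S (fam T0list)) : ∃ y : V3, y ≠ 0 ∧ S = sx y := by
  obtain ⟨l, hl, rfl⟩ := sextetFamData.complete S hS
  have h1 := (refinesM_iff (sextetData_lt l hl)).mpr hr
  obtain ⟨k, hk, hke⟩ := R_complete l hl h1
  obtain ⟨y, hy, rfl⟩ := exists_code k hk
  exact ⟨y, hy, fam_eq_of_famEq hke⟩

theorem sx_col {a b c : V3} (ha : a ≠ 0) (hb : b ≠ 0) (hc : c ≠ 0) (hab : a ≠ b) :
    Col (sx a) (sx b) (sx c) ↔ c = a + b := by
  unfold sx
  rw [← colM_iff (R_lt (code_mem a ha)) (R_lt (code_mem b hb)) (R_lt (code_mem c hc)),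
    R_col _ (code_mem a ha) _ (code_mem b hb) _ (code_mem c hc) (fun h => hab (code_inj _ _ h)),
    ← code_add]
  exact ⟨fun h => code_inj _ _ h, fun h => by rw [h]⟩

/-! ### the action of the stabiliser on the vectors -/

/-- the stabiliser of the base trio. -/
abbrev G0 : Type := ↥(MulAction.stabilizer M24 (fam T0list))

theorem stab_G0 (g : G0) : valPerm _ g • fam T0list = fam T0list :=
  MulAction.mem_stabilizer_iff.mp g.2

theorem exists_act (g : G0) (x : V3) (hx : x ≠ 0) :
    ∃ y : V3, y ≠ 0 ∧ valPerm _ g • sx x = sx y := by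
  apply exists_sx_of_refines (smul_mem_sextets (g : M24).2 (sx_mem_sextets hx))
  have := refines_smul (valPerm _ g) (sx_refines hx)
  rwa [stab_G0 g] at this

/-- the action on vectors. -/
noncomputable def act (g : G0) (x : V3) : V3 :=
  if hx : x = 0 then 0 else Classical.choose (exists_act g x hx)

theorem act_zero (g : G0) : act g 0 = 0 := by
  unfold act
  rw [dif_pos rfl]

theorem act_ne_zero (g : G0) {x : V3} (hx : x ≠ 0) : act g x ≠ 0 := by
  unfold act
  rw [dif_neg hx]
  exact (Classical.choose_spec (exists_act g x hx)).1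

theorem act_spec (g : G0) {x : V3} (hx : x ≠ 0) : valPerm _ g • sx x = sx (act g x) := by
  unfold act
  rw [dif_neg hx]
  exact (Classical.choose_spec (exists_act g x hx)).2

theorem act_unique (g : G0) {x y : V3} (hx : x ≠ 0) (hy : y ≠ 0)
    (h : valPerm _ g • sx x = sx y) : act g x = y :=
  sx_injective (act_ne_zero g hx) hy ((act_spec g hx).symm.trans h)

theorem act_one (x : V3) : act (1 : G0) x = x := by
  by_cases hx : x = 0
  · rw [hx, act_zero]
  · exact act_unique 1 hx hx (one_smul _ _)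

theorem act_mul (g h : G0) (x : V3) : act (g * h) x = act g (act h x) := by
  by_cases hx : x = 0
  · rw [hx, act_zero, act_zero, act_zero]
  · apply act_unique (g * h) hx (act_ne_zero g (act_ne_zero h hx))
    show (valPerm _ g * valPerm _ h) • sx x = _
    rw [mul_smul, act_spec h hx, act_spec g (act_ne_zero h hx)]

theorem act_injective (g : G0) : Function.Injective (act g) := by
  intro x y h
  have := congrArg (act g⁻¹) h
  rwa [← act_mul, ← act_mul, inv_mul_cancel, act_one, act_one] at this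

theorem act_add (g : G0) (a b : V3) : act g (a + b) = act g a + act g b := by
  by_cases ha : a = 0
  · rw [ha, zero_add, act_zero, zero_add]
  by_cases hb : b = 0
  · rw [hb, add_zero, act_zero, add_zero]
  by_cases hab : a = b
  · rw [hab, add_self_V3, add_self_V3, act_zero]
  have hc : a + b ≠ 0 := fun h => hab (eq_of_add_eq_zero a b h)
  have h1 : Col (sx a) (sx b) (sx (a + b)) := (sx_col ha hb hc hab).mpr rfl
  have h2 := col_smul (valPerm _ g) h1
  rw [act_spec g ha, act_spec g hb, act_spec g hc] at h2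
  exact (sx_col (act_ne_zero g ha) (act_ne_zero g hb) (act_ne_zero g hc)
    (fun h => hab (act_injective g h))).mp h2

/-- the action as a homomorphism to the linear endomorphisms. -/
noncomputable def actHom : G0 →* Module.End (ZMod 2) V3 where
  toFun g := (AddMonoidHom.mk' (act g) (act_add g)).toZModLinearMap 2
  map_one' := LinearMap.ext fun x => act_one x
  map_mul' g h := LinearMap.ext fun x => act_mul g h x

theorem actHom_apply (g : G0) (x : V3) : actHom g x = act g x := rfl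

/-- the first component: to the general linear group. -/
noncomputable def F1 : G0 →* GL (Fin 3) (ZMod 2) :=
  (Matrix.GeneralLinearGroup.toLin (n := Fin 3) (R := ZMod 2)).symm.toMonoidHom.comp
    actHom.toHomUnits

theorem F1_eq_one_iff (g : G0) : F1 g = 1 ↔ ∀ x, act g x = x := by
  unfold F1
  rw [MonoidHom.comp_apply, MulEquiv.coe_toMonoidHom, MulEquiv.map_eq_one_iff, Units.ext_iff,
    MonoidHom.coe_toHomUnits, Units.val_one, LinearMap.ext_iff]
  rfl

theorem card_T0 : Fintype.card ↥(fam T0list) = 3 := by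
  rw [Fintype.card_coe]
  exact T0_mem_trios.1

/-- the second component: the permutation of the three octads. -/
noncomputable def F2 : G0 →* Equiv.Perm (Fin 3) :=
  (Fintype.equivFinOfCardEq card_T0).permCongrHom.toMonoidHom.comp (tetHom (fam T0list))

theorem F2_eq_one_iff (g : G0) : F2 g = 1 ↔ ∀ o ∈ fam T0list, valPerm _ g • o = o := by
  unfold F2
  rw [MonoidHom.comp_apply, MulEquiv.coe_toMonoidHom, MulEquiv.map_eq_one_iff,
    ← MonoidHom.mem_ker, mem_ker_tetHom]
  rfl

/-- the homomorphism from the trio stabiliser. -/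
noncomputable def Psi : G0 →* GL (Fin 3) (ZMod 2) × Equiv.Perm (Fin 3) := F1.prod F2

/-- the kernel as a group of plain permutations. -/
def N0 : Subgroup (Equiv.Perm GolayPt) where
  carrier := {σ | σ ∈ M24 ∧ (∀ o ∈ fam T0list, σ • o = o) ∧ ∀ x : V3, x ≠ 0 → σ • sx x = sx x}
  mul_mem' := by
    rintro σ τ ⟨h1, h2, h3⟩ ⟨k1, k2, k3⟩
    exact ⟨M24.mul_mem h1 k1, fun o ho => by rw [mul_smul, k2 o ho, h2 o ho],
      fun x hx => by rw [mul_smul, k3 x hx, h3 x hx]⟩
  one_mem' := ⟨M24.one_mem, fun o _ => one_smul _ o, fun x _ => one_smul _ _⟩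
  inv_mem' := by
    rintro σ ⟨h1, h2, h3⟩
    exact ⟨M24.inv_mem h1, fun o ho => inv_smul_eq_iff.mpr (h2 o ho).symm,
      fun x hx => inv_smul_eq_iff.mpr (h3 x hx).symm⟩

theorem mem_N0 (σ : Equiv.Perm GolayPt) : σ ∈ N0 ↔
    σ ∈ M24 ∧ (∀ o ∈ fam T0list, σ • o = o) ∧ ∀ x : V3, x ≠ 0 → σ • sx x = sx x := Iff.rfl

theorem mem_ker_Psi (g : G0) : g ∈ Psi.ker ↔ valPerm _ g ∈ N0 := by
  unfold Psi
  rw [MonoidHom.mem_ker, MonoidHom.prod_apply, Prod.mk_eq_one, F1_eq_one_iff, F2_eq_one_iff,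
    mem_N0]
  constructor
  · rintro ⟨h1, h2⟩
    refine ⟨(g : M24).2, h2, fun x hx => ?_⟩
    have := act_spec g hx
    rwa [h1 x] at this
  · rintro ⟨_, h2, h3⟩
    refine ⟨fun x => ?_, h2⟩
    by_cases hx : x = 0
    · rw [hx, act_zero]
    · exact act_unique g hx hx (h3 x hx)

/-! ### the kernel is the listed set -/

theorem entry_spec64 {P : ℕ} (hP : P ∈ N64) :
    inM24 P = true ∧ P < 2 ^ 120 ∧ (∀ m ∈ T0list, applyMask P m = m) ∧
      (∀ k ∈ I7, famEq ((R k).map (applyMask P)) (R k) = true) ∧ isInv P = true := by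
  have := List.all_eq_true.mp N64_ok P hP
  unfold entryOK64 at this
  simp only [Bool.and_eq_true, List.all_eq_true, nat_beq_iff] at this
  obtain ⟨h1, h2, h3, h4, h5⟩ := this
  exact ⟨h1, by simpa using h2, h3, h4, h5⟩

theorem isPerm_of_mem64 {P : ℕ} (hP : P ∈ N64) : isPerm P = true :=
  isPerm_of_inM24 P (entry_spec64 hP).1

theorem mem_N0_of_mem_N64 {P : ℕ} (hP : P ∈ N64) : permOf P ∈ N0 := by
  obtain ⟨h1, _, h3, h4, _⟩ := entry_spec64 hP
  have hp := isPerm_of_inM24 P h1
  refine ⟨permOf_mem_M24 P h1, ?_, ?_⟩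
  · intro o ho
    obtain ⟨m, hm, rfl⟩ := mem_fam.mp ho
    rw [permOf_smul_bset P hp, h3 m hm]
  · intro x hx
    unfold sx
    rw [smul_fam P hp]
    exact fam_eq_of_famEq (h4 _ (code_mem x hx))

theorem dec0_mem (t : ℕ) (h : t.testBit 0 = true) : dec 0 ∈ bset t := by
  rw [mem_bset, enc_dec 0 (by norm_num)]
  exact h

theorem fix_O0_of_fix_zero {τ : Equiv.Perm GolayPt} (hτ : τ ∈ N0) (h0 : τ (dec 0) = dec 0) :
    ∀ p ∈ bset O0, τ p = p := by
  have hfix : ∀ t ∈ tets7, τ • bset t = bset t := by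
    intro t ht
    obtain ⟨ht0, k, hk, htk⟩ := tets7_mem t ht
    obtain ⟨x, hx, rfl⟩ := exists_code k hk
    have hS := sx_mem_sextets hx
    have h1 : bset t ∈ sx x := mem_fam.mpr ⟨t, htk, rfl⟩
    have h2 : τ • bset t ∈ sx x := by
      have := Finset.smul_mem_smul_finset (a := τ) h1
      rwa [hτ.2.2 x hx] at this
    by_contra hne
    have hd := tetrad_disjoint hS h2 h1 hne
    have m1 : dec 0 ∈ bset t := dec0_mem t ht0
    have m2 : dec 0 ∈ τ • bset t := by
      rw [← h0]
      exact (mem_smul_finset_perm' τ _ _).mpr m1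
    exact Finset.disjoint_left.mp hd m2 m1
  intro p hp
  rw [mem_bset] at hp
  by_cases hq0 : enc p = 0
  · have : p = dec 0 := by rw [← hq0, dec_enc]
    rw [this, h0]
  · have key := tets7_inter (enc p) (enc_lt p) hp hq0 (enc (τ p)) (enc_lt _) (by
      intro t ht htq
      have h1 : p ∈ bset t := (mem_bset t p).mpr htq
      have h2 : τ p ∈ τ • bset t := (mem_smul_finset_perm' τ _ _).mpr h1
      rw [hfix t ht] at h2
      exact (mem_bset t _).mp h2)
    rcases key with h | h
    · exfalso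
      have h1 : τ p = dec 0 := by rw [← h, dec_enc]
      have h2 : p = dec 0 := τ.injective (h1.trans h0.symm)
      apply hq0
      rw [h2, enc_dec 0 (by norm_num)]
    · exact enc_injective h

theorem mem_N64_of_mem_N0 {σ : Equiv.Perm GolayPt} (hσ : σ ∈ N0) : ∃ P ∈ N64, σ = permOf P := by
  have hO1 : bset O0 ∈ fam T0list := mem_fam.mpr ⟨O0, by decide, rfl⟩
  have hO3 : bset 0x789810 ∈ fam T0list := mem_fam.mpr ⟨0x789810, by decide, rfl⟩
  have h1 : σ (dec 0) ∈ bset O0 := by
    have h : dec 0 ∈ bset O0 := dec0_mem O0 (by decide)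
    have := (mem_smul_finset_perm' σ _ _).mpr h
    rwa [hσ.2.1 _ hO1] at this
  have h3 : σ (dec 4) ∈ bset 0x789810 := by
    have h : dec 4 ∈ bset 0x789810 := by
      rw [mem_bset, enc_dec 4 (by norm_num)]
      decide
    have := (mem_smul_finset_perm' σ _ _).mpr h
    rwa [hσ.2.1 _ hO3] at this
  rw [mem_bset] at h1 h3
  obtain ⟨P, hP, hi, hj⟩ := N64_regular _ (enc_lt _) h1 _ (enc_lt _) h3
  refine ⟨P, hP, ?_⟩
  have hPN : permOf P ∈ N0 := mem_N0_of_mem_N64 hP
  have hp := isPerm_of_mem64 hP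
  have hτ : (permOf P)⁻¹ * σ ∈ N0 := N0.mul_mem (N0.inv_mem hPN) hσ
  have e0 : permOf P (dec 0) = σ (dec 0) := by
    rw [permOf_apply_dec P hp 0 (by norm_num), hi, dec_enc]
  have e4 : permOf P (dec 4) = σ (dec 4) := by
    rw [permOf_apply_dec P hp 4 (by norm_num), hj, dec_enc]
  have t0 : ((permOf P)⁻¹ * σ) (dec 0) = dec 0 := by
    rw [Equiv.Perm.mul_apply, ← e0, Equiv.Perm.inv_def, Equiv.symm_apply_apply]
  have t4 : ((permOf P)⁻¹ * σ) x0 = x0 := by
    show ((permOf P)⁻¹ * σ) (dec 4) = dec 4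
    rw [Equiv.Perm.mul_apply, ← e4, Equiv.Perm.inv_def, Equiv.symm_apply_apply]
  have := eq_one_of_fix_O0_x0 hτ.1 (fix_O0_of_fix_zero hτ t0) t4
  exact (inv_mul_eq_one.mp this).symm

theorem N0_eq : (N0 : Set (Equiv.Perm GolayPt)) = permOf '' {P | P ∈ N64} := by
  ext σ
  constructor
  · intro h
    obtain ⟨P, hP, rfl⟩ := mem_N64_of_mem_N0 h
    exact ⟨P, hP, rfl⟩
  · rintro ⟨P, hP, rfl⟩
    exact mem_N0_of_mem_N64 hP

theorem permOf_injOn64 : Set.InjOn permOf {P | P ∈ N64} := by
  intro P hP Q hQ h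
  exact packed_inj (isPerm_of_mem64 hP) (isPerm_of_mem64 hQ) (entry_spec64 hP).2.1
    (entry_spec64 hQ).2.1 h

theorem ncard_N0 : (N0 : Set (Equiv.Perm GolayPt)).ncard = 64 := by
  rw [N0_eq, Set.InjOn.ncard_image permOf_injOn64,
    ncard_list N64 (nodup_of_nodupB _ N64_nodupB), N64_length]

theorem sq_of_mem_N0 {σ : Equiv.Perm GolayPt} (hσ : σ ∈ N0) : σ * σ = 1 := by
  obtain ⟨P, hP, rfl⟩ := mem_N64_of_mem_N0 hσ
  exact (isInv_iff (isPerm_of_mem64 hP)).mp (entry_spec64 hP).2.2.2.2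

theorem ker_eq : (Psi.ker : Set G0) = valPerm (fam T0list) ⁻¹' (N0 : Set (Equiv.Perm GolayPt)) := by
  ext g
  exact mem_ker_Psi g

theorem card_ker_Psi : Nat.card ↥Psi.ker = 64 := by
  rw [← ncard_N0, ← ncard_preimage_valPerm (S := fam T0list) (N0 : Set (Equiv.Perm GolayPt))
    (fun σ hσ => ⟨hσ.1, hσ.2.1⟩), ← ker_eq, ← Nat.card_coe_set_eq]
  rfl

theorem card_target : Nat.card (GL (Fin 3) (ZMod 2) × Equiv.Perm (Fin 3)) = 1008 := by
  rw [Nat.card_prod, Matrix.card_GL_field, Nat.card_perm, ZMod.card, Fin.prod_univ_three,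
    Nat.card_eq_fintype_card, Fintype.card_fin]
  decide

theorem Psi_surjective : Function.Surjective Psi := by
  rw [← MonoidHom.range_eq_top]
  apply Subgroup.eq_top_of_card_eq
  have h1 := Subgroup.card_mul_index Psi.ker
  rw [Subgroup.index_ker, card_ker_Psi, card_stabilizer_trio T0_mem_trios] at h1
  rw [card_target]
  omega

theorem hasStructure_base : HasStructure (fam T0list) := by
  refine ⟨Psi.ker, MonoidHom.normal_ker Psi, card_ker_Psi, ?_,
    ⟨QuotientGroup.quotientKerEquivOfSurjective Psi Psi_surjective⟩⟩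
  intro g hg
  have := sq_of_mem_N0 ((mem_ker_Psi g).mp hg)
  exact valPerm_injective _ this

/-- Structure of a trio stabiliser. -/
theorem trio_stabilizer (T : Finset (Finset GolayPt)) (hT : T ∈ trios) :
    (∀ e : Equiv.Perm ↥T, ∃ g ∈ MulAction.stabilizer Cfsg.M24 T, ∀ o : ↥T,
      (g : Equiv.Perm Cfsg.GolayPt) • (o : Finset Cfsg.GolayPt) =
        ((e o : ↥T) : Finset Cfsg.GolayPt)) ∧
    ∃ (N : Subgroup ↥(MulAction.stabilizer Cfsg.M24 T)) (_ : N.Normal), Nat.card N = 64 ∧
      (∀ x ∈ N, x * x = 1) ∧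
      Nonempty (↥(MulAction.stabilizer Cfsg.M24 T) ⧸ N ≃*
        GL (Fin 3) (ZMod 2) × Equiv.Perm (Fin 3)) := by
  refine ⟨?_, hasStructure_of_base hasStructure_base hT⟩
  intro e
  obtain ⟨g, hg⟩ := trioHom_surjective hT e
  refine ⟨g.1, g.2, ?_⟩
  intro o
  rw [← hg]
  rfl

end Cfsg.Agent.Lib.Helper10.Trio
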