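import Mathlib
import Cfsg.Agent.Lib.Helper11.UHDefs

/-!
# Leaf UHH1 of S2335/S2334 (helper10): a non-degenerate skew-Hermitian form has a non-isotropic vector
-/

set_option autoImplicit false
open Module Cfsg.Agent.Lib.Helper11.LS Cfsg.Agent.Lib.Helper11.UH

namespace Cfsg.Agent.Lib.Helper10.UHLeaf

universe u
variable {F : Type*} [Field F] [Fintype F] [DecidableEq F] {q : ℕ} {V : Type u} [AddCommGroup V] [Module F V]

theorem exists_nonisotropic (hF : Fintype.card F = q ^ 2) [Finite V] (h : SkForm F q V) (hnd : h.Nondeg)
    (hr : 1 ≤ finrank F V) : ∃ v, h v v ≠ 0 := by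
  by_contra hcon
  push Not at hcon
  have hq : 2 ≤ q := Cfsg.Agent.Lib.Helper14.herm_two_le hF
  -- the form is alternating, so `h y x = - h x y`
  have halt : ∀ x y, h y x = -h x y := by
    intro x y
    have := hcon (x + y)
    rw [h.add_left, h.add_right, h.add_right, hcon x, hcon y, zero_add, add_zero] at this
    exact eq_neg_of_add_eq_zero_left (by rw [add_comm]; exact this)
  -- hence all the values are fixed by `a ↦ a ^ q`
  have hfix : ∀ x y, (h x y) ^ q = h x y := by
    intro x y
    have h1 := h.conj x y
    rw [halt x y] at h1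
    exact (neg_injective h1).symm
  -- a non-zero vector and a vector not orthogonal to it
  obtain ⟨x, hx⟩ : ∃ x : V, x ≠ 0 := by
    have : 0 < finrank F V := by omega
    exact Module.finrank_pos_iff_exists_ne_zero.mp this
  obtain ⟨y, hy⟩ : ∃ y, h x y ≠ 0 := by
    by_contra hno
    push Not at hno
    exact hx (hnd x hno)
  -- every element of the field is fixed
  have hall : ∀ a : F, a ^ q = a := by
    intro a
    have := hfix ((a / h x y) • x) y
    rw [h.smul_left, div_mul_cancel₀ a hy] at this
    exact this
  -- but `X ^ q - X` has at most `q` roots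
  have hpoly : (Polynomial.X ^ q - Polynomial.X : Polynomial F) = 0 := by
    apply Polynomial.eq_zero_of_natDegree_lt_card_of_eval_eq_zero' _ (Finset.univ : Finset F)
    · intro a _
      rw [Polynomial.eval_sub, Polynomial.eval_pow, Polynomial.eval_X, hall a, sub_self]
    · rw [FiniteField.X_pow_card_sub_X_natDegree_eq F (by omega), Finset.card_univ, hF]
      nlinarith
  exact FiniteField.X_pow_card_sub_X_ne_zero F (by omega) hpoly

end Cfsg.Agent.Lib.Helper10.UHLeaf
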