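import Mathlib
import Cfsg.Agent.Lib.Helper11.UHDefs

/-!
# Leaf UHH3 of S2335/S2334 (helper10): the orthogonal complement of a non-isotropic vector
-/

set_option autoImplicit false
open Module Cfsg.Agent.Lib.Helper11.LS Cfsg.Agent.Lib.Helper11.UH

namespace Cfsg.Agent.Lib.Helper10.UHLeaf

universe u
variable {F : Type*} [Field F] [Fintype F] [DecidableEq F] {q : ℕ} {V : Type u} [AddCommGroup V] [Module F V]

/-- the functional `x ↦ h x v` -/
def leftFunctional (h : SkForm F q V) (v : V) : V →ₗ[F] F where
  toFun := fun x => h x v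
  map_add' := fun x y => h.add_left x y v
  map_smul' := fun a x => by
    rw [RingHom.id_apply, smul_eq_mul]
    exact h.smul_left a x v

theorem ker_leftFunctional (h : SkForm F q V) (v : V) :
    LinearMap.ker (leftFunctional h v) = h.perp1 v := by
  ext x
  rw [LinearMap.mem_ker, SkForm.mem_perp1]
  rfl

theorem finrank_perp1 (hF : Fintype.card F = q ^ 2) [Finite V] (h : SkForm F q V) {v : V}
    (hv : h v v ≠ 0) : finrank F (h.perp1 v) + 1 = finrank F V := by
  have hsurj : LinearMap.range (leftFunctional h v) = ⊤ := by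
    rw [LinearMap.range_eq_top]
    intro a
    refine ⟨(a / h v v) • v, ?_⟩
    show h ((a / h v v) • v) v = a
    rw [h.smul_left, div_mul_cancel₀ a hv]
  have := (leftFunctional h v).finrank_range_add_finrank_ker
  rw [hsurj, finrank_top, finrank_self, ker_leftFunctional] at this
  omega

theorem nondeg_perp1 (hF : Fintype.card F = q ^ 2) (h : SkForm F q V) (hnd : h.Nondeg) {v : V}
    (hv : h v v ≠ 0) : (h.res (h.perp1 v)).Nondeg := by
  intro x hx
  apply Subtype.ext
  apply hnd
  intro y
  have hxv : h (x : V) v = 0 := x.2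
  -- split `y` along `v` and its orthogonal complement
  have hy' : y - (h y v / h v v) • v ∈ h.perp1 v := by
    rw [SkForm.mem_perp1, h.sub_left, h.smul_left, div_mul_cancel₀ _ hv, sub_self]
  have h1 := hx ⟨_, hy'⟩
  rw [SkForm.res_apply] at h1
  have h2 : h (x : V) (y - (h y v / h v v) • v) = h (x : V) y := by
    rw [h.sub_right, h.smul_right, hxv, mul_zero, sub_zero]
  rw [← h2]
  exact h1

end Cfsg.Agent.Lib.Helper10.UHLeaf
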