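import Mathlib
import Cfsg.Agent.Lib.Helper5.UOGDefs
import Cfsg.Agent.Lib.Helper25.OrthGeom
import Cfsg.Agent.Lib.Helper5.TSMax

/-!
S5681 / S5709 part (G) growth market (helper5), block T: geometry of singular vectors in a
nondegenerate quadratic space `ι → F` over a finite field of odd characteristic.
Statements are copied from `notes/S5681_G_leaves.lean` (T1, T3, T4, T5).
-/

set_option autoImplicit false
set_option linter.unusedSectionVars false
set_option linter.unusedVariables false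

namespace Cfsg.Agent.Lib.Helper10.UOGLeaf
open Matrix QuadraticMap Module
open Cfsg.Agent.Lib.Helper25.Tens Cfsg.Agent.Lib.Helper2.SOT Cfsg.Agent.Lib.Helper7.OTT
  Cfsg.Agent.Lib.Helper25.CD Cfsg.Agent.Lib.Helper5.NSMax Cfsg.Agent.Lib.Helper5.PairMax
  Cfsg.Agent.Lib.Helper5.TSMax Cfsg.Agent.Lib.Helper5.NDMax Cfsg.Agent.Lib.Helper5.UOG
open scoped Kronecker

section calculus
variable {ι : Type} [Fintype ι] [DecidableEq ι] {F : Type*} [Field F] [Fintype F]
  {Q : QuadraticForm F (ι → F)} {M' : Subgroup ↥(Cfsg.isometryGroup F ⇑Q)}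

/-- (T5) a nonsingular vector orthogonal to a hyperbolic pair (`3 ≤ dim`) -/
theorem exists_nonsing_perp_pair (hQ : (polarBilin Q).Nondegenerate) (h2 : (2 : F) ≠ 0)
    (h3 : 3 ≤ Fintype.card ι) {x xs : ι → F} (hx : Q x = 0) (hxs : Q xs = 0)
    (hxx : polar Q x xs = 1) : ∃ d, polar Q x d = 0 ∧ polar Q xs d = 0 ∧ Q d ≠ 0 := by
  have hnd : Cfsg.Agent.Lib.Helper15.NdOn Q (Cfsg.Agent.Lib.Helper15.perpPair Q ⊤ x xs) :=
    Cfsg.Agent.Lib.Helper15.perpPair_nd Q ⊤ (Cfsg.Agent.Lib.Helper15.ndOn_top Q hQ)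
      Submodule.mem_top Submodule.mem_top hx hxs hxx
  have hfr := Cfsg.Agent.Lib.Helper15.perpPair_finrank Q ⊤ (e := x) (f := xs)
      Submodule.mem_top Submodule.mem_top hx hxs hxx
  rw [finrank_top, Module.finrank_fintype_fun_eq_card] at hfr
  have hpos : 0 < finrank F (Cfsg.Agent.Lib.Helper15.perpPair Q ⊤ x xs) := by omega
  obtain ⟨w, hw0⟩ := (Module.finrank_pos_iff_exists_ne_zero).1 hpos
  by_contra hcon
  push Not at hcon
  have hQ0 : ∀ v ∈ Cfsg.Agent.Lib.Helper15.perpPair Q ⊤ x xs, Q v = 0 := by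
    intro v hv
    rw [Cfsg.Agent.Lib.Helper15.mem_perpPair] at hv
    exact hcon v hv.2.1 hv.2.2
  have hw : (w : ι → F) = 0 := by
    apply hnd w w.2
    intro w' hw'
    have h1 := hQ0 _ (Submodule.add_mem _ w.2 hw')
    rw [Cfsg.Agent.Lib.Helper25.MaxTS.Q_add, hQ0 _ w.2, hQ0 _ hw'] at h1
    simpa using h1
  exact hw0 (Subtype.ext hw)

/-- (T4) a nonsingular vector orthogonal to two given vectors (`5 ≤ dim`, `2 ≠ 0`) -/
theorem exists_nonsing_perp_two (hQ : (polarBilin Q).Nondegenerate) (h2 : (2 : F) ≠ 0)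
    (h5 : 5 ≤ Fintype.card ι) (y y' : ι → F) :
    ∃ d, polar Q y d = 0 ∧ polar Q y' d = 0 ∧ Q d ≠ 0 := by
  by_contra hcon
  push Not at hcon
  have hTS : Cfsg.Agent.Lib.Helper25.MaxTS.TS Q
      (Cfsg.Agent.Lib.Helper25.MaxTS.perp Q (Submodule.span F ({y, y'} : Set (ι → F)))) := by
    intro u hu
    rw [Cfsg.Agent.Lib.Helper25.MaxTS.mem_perp] at hu
    exact hcon u (hu y (Submodule.subset_span (by simp)))
      (hu y' (Submodule.subset_span (by simp)))
  have h1 := ts_finrank_le Q hQ hTS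
  have h2' := Cfsg.Agent.Lib.Helper25.MaxTS.finrank_perp hQ
    (Submodule.span F ({y, y'} : Set (ι → F)))
  have h3 := Cfsg.Agent.Lib.Helper25.OGeom.finrank_span_pair_le (F := F) y y'
  rw [Module.finrank_fintype_fun_eq_card] at h2'
  omega

/-- (T1) a singular vector non-orthogonal to two given nonzero singular vectors (`3 ≤ dim`). -/
theorem exists_sing_nonperp_two (hQ : (polarBilin Q).Nondegenerate) (h2 : (2 : F) ≠ 0)
    (h3 : 3 ≤ Fintype.card ι) {u w : ι → F} (hu0 : u ≠ 0) (hw0 : w ≠ 0) (hu : Q u = 0) (hw : Q w = 0) :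
    ∃ s, Q s = 0 ∧ polar Q s u ≠ 0 ∧ polar Q s w ≠ 0 := by
  by_cases huw : polar Q u w = 0
  · exact Cfsg.Agent.Lib.Helper25.OGeom.exists_sing_nonperp_pair Q hQ hu0 hw0 hu hw huw
  · obtain ⟨c, hc⟩ : ∃ c, c = polar Q u w := ⟨_, rfl⟩
    have hc0 : c ≠ 0 := by rw [hc]; exact huw
    have hw' : Q (c⁻¹ • w) = 0 := by rw [QuadraticMap.map_smul, hw, smul_zero]
    have huw' : polar Q u (c⁻¹ • w) = 1 := by
      rw [polar_smul_right, smul_eq_mul, ← hc, inv_mul_cancel₀ hc0]
    obtain ⟨d, hd1, hd2, hd3⟩ := exists_nonsing_perp_pair hQ h2 h3 hu hw' huw'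
    have hwd : polar Q w d = 0 := by
      rw [polar_smul_left, smul_eq_mul] at hd2
      exact (mul_eq_zero.1 hd2).resolve_left (inv_ne_zero hc0)
    have hwu : polar Q w u = c := by rw [polar_comm, hc]
    have hdu : polar Q d u = 0 := by rw [polar_comm, hd1]
    have hdw : polar Q d w = 0 := by rw [polar_comm, hwd]
    refine ⟨u + (-(Q d) / c) • w + d, ?_, ?_, ?_⟩
    · rw [Cfsg.Agent.Lib.Helper25.MaxTS.Q_add, Cfsg.Agent.Lib.Helper25.MaxTS.Q_add_smul, hu, hw,
        polar_add_left, polar_smul_left, hd1, hwd, ← hc]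
      field_simp
      ring
    · rw [polar_add_left, polar_add_left, polar_smul_left, pself Q hu, hwu, hdu, smul_eq_mul]
      field_simp
      simpa using hd3
    · rw [polar_add_left, polar_add_left, polar_smul_left, pself Q hw, hdw, ← hc]
      simpa using hc0

/-- (T3) the singular vectors non-orthogonal to a given singular `x ≠ 0` span the space
(`3 ≤ dim`). -/
theorem span_opp (hQ : (polarBilin Q).Nondegenerate) (h2 : (2 : F) ≠ 0) (h3 : 3 ≤ Fintype.card ι)
    {x : ι → F} (hx0 : x ≠ 0) (hx : Q x = 0) :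
    Submodule.span F {x' : ι → F | Q x' = 0 ∧ polar Q x x' ≠ 0} = ⊤ := by
  obtain ⟨xs, hxs, hxx⟩ := Cfsg.Agent.Lib.Helper25.Fam.exists_sing_partner Q hQ hx0 hx
  obtain ⟨L, hL⟩ : ∃ L, L = Submodule.span F {x' : ι → F | Q x' = 0 ∧ polar Q x x' ≠ 0} :=
    ⟨_, rfl⟩
  rw [← hL]
  have hsub : ∀ z, Q z = 0 → polar Q x z ≠ 0 → z ∈ L := by
    intro z h1 h2
    rw [hL]
    exact Submodule.subset_span ⟨h1, h2⟩
  have hxsL : xs ∈ L := hsub xs hxs (by rw [hxx]; exact one_ne_zero)
  have hpxx : polar Q x x = 0 := pself Q hx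
  have hpss : polar Q xs xs = 0 := pself Q hxs
  have hsx : polar Q xs x = 1 := by rw [polar_comm]; exact hxx
  have step2 : ∀ v, polar Q x v = 0 → polar Q xs v = 0 → v - Q v • x ∈ L := by
    intro v hv1 hv2
    have hvx : polar Q v x = 0 := by rw [polar_comm]; exact hv1
    have hz : xs + v - Q v • x ∈ L := by
      apply hsub
      · rw [Q_sub', Cfsg.Agent.Lib.Helper25.MaxTS.Q_add, QuadraticMap.map_smul, hx, hxs, hv2,
          polar_smul_right, polar_add_left, hsx, hvx]
        simp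
      · rw [polar_sub_right, polar_add_right, polar_smul_right, hxx, hv1, hpxx]
        simp
    have e : v - Q v • x = (xs + v - Q v • x) - xs := by abel
    rw [e]
    exact Submodule.sub_mem _ hz hxsL
  obtain ⟨d, hd1, hd2, hd3⟩ := exists_nonsing_perp_pair hQ h2 h3 hx hxs hxx
  have hxL : x ∈ L := by
    have a1 := step2 d hd1 hd2
    have a2 := step2 ((2 : F) • d) (by rw [polar_smul_right, hd1, smul_zero])
      (by rw [polar_smul_right, hd2, smul_zero])
    rw [QuadraticMap.map_smul] at a2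
    have e : (2 * Q d) • x
        = (2 : F) • (d - Q d • x) - ((2 : F) • d - (((2 : F) * 2) • Q d) • x) := by
      simp only [smul_eq_mul]
      module
    have h3' : (2 * Q d) • x ∈ L := by
      rw [e]
      exact Submodule.sub_mem _ (Submodule.smul_mem _ _ a1) a2
    have hne : 2 * Q d ≠ 0 := mul_ne_zero h2 hd3
    have h4 := Submodule.smul_mem L (2 * Q d)⁻¹ h3'
    rwa [smul_smul, inv_mul_cancel₀ hne, one_smul] at h4
  have step4 : ∀ v, polar Q x v = 0 → polar Q xs v = 0 → v ∈ L := by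
    intro v hv1 hv2
    have h4 := Submodule.add_mem _ (step2 v hv1 hv2) (Submodule.smul_mem _ (Q v) hxL)
    simpa using h4
  rw [eq_top_iff]
  intro y _
  have hv : y - polar Q y xs • x - polar Q y x • xs ∈ L := by
    apply step4
    · rw [polar_sub_right, polar_sub_right, polar_smul_right, polar_smul_right, hpxx, hxx,
        polar_comm (⇑Q) x y]
      simp
    · rw [polar_sub_right, polar_sub_right, polar_smul_right, polar_smul_right, hpss, hsx,
        polar_comm (⇑Q) xs y]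
      simp
  have e : y = (y - polar Q y xs • x - polar Q y x • xs) + polar Q y xs • x
      + polar Q y x • xs := by abel
  rw [e]
  exact Submodule.add_mem _ (Submodule.add_mem _ hv (Submodule.smul_mem _ _ hxL))
    (Submodule.smul_mem _ _ hxsL)

end calculus

end Cfsg.Agent.Lib.Helper10.UOGLeaf
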