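/-
helper10: S2524 leaf ABS `count_of_types` - the abstract counting argument.
-/
import Mathlib
import Cfsg.Prelude.Def_Characters
import Cfsg.Agent.Lib.Lead.CharDecomp
import Cfsg.Agent.Lib.Lead.CharMore

set_option autoImplicit false

namespace Cfsg.Agent.Lib.Helper10.WGABS

universe u

open Cfsg.Agent.CharLib

/-- the twist of an irreducible character by an automorphism -/
noncomputable def twc {G : Type u} [Group G] (δ : G ≃* G) (χ : Cfsg.IrrCharacter G) :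
    Cfsg.IrrCharacter G :=
  ⟨(χ : G → ℂ) ∘ δ, IsIrrCharacter.comp_mulEquiv χ.2 δ⟩

theorem twc_one {G : Type u} [Group G] (δ : G ≃* G) (χ : Cfsg.IrrCharacter G) :
    (twc δ χ : G → ℂ) 1 = (χ : G → ℂ) 1 := by
  show (χ : G → ℂ) (δ 1) = _
  rw [map_one]

/-- (ABS) the abstract counting argument: if the irreducible characters of degree `≠ 1` below the bound `β` inject
into a set of four elements, none of them is fixed by the automorphism `δ`, and there are such characters of the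
degrees `d₁ ≠ d₂`, then there are exactly two of each of these degrees and no others. -/
theorem count_of_types {G : Type u} [Group G] [Finite G] (δ : G ≃* G) (β : ℝ) (d₁ d₂ : ℕ) (hd : d₁ ≠ d₂)
    (hd₁ : d₁ ≠ 1) (hd₂ : d₂ ≠ 1) (hβ₁ : (d₁ : ℝ) < β) (hβ₂ : (d₂ : ℝ) < β)
    (t : {χ : Cfsg.IrrCharacter G // (χ : G → ℂ) 1 ≠ 1 ∧ ‖(χ : G → ℂ) 1‖ < β} → Bool × Bool)
    (ht : Function.Injective t)
    (hδ : ∀ χ : Cfsg.IrrCharacter G, (χ : G → ℂ) 1 ≠ 1 → ‖(χ : G → ℂ) 1‖ < β →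
      (χ : G → ℂ) ∘ δ ≠ (χ : G → ℂ))
    (χ₁ χ₂ : Cfsg.IrrCharacter G) (h₁ : (χ₁ : G → ℂ) 1 = d₁) (h₂ : (χ₂ : G → ℂ) 1 = d₂) :
    Nat.card {χ : Cfsg.IrrCharacter G // (χ : G → ℂ) 1 = d₁} = 2 ∧
    Nat.card {χ : Cfsg.IrrCharacter G // (χ : G → ℂ) 1 = d₂} = 2 ∧
    ∀ χ : Cfsg.IrrCharacter G, (χ : G → ℂ) 1 ≠ 1 → (χ : G → ℂ) 1 ≠ d₁ → (χ : G → ℂ) 1 ≠ d₂ →
      β ≤ ‖(χ : G → ℂ) 1‖ := by
  classical
  letI := fintypeIrr G
  -- the small characters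
  have hc1 : ∀ d : ℕ, d ≠ 1 → ((d : ℕ) : ℂ) ≠ 1 := by
    intro d hd1 h
    exact hd1 (by exact_mod_cast h)
  have hnorm : ∀ d : ℕ, ‖((d : ℕ) : ℂ)‖ = (d : ℝ) := fun d => Complex.norm_natCast d
  have hdc : ((d₁ : ℕ) : ℂ) ≠ ((d₂ : ℕ) : ℂ) := by
    intro h
    exact hd (by exact_mod_cast h)
  -- membership in the small set
  have hS : ∀ (χ : Cfsg.IrrCharacter G) (d : ℕ), d ≠ 1 → (d : ℝ) < β → (χ : G → ℂ) 1 = d →
      (χ : G → ℂ) 1 ≠ 1 ∧ ‖(χ : G → ℂ) 1‖ < β := by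
    intro χ d hd1 hdβ hχ
    rw [hχ]
    exact ⟨hc1 d hd1, by rw [hnorm]; exact hdβ⟩
  let S := {χ : Cfsg.IrrCharacter G // (χ : G → ℂ) 1 ≠ 1 ∧ ‖(χ : G → ℂ) 1‖ < β}
  have hcardS : Fintype.card S ≤ 4 := by
    have h := Fintype.card_le_of_injective t ht
    simpa using h
  let a₁ : S := ⟨χ₁, hS χ₁ d₁ hd₁ hβ₁ h₁⟩
  let a₂ : S := ⟨twc δ χ₁, hS _ d₁ hd₁ hβ₁ ((twc_one δ χ₁).trans h₁)⟩
  let a₃ : S := ⟨χ₂, hS χ₂ d₂ hd₂ hβ₂ h₂⟩
  let a₄ : S := ⟨twc δ χ₂, hS _ d₂ hd₂ hβ₂ ((twc_one δ χ₂).trans h₂)⟩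
  have hdeg : ∀ (x y : S), (x.1 : G → ℂ) 1 ≠ (y.1 : G → ℂ) 1 → x ≠ y := by
    intro x y h hxy
    exact h (by rw [hxy])
  have htw : ∀ (χ : Cfsg.IrrCharacter G) (h : (χ : G → ℂ) 1 ≠ 1 ∧ ‖(χ : G → ℂ) 1‖ < β)
      (h' : (twc δ χ : G → ℂ) 1 ≠ 1 ∧ ‖(twc δ χ : G → ℂ) 1‖ < β),
      (⟨χ, h⟩ : S) ≠ ⟨twc δ χ, h'⟩ := by
    intro χ h h' he
    have h3 : χ = twc δ χ := congrArg Subtype.val he
    have h4 : (χ : G → ℂ) = (χ : G → ℂ) ∘ δ := congrArg Subtype.val h3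
    exact hδ χ h.1 h.2 h4.symm
  have h12 : a₁ ≠ a₂ := htw χ₁ _ _
  have h34 : a₃ ≠ a₄ := htw χ₂ _ _
  have e1 : (a₁.1 : G → ℂ) 1 = d₁ := h₁
  have e2 : (a₂.1 : G → ℂ) 1 = d₁ := (twc_one δ χ₁).trans h₁
  have e3 : (a₃.1 : G → ℂ) 1 = d₂ := h₂
  have e4 : (a₄.1 : G → ℂ) 1 = d₂ := (twc_one δ χ₂).trans h₂
  have h13 : a₁ ≠ a₃ := hdeg _ _ (by rw [e1, e3]; exact hdc)
  have h14 : a₁ ≠ a₄ := hdeg _ _ (by rw [e1, e4]; exact hdc)
  have h23 : a₂ ≠ a₃ := hdeg _ _ (by rw [e2, e3]; exact hdc)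
  have h24 : a₂ ≠ a₄ := hdeg _ _ (by rw [e2, e4]; exact hdc)
  -- the four exhaust the small set
  have hall : ∀ s : S, s = a₁ ∨ s = a₂ ∨ s = a₃ ∨ s = a₄ := by
    intro s
    by_contra hs
    push Not at hs
    obtain ⟨s1, s2, s3, s4⟩ := hs
    have hcard5 : ({s, a₁, a₂, a₃, a₄} : Finset S).card = 5 := by
      rw [Finset.card_insert_of_notMem, Finset.card_insert_of_notMem, Finset.card_insert_of_notMem,
        Finset.card_insert_of_notMem, Finset.card_singleton]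
      · simp only [Finset.mem_singleton]; exact h34
      · simp only [Finset.mem_insert, Finset.mem_singleton, not_or]; exact ⟨h23, h24⟩
      · simp only [Finset.mem_insert, Finset.mem_singleton, not_or]; exact ⟨h12, h13, h14⟩
      · simp only [Finset.mem_insert, Finset.mem_singleton, not_or]; exact ⟨s1, s2, s3, s4⟩
    have := Finset.card_le_univ ({s, a₁, a₂, a₃, a₄} : Finset S)
    omega
  -- the counting for one degree
  have hcount : ∀ (d : ℕ) (x y : S), x ≠ y → (x.1 : G → ℂ) 1 = d → (y.1 : G → ℂ) 1 = d →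
      d ≠ 1 → (d : ℝ) < β →
      (∀ s : S, (s.1 : G → ℂ) 1 = d → s = x ∨ s = y) →
      Nat.card {χ : Cfsg.IrrCharacter G // (χ : G → ℂ) 1 = d} = 2 := by
    intro d x y hxy hx hy hd1 hdβ hex
    rw [Nat.card_eq_two_iff]
    refine ⟨⟨x.1, hx⟩, ⟨y.1, hy⟩, ?_, ?_⟩
    · intro h
      apply hxy
      apply Subtype.ext
      exact congrArg (fun w : {χ : Cfsg.IrrCharacter G // (χ : G → ℂ) 1 = d} => w.1) h
    · ext z
      simp only [Set.mem_insert_iff, Set.mem_singleton_iff, Set.mem_univ, iff_true]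
      rcases hex ⟨z.1, hS z.1 d hd1 hdβ z.2⟩ z.2 with h | h
      · left
        apply Subtype.ext
        exact congrArg (fun w : S => w.1) h
      · right
        apply Subtype.ext
        exact congrArg (fun w : S => w.1) h
  refine ⟨?_, ?_, ?_⟩
  · refine hcount d₁ a₁ a₂ h12 e1 e2 hd₁ hβ₁ ?_
    intro s hs
    rcases hall s with h | h | h | h
    · exact Or.inl h
    · exact Or.inr h
    · exfalso; rw [h, e3] at hs; exact hdc hs.symm
    · exfalso; rw [h, e4] at hs; exact hdc hs.symm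
  · refine hcount d₂ a₃ a₄ h34 e3 e4 hd₂ hβ₂ ?_
    intro s hs
    rcases hall s with h | h | h | h
    · exfalso; rw [h, e1] at hs; exact hdc hs
    · exfalso; rw [h, e2] at hs; exact hdc hs
    · exact Or.inl h
    · exact Or.inr h
  · intro χ hχ1 hχd1 hχd2
    by_contra hlt
    push Not at hlt
    rcases hall ⟨χ, hχ1, hlt⟩ with h | h | h | h
    · exact hχd1 ((congrArg (fun s : S => (s.1 : G → ℂ) 1) h).trans e1)
    · exact hχd1 ((congrArg (fun s : S => (s.1 : G → ℂ) 1) h).trans e2)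
    · exact hχd2 ((congrArg (fun s : S => (s.1 : G → ℂ) 1) h).trans e3)
    · exact hχd2 ((congrArg (fun s : S => (s.1 : G → ℂ) 1) h).trans e4)

end Cfsg.Agent.Lib.Helper10.WGABS
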