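/-
helper10: S2524 (Sp_2n(q), q odd: the four Weil characters and the gap to beta_n) - definitions.
`SpG F n = Sp_{2n}(F)`; the Siegel radical `Xs S`, the Levi factor `LvG g`, the reflections `sw j`
(`e_j -> f_j -> -e_j`), the block embedding `iotaMat` of `Sp_{2n}` in `Sp_{2n+2}` (coordinates `1..n`);
weight spaces `wt psi rho B` of the Siegel radical (`B` a symmetric matrix, character `S -> psi (tr (B S))`),
the property `IsW` (all weights of rank at most one), the space `Ysp rho` of fixed points of the long root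
group `Z = {Xs (c E_00)}`, and `IsStabMap` (a map `V'_B -> V_B` commuting with the stabiliser of `B` in the
Levi factor).  Plan: `notes/S2524_plan.md`.
-/
import Mathlib
import Cfsg.Agent.Lib.Helper11.LSSp

set_option autoImplicit false

namespace Cfsg.Agent.Lib.Helper10.WG

open Matrix Cfsg.Agent.Lib.Helper11.LS

variable {F : Type*} [Field F]

/-- `Sp_{2n}(F)` -/
abbrev SpG (F : Type*) [Field F] (n : ℕ) : Type _ := ↥(Matrix.symplecticGroup (Fin n) F)

/-! ### elements -/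

section elements

variable {n : ℕ}

/-- the Levi element `diag(g, g^{-T})` -/
def LvG (g : GL (Fin n) F) : SpG F n :=
  Lv (g : Matrix (Fin n) (Fin n) F) ((g⁻¹ : GL (Fin n) F) : Matrix (Fin n) (Fin n) F)
    (by rw [← Units.val_mul, inv_mul_cancel, Units.val_one])

theorem LvG_val (g : GL (Fin n) F) :
    ((LvG g : SpG F n) : Matrix (Fin n ⊕ Fin n) (Fin n ⊕ Fin n) F) =
      fromBlocks (g : Matrix (Fin n) (Fin n) F) 0 0
        ((g⁻¹ : GL (Fin n) F) : Matrix (Fin n) (Fin n) F)ᵀ := rfl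

theorem Xs_val (S : Matrix (Fin n) (Fin n) F) (hS : Sᵀ = S) :
    ((Xs S hS : SpG F n) : Matrix (Fin n ⊕ Fin n) (Fin n ⊕ Fin n) F) = fromBlocks 1 S 0 1 := rfl

/-- the matrix of the reflection `s_j : e_j -> f_j, f_j -> -e_j` -/
def swMat (j : Fin n) : Matrix (Fin n ⊕ Fin n) (Fin n ⊕ Fin n) F :=
  fromBlocks (1 - single j j 1) (- single j j 1) (single j j 1) (1 - single j j 1)

theorem swMat_mem (j : Fin n) : (swMat j : Matrix _ _ F) ∈ Matrix.symplecticGroup (Fin n) F := by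
  rw [swMat, SymplecticGroup.fromBlocks_mem_iff]
  set E : Matrix (Fin n) (Fin n) F := single j j 1 with hE
  have h1 : Eᵀ = E := by simp [hE]
  have h2 : E * E = E := by simp [hE]
  have h3 : (1 - E) * E = 0 := by rw [Matrix.sub_mul, Matrix.one_mul, h2, sub_self]
  have h4 : E * (1 - E) = 0 := by rw [Matrix.mul_sub, Matrix.mul_one, h2, sub_self]
  have hT : (1 - E)ᵀ = 1 - E := by rw [transpose_sub, transpose_one, h1]
  refine ⟨?_, ?_, ?_⟩
  · rw [hT, h1, h3, h4]
  · rw [transpose_neg, h1, hT, Matrix.neg_mul, h4, Matrix.mul_neg, h3]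
  · rw [hT, h1, Matrix.mul_neg, sub_neg_eq_add, h2, Matrix.sub_mul, Matrix.one_mul, h4, sub_zero,
      sub_add_cancel]

/-- the reflection `s_j` -/
def sw (j : Fin n) : SpG F n := ⟨swMat j, swMat_mem j⟩

/-- block diagonal `diag(c, A)` of size `n + 1` -/
def bd (c : F) (A : Matrix (Fin n) (Fin n) F) : Matrix (Fin (n + 1)) (Fin (n + 1)) F :=
  Matrix.of (Fin.cons (Fin.cons c 0) (fun i => Fin.cons 0 (A i)))

@[simp] theorem bd_zero_zero (c : F) (A : Matrix (Fin n) (Fin n) F) : bd c A 0 0 = c := rfl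
@[simp] theorem bd_zero_succ (c : F) (A : Matrix (Fin n) (Fin n) F) (j : Fin n) :
    bd c A 0 j.succ = 0 := rfl
@[simp] theorem bd_succ_zero (c : F) (A : Matrix (Fin n) (Fin n) F) (i : Fin n) :
    bd c A i.succ 0 = 0 := rfl
@[simp] theorem bd_succ_succ (c : F) (A : Matrix (Fin n) (Fin n) F) (i j : Fin n) :
    bd c A i.succ j.succ = A i j := rfl

theorem bd_mul (c c' : F) (A A' : Matrix (Fin n) (Fin n) F) :
    bd c A * bd c' A' = bd (c * c') (A * A') := by
  ext i j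
  refine Fin.cases ?_ (fun i' => ?_) i <;> refine Fin.cases ?_ (fun j' => ?_) j <;>
    simp [Matrix.mul_apply, Fin.sum_univ_succ]

theorem bd_one : bd (1 : F) (1 : Matrix (Fin n) (Fin n) F) = 1 := by
  ext i j
  refine Fin.cases ?_ (fun i' => ?_) i <;> refine Fin.cases ?_ (fun j' => ?_) j <;>
    simp [Matrix.one_apply, Fin.succ_ne_zero, (Fin.succ_ne_zero _).symm]

theorem bd_transpose (c : F) (A : Matrix (Fin n) (Fin n) F) : (bd c A)ᵀ = bd c Aᵀ := by
  ext i j
  refine Fin.cases ?_ (fun i' => ?_) i <;> refine Fin.cases ?_ (fun j' => ?_) j <;> simp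

theorem bd_add (c c' : F) (A A' : Matrix (Fin n) (Fin n) F) :
    bd c A + bd c' A' = bd (c + c') (A + A') := by
  ext i j
  refine Fin.cases ?_ (fun i' => ?_) i <;> refine Fin.cases ?_ (fun j' => ?_) j <;> simp

/-- the matrix of the block embedding `Sp_{2n} -> Sp_{2n+2}` (coordinates `1..n`) -/
def iotaMat (M : Matrix (Fin n ⊕ Fin n) (Fin n ⊕ Fin n) F) :
    Matrix (Fin (n + 1) ⊕ Fin (n + 1)) (Fin (n + 1) ⊕ Fin (n + 1)) F :=
  fromBlocks (bd 1 M.toBlocks₁₁) (bd 0 M.toBlocks₁₂) (bd 0 M.toBlocks₂₁) (bd 1 M.toBlocks₂₂)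

/-- `ι` is the block embedding `Sp_{2n} -> Sp_{2n+2}` -/
def IsIota (ι : SpG F n →* SpG F (n + 1)) : Prop :=
  ∀ g : SpG F n, (ι g).1 = iotaMat g.1

/-- the elementary transvection `1 + c E_ij` in `GL_n` -/
noncomputable def tvG (i j : Fin n) (hij : i ≠ j) (c : F) : GL (Fin n) F :=
  Matrix.GeneralLinearGroup.mkOfDetNeZero (transvection i j c)
    (by rw [det_transvection_of_ne i j hij]; exact one_ne_zero)

/-- the diagonal matrix `diag(d)` in `GL_n` -/
noncomputable def dgG (d : Fin n → Fˣ) : GL (Fin n) F :=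
  Matrix.GeneralLinearGroup.mkOfDetNeZero (diagonal fun i => (d i : F))
    (by rw [det_diagonal]; exact Finset.prod_ne_zero_iff.mpr (fun i _ => (d i).ne_zero))

/-- the permutation matrix of `σ` in `GL_n` -/
noncomputable def pmG (σ : Equiv.Perm (Fin n)) : GL (Fin n) F :=
  Matrix.GeneralLinearGroup.mkOfDetNeZero (σ.permMatrix F)
    (by
      rw [det_permutation]
      rcases Int.units_eq_one_or (Equiv.Perm.sign σ) with h | h <;> simp [h])

/-- `diag(t, 1, .., 1)` in `GL_{n+1}` -/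
noncomputable def t1G (t : Fˣ) : GL (Fin (n + 1)) F := dgG (Fin.cons t fun _ => 1)

/-- `diag(1, h)` in `GL_{n+1}` -/
noncomputable def upG (h : GL (Fin n) F) : GL (Fin (n + 1)) F :=
  ⟨bd 1 (h : Matrix (Fin n) (Fin n) F), bd 1 ((h⁻¹ : GL (Fin n) F) : Matrix (Fin n) (Fin n) F),
    by rw [bd_mul, ← Units.val_mul, mul_inv_cancel, Units.val_one, mul_one, bd_one],
    by rw [bd_mul, ← Units.val_mul, inv_mul_cancel, Units.val_one, mul_one, bd_one]⟩

/-- the long root element `Xs (c E_00)` (the group `Z`) -/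
def xZ (c : F) : SpG F (n + 1) := Xs (single 0 0 c) (by simp)

/-- the root element `Xs (c (E_0j + E_j0))`, `j ≥ 1` (the group `A`) -/
def xA (j : Fin n) (c : F) : SpG F (n + 1) :=
  Xs (single 0 j.succ c + single j.succ 0 c)
    (by rw [transpose_add, transpose_single, transpose_single]; exact add_comm _ _)

/-- the Levi transvection `LvG (1 + c E_0j)`, `j ≥ 1` (the group `U'`) -/
noncomputable def uP (j : Fin n) (c : F) : SpG F (n + 1) :=
  LvG (tvG 0 j.succ (Fin.succ_ne_zero j).symm c)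

/-- the Levi transvection `LvG (1 + c E_j0)`, `j ≥ 1` (the group `U''`) -/
noncomputable def uPP (j : Fin n) (c : F) : SpG F (n + 1) :=
  LvG (tvG j.succ 0 (Fin.succ_ne_zero j) c)

theorem xZ_mul (c c' : F) : (xZ c : SpG F (n + 1)) * xZ c' = xZ (c + c') := by
  apply Subtype.ext
  show fromBlocks 1 (single 0 0 c) 0 1 * fromBlocks 1 (single 0 0 c') 0 1 =
    fromBlocks 1 (single 0 0 (c + c')) 0 1
  rw [fromBlocks_multiply, single_add]
  simp [add_comm]

/-- the permutation matrix of `(0 1)` in the Levi factor -/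
noncomputable def w01 : SpG F (n + 2) := LvG (pmG (Equiv.swap 0 1))

end elements

/-! ### representations -/

section rep

variable {n : ℕ} {V V' : Type*} [AddCommGroup V] [Module ℂ V] [AddCommGroup V'] [Module ℂ V']

/-- the weight space of the Siegel radical for the symmetric matrix `B` -/
def wt (ψ : AddChar F ℂ) (ρ : Representation ℂ (SpG F n) V) (B : Matrix (Fin n) (Fin n) F) :
    Submodule ℂ V where
  carrier := {v | ∀ (S : Matrix (Fin n) (Fin n) F) (hS : Sᵀ = S),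
    ρ (Xs S hS) v = ψ (trace (B * S)) • v}
  add_mem' := by
    intro a b ha hb S hS
    rw [map_add, ha S hS, hb S hS, smul_add]
  zero_mem' := by
    intro S hS
    rw [map_zero, smul_zero]
  smul_mem' := by
    intro c a ha S hS
    rw [map_smul, ha S hS, smul_comm]

theorem mem_wt {ψ : AddChar F ℂ} {ρ : Representation ℂ (SpG F n) V}
    {B : Matrix (Fin n) (Fin n) F} {v : V} :
    v ∈ wt ψ ρ B ↔ ∀ (S : Matrix (Fin n) (Fin n) F) (hS : Sᵀ = S),
      ρ (Xs S hS) v = ψ (trace (B * S)) • v := Iff.rfl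

/-- all weights of the Siegel radical have rank at most one -/
def IsW (ψ : AddChar F ℂ) (ρ : Representation ℂ (SpG F n) V) : Prop :=
  ∀ B : Matrix (Fin n) (Fin n) F, Bᵀ = B → wt ψ ρ B ≠ ⊥ →
    ∃ (a : F) (v : Fin n → F), B = a • vecMulVec v v

/-- `φ` intertwines the actions of `g` -/
def Comm (ρ' : Representation ℂ (SpG F n) V') (ρ : Representation ℂ (SpG F n) V)
    (φ : V' →ₗ[ℂ] V) (g : SpG F n) : Prop :=
  ∀ v, φ (ρ' g v) = ρ g (φ v)

/-- `φ` is a homomorphism of representations -/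
def IsHom (ρ' : Representation ℂ (SpG F n) V') (ρ : Representation ℂ (SpG F n) V)
    (φ : V' →ₗ[ℂ] V) : Prop :=
  ∀ g, Comm ρ' ρ φ g

/-- `φ` restricts to a map `V'_B -> V_B` commuting with the stabiliser of `B` in the Levi factor -/
def IsStabMap (ψ : AddChar F ℂ) (ρ' : Representation ℂ (SpG F n) V')
    (ρ : Representation ℂ (SpG F n) V) (B : Matrix (Fin n) (Fin n) F) (φ : V' →ₗ[ℂ] V) : Prop :=
  (∀ v ∈ wt ψ ρ' B, φ v ∈ wt ψ ρ B) ∧
  ∀ g : GL (Fin n) F,
    ((g⁻¹ : GL (Fin n) F) : Matrix (Fin n) (Fin n) F)ᵀ * B *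
      ((g⁻¹ : GL (Fin n) F) : Matrix (Fin n) (Fin n) F) = B →
    ∀ v ∈ wt ψ ρ' B, φ (ρ' (LvG g) v) = ρ (LvG g) (φ v)

/-- the fixed points of the long root group `Z = {Xs (c E_00)}` -/
def Ysp (ρ : Representation ℂ (SpG F (n + 1)) V) : Submodule ℂ V where
  carrier := {v | ∀ c : F, ρ (xZ c) v = v}
  add_mem' := by
    intro a b ha hb c
    rw [map_add, ha c, hb c]
  zero_mem' := by
    intro c
    rw [map_zero]
  smul_mem' := by
    intro t a ha c
    rw [map_smul, ha c]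

theorem mem_Ysp {ρ : Representation ℂ (SpG F (n + 1)) V} {v : V} :
    v ∈ Ysp ρ ↔ ∀ c : F, ρ (xZ c) v = v := Iff.rfl

/-- the eigenspace of the long root group `Z = {Xs (c E_00)}` for the character `c -> psi (l c)` -/
def zsp (ψ : AddChar F ℂ) (ρ : Representation ℂ (SpG F (n + 1)) V) (l : F) : Submodule ℂ V where
  carrier := {v | ∀ c : F, ρ (xZ c) v = ψ (l * c) • v}
  add_mem' := by
    intro a b ha hb c
    rw [map_add, ha c, hb c, smul_add]
  zero_mem' := by
    intro c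
    rw [map_zero, smul_zero]
  smul_mem' := by
    intro t a ha c
    rw [map_smul, ha c, smul_comm]

theorem mem_zsp {ψ : AddChar F ℂ} {ρ : Representation ℂ (SpG F (n + 1)) V} {l : F} {v : V} :
    v ∈ zsp ψ ρ l ↔ ∀ c : F, ρ (xZ c) v = ψ (l * c) • v := Iff.rfl

/-- symmetric matrices -/
abbrev SymM (F : Type*) [Field F] (n : ℕ) : Type _ := {S : Matrix (Fin n) (Fin n) F // Sᵀ = S}

section proj

variable [Fintype F] [DecidableEq F]

/-- the projector onto the weight space `wt psi rho B` -/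
noncomputable def wtProj (ψ : AddChar F ℂ) (ρ : Representation ℂ (SpG F n) V)
    (B : Matrix (Fin n) (Fin n) F) : V →ₗ[ℂ] V :=
  ((Fintype.card (SymM F n) : ℂ)⁻¹) •
    ∑ S : SymM F n, ψ (-(trace (B * S.1))) • ρ (Xs S.1 S.2)

/-- the projector onto the eigenspace `zsp psi rho l` -/
noncomputable def zProj (ψ : AddChar F ℂ) (ρ : Representation ℂ (SpG F (n + 1)) V) (l : F) :
    V →ₗ[ℂ] V :=
  ((Fintype.card F : ℂ)⁻¹) • ∑ c : F, ψ (-(l * c)) • ρ (xZ c)

theorem zProj_zero_mem_Ysp (ψ : AddChar F ℂ) (ρ : Representation ℂ (SpG F (n + 1)) V) (v : V) :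
    zProj ψ ρ 0 v ∈ Ysp ρ := by
  intro c
  simp only [zProj, zero_mul, neg_zero, AddChar.map_zero_eq_one, one_smul, LinearMap.smul_apply,
    LinearMap.sum_apply, map_smul, map_sum]
  congr 1
  have h1 : ∀ c' : F, ρ (xZ c) (ρ (xZ c') v) = ρ (xZ (c + c')) v := by
    intro c'
    rw [← xZ_mul, map_mul]
    rfl
  rw [Finset.sum_congr rfl (fun c' _ => h1 c')]
  exact Fintype.sum_equiv (Equiv.addLeft c) _ _ (fun _ => rfl)

/-- the map `Ysp rho' -> Ysp rho` induced by `w φ w⁻¹`, `w = w01` (then projected to `Ysp rho`) -/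
noncomputable def toY {m : ℕ} (ψ : AddChar F ℂ) (ρ' : Representation ℂ (SpG F (m + 2)) V')
    (ρ : Representation ℂ (SpG F (m + 2)) V) (φ : V' →ₗ[ℂ] V) :
    ↥(Ysp ρ') →ₗ[ℂ] ↥(Ysp ρ) :=
  LinearMap.codRestrict (Ysp ρ)
    (zProj ψ ρ 0 ∘ₗ ρ w01 ∘ₗ φ ∘ₗ ρ' (w01⁻¹) ∘ₗ (Ysp ρ').subtype)
    (fun y => zProj_zero_mem_Ysp ψ ρ _)

end proj

/-- the representation of `Sp_{2n}` on `Ysp rho` through an embedding `iota` whose image preserves it -/
def resY (ρ : Representation ℂ (SpG F (n + 1)) V) (ι : SpG F n →* SpG F (n + 1))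
    (hinv : ∀ g, ∀ v ∈ Ysp ρ, ρ (ι g) v ∈ Ysp ρ) : Representation ℂ (SpG F n) ↥(Ysp ρ) where
  toFun g := (ρ (ι g)).restrict (hinv g)
  map_one' := by
    ext v
    simp
  map_mul' g h := by
    ext v
    simp [map_mul]

theorem resY_apply (ρ : Representation ℂ (SpG F (n + 1)) V) (ι : SpG F n →* SpG F (n + 1))
    (hinv : ∀ g, ∀ v ∈ Ysp ρ, ρ (ι g) v ∈ Ysp ρ) (g : SpG F n) (v : ↥(Ysp ρ)) :
    ((resY ρ ι hinv g v : ↥(Ysp ρ)) : V) = ρ (ι g) (v : V) := rfl

/-- the class of `Sp_2 = SL_2`-modules all of whose irreducible submodules have their non-zero weights in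
one square class (`d d'` a square for any two non-zero weights `d`, `d'` of the submodule) -/
def Adm1 {W : Type*} [AddCommGroup W] [Module ℂ W] (ψ : AddChar F ℂ)
    (σ : Representation ℂ (SpG F 1) W) : Prop :=
  ∀ N : Submodule ℂ W, (∀ g, ∀ v ∈ N, σ g v ∈ N) →
    (∀ N' : Submodule ℂ W, N' ≤ N → (∀ g, ∀ v ∈ N', σ g v ∈ N') → N' = ⊥ ∨ N' = N) →
    ∀ d d' : F, d ≠ 0 → d' ≠ 0 → N ⊓ wt ψ σ (single 0 0 d) ≠ ⊥ → N ⊓ wt ψ σ (single 0 0 d') ≠ ⊥ →
      IsSquare (d * d')

end rep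

end Cfsg.Agent.Lib.Helper10.WG
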