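/-
helper10: S2524 - definitions, part 2: the surjectivity property `SurjAt` (every pair of stabiliser maps at the
weights `E_00`, `ν E_00` is induced by a homomorphism of representations).  Plan: `notes/S2524_plan.md`.
-/
import Mathlib
import Cfsg.Agent.Lib.Helper10.WGDefs

set_option autoImplicit false

namespace Cfsg.Agent.Lib.Helper10.WG

open Matrix Cfsg.Agent.Lib.Helper11.LS

variable {F : Type*} [Field F] {n : ℕ} {V V' : Type*} [AddCommGroup V] [Module ℂ V] [AddCommGroup V']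
  [Module ℂ V']

/-- the surjectivity property for the pair `(ρ', ρ)`: every pair of stabiliser maps at the weights `E_00` and
`ν E_00` is induced by a homomorphism of representations -/
def SurjAt (ψ : AddChar F ℂ) (ν : F) (ρ' : Representation ℂ (SpG F (n + 1)) V')
    (ρ : Representation ℂ (SpG F (n + 1)) V) : Prop :=
  ∀ φ₁ φ₂ : V' →ₗ[ℂ] V, IsStabMap ψ ρ' ρ (single 0 0 1) φ₁ → IsStabMap ψ ρ' ρ (single 0 0 ν) φ₂ →
    ∃ Φ : V' →ₗ[ℂ] V, IsHom ρ' ρ Φ ∧ (∀ v ∈ wt ψ ρ' (single 0 0 1), Φ v = φ₁ v) ∧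
      (∀ v ∈ wt ψ ρ' (single 0 0 ν), Φ v = φ₂ v)

/-- the central-type involution `t_0 = LvG (diag(-1, 1, .., 1))` -/
noncomputable def t0 : SpG F (n + 1) := LvG (t1G (-1))

end Cfsg.Agent.Lib.Helper10.WG
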