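/-
helper10: S2524 leaf FIN, part A: types of small irreducible representations on coordinate spaces; the
characters of two small irreducible representations with a common type are equal; a small irreducible character
of degree `≠ 1` is not fixed by the diagonal twist.
-/
import Mathlib
import Cfsg.Prelude.Def_Characters
import Cfsg.Agent.Lib.Helper10.WGDefs
import Cfsg.Agent.Lib.Helper10.WGDefs2
import Cfsg.Agent.Lib.Helper14.WGMAIN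
import Cfsg.Agent.Lib.Helper2.WGF7
import Cfsg.Agent.Lib.Helper17.WGONE
import Cfsg.Agent.Lib.Helper17.WGISO
import Cfsg.Agent.Lib.Helper4.WGTYPE
import Cfsg.Agent.Lib.Helper8.WGPW
import Cfsg.Agent.Lib.Lead.CharEquiv

set_option autoImplicit false

namespace Cfsg.Agent.Lib.Helper10.WGFIN

open Matrix Cfsg.Agent.Lib.Helper11.LS Cfsg.Agent.Lib.Helper10.WG

variable {F : Type*} [Field F] [Fintype F] [DecidableEq F]

/-- the dimension `k` is below the bound `(q^n - 1)(q^n - q) / (2 (q + 1))`, `n = m + 2` -/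
def Small (F : Type*) [Fintype F] (m k : ℕ) : Prop :=
  2 * (Fintype.card F + 1) * k <
    (Fintype.card F ^ (m + 2) - 1) * (Fintype.card F ^ (m + 2) - Fintype.card F)

/-- `χ` is afforded by a small irreducible representation of type `(κ, ε)` -/
def HasType {m : ℕ} (ψ : AddChar F ℂ) (χ : SpG F (m + 2) → ℂ) (κ : F) (ε : ℂ) : Prop :=
  ∃ (k : ℕ) (ρ : Representation ℂ (SpG F (m + 2)) (Fin k → ℂ)), Small F m k ∧ ρ.IsIrreducible ∧
    ρ.character = χ ∧ ∃ v : Fin k → ℂ, v ≠ 0 ∧ v ∈ wt ψ ρ (single 0 0 κ) ∧ ρ t0 v = ε • v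

theorem isW_small {m k : ℕ} (h2 : (2 : F) ≠ 0) (ψ : AddChar F ℂ) (hψ : ψ.IsPrimitive)
    (ρ : Representation ℂ (SpG F (m + 2)) (Fin k → ℂ)) (hk : Small F m k) : IsW ψ ρ := by
  apply Cfsg.Agent.Lib.Helper8.WGPW.isW_of_finrank_lt (by omega) h2 ψ hψ ρ
  rw [Module.finrank_fin_fun]
  exact hk

theorem exists_hasType {m k : ℕ} (h2 : (2 : F) ≠ 0) (ψ : AddChar F ℂ) (hψ : ψ.IsPrimitive) (ν : F)
    (hν : ¬ IsSquare ν) (ρ : Representation ℂ (SpG F (m + 2)) (Fin k → ℂ)) (hirr : ρ.IsIrreducible)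
    (hk : Small F m k) (hk1 : k ≠ 1) :
    ∃ (κ : F) (ε : ℂ), (κ = 1 ∨ κ = ν) ∧ (ε = 1 ∨ ε = -1) ∧ HasType ψ ρ.character κ ε := by
  obtain ⟨κ, hκ, ε, hε, v, hv0, hv, hvt⟩ := Cfsg.Agent.Lib.Helper4.WGTYPE.exists_type h2 ψ hψ ν hν ρ
    hirr (isW_small h2 ψ hψ ρ hk) (by rw [Module.finrank_fin_fun]; exact hk1)
  exact ⟨κ, ε, hκ, hε, k, ρ, hk, hirr, rfl, v, hv0, hv, hvt⟩

theorem eq_of_hasType {m : ℕ} (h2 : (2 : F) ≠ 0) (ψ : AddChar F ℂ) (hψ : ψ.IsPrimitive) (ν : F)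
    (hν : ¬ IsSquare ν) (χ' χ : SpG F (m + 2) → ℂ) (κ : F) (hκ : κ = 1 ∨ κ = ν) (ε : ℂ)
    (hε : ε = 1 ∨ ε = -1) (h' : HasType ψ χ' κ ε) (h : HasType ψ χ κ ε) : χ' = χ := by
  obtain ⟨k', ρ', hk', hirr', hχ', v', hv'0, hv', hv't⟩ := h'
  obtain ⟨k, ρ, hk, hirr, hχ, v, hv0, hv, hvt⟩ := h
  have hW' := isW_small h2 ψ hψ ρ' hk'
  have hW := isW_small h2 ψ hψ ρ hk
  have hκ0 : κ ≠ 0 := by
    rcases hκ with h | h
    · rw [h]; exact one_ne_zero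
    · rw [h]
      intro h0
      apply hν
      rw [h0]
      exact ⟨0, by simp⟩
  have hS : SurjAt ψ ν ρ' ρ :=
    Cfsg.Agent.Lib.Helper14.WGMAIN.surj_main h2 ψ hψ ν hν m _ _ ρ' ρ hW' hW
  obtain ⟨e⟩ := Cfsg.Agent.Lib.Helper17.WGISO.equiv_of_type ψ ν ρ' ρ hirr' hirr hS κ hκ
    (fun T hT hT0 => Cfsg.Agent.Lib.Helper2.WGF7.isStabMap_of_t0 h2 ψ hψ ρ' ρ hW' hW κ hκ0 T hT hT0)
    ε hε v' hv'0 hv' hv't v hv0 hv hvt
  rw [← hχ', ← hχ]
  exact Representation.char_iso e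

/-- an equivalence of representations maps weight spaces to weight spaces -/
theorem wt_ne_bot_of_equiv {n : ℕ} {V W : Type*} [AddCommGroup V] [Module ℂ V] [AddCommGroup W]
    [Module ℂ W] (ψ : AddChar F ℂ) (σ : Representation ℂ (SpG F n) W)
    (ρ : Representation ℂ (SpG F n) V) (e : Representation.Equiv σ ρ)
    (B : Matrix (Fin n) (Fin n) F) (h : wt ψ σ B ≠ ⊥) : wt ψ ρ B ≠ ⊥ := by
  obtain ⟨w, hw, hw0⟩ := (Submodule.ne_bot_iff _).1 h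
  rw [Submodule.ne_bot_iff]
  refine ⟨e.toLinearEquiv w, ?_, ?_⟩
  · intro S hS
    have h1 := LinearMap.congr_fun (e.isIntertwining' (Xs S hS)) w
    simp only [LinearMap.comp_apply] at h1
    have h2 : ρ (Xs S hS) (e.toLinearEquiv w) = e.toLinearEquiv (σ (Xs S hS) w) := h1.symm
    rw [h2, hw S hS, map_smul]
  · intro h0
    exact hw0 (e.toLinearEquiv.map_eq_zero_iff.mp h0)

theorem twist_ne {m k : ℕ} (h2 : (2 : F) ≠ 0) (ψ : AddChar F ℂ) (hψ : ψ.IsPrimitive) (ν : F)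
    (hν : ¬ IsSquare ν) (δ : SpG F (m + 2) ≃* SpG F (m + 2))
    (hδ : ∀ (V : Type) [AddCommGroup V] [Module ℂ V] (ρ : Representation ℂ (SpG F (m + 2)) V),
        (wt ψ (MonoidHom.comp ρ δ.toMonoidHom : Representation ℂ (SpG F (m + 2)) V) (single 0 0 1) ≠ ⊥ ↔
          wt ψ ρ (single 0 0 ν) ≠ ⊥) ∧
        (wt ψ (MonoidHom.comp ρ δ.toMonoidHom : Representation ℂ (SpG F (m + 2)) V) (single 0 0 ν) ≠ ⊥ ↔
          wt ψ ρ (single 0 0 1) ≠ ⊥))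
    (ρ : Representation ℂ (SpG F (m + 2)) (Fin k → ℂ)) (hirr : ρ.IsIrreducible)
    (hk : Small F m k) (hk1 : k ≠ 1) : ρ.character ∘ δ ≠ ρ.character := by
  intro hχ
  have hW := isW_small h2 ψ hψ ρ hk
  set ρδ : Representation ℂ (SpG F (m + 2)) (Fin k → ℂ) := MonoidHom.comp ρ δ.toMonoidHom with hρδ
  have hchar : ρδ.character = ρ.character := by
    rw [← hχ]
    rfl
  have : Finite (SpG F (m + 2)) := inferInstance
  obtain ⟨e⟩ := Cfsg.Agent.CharLib.nonempty_equiv_of_character_eq ρδ ρ hchar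
  have hS : SurjAt ψ ν ρ ρ :=
    Cfsg.Agent.Lib.Helper14.WGMAIN.surj_main h2 ψ hψ ν hν m _ _ ρ ρ hW hW
  have hone := Cfsg.Agent.Lib.Helper17.WGONE.one_kappa ψ ν ρ hirr hS
  obtain ⟨κ, hκ, ε, hε, v, hv0, hv, hvt⟩ := Cfsg.Agent.Lib.Helper4.WGTYPE.exists_type h2 ψ hψ ν hν ρ
    hirr hW (by rw [Module.finrank_fin_fun]; exact hk1)
  have hne : wt ψ ρ (single 0 0 κ) ≠ ⊥ := by
    rw [Submodule.ne_bot_iff]
    exact ⟨v, hv, hv0⟩
  obtain ⟨hδ1, hδ2⟩ := hδ (Fin k → ℂ) ρ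
  rcases hκ with h | h
  · rw [h] at hne
    exact hone ⟨hne, wt_ne_bot_of_equiv ψ ρδ ρ e _ (hδ2.2 hne)⟩
  · rw [h] at hne
    exact hone ⟨wt_ne_bot_of_equiv ψ ρδ ρ e _ (hδ1.2 hne), hne⟩

end Cfsg.Agent.Lib.Helper10.WGFIN
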