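/-
helper10: S2524 leaf FIN `fin_main` = the statement of S2524.
-/
import Mathlib
import Cfsg.Prelude.Def_Characters
import Cfsg.Agent.Lib.Helper10.WGFINA
import Cfsg.Agent.Lib.Helper10.WGABS
import Cfsg.Agent.Lib.Helper2.WGTW
import Cfsg.Agent.Lib.Helper8.WGWEILP
import Cfsg.Agent.Lib.Helper25.WeilSp

set_option autoImplicit false

namespace Cfsg.Agent.Lib.Helper10.WGFIN

open Matrix Cfsg.Agent.Lib.Helper11.LS Cfsg.Agent.Lib.Helper10.WG

/-! ### numerics -/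

theorem num_small (q N k : ℕ) (hq : 3 ≤ q) (hN : q * q ≤ N) (hk : 2 * k ≤ N + 1) :
    2 * (q + 1) * k < (N - 1) * (N - q) := by
  have h1 : 2 * q + 3 ≤ N := by nlinarith
  obtain ⟨e, rfl⟩ : ∃ e, N = 2 * q + 3 + e := ⟨N - (2 * q + 3), by omega⟩
  have e1 : 2 * q + 3 + e - 1 = 2 * q + 2 + e := by omega
  have e2 : 2 * q + 3 + e - q = q + 3 + e := by omega
  rw [e1, e2]
  have h3 := Nat.mul_le_mul_left (q + 1) hk
  nlinarith

theorem small_iff_real (q A B k : ℕ) :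
    (k : ℝ) < (A : ℝ) * (B : ℝ) / (2 * ((q : ℝ) + 1)) ↔ 2 * (q + 1) * k < A * B := by
  rw [lt_div_iff₀ (by positivity)]
  constructor
  · intro h
    have h' : ((2 * (q + 1) * k : ℕ) : ℝ) < ((A * B : ℕ) : ℝ) := by
      push_cast
      linarith
    exact_mod_cast h'
  · intro h
    have h' : ((2 * (q + 1) * k : ℕ) : ℝ) < ((A * B : ℕ) : ℝ) := by exact_mod_cast h
    push_cast at h'
    linarith

/-- (FIN) the final assembly = the statement of S2524. -/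
theorem fin_main {F : Type*} [Field F] [Fintype F] (hodd : Odd (Fintype.card F)) (n : ℕ) (hn : 2 ≤ n) :
    Nat.card {χ : Cfsg.IrrCharacter ↥(Matrix.symplecticGroup (Fin n) F) // (χ : ↥(Matrix.symplecticGroup (Fin n) F) → ℂ) 1 = (((Fintype.card F) ^ n + 1 : ℕ) : ℂ) / 2} = 2 ∧
    Nat.card {χ : Cfsg.IrrCharacter ↥(Matrix.symplecticGroup (Fin n) F) // (χ : ↥(Matrix.symplecticGroup (Fin n) F) → ℂ) 1 = (((Fintype.card F) ^ n - 1 : ℕ) : ℂ) / 2} = 2 ∧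
    ∀ χ : Cfsg.IrrCharacter ↥(Matrix.symplecticGroup (Fin n) F),
      (χ : ↥(Matrix.symplecticGroup (Fin n) F) → ℂ) 1 ≠ 1 →
      (χ : ↥(Matrix.symplecticGroup (Fin n) F) → ℂ) 1 ≠ (((Fintype.card F) ^ n + 1 : ℕ) : ℂ) / 2 →
      (χ : ↥(Matrix.symplecticGroup (Fin n) F) → ℂ) 1 ≠ (((Fintype.card F) ^ n - 1 : ℕ) : ℂ) / 2 →
      (((Fintype.card F) ^ n - 1 : ℕ) : ℝ) * (((Fintype.card F) ^ n - Fintype.card F : ℕ) : ℝ) / (2 * ((Fintype.card F : ℕ) + 1 : ℝ)) ≤ ‖(χ : ↥(Matrix.symplecticGroup (Fin n) F) → ℂ) 1‖ := by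
  classical
  obtain ⟨m, rfl⟩ : ∃ m, n = m + 2 := ⟨n - 2, by omega⟩
  -- the field
  have hchar : ringChar F ≠ 2 := by
    intro h
    have h1 := FiniteField.even_card_iff_char_two.mp h
    rcases hodd with ⟨c, hc⟩
    omega
  have h2 : (2 : F) ≠ 0 := Ring.two_ne_zero hchar
  obtain ⟨ν, hν⟩ := FiniteField.exists_nonsquare hchar
  have hν0 : ν ≠ 0 := by
    rintro rfl
    exact hν ⟨0, by simp⟩
  have hν1 : ν ≠ 1 := by
    rintro rfl
    exact hν ⟨1, by simp⟩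
  obtain ⟨ψ, hψ1⟩ := (AddChar.exists_apply_ne_zero (α := F) (a := 1)).mpr one_ne_zero
  have hψ : ψ.IsPrimitive := by
    apply AddChar.IsPrimitive.of_ne_one
    intro h
    apply hψ1
    rw [h]
    rfl
  -- numerics
  set q := Fintype.card F with hq
  have hq3 : 3 ≤ q := by
    have h1 : 1 < Fintype.card F := Fintype.one_lt_card
    rcases hodd with ⟨k, hk⟩
    omega
  set N := q ^ (m + 2) with hN
  have hNodd : Odd N := hodd.pow
  have hNge : q * q ≤ N := by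
    rw [hN, ← pow_two]
    exact Nat.pow_le_pow_right (by omega) (by omega)
  obtain ⟨c, hc⟩ := hNodd
  have hc4 : 4 ≤ c := by nlinarith
  set d₁ := (N + 1) / 2 with hd₁
  set d₂ := (N - 1) / 2 with hd₂
  have hd₁c : d₁ = c + 1 := by omega
  have hd₂c : d₂ = c := by omega
  have e1 : ((d₁ : ℕ) : ℂ) = ((N + 1 : ℕ) : ℂ) / 2 := by
    rw [hd₁, Nat.cast_div ⟨c + 1, by omega⟩ (by norm_num)]
    norm_num
  have e2 : ((d₂ : ℕ) : ℂ) = ((N - 1 : ℕ) : ℂ) / 2 := by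
    rw [hd₂, Nat.cast_div ⟨c, by omega⟩ (by norm_num)]
    norm_num
  set β : ℝ := ((N - 1 : ℕ) : ℝ) * ((N - q : ℕ) : ℝ) / (2 * ((q : ℕ) + 1 : ℝ)) with hβ
  have hsmall : ∀ k : ℕ, (k : ℝ) < β ↔ Small F m k := fun k => small_iff_real q (N - 1) (N - q) k
  have hS1 : Small F m d₁ := num_small q N d₁ hq3 hNge (by omega)
  have hS2 : Small F m d₂ := num_small q N d₂ hq3 hNge (by omega)
  -- degrees
  have hdeg : ∀ (k : ℕ) (ρ : Representation ℂ (SpG F (m + 2)) (Fin k → ℂ)),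
      ρ.character 1 = (k : ℂ) := by
    intro k ρ
    rw [Representation.char_one, Module.finrank_fin_fun]
  -- the twist
  obtain ⟨δ, hδ⟩ := Cfsg.Agent.Lib.Helper2.WGTW.exists_twist (n := m + 1) ψ ν hν0
  -- the types
  let G := SpG F (m + 2)
  have hex : ∀ s : {χ : Cfsg.IrrCharacter G // (χ : G → ℂ) 1 ≠ 1 ∧ ‖(χ : G → ℂ) 1‖ < β},
      ∃ (κ : F) (ε : ℂ), (κ = 1 ∨ κ = ν) ∧ (ε = 1 ∨ ε = -1) ∧ HasType ψ (s.1 : G → ℂ) κ ε := by
    intro s
    obtain ⟨k, ρ, hirr, hχ⟩ := s.1.2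
    have hk : (s.1 : G → ℂ) 1 = (k : ℂ) := by rw [← hχ]; exact hdeg k ρ
    have hk1 : k ≠ 1 := by
      intro h
      apply s.2.1
      rw [hk, h, Nat.cast_one]
    have hks : Small F m k := by
      rw [← hsmall]
      have := s.2.2
      rw [hk, Complex.norm_natCast] at this
      exact this
    rw [← hχ]
    exact exists_hasType h2 ψ hψ ν hν ρ hirr hks hk1
  choose κf εf hκf hεf hTf using hex
  let t : {χ : Cfsg.IrrCharacter G // (χ : G → ℂ) 1 ≠ 1 ∧ ‖(χ : G → ℂ) 1‖ < β} → Bool × Bool :=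
    fun s => (decide (κf s = 1), decide (εf s = 1))
  have ht : Function.Injective t := by
    intro s s' hss
    have h1 : decide (κf s = 1) = decide (κf s' = 1) := congrArg Prod.fst hss
    have h1' : decide (εf s = 1) = decide (εf s' = 1) := congrArg Prod.snd hss
    rw [decide_eq_decide] at h1 h1'
    have hκ : κf s = κf s' := by
      rcases hκf s with h | h <;> rcases hκf s' with h' | h'
      · rw [h, h']
      · exact absurd ((h1.1 h).symm.trans h') hν1.symm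
      · exact absurd ((h1.2 h').symm.trans h) hν1.symm
      · rw [h, h']
    have hε : εf s = εf s' := by
      have hne : (1 : ℂ) ≠ -1 := by norm_num
      rcases hεf s with h | h <;> rcases hεf s' with h' | h'
      · rw [h, h']
      · exact absurd ((h1'.1 h).symm.trans h') hne
      · exact absurd ((h1'.2 h').symm.trans h) hne
      · rw [h, h']
    have h3 := hTf s'
    rw [← hκ, ← hε] at h3
    have h4 := eq_of_hasType h2 ψ hψ ν hν _ _ (κf s) (hκf s) (εf s) (hεf s) (hTf s) h3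
    exact Subtype.ext (Subtype.ext h4)
  have hδ' : ∀ χ : Cfsg.IrrCharacter G, (χ : G → ℂ) 1 ≠ 1 → ‖(χ : G → ℂ) 1‖ < β →
      (χ : G → ℂ) ∘ δ ≠ (χ : G → ℂ) := by
    intro χ hχ1 hχβ
    obtain ⟨k, ρ, hirr, hχ⟩ := χ.2
    have hk : (χ : G → ℂ) 1 = (k : ℂ) := by rw [← hχ]; exact hdeg k ρ
    have hk1 : k ≠ 1 := by
      intro h
      apply hχ1
      rw [hk, h, Nat.cast_one]
    have hks : Small F m k := by
      rw [← hsmall]
      rw [hk, Complex.norm_natCast] at hχβ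
      exact hχβ
    rw [← hχ]
    exact twist_ne h2 ψ hψ ν hν δ hδ ρ hirr hks hk1
  -- the Weil characters
  obtain ⟨ρ₁, hirr₁⟩ := Cfsg.Agent.Lib.Helper8.WGWEILP.symp_exists_plus (F := F) (m + 2) (by omega) hodd
  obtain ⟨ρ₂, hirr₂⟩ := Cfsg.Agent.Lib.Helper25.WeilSp.symp_exists (F := F) (m + 2) (by omega) hodd
  let χ₁ : Cfsg.IrrCharacter G := ⟨ρ₁.character, ⟨_, ρ₁, hirr₁, rfl⟩⟩
  let χ₂ : Cfsg.IrrCharacter G := ⟨ρ₂.character, ⟨_, ρ₂, hirr₂, rfl⟩⟩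
  have hχ₁ : (χ₁ : G → ℂ) 1 = (d₁ : ℂ) := hdeg _ ρ₁
  have hχ₂ : (χ₂ : G → ℂ) 1 = (d₂ : ℂ) := hdeg _ ρ₂
  have key := Cfsg.Agent.Lib.Helper10.WGABS.count_of_types δ β d₁ d₂ (by omega) (by omega) (by omega)
    ((hsmall d₁).2 hS1) ((hsmall d₂).2 hS2) t ht hδ' χ₁ χ₂ hχ₁ hχ₂
  rw [e1, e2] at key
  exact key

end Cfsg.Agent.Lib.Helper10.WGFIN
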