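/-
helper10: S2524 leaf STEP, part A: general lemmas on commutation, the `T_1`-average of a homomorphism
`Ysp ρ' -> Ysp ρ`.
-/
import Mathlib
import Cfsg.Agent.Lib.Helper10.WGDefs
import Cfsg.Agent.Lib.Helper10.WGDefs2
import Cfsg.Agent.Lib.Helper29.WGLVH
import Cfsg.Agent.Lib.Helper23.WGINV

set_option autoImplicit false

namespace Cfsg.Agent.Lib.Helper10.WGSTEP

open Matrix Cfsg.Agent.Lib.Helper11.LS Cfsg.Agent.Lib.Helper10.WG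

universe u

variable {F : Type*} [Field F]

/-! ### commutation -/

section general

variable {n : ℕ} {V V' : Type*} [AddCommGroup V] [Module ℂ V] [AddCommGroup V'] [Module ℂ V']
variable {ρ' : Representation ℂ (SpG F n) V'} {ρ : Representation ℂ (SpG F n) V} {Φ : V' →ₗ[ℂ] V}

theorem comm_one : Comm ρ' ρ Φ 1 := by
  intro v
  rw [map_one, map_one]
  rfl

theorem comm_mul {g h : SpG F n} (hg : Comm ρ' ρ Φ g) (hh : Comm ρ' ρ Φ h) :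
    Comm ρ' ρ Φ (g * h) := by
  intro v
  rw [map_mul, map_mul]
  show Φ (ρ' g (ρ' h v)) = ρ g (ρ h (Φ v))
  rw [hg, hh]

theorem rep_inv_apply {W : Type*} [AddCommGroup W] [Module ℂ W] (σ : Representation ℂ (SpG F n) W)
    (g : SpG F n) (w : W) : σ g⁻¹ (σ g w) = w := by
  rw [← Module.End.mul_apply, ← map_mul, inv_mul_cancel, map_one]
  rfl

theorem rep_apply_inv {W : Type*} [AddCommGroup W] [Module ℂ W] (σ : Representation ℂ (SpG F n) W)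
    (g : SpG F n) (w : W) : σ g (σ g⁻¹ w) = w := by
  rw [← Module.End.mul_apply, ← map_mul, mul_inv_cancel, map_one]
  rfl

theorem comm_inv {g : SpG F n} (hg : Comm ρ' ρ Φ g) : Comm ρ' ρ Φ g⁻¹ := by
  intro v
  have h1 : ρ g (Φ (ρ' g⁻¹ v)) = Φ v := by
    rw [← hg, rep_apply_inv]
  rw [← h1, rep_inv_apply]

theorem isHom_of_closure (s : Set (SpG F n)) (hs : Subgroup.closure s = ⊤)
    (h : ∀ g ∈ s, Comm ρ' ρ Φ g) : IsHom ρ' ρ Φ := by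
  intro g
  have hg : g ∈ Subgroup.closure s := by
    rw [hs]
    trivial
  induction hg using Subgroup.closure_induction with
  | mem x hx => exact h x hx
  | one => exact comm_one
  | mul x y _ _ hx hy => exact comm_mul hx hy
  | inv x _ hx => exact comm_inv hx

/-- a map commuting with the Siegel radical preserves the weight spaces -/
theorem maps_wt (ψ : AddChar F ℂ)
    (hΦ : ∀ (S : Matrix (Fin n) (Fin n) F) (hS : Sᵀ = S), Comm ρ' ρ Φ (Xs S hS))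
    (B : Matrix (Fin n) (Fin n) F) (v : V') (hv : v ∈ wt ψ ρ' B) : Φ v ∈ wt ψ ρ B := by
  intro S hS
  rw [← hΦ S hS, hv S hS, map_smul]

end general

/-! ### the torus `T_1` on `Ysp` -/

section T1

variable [Fintype F] [DecidableEq F]
variable {k : ℕ} {V V' : Type u} [AddCommGroup V] [Module ℂ V] [AddCommGroup V'] [Module ℂ V']

theorem t1G_mul (s t : Fˣ) : (t1G (s * t) : GL (Fin (k + 1)) F) = t1G s * t1G t := by
  apply Units.ext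
  rw [Units.val_mul, Cfsg.Agent.Lib.Helper23.WGINV.t1G_val, Cfsg.Agent.Lib.Helper23.WGINV.t1G_val,
    Cfsg.Agent.Lib.Helper23.WGINV.t1G_val, bd_mul, Matrix.mul_one, Units.val_mul]

theorem t1G_one : (t1G (1 : Fˣ) : GL (Fin (k + 1)) F) = 1 := by
  apply Units.ext
  rw [Cfsg.Agent.Lib.Helper23.WGINV.t1G_val, Units.val_one, Units.val_one, bd_one]

/-- the action of `T_1` on `Ysp` -/
noncomputable def tauY (ρ : Representation ℂ (SpG F (k + 1)) V) (t : Fˣ) : ↥(Ysp ρ) →ₗ[ℂ] ↥(Ysp ρ) :=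
  (ρ (LvG (t1G t))).restrict (Cfsg.Agent.Lib.Helper23.WGINV.t1G_mem_Ysp ρ t)

theorem tauY_coe (ρ : Representation ℂ (SpG F (k + 1)) V) (t : Fˣ) (y : ↥(Ysp ρ)) :
    ((tauY ρ t y : ↥(Ysp ρ)) : V) = ρ (LvG (t1G t)) (y : V) := rfl

theorem tauY_mul (ρ : Representation ℂ (SpG F (k + 1)) V) (s t : Fˣ) (y : ↥(Ysp ρ)) :
    tauY ρ (s * t) y = tauY ρ s (tauY ρ t y) := by
  apply Subtype.ext
  rw [tauY_coe, tauY_coe, tauY_coe, t1G_mul, Cfsg.Agent.Lib.Helper29.WGLVH.LvG_mul, map_mul]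
  rfl

theorem tauY_one (ρ : Representation ℂ (SpG F (k + 1)) V) (y : ↥(Ysp ρ)) : tauY ρ 1 y = y := by
  apply Subtype.ext
  rw [tauY_coe, t1G_one, Cfsg.Agent.Lib.Helper29.WGLVH.LvG_one, map_one]
  rfl

theorem tauY_inv_apply (ρ : Representation ℂ (SpG F (k + 1)) V) (t : Fˣ) (y : ↥(Ysp ρ)) :
    tauY ρ t (tauY ρ t⁻¹ y) = y := by
  rw [← tauY_mul, mul_inv_cancel, tauY_one]

/-- `T_1` commutes with `C` on `Ysp` -/
theorem tauY_resY (ι : SpG F k →* SpG F (k + 1)) (hι : IsIota ι)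
    (ρ : Representation ℂ (SpG F (k + 1)) V) (hinv : ∀ g, ∀ v ∈ Ysp ρ, ρ (ι g) v ∈ Ysp ρ)
    (t : Fˣ) (g : SpG F k) (y : ↥(Ysp ρ)) :
    tauY ρ t (resY ρ ι hinv g y) = resY ρ ι hinv g (tauY ρ t y) := by
  apply Subtype.ext
  rw [tauY_coe, resY_apply, resY_apply, tauY_coe, ← Module.End.mul_apply, ← map_mul,
    Cfsg.Agent.Lib.Helper23.WGINV.t1G_comm_iota ι hι t g, map_mul]
  rfl

/-- `T_1` preserves the weight spaces of `Ysp` -/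
theorem tauY_mem_wt (ψ : AddChar F ℂ) (ι : SpG F k →* SpG F (k + 1)) (hι : IsIota ι)
    (ρ : Representation ℂ (SpG F (k + 1)) V) (hinv : ∀ g, ∀ v ∈ Ysp ρ, ρ (ι g) v ∈ Ysp ρ)
    (t : Fˣ) (B : Matrix (Fin k) (Fin k) F) (y : ↥(Ysp ρ)) (hy : y ∈ wt ψ (resY ρ ι hinv) B) :
    tauY ρ t y ∈ wt ψ (resY ρ ι hinv) B := by
  intro S hS
  rw [← tauY_resY ι hι ρ hinv, hy S hS, map_smul]

/-- the `T_1`-average of a map `Ysp ρ' -> Ysp ρ` -/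
noncomputable def avgT (ρ' : Representation ℂ (SpG F (k + 1)) V')
    (ρ : Representation ℂ (SpG F (k + 1)) V) (b₀ : ↥(Ysp ρ') →ₗ[ℂ] ↥(Ysp ρ)) :
    ↥(Ysp ρ') →ₗ[ℂ] ↥(Ysp ρ) :=
  ((Fintype.card Fˣ : ℂ)⁻¹) • ∑ t : Fˣ, tauY ρ t ∘ₗ b₀ ∘ₗ tauY ρ' t⁻¹

theorem avgT_apply (ρ' : Representation ℂ (SpG F (k + 1)) V')
    (ρ : Representation ℂ (SpG F (k + 1)) V) (b₀ : ↥(Ysp ρ') →ₗ[ℂ] ↥(Ysp ρ)) (y : ↥(Ysp ρ')) :
    avgT ρ' ρ b₀ y = ((Fintype.card Fˣ : ℂ)⁻¹) • ∑ t : Fˣ, tauY ρ t (b₀ (tauY ρ' t⁻¹ y)) := by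
  simp only [avgT, LinearMap.smul_apply, LinearMap.sum_apply, LinearMap.comp_apply]

/-- the average commutes with `T_1` -/
theorem avgT_tau (ρ' : Representation ℂ (SpG F (k + 1)) V')
    (ρ : Representation ℂ (SpG F (k + 1)) V) (b₀ : ↥(Ysp ρ') →ₗ[ℂ] ↥(Ysp ρ)) (s : Fˣ)
    (y : ↥(Ysp ρ')) : avgT ρ' ρ b₀ (tauY ρ' s y) = tauY ρ s (avgT ρ' ρ b₀ y) := by
  rw [avgT_apply, avgT_apply, map_smul, map_sum]
  congr 1
  symm
  apply Fintype.sum_equiv (Equiv.mulLeft s)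
  intro u
  show tauY ρ s (tauY ρ u (b₀ (tauY ρ' u⁻¹ y))) =
    tauY ρ (s * u) (b₀ (tauY ρ' (s * u)⁻¹ (tauY ρ' s y)))
  rw [← tauY_mul, ← tauY_mul ρ']
  have e : (s * u)⁻¹ * s = u⁻¹ := by
    rw [_root_.mul_inv_rev, inv_mul_cancel_right]
  rw [e]

/-- the average of a homomorphism is a homomorphism -/
theorem avgT_isHom (ι : SpG F k →* SpG F (k + 1)) (hι : IsIota ι)
    (ρ' : Representation ℂ (SpG F (k + 1)) V') (ρ : Representation ℂ (SpG F (k + 1)) V)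
    (hinv' : ∀ g, ∀ v ∈ Ysp ρ', ρ' (ι g) v ∈ Ysp ρ') (hinv : ∀ g, ∀ v ∈ Ysp ρ, ρ (ι g) v ∈ Ysp ρ)
    (b₀ : ↥(Ysp ρ') →ₗ[ℂ] ↥(Ysp ρ)) (hb₀ : IsHom (resY ρ' ι hinv') (resY ρ ι hinv) b₀) :
    IsHom (resY ρ' ι hinv') (resY ρ ι hinv) (avgT ρ' ρ b₀) := by
  intro g y
  rw [avgT_apply, avgT_apply, map_smul, map_sum]
  congr 1
  apply Finset.sum_congr rfl
  intro t _
  rw [tauY_resY ι hι ρ' hinv', hb₀ g, tauY_resY ι hι ρ hinv]

/-- if `b₀` agrees on a `T_1`-stable subspace with a `T_1`-equivariant map, so does its average -/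
theorem avgT_eq (ρ' : Representation ℂ (SpG F (k + 1)) V')
    (ρ : Representation ℂ (SpG F (k + 1)) V) (b₀ c : ↥(Ysp ρ') →ₗ[ℂ] ↥(Ysp ρ))
    (N : Submodule ℂ ↥(Ysp ρ')) (hN : ∀ (t : Fˣ), ∀ y ∈ N, tauY ρ' t y ∈ N)
    (hbc : ∀ y ∈ N, b₀ y = c y) (hc : ∀ (t : Fˣ), ∀ y ∈ N, c (tauY ρ' t y) = tauY ρ t (c y))
    (y : ↥(Ysp ρ')) (hy : y ∈ N) : avgT ρ' ρ b₀ y = c y := by
  rw [avgT_apply]
  have h1 : ∀ t : Fˣ, tauY ρ t (b₀ (tauY ρ' t⁻¹ y)) = c y := by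
    intro t
    rw [hbc _ (hN t⁻¹ y hy), hc t⁻¹ y hy, tauY_inv_apply]
  rw [Finset.sum_congr rfl (fun t _ => h1 t), Finset.sum_const, Finset.card_univ,
    ← Nat.cast_smul_eq_nsmul ℂ, smul_smul, inv_mul_cancel₀, one_smul]
  exact_mod_cast Fintype.card_ne_zero

end T1

end Cfsg.Agent.Lib.Helper10.WGSTEP
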