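/-
helper10: S2524 leaf STEP `surj_step`: surjectivity for `(Ysp ρ', Ysp ρ)` gives surjectivity for `(ρ', ρ)`.
Plan: notes/S2524_plan3.md, "STEP".
-/
import Mathlib
import Cfsg.Agent.Lib.Helper10.WGDefs
import Cfsg.Agent.Lib.Helper10.WGDefs2
import Cfsg.Agent.Lib.Helper10.WGSTEPA
import Cfsg.Agent.Lib.Helper29.WGLVH
import Cfsg.Agent.Lib.Helper29.WGIOTA
import Cfsg.Agent.Lib.Helper17.WGWD
import Cfsg.Agent.Lib.Helper17.WGZD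
import Cfsg.Agent.Lib.Helper23.WGLVW
import Cfsg.Agent.Lib.Helper23.WGINV
import Cfsg.Agent.Lib.Helper14.WGF6X
import Cfsg.Agent.Lib.Helper17.WGTR
import Cfsg.Agent.Lib.Helper24.WGMKE
import Cfsg.Agent.Lib.Helper24.WGMKU
import Cfsg.Agent.Lib.Helper14.WGF2X
import Cfsg.Agent.Lib.Helper4.WGGENI
import Cfsg.Agent.Lib.Helper4.WGF5

set_option autoImplicit false

namespace Cfsg.Agent.Lib.Helper10.WGSTEP

open Matrix Cfsg.Agent.Lib.Helper11.LS Cfsg.Agent.Lib.Helper10.WG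

universe u

variable {F : Type*} [Field F] [Fintype F] [DecidableEq F]
variable {V V' : Type u} [AddCommGroup V] [Module ℂ V] [AddCommGroup V'] [Module ℂ V']

/-- (STEP) the inductive step. -/
theorem surj_step {m : ℕ} (h2 : (2 : F) ≠ 0) (ψ : AddChar F ℂ) (hψ : ψ.IsPrimitive) (ν : F)
    (hν : ¬ IsSquare ν) (ι : SpG F (m + 1) →* SpG F (m + 2)) (hι : IsIota ι)
    (ρ' : Representation ℂ (SpG F (m + 2)) V') (ρ : Representation ℂ (SpG F (m + 2)) V)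
    (hW' : IsW ψ ρ') (hW : IsW ψ ρ)
    (hinv' : ∀ g, ∀ v ∈ Ysp ρ', ρ' (ι g) v ∈ Ysp ρ') (hinv : ∀ g, ∀ v ∈ Ysp ρ, ρ (ι g) v ∈ Ysp ρ)
    (hrec : SurjAt ψ ν (resY ρ' ι hinv') (resY ρ ι hinv)) : SurjAt ψ ν ρ' ρ := by
  intro φ₁ φ₂ h₁ h₂
  -- (a) transport to `Ysp`
  obtain ⟨hS1, hA1, hT1⟩ := Cfsg.Agent.Lib.Helper17.WGTR.isStabMap_toY h2 ψ hψ ι hι ρ' ρ hW' hW hinv'
    hinv 1 φ₁ h₁
  obtain ⟨hS2, hA2, hT2⟩ := Cfsg.Agent.Lib.Helper17.WGTR.isStabMap_toY h2 ψ hψ ι hι ρ' ρ hW' hW hinv'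
    hinv ν φ₂ h₂
  -- (b) the recursion
  obtain ⟨b₀, hb₀, hb₀1, hb₀2⟩ := hrec (toY ψ ρ' ρ φ₁) (toY ψ ρ' ρ φ₂) hS1 hS2
  -- (c) the average
  set b₁ := avgT ρ' ρ b₀ with hb₁
  have hb₁hom : IsHom (resY ρ' ι hinv') (resY ρ ι hinv) b₁ :=
    avgT_isHom ι hι ρ' ρ hinv' hinv b₀ hb₀
  have hb₁T : ∀ (s : Fˣ) (y : ↥(Ysp ρ')), b₁ (tauY ρ' s y) = tauY ρ s (b₁ y) := avgT_tau ρ' ρ b₀
  have hagreeY : ∀ (κ : F) (φ : V' →ₗ[ℂ] V),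
      (∀ y : ↥(Ysp ρ'), y ∈ wt ψ (resY ρ' ι hinv') (single 0 0 κ) →
        ((toY ψ ρ' ρ φ y : ↥(Ysp ρ)) : V) = ρ w01 (φ (ρ' (w01⁻¹) (y : V')))) →
      (∀ (t : Fˣ) (y : ↥(Ysp ρ')), y ∈ wt ψ (resY ρ' ι hinv') (single 0 0 κ) →
        ρ w01 (φ (ρ' (w01⁻¹) (ρ' (LvG (t1G t)) (y : V')))) =
          ρ (LvG (t1G t)) (ρ w01 (φ (ρ' (w01⁻¹) (y : V'))))) →
      (∀ y ∈ wt ψ (resY ρ' ι hinv') (single 0 0 κ), b₀ y = toY ψ ρ' ρ φ y) →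
      ∀ y ∈ wt ψ (resY ρ' ι hinv') (single 0 0 κ), b₁ y = toY ψ ρ' ρ φ y := by
    intro κ φ hA hT hb y hy
    refine avgT_eq ρ' ρ b₀ (toY ψ ρ' ρ φ) (wt ψ (resY ρ' ι hinv') (single 0 0 κ))
      (fun t y hy => tauY_mem_wt ψ ι hι ρ' hinv' t _ y hy) hb ?_ y hy
    intro t y hy
    apply Subtype.ext
    rw [hA _ (tauY_mem_wt ψ ι hι ρ' hinv' t _ y hy), tauY_coe, tauY_coe, hT t y hy, hA y hy]
  have hb₁1 := hagreeY 1 φ₁ hA1 hT1 hb₀1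
  have hb₁2 := hagreeY ν φ₂ hA2 hT2 hb₀2
  -- (d) the map on the zero weight space
  let pr : V' →ₗ[ℂ] ↥(Ysp ρ') :=
    LinearMap.codRestrict (Ysp ρ') (zProj ψ ρ' 0) (zProj_zero_mem_Ysp ψ ρ')
  set b : V' →ₗ[ℂ] V := (Ysp ρ).subtype ∘ₗ b₁ ∘ₗ pr with hbdef
  have hpr : ∀ (v : V') (hv : v ∈ Ysp ρ'), pr v = ⟨v, hv⟩ := by
    intro v hv
    apply Subtype.ext
    show zProj ψ ρ' 0 v = v
    apply Cfsg.Agent.Lib.Helper17.WGZD.zProj_of_mem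
    rw [Cfsg.Agent.Lib.Helper17.WGZD.zsp_zero]
    exact hv
  have hb : ∀ (v : V') (hv : v ∈ Ysp ρ'), b v = ((b₁ ⟨v, hv⟩ : ↥(Ysp ρ)) : V) := by
    intro v hv
    show ((b₁ (pr v) : ↥(Ysp ρ)) : V) = _
    rw [hpr v hv]
  have hwt0Y : ∀ v ∈ wt ψ ρ' 0, v ∈ Ysp ρ' := by
    intro v hv
    have h := Cfsg.Agent.Lib.Helper17.WGZD.wt_le_zsp ψ ρ' 0 hv
    rw [Matrix.zero_apply, Cfsg.Agent.Lib.Helper17.WGZD.zsp_zero] at h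
    exact h
  have hwtY0' : ∀ y : ↥(Ysp ρ'), y ∈ wt ψ (resY ρ' ι hinv') 0 ↔ (y : V') ∈ wt ψ ρ' 0 := by
    intro y
    have h := Cfsg.Agent.Lib.Helper14.WGF6X.wt_resY_iff h2 ψ hψ ι hι ρ' hW' hinv' 0 (by simp) y
    rwa [Cfsg.Agent.Lib.Helper23.WGINV.bd_zero_zero_eq] at h
  have hwtY0 : ∀ y : ↥(Ysp ρ), y ∈ wt ψ (resY ρ ι hinv) 0 ↔ (y : V) ∈ wt ψ ρ 0 := by
    intro y
    have h := Cfsg.Agent.Lib.Helper14.WGF6X.wt_resY_iff h2 ψ hψ ι hι ρ hW hinv 0 (by simp) y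
    rwa [Cfsg.Agent.Lib.Helper23.WGINV.bd_zero_zero_eq] at h
  have hb₁Q : ∀ (S : Matrix (Fin (m + 1)) (Fin (m + 1)) F) (hS : Sᵀ = S),
      Comm (resY ρ' ι hinv') (resY ρ ι hinv) b₁ (Xs S hS) := fun S hS => hb₁hom (Xs S hS)
  have ha : IsStabMap ψ ρ' ρ 0 b := by
    refine Cfsg.Agent.Lib.Helper14.WGF2X.isStabMap_zero h2 ψ hψ ρ' ρ hW' hW b ?_ ?_ ?_
    · intro v hv
      have hvY := hwt0Y v hv
      rw [hb v hvY]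
      apply (hwtY0 _).1
      exact maps_wt ψ hb₁Q 0 _ ((hwtY0' ⟨v, hvY⟩).2 hv)
    · intro t v hv
      have hvY := hwt0Y v hv
      have hvY2 : ρ' (LvG (t1G t)) v ∈ Ysp ρ' :=
        Cfsg.Agent.Lib.Helper23.WGINV.t1G_mem_Ysp ρ' t v hvY
      rw [hb _ hvY2, hb v hvY]
      exact congrArg Subtype.val (hb₁T t ⟨v, hvY⟩)
    · intro h v hv
      have hvY := hwt0Y v hv
      have e : (LvG (upG h) : SpG F (m + 2)) = ι (LvG h) :=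
        ((Cfsg.Agent.Lib.Helper29.WGIOTA.iota_gens ι hι).2.1 h).symm
      rw [e]
      have hvY2 : ρ' (ι (LvG h)) v ∈ Ysp ρ' := hinv' _ v hvY
      rw [hb _ hvY2, hb v hvY]
      exact congrArg Subtype.val (hb₁hom (LvG h) ⟨v, hvY⟩)
  -- (e) the `P`-homomorphism
  obtain ⟨Φ, hΦQ, hΦL, hΦ0, hΦ1, hΦ2⟩ :=
    Cfsg.Agent.Lib.Helper24.WGMKE.exists_P_hom h2 ψ hψ ν hν ρ' ρ hW' b φ₁ φ₂ ha h₁ h₂
  refine ⟨Φ, ?_, hΦ1, hΦ2⟩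
  -- (f) `Φ` commutes with `C`
  have hZ : ∀ c : F, Comm ρ' ρ Φ (xZ c) := fun c => hΦQ _ _
  have hA : ∀ (j : Fin (m + 1)) (c : F), Comm ρ' ρ Φ (xA j c) := fun j c => hΦQ _ _
  have hU : ∀ (j : Fin (m + 1)) (c : F), Comm ρ' ρ Φ (uP j c) := fun j c => hΦL _
  have hΦY : ∀ v ∈ Ysp ρ', Φ v ∈ Ysp ρ := by
    intro v hv c
    rw [← hZ c v, hv c]
  let ΦY : ↥(Ysp ρ') →ₗ[ℂ] ↥(Ysp ρ) := Φ.restrict hΦY
  have hΦYcoe : ∀ y : ↥(Ysp ρ'), ((ΦY y : ↥(Ysp ρ)) : V) = Φ (y : V') := fun y => rfl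
  have hagree : ∀ (κ : F) (φ : V' →ₗ[ℂ] V), IsStabMap ψ ρ' ρ (single 0 0 κ) φ →
      (∀ v ∈ wt ψ ρ' (single 0 0 κ), Φ v = φ v) →
      (∀ y ∈ wt ψ (resY ρ' ι hinv') (single 0 0 κ), b₁ y = toY ψ ρ' ρ φ y) →
      ∀ y ∈ wt ψ (resY ρ' ι hinv') (single 0 0 κ), ΦY y = b₁ y := by
    intro κ φ hφ hΦκ hbκ y hy
    obtain ⟨hy1, -, he⟩ := Cfsg.Agent.Lib.Helper17.WGTR.toY_apply h2 ψ hψ ι hι ρ' ρ hW' hinv' κ φ hφ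
      y hy
    have hu : ρ' (w01⁻¹) (y : V') ∈ wt ψ ρ' (single 0 0 κ) := by
      rw [Cfsg.Agent.Lib.Helper17.WGTR.w01_inv]
      have h := Cfsg.Agent.Lib.Helper17.WGTR.LvG_mem_wt_act ψ ρ' (pmG (Equiv.swap 0 1)) _ (y : V') hy1
      rw [Cfsg.Agent.Lib.Helper17.WGTR.act_pm_swap_single11] at h
      exact h
    apply Subtype.ext
    rw [hΦYcoe, hbκ y hy, he, ← hΦκ _ hu]
    have hw : Comm ρ' ρ Φ w01 := hΦL _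
    rw [← hw, rep_apply_inv]
  have hΦYb : ΦY = b₁ := by
    refine Cfsg.Agent.Lib.Helper24.WGMKU.P_hom_unique h2 ψ hψ ν hν (resY ρ' ι hinv') (resY ρ ι hinv)
      (Cfsg.Agent.Lib.Helper14.WGF6X.isW_resY h2 ψ hψ ι hι ρ' hW' hinv') ΦY b₁ ?_ ?_ hb₁Q
      (fun g => hb₁hom _) ?_ (hagree 1 φ₁ h₁ hΦ1 hb₁1) (hagree ν φ₂ h₂ hΦ2 hb₁2)
    · intro S hS y
      apply Subtype.ext
      show Φ (ρ' (ι (Xs S hS)) (y : V')) = ρ (ι (Xs S hS)) (Φ (y : V'))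
      rw [(Cfsg.Agent.Lib.Helper29.WGIOTA.iota_gens ι hι).1 S hS]
      exact hΦQ _ _ _
    · intro g y
      apply Subtype.ext
      show Φ (ρ' (ι (LvG g)) (y : V')) = ρ (ι (LvG g)) (Φ (y : V'))
      rw [(Cfsg.Agent.Lib.Helper29.WGIOTA.iota_gens ι hι).2.1 g]
      exact hΦL _ _
    · intro y hy
      apply Subtype.ext
      have hy0 : (y : V') ∈ wt ψ ρ' 0 := (hwtY0' y).1 hy
      rw [hΦYcoe, hΦ0 _ hy0, hb _ y.2]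
  have hΦιY : ∀ (g : SpG F (m + 1)), ∀ v ∈ Ysp ρ', Φ (ρ' (ι g) v) = ρ (ι g) (Φ v) := by
    intro g v hv
    have h1 := hb₁hom g ⟨v, hv⟩
    rw [← hΦYb] at h1
    exact congrArg Subtype.val h1
  have hΦι : ∀ g : SpG F (m + 1), Comm ρ' ρ Φ (ι g) := by
    intro g v
    have hsum := Cfsg.Agent.Lib.Helper17.WGZD.sum_zProj ψ hψ ρ' v
    calc Φ (ρ' (ι g) v) = Φ (ρ' (ι g) (∑ l : F, zProj ψ ρ' l v)) := by rw [hsum]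
      _ = ∑ l : F, Φ (ρ' (ι g) (zProj ψ ρ' l v)) := by rw [map_sum, map_sum]
      _ = ∑ l : F, ρ (ι g) (Φ (zProj ψ ρ' l v)) := by
          apply Finset.sum_congr rfl
          intro l _
          by_cases hl : l = 0
          · subst hl
            apply hΦιY g
            rw [← Cfsg.Agent.Lib.Helper17.WGZD.zsp_zero ψ ρ']
            exact Cfsg.Agent.Lib.Helper17.WGZD.zProj_mem ψ ρ' 0 v
          · exact Cfsg.Agent.Lib.Helper4.WGF5.comm_iota_on_zsp h2 ψ hψ ι hι ρ' ρ hW' hW Φ hZ hA hU l hl _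
              (Cfsg.Agent.Lib.Helper17.WGZD.zProj_mem ψ ρ' l v) g
      _ = ρ (ι g) (Φ (∑ l : F, zProj ψ ρ' l v)) := by rw [map_sum, map_sum]
      _ = ρ (ι g) (Φ v) := by rw [hsum]
  -- (g) generation
  apply isHom_of_closure _ (Cfsg.Agent.Lib.Helper4.WGGENI.closure_iota (m + 1) (by omega) ι hι)
  rintro g ((⟨S, hS, rfl⟩ | ⟨h, rfl⟩) | ⟨g', rfl⟩)
  · exact hΦQ S hS
  · exact hΦL h
  · exact hΦι g'

end Cfsg.Agent.Lib.Helper10.WGSTEP
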